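import Cfsg.Agent.Lib.Concrete.SteinerAut

/-!
# A map of twenty-four points whose pair products form one class of an elementary abelian group

The octads are the eight-sets with trivial product, and the automorphisms preserving the class act on the points
as the Mathieu group of degree twenty-four.
-/

set_option autoImplicit false

namespace Cfsg.Lib.FischerLarge

open Finset Cfsg Cfsg.Lib.Concrete
open scoped symmDiff Pointwise

universe u v w

/-- Twenty-four points in an elementary abelian group with their pair products. -/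
structure PairCode (A : Type u) [CommGroup A] (α : Type v) [Fintype α] where
  /-- The map of the points. -/
  f : α → A
  /-- The class of the pair products. -/
  T : Set A
  sq : ∀ a : A, a * a = 1
  one_notMem : (1 : A) ∉ T
  pair : ∀ p q, p ≠ q → f p * f q ∈ T
  surj : ∀ t ∈ T, ∃ p q, p ≠ q ∧ f p * f q = t
  gen : Subgroup.closure T = ⊤
  cardα : Fintype.card α = 24
  cardT : T.ncard = 276
  cardX : {a : A | a ≠ 1 ∧ a ∉ T}.ncard = 1771
  nbrs : ∀ t ∈ T, {u | u ∈ T ∧ t * u ∈ T}.ncard = 44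

variable {A : Type u} [CommGroup A] [Finite A] {α : Type v} [Fintype α] [DecidableEq α] (P : PairCode A α)

namespace PairCode

/-- The product over a set of points. -/
def prod (s : Finset α) : A := ∏ p ∈ s, P.f p

include P in
theorem cancel_mid (x y z : A) : x * y * (x * z) = y * z := by
  rw [mul_mul_mul_comm, P.sq, one_mul]

include P in
theorem eq_of_mul_eq_one {x y : A} (h : x * y = 1) : x = y := by
  calc x = x * (y * y) := by rw [P.sq, mul_one]
    _ = y := by rw [← mul_assoc, h, one_mul]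

theorem prod_pair {p q : α} (h : p ≠ q) : P.prod {p, q} = P.f p * P.f q := Finset.prod_pair h

theorem pair_injOn : Set.InjOn P.prod ↑((univ : Finset α).powersetCard 2) := by
  classical
  have := Fintype.ofFinite A
  set P2 := (univ : Finset α).powersetCard 2
  have hsub : P.T.toFinset ⊆ P2.image P.prod := by
    intro t ht
    obtain ⟨p, q, hpq, rfl⟩ := P.surj t (Set.mem_toFinset.1 ht)
    exact mem_image.2 ⟨{p, q}, mem_powersetCard.2 ⟨subset_univ _, card_pair hpq⟩, P.prod_pair hpq⟩
  refine card_image_iff.1 (le_antisymm card_image_le ((card_le_card hsub).trans' ?_))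
  rw [card_powersetCard, card_univ, P.cardα, ← Set.ncard_eq_toFinset_card', P.cardT]
  rfl

theorem pair_inj {p q r t : α} (hpq : p ≠ q) (hrt : r ≠ t) (h : P.f p * P.f q = P.f r * P.f t) :
    (p = r ∧ q = t) ∨ (p = t ∧ q = r) := by
  have e : ({p, q} : Finset α) = {r, t} :=
    P.pair_injOn (mem_coe.2 (mem_powersetCard.2 ⟨subset_univ _, card_pair hpq⟩))
      (mem_coe.2 (mem_powersetCard.2 ⟨subset_univ _, card_pair hrt⟩))
      (by rw [P.prod_pair hpq, P.prod_pair hrt]; exact h)
  have hp : p ∈ ({r, t} : Finset α) := e ▸ mem_insert_self p {q}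
  have hq : q ∈ ({r, t} : Finset α) := e ▸ mem_insert_of_mem (mem_singleton_self q)
  rw [mem_insert, mem_singleton] at hp hq
  grind

/-- Products of disjoint pairs are not in the class. -/
theorem not_adj {p q r t : α} (hpq : p ≠ q) (hrt : r ≠ t) (h1 : r ≠ p) (h2 : r ≠ q) (h3 : t ≠ p) (h4 : t ≠ q) :
    P.f p * P.f q * (P.f r * P.f t) ∉ P.T := by
  classical
  intro hT
  have := Fintype.ofFinite A
  set S : Finset α := univ \ {p, q}
  set N : Finset A := {u | u ∈ P.T ∧ P.f p * P.f q * u ∈ P.T}.toFinset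
  set I1 : Finset A := S.image fun x => P.f p * P.f x
  set I2 : Finset A := S.image fun x => P.f q * P.f x
  have hS : ∀ x ∈ S, x ≠ p ∧ x ≠ q := by simp [S]
  have hSc : S.card = 22 := by
    rw [card_sdiff_of_subset (subset_univ _), card_univ, P.cardα, card_pair hpq]
  have hsub : I1 ∪ I2 ⊆ N := by
    intro u hu
    rw [Set.mem_toFinset]
    rcases mem_union.1 hu with h | h <;> obtain ⟨x, hx, rfl⟩ := mem_image.1 h <;>
      refine ⟨P.pair _ _ ?_, ?_⟩
    · exact (hS x hx).1.symm
    · rw [P.cancel_mid]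
      exact P.pair _ _ (hS x hx).2.symm
    · exact (hS x hx).2.symm
    · rw [mul_comm (P.f p), P.cancel_mid]
      exact P.pair _ _ (hS x hx).1.symm
  have hd : Disjoint I1 I2 := by
    rw [disjoint_left]
    intro u hu hu'
    obtain ⟨x, hx, rfl⟩ := mem_image.1 hu
    obtain ⟨y, hy, e⟩ := mem_image.1 hu'
    rcases P.pair_inj (hS y hy).2.symm (hS x hx).1.symm e with ⟨e1, -⟩ | ⟨e1, -⟩
    · exact hpq e1.symm
    · exact (hS x hx).2 e1.symm
  have hinj : ∀ c, c = p ∨ c = q → Set.InjOn (fun x => P.f c * P.f x) ↑S := fun c _ x hx y hy e => by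
    have hc : ∀ x ∈ S, c ≠ x := by grind
    rcases P.pair_inj (hc x hx) (hc y hy) e with ⟨-, e1⟩ | ⟨e1, e2⟩
    · exact e1
    · exact absurd e1 (hc y hy)
  have hN : N.card = 44 := by
    rw [← Set.ncard_eq_toFinset_card']
    exact P.nbrs _ (P.pair p q hpq)
  have heq : I1 ∪ I2 = N := eq_of_subset_of_card_le hsub (by
    rw [hN, card_union_of_disjoint hd, card_image_of_injOn (hinj p (Or.inl rfl)),
      card_image_of_injOn (hinj q (Or.inr rfl)), hSc])
  have hu : P.f r * P.f t ∈ I1 ∪ I2 := heq ▸ Set.mem_toFinset.2 ⟨P.pair r t hrt, hT⟩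
  rcases mem_union.1 hu with h | h <;> obtain ⟨x, hx, e⟩ := mem_image.1 h
  · rcases P.pair_inj (hS x hx).1.symm hrt e with ⟨e1, -⟩ | ⟨e1, -⟩
    · exact h1 e1.symm
    · exact h3 e1.symm
  · rcases P.pair_inj (hS x hx).2.symm hrt e with ⟨e1, -⟩ | ⟨e1, -⟩
    · exact h2 e1.symm
    · exact h4 e1.symm

/-- Two members of the class with product in the class share a point. -/
theorem share {p q r t : α} (hpq : p ≠ q) (hrt : r ≠ t) (h : P.f p * P.f q * (P.f r * P.f t) ∈ P.T) :
    r = p ∨ r = q ∨ t = p ∨ t = q := by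
  by_contra hne
  simp only [not_or] at hne
  exact P.not_adj hpq hrt hne.1 hne.2.1 hne.2.2.1 hne.2.2.2 h

theorem split_two {s : Finset α} (h : 2 ≤ s.card) :
    ∃ p q, p ≠ q ∧ p ∈ s ∧ q ∈ s ∧ P.prod s = P.f p * P.f q * P.prod (s \ {p, q}) ∧
      (s \ {p, q}).card = s.card - 2 := by
  obtain ⟨p, hp, q, hq, hpq⟩ := one_lt_card.1 h
  have hsub : ({p, q} : Finset α) ⊆ s := by simp [insert_subset_iff, hp, hq]
  refine ⟨p, q, hpq, hp, hq, ?_, by rw [card_sdiff_of_subset hsub, card_pair hpq]⟩
  rw [← P.prod_pair hpq, mul_comm]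
  exact (prod_sdiff hsub).symm

theorem prod_ne_one {s : Finset α} (h : s.card = 2 ∨ s.card = 4 ∨ s.card = 6) : P.prod s ≠ 1 := by
  intro he
  obtain ⟨p, q, hpq, -, -, e1, c1⟩ := P.split_two (s := s) (by omega)
  have hT := P.pair p q hpq
  rcases h with h | h | h
  · rw [h, card_eq_zero] at c1
    rw [e1, c1] at he
    simp [prod] at he
    exact P.one_notMem (he ▸ hT)
  · obtain ⟨r, t, hrt, hr, ht, e2, c2⟩ := P.split_two (s := s \ {p, q}) (by omega)
    rw [c1, h, card_eq_zero] at c2
    rw [e1, e2, c2] at he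
    simp [prod] at he
    simp only [mem_sdiff, mem_insert, mem_singleton, not_or] at hr ht
    rcases P.pair_inj hpq hrt (P.eq_of_mul_eq_one he) with ⟨e, -⟩ | ⟨e, -⟩
    · exact hr.2.1 e.symm
    · exact ht.2.1 e.symm
  · obtain ⟨r, t, hrt, hr, ht, e2, c2⟩ := P.split_two (s := s \ {p, q}) (by omega)
    obtain ⟨u, w, huw, -, -, e3, c3⟩ := P.split_two (s := (s \ {p, q}) \ {r, t}) (by omega)
    rw [c2, c1, h, card_eq_zero] at c3
    rw [e1, e2, e3, c3, ← mul_assoc, show P.prod (∅ : Finset α) = 1 from prod_empty, mul_one] at he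
    simp only [mem_sdiff, mem_insert, mem_singleton, not_or] at hr ht
    refine P.not_adj hpq hrt hr.2.1 hr.2.2 ht.2.1 ht.2.2 ?_
    rw [P.eq_of_mul_eq_one he]
    exact P.pair u w huw

theorem tetrad {s : Finset α} (h : s.card = 4) : P.prod s ≠ 1 ∧ P.prod s ∉ P.T := by
  refine ⟨P.prod_ne_one (Or.inr (Or.inl h)), ?_⟩
  obtain ⟨p, q, hpq, -, -, e1, c1⟩ := P.split_two (s := s) (by omega)
  obtain ⟨r, t, hrt, hr, ht, e2, c2⟩ := P.split_two (s := s \ {p, q}) (by omega)
  rw [c1, h, card_eq_zero] at c2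
  rw [e1, e2, c2, show P.prod (∅ : Finset α) = 1 from prod_empty, mul_one]
  simp only [mem_sdiff, mem_insert, mem_singleton, not_or] at hr ht
  exact P.not_adj hpq hrt hr.2.1 hr.2.2 ht.2.1 ht.2.2

theorem prod_symmDiff (s t : Finset α) : P.prod (s ∆ t) = P.prod s * P.prod t := by
  have h1 : P.prod (s ∩ t) * P.prod (s \ t) = P.prod s := prod_inter_mul_prod_sdiff _ _ _
  have h2 : P.prod (s ∩ t) * P.prod (t \ s) = P.prod t := by
    rw [inter_comm]
    exact prod_inter_mul_prod_sdiff _ _ _
  rw [← h1, ← h2, P.cancel_mid, symmDiff_def, sup_eq_union]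
  exact prod_union disjoint_sdiff_sdiff

theorem card_symmDiff (s t : Finset α) : (s ∆ t).card + 2 * (s ∩ t).card = s.card + t.card := by
  rw [symmDiff_def, sup_eq_union, card_union_of_disjoint disjoint_sdiff_sdiff]
  have e1 := card_sdiff_add_card_inter s t
  have e2 := card_sdiff_add_card_inter t s
  rw [inter_comm t s] at e2
  omega

theorem eq_of_prod_eq {s t : Finset α} (hst : P.prod s = P.prod t) (hs : Even s.card) (hc : s.card = t.card)
    (h : s.card ≤ (s ∩ t).card + 3) : s = t := by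
  by_contra hne
  obtain ⟨k, hk⟩ := hs
  have h1 := card_symmDiff (α := α) s t
  have h0 : (s ∆ t).card ≠ 0 := by
    rw [Ne, card_eq_zero, ← bot_eq_empty, symmDiff_eq_bot]
    exact hne
  exact P.prod_ne_one (s := s ∆ t) (by omega) (by rw [P.prod_symmDiff, hst, P.sq])

theorem tetrad_disjoint {s t : Finset α} (hst : P.prod s = P.prod t) (hs : s.card = 4) (ht : t.card = 4)
    (hne : s ≠ t) : Disjoint s t := by
  rw [disjoint_iff_inter_eq_empty, ← card_eq_zero]
  by_contra h0
  exact hne (P.eq_of_prod_eq hst (by rw [hs]; decide) (hs.trans ht.symm) (by omega))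

/-- Every point lies in a tetrad with a given product outside the class. -/
theorem exists_tetrad {x : A} (hx1 : x ≠ 1) (hxT : x ∉ P.T) (a : α) :
    ∃ s : Finset α, s.card = 4 ∧ P.prod s = x ∧ a ∈ s := by
  classical
  have := Fintype.ofFinite A
  set P4 := (univ : Finset α).powersetCard 4
  set X : Finset A := {a : A | a ≠ 1 ∧ a ∉ P.T}.toFinset
  set F : A → Finset (Finset α) := fun x => P4.filter fun s => P.prod s = x
  have hXc : X.card = 1771 := by rw [← Set.ncard_eq_toFinset_card', P.cardX]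
  have hmaps : ∀ s ∈ P4, P.prod s ∈ X := fun s hs => Set.mem_toFinset.2 (P.tetrad (mem_powersetCard.1 hs).2)
  have hsum : P4.card = ∑ y ∈ X, (F y).card := card_eq_sum_card_fiberwise hmaps
  have hun : ∀ y, ((F y).biUnion id).card = 4 * (F y).card := by
    intro y
    rw [card_biUnion]
    · refine (sum_congr rfl fun s hs => (mem_powersetCard.1 (mem_filter.1 hs).1).2).trans ?_
      rw [sum_const, smul_eq_mul, mul_comm]
    · intro s hs t ht hne
      simp only [F, coe_filter, Set.mem_ofPred_eq, P4, mem_powersetCard] at hs ht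
      exact P.tetrad_disjoint (hs.2.trans ht.2.symm) hs.1.2 ht.1.2 hne
  have hle : ∀ y ∈ X, (F y).card ≤ 6 := fun y _ => by
    have := card_le_univ ((F y).biUnion id)
    rw [hun, P.cardα] at this
    omega
  have heq := (sum_eq_sum_iff_of_le hle).1 (by
    rw [← hsum, card_powersetCard, card_univ, P.cardα, sum_const, hXc, smul_eq_mul]
    rfl)
  have hfull : (F x).biUnion id = univ := eq_univ_of_card _ (by
    rw [hun, heq x (Set.mem_toFinset.2 ⟨hx1, hxT⟩), P.cardα])
  obtain ⟨s, hs, has⟩ := mem_biUnion.1 (hfull ▸ mem_univ a : a ∈ (F x).biUnion id)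
  simp only [F, mem_filter, P4, mem_powersetCard] at hs
  exact ⟨s, hs.1.2, hs.2, has⟩

/-- The octads. -/
def octs : Set (Finset α) := {b | b.card = 8 ∧ P.prod b = 1}

theorem steiner : IsSteinerSystem 5 8 P.octs := by
  refine ⟨fun b hb => hb.1, fun s hs => ?_⟩
  obtain ⟨a, ha⟩ : s.Nonempty := card_pos.1 (by omega)
  have htc : (s.erase a).card = 4 := by rw [card_erase_of_mem ha, hs]
  obtain ⟨u, huc, hue, hau⟩ := P.exists_tetrad (P.tetrad htc).1 (P.tetrad htc).2 a
  have hne : s.erase a ≠ u := fun e => notMem_erase a s (e ▸ hau)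
  have hd := P.tetrad_disjoint hue.symm htc huc hne
  refine ⟨s.erase a ∪ u, ⟨⟨by rw [card_union_of_disjoint hd, htc, huc],
    (prod_union hd).trans ((congrArg (P.prod (s.erase a) * ·) hue).trans (P.sq _))⟩, fun x hx => ?_⟩, ?_⟩
  · by_cases h : x = a
    · exact mem_union_right _ (h ▸ hau)
    · exact mem_union_left _ (mem_erase.2 ⟨h, hx⟩)
  · rintro c ⟨⟨hcc, hcp⟩, hsc⟩
    have hb : P.prod (s.erase a ∪ u) = 1 :=
      (prod_union hd).trans ((congrArg (P.prod (s.erase a) * ·) hue).trans (P.sq _))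
    refine P.eq_of_prod_eq (hcp.trans hb.symm) (by rw [hcc]; decide)
      (by rw [hcc, card_union_of_disjoint hd, htc, huc]) ?_
    have hsi : s ⊆ c ∩ (s.erase a ∪ u) := fun x hx => mem_inter.2 ⟨hsc hx, by
      by_cases h : x = a
      · exact mem_union_right _ (h ▸ hau)
      · exact mem_union_left _ (mem_erase.2 ⟨h, hx⟩)⟩
    have := card_le_card hsi
    omega

/-! ### Automorphisms -/

include P in
theorem exists_other (a b : α) : ∃ c, c ≠ a ∧ c ≠ b := by
  have h : ({a, b} : Finset α) ≠ univ := fun e => by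
    have := card_le_two (a := a) (b := b)
    rw [e, card_univ, P.cardα] at this
    omega
  obtain ⟨c, hc⟩ : ∃ c, c ∉ ({a, b} : Finset α) := by
    by_contra h'
    push Not at h'
    exact h (eq_univ_of_forall h')
  exact ⟨c, by simpa using hc⟩

/-- The perms induced by an automorphism. -/
def Rel (σ : MulAut A) (π : Equiv.Perm α) : Prop :=
  ∀ a b, a ≠ b → σ (P.f a * P.f b) = P.f (π a) * P.f (π b)

theorem exists_star {σ : MulAut A} (hσ : ∀ t ∈ P.T, σ t ∈ P.T) (a : α) :
    ∃ p, ∀ x, x ≠ a → ∃ y, y ≠ p ∧ σ (P.f a * P.f x) = P.f p * P.f y := by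
  obtain ⟨b, hb, -⟩ := P.exists_other a a
  obtain ⟨c, hca, hcb⟩ := P.exists_other a b
  have hTi : ∀ {x y : α}, x ≠ y → σ (P.f x * P.f y) ∈ P.T := fun h => hσ _ (P.pair _ _ h)
  have hadj : ∀ {x y : α}, x ≠ y → σ (P.f a * P.f x) * σ (P.f a * P.f y) = σ (P.f x * P.f y) := fun {x y} _ => by
    rw [← map_mul, P.cancel_mid]
  obtain ⟨p, q, hpq, hb'⟩ := P.surj _ (hTi hb.symm)
  obtain ⟨r, t, hrt, hc'⟩ := P.surj _ (hTi hca.symm)
  have hsh : P.f p * P.f q * (P.f r * P.f t) ∈ P.T := by
    rw [hb', hc', hadj hcb.symm]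
    exact hTi hcb.symm
  obtain ⟨p, q, r, hpq, hpr, hb', hc'⟩ : ∃ p q r, p ≠ q ∧ p ≠ r ∧ P.f p * P.f q = σ (P.f a * P.f b) ∧
      P.f p * P.f r = σ (P.f a * P.f c) := by
    rcases P.share hpq hrt hsh with e | e | e | e <;> subst e
    · exact ⟨_, _, _, hpq, hrt, hb', hc'⟩
    · exact ⟨_, _, _, hpq.symm, hrt, by rw [mul_comm]; exact hb', hc'⟩
    · exact ⟨_, _, _, hpq, hrt.symm, hb', by rw [mul_comm]; exact hc'⟩
    · exact ⟨_, _, _, hpq.symm, hrt.symm, by rw [mul_comm]; exact hb', by rw [mul_comm]; exact hc'⟩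
  have hqr : q ≠ r := fun e => by
    have := σ.injective (hb'.symm.trans ((congrArg (fun z => P.f p * P.f z) e).trans hc'))
    rcases P.pair_inj hb.symm hca.symm this with ⟨-, e'⟩ | ⟨e', -⟩
    · exact hcb e'.symm
    · exact hca e'.symm
  refine ⟨p, fun x hx => ?_⟩
  obtain ⟨y, w, hyw, hx'⟩ := P.surj _ (hTi hx.symm)
  by_cases hy : y = p
  · exact ⟨w, fun e => hyw (hy.trans e.symm), hy ▸ hx'.symm⟩
  by_cases hw : w = p
  · exact ⟨y, hy, hw ▸ hx'.symm.trans (mul_comm _ _)⟩
  exfalso
  have hxb : x ≠ b := by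
    rintro rfl
    rcases P.pair_inj hyw hpq (hx'.trans hb'.symm) with ⟨e, -⟩ | ⟨-, e⟩
    exacts [hy e, hw e]
  have hxc : x ≠ c := by
    rintro rfl
    rcases P.pair_inj hyw hpr (hx'.trans hc'.symm) with ⟨e, -⟩ | ⟨-, e⟩
    exacts [hy e, hw e]
  have h1 := P.share hpq hyw (by rw [hb', hx', hadj hxb.symm]; exact hTi hxb.symm)
  have h2 := P.share hpr hyw (by rw [hc', hx', hadj hxc.symm]; exact hTi hxc.symm)
  have hset : (y = q ∧ w = r) ∨ (y = r ∧ w = q) := by grind
  have e : σ (P.f a * P.f x) = σ (P.f b * P.f c) := by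
    rw [← hadj hcb.symm, ← hb', ← hc', P.cancel_mid, ← hx']
    rcases hset with ⟨rfl, rfl⟩ | ⟨rfl, rfl⟩
    · rfl
    · exact mul_comm _ _
  rcases P.pair_inj hx.symm hcb.symm (σ.injective e) with ⟨e, -⟩ | ⟨e, -⟩
  exacts [hb e.symm, hca e.symm]

theorem exists_rel {σ : MulAut A} (hσ : ∀ t ∈ P.T, σ t ∈ P.T) : ∃ π, P.Rel σ π := by
  choose π hπ using P.exists_star hσ
  have hinj : Function.Injective π := by
    intro a b e
    by_contra hne
    obtain ⟨c, hca, hcb⟩ := P.exists_other a b
    obtain ⟨y, hy, h1⟩ := hπ a c hca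
    obtain ⟨y', hy', h2⟩ := hπ b c hcb
    obtain ⟨y'', hy'', h3⟩ := hπ a b (Ne.symm hne)
    have hyy : y ≠ y' := by
      rintro rfl
      have := σ.injective (h1.trans (e ▸ h2.symm))
      rcases P.pair_inj hca.symm hcb.symm this with ⟨e', -⟩ | ⟨e', -⟩
      exacts [hne e', hca e'.symm]
    have h4 : P.f y * P.f y' = P.f (π a) * P.f y'' := by
      rw [← h3, show P.f a * P.f b = P.f a * P.f c * (P.f b * P.f c) by
        rw [mul_mul_mul_comm, P.sq, mul_one], map_mul, h1, h2, ← e, P.cancel_mid]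
    rcases P.pair_inj hyy hy''.symm h4 with ⟨e', -⟩ | ⟨-, e'⟩
    exacts [hy e', hy' (e' ▸ e)]
  refine ⟨Equiv.ofBijective π (Finite.injective_iff_bijective.1 hinj), fun a b hab => ?_⟩
  obtain ⟨y, hy, h1⟩ := hπ a b hab.symm
  obtain ⟨y', hy', h2⟩ := hπ b a hab
  rw [mul_comm (P.f b)] at h2
  rcases P.pair_inj hy.symm hy'.symm (h1.symm.trans h2) with ⟨e, -⟩ | ⟨-, e⟩
  · exact absurd (hinj e) hab
  · rw [Equiv.ofBijective_apply, Equiv.ofBijective_apply, h1, e]

theorem rel_unique {σ : MulAut A} {π π' : Equiv.Perm α} (h : P.Rel σ π) (h' : P.Rel σ π') : π = π' := by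
  ext a
  by_contra hne
  obtain ⟨b, hb, -⟩ := P.exists_other a a
  obtain ⟨c, hca, hcb⟩ := P.exists_other a b
  have key : ∀ x, x ≠ a → π a = π' x := fun x hx => by
    rcases P.pair_inj (π.injective.ne hx.symm) (π'.injective.ne hx.symm) ((h a x hx.symm).symm.trans (h' a x hx.symm))
      with ⟨e, -⟩ | ⟨e, -⟩
    · exact absurd e hne
    · exact e
  exact hcb (π'.injective ((key c hca).symm.trans (key b hb)))

theorem rel_comp {σ τ : MulAut A} {π ρ : Equiv.Perm α} (h : P.Rel σ π) (h' : P.Rel τ ρ) :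
    P.Rel (σ * τ) (π * ρ) := fun a b hab => by
  rw [MulAut.mul_apply, h' a b hab, h _ _ (ρ.injective.ne hab)]
  rfl

theorem rel_one : P.Rel 1 1 := fun _ _ _ => rfl

theorem rel_prod {σ : MulAut A} {π : Equiv.Perm α} (h : P.Rel σ π) : ∀ (k : ℕ) (s : Finset α), s.card = 2 * k →
    σ (P.prod s) = P.prod (s.image π) := by
  intro k
  induction k with
  | zero =>
    intro s hs
    rw [card_eq_zero.1 hs]
    simp [prod]
  | succ k ih =>
    intro s hs
    obtain ⟨p, q, hpq, hp, hq, e, c⟩ := P.split_two (s := s) (by omega)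
    have hsub : ({p, q} : Finset α) ⊆ s := by simp [insert_subset_iff, hp, hq]
    have hi : P.prod (s.image π) = P.f (π p) * P.f (π q) * P.prod ((s \ {p, q}).image π) := by
      rw [prod, prod, prod_image (fun x _ y _ e => π.injective e), prod_image (fun x _ y _ e => π.injective e),
        ← prod_sdiff hsub, Finset.prod_pair hpq, mul_comm]
    rw [e, map_mul, h p q hpq, ih _ (by omega), hi]

theorem rel_mem_aut {σ : MulAut A} {π : Equiv.Perm α} (h : P.Rel σ π) : π ∈ setSystemAut P.octs := by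
  refine mem_setSystemAut_of_subset fun b hb => ?_
  have e : π • b = b.image π := Finset.smul_finset_def
  refine ⟨by rw [e, card_image_of_injective _ π.injective, hb.1], ?_⟩
  rw [e, ← P.rel_prod h 4 b (by rw [hb.1]), hb.2, map_one]

omit [Finite A] [DecidableEq α] in
/-- A simple group has no small index. -/
theorem eq_top_of_index_small {G : Type*} [Group G] [Finite G] [IsSimpleGroup G] (K : Subgroup G)
    (h : K.index.factorial < Nat.card G) : K = ⊤ := by
  classical
  rcases Subgroup.Normal.eq_bot_or_eq_top (MonoidHom.normal_ker (MulAction.toPermHom G (G ⧸ K))) with hk | hk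
  · exfalso
    have := Nat.card_le_card_of_injective _ ((MonoidHom.ker_eq_bot_iff _).1 hk)
    rw [Nat.card_perm] at this
    exact absurd h (not_lt.2 this)
  · refine eq_top_iff.2 fun g _ => ?_
    have hg : g ∈ (MulAction.toPermHom G (G ⧸ K)).ker := hk ▸ Subgroup.mem_top g
    have := Equiv.congr_fun (MonoidHom.mem_ker.1 hg) ((1 : G) : G ⧸ K)
    simp only [MulAction.toPermHom_apply, MulAction.toPerm_apply, Equiv.Perm.one_apply,
      MulAction.Quotient.smul_coe, smul_eq_mul, mul_one] at this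
    simpa using QuotientGroup.eq.1 this.symm

/-- The action on the points is onto the Mathieu group, a given pair of the class going to a given pair. -/
theorem exists_mathieu {M : Type w} [Group M] [Finite M] (φ : M →* MulAut A) (hφ : ∀ m, ∀ t ∈ P.T, φ m t ∈ P.T)
    (hdvd : 1771 * 15 * 2 ^ 10 ∣ Nat.card ↥φ.range) {t : A} (ht : t ∈ P.T) :
    ∃ ψ : M →* ↥Cfsg.M24, Function.Surjective ψ ∧ ψ.ker = φ.ker ∧
      ∀ m, φ m t = t ↔
        (ψ m : Equiv.Perm GolayPt) ∈ MulAction.stabilizer (Equiv.Perm GolayPt) ({none, some 0} : Set GolayPt) := by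
  classical
  choose π hπ using fun m => P.exists_rel (hφ m)
  obtain ⟨e₀, he₀⟩ := steiner_824_octads P.cardα P.steiner
  obtain ⟨a, b, hab, rfl⟩ := P.surj t ht
  haveI := M24_five_transitive
  have h2 : MulAction.IsMultiplyPretransitive M24 GolayPt 2 :=
    MulAction.isMultiplyPretransitive_of_le (show 2 ≤ 5 by norm_num) (by simp [GolayPt])
  obtain ⟨g, hga, hgb⟩ := MulAction.is_two_pretransitive_iff.1 h2 (e₀.injective.ne hab)
    (show (none : GolayPt) ≠ some 0 by simp)
  have hmem : ∀ m, (e₀.trans (g : Equiv.Perm GolayPt)).permCongr (π m) ∈ M24 := fun m => by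
    have h1 : e₀.permCongr (π m) ∈ M24 := by
      rw [← M24_eq_setSystemAut]
      exact (mem_setSystemAut_congr e₀ he₀ _).1 (P.rel_mem_aut (hπ m))
    have : (e₀.trans (g : Equiv.Perm GolayPt)).permCongr (π m) =
        (g : Equiv.Perm GolayPt) * e₀.permCongr (π m) * (g : Equiv.Perm GolayPt)⁻¹ := by
      ext x; simp [Equiv.permCongr_apply, Equiv.Perm.mul_apply]
    rw [this]
    exact mul_mem (mul_mem g.2 h1) (inv_mem g.2)
  set e := e₀.trans (g : Equiv.Perm GolayPt) with he
  let ψ : M →* ↥Cfsg.M24 :=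
    { toFun := fun m => ⟨e.permCongr (π m), hmem m⟩
      map_one' := Subtype.ext (by
        have h1 : π 1 = 1 := P.rel_unique (hπ 1) (by rw [map_one]; exact P.rel_one)
        show e.permCongr (π 1) = 1
        rw [h1]
        ext x; simp [Equiv.permCongr_apply])
      map_mul' := fun m n => Subtype.ext (by
        have h1 : π (m * n) = π m * π n := P.rel_unique (hπ _) (by rw [map_mul]; exact P.rel_comp (hπ m) (hπ n))
        show e.permCongr (π (m * n)) = e.permCongr (π m) * e.permCongr (π n)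
        rw [h1]
        exact e.permCongrHom.map_mul _ _) }
  have hker : ψ.ker = φ.ker := by
    ext m
    rw [MonoidHom.mem_ker, MonoidHom.mem_ker]
    constructor
    · intro h
      have h1 : π m = 1 := e.permCongr.injective (by
        rw [show e.permCongr (1 : Equiv.Perm α) = 1 from e.permCongrHom.map_one]
        exact congrArg Subtype.val h)
      refine MulEquiv.ext fun x => ?_
      have hx : x ∈ Subgroup.closure P.T := P.gen ▸ Subgroup.mem_top x
      refine MonoidHom.eqOn_closure (f := (φ m).toMonoidHom) (g := MonoidHom.id A) (fun t ht => ?_) hx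
      obtain ⟨p, q, hpq, rfl⟩ := P.surj t ht
      have := hπ m p q hpq
      rw [h1] at this
      exact this
    · intro h
      have h1 : π m = 1 := P.rel_unique (hπ m) (by rw [h]; exact P.rel_one)
      refine Subtype.ext ?_
      show e.permCongr (π m) = 1
      rw [h1]
      exact e.permCongrHom.map_one
  refine ⟨ψ, ?_, hker, fun m => ?_⟩
  · haveI := isSimple_M24
    rw [← MonoidHom.range_eq_top]
    refine eq_top_of_index_small _ ?_
    have hc : Nat.card ↥ψ.range = Nat.card ↥φ.range := by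
      rw [← Subgroup.index_ker, ← Subgroup.index_ker, hker]
    have hm := ψ.range.card_mul_index
    rw [card_M24] at hm ⊢
    obtain ⟨k, hk⟩ := hdvd
    rw [hc, hk] at hm
    have hi : ψ.range.index ≤ 9 := by
      refine Nat.le_of_dvd (by norm_num) ?_
      have : k * ψ.range.index = 9 := by
        have := hm
        norm_num at this
        nlinarith
      exact Dvd.intro_left k this
    calc ψ.range.index.factorial ≤ Nat.factorial 9 := Nat.factorial_le hi
      _ < 244823040 := by decide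
  · have hea : e a = none := hga
    have heb : e b = some 0 := hgb
    have hcoe : ∀ x, (ψ m : Equiv.Perm GolayPt) (e x) = e (π m x) := fun x => by
      show e.permCongr (π m) (e x) = _
      rw [Equiv.permCongr_apply, Equiv.symm_apply_apply]
    have himg : (ψ m : Equiv.Perm GolayPt) • ({none, some 0} : Set GolayPt) = {e (π m a), e (π m b)} := by
      rw [← Set.image_smul, Set.image_pair, Equiv.Perm.smul_def, Equiv.Perm.smul_def, ← hea, ← heb, hcoe, hcoe]
    rw [MulAction.mem_stabilizer_iff, himg, hπ m a b hab, ← hea, ← heb, Set.pair_eq_pair_iff]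
    simp only [e.injective.eq_iff]
    refine ⟨P.pair_inj ((π m).injective.ne hab) hab, ?_⟩
    rintro (⟨h1, h2⟩ | ⟨h1, h2⟩) <;> rw [h1, h2]
    exact mul_comm _ _

end PairCode

end Cfsg.Lib.FischerLarge
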