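import Cfsg.Agent.Lib.FischerLarge.Module

/-!
# Abelian subgroups of an extraspecial group of order `2 ^ 13`
-/

set_option autoImplicit false

namespace Cfsg.Lib.FischerLarge

open Cfsg Cfsg.Lib.Extra

universe u

variable {G : Type u} [Group G] [Finite G] {Q : Subgroup G} {z : G}

theorem card_abelian_le (hQ : Ctx Q z) (hcard : Nat.card ↥Q = 2 ^ 13) {A : Subgroup G} (hA : A ≤ Q)
    (hc : ∀ a ∈ A, ∀ b ∈ A, Commute a b) : Nat.card ↥A ≤ 128 := by
  classical
  obtain ⟨V, iA, iM, iF, cl, act, B, q, hV, cl_mul, -, cl_eq, -, hB, -, hsymm, hnd, -, -⟩ :=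
    exists_module hQ hcard
  haveI : Module.Finite (ZMod 2) V := Module.Finite.of_finite
  have cl_one : cl 1 = 0 := by
    have h := cl_mul 1 (one_mem _) 1 (one_mem _)
    rw [mul_one] at h
    exact left_eq_add.1 h
  let U : Submodule (ZMod 2) V :=
    { carrier := {v | ∃ a ∈ A, cl a = v}
      zero_mem' := ⟨1, one_mem _, cl_one⟩
      add_mem' := by
        rintro _ _ ⟨a, ha, rfl⟩ ⟨b, hb, rfl⟩
        exact ⟨a * b, mul_mem ha hb, cl_mul a (hA ha) b (hA hb)⟩
      smul_mem' := by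
        rintro r _ ⟨a, ha, rfl⟩
        rcases bit2 r with rfl | rfl
        · exact ⟨1, one_mem _, by rw [cl_one, zero_smul]⟩
        · exact ⟨a, ha, (one_smul _ _).symm⟩ }
  have hnd' : LinearMap.BilinForm.Nondegenerate B :=
    ⟨hnd, fun u hu => hnd u fun v => by rw [hsymm]; exact hu v⟩
  have hU : U ≤ LinearMap.BilinForm.orthogonal B U := by
    rintro _ ⟨a, ha, rfl⟩ _ ⟨b, hb, rfl⟩
    exact (hB b (hA hb) a (hA ha)).2 (hc b hb a ha)
  have hrefl : LinearMap.BilinForm.IsRefl B := fun u v h => by rw [hsymm]; exact h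
  have h12 : Module.finrank (ZMod 2) V = 12 := by
    refine Nat.pow_right_injective le_rfl (show 2 ^ Module.finrank (ZMod 2) V = 2 ^ 12 from ?_)
    rw [show 2 ^ 12 = Nat.card V by rw [hV]; norm_num, Module.natCard_eq_pow_finrank (K := ZMod 2), Nat.card_zmod]
  have h1 := LinearMap.BilinForm.finrank_orthogonal hnd' U
  have h2 := Submodule.finrank_mono hU
  have h6 : Nat.card ↥U ≤ 2 ^ 6 := by
    rw [Module.natCard_eq_pow_finrank (K := ZMod 2), Nat.card_zmod]
    exact Nat.pow_le_pow_right (by norm_num) (by omega)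
  have key : ∀ u : ↥U, ∃ a ∈ A, cl a = (u : V) := fun u => u.2
  choose L hLA hLc using key
  have hdec : ∀ a : ↥A, (a : G) = L ⟨cl a, a, a.2, rfl⟩ ∨ (a : G) = z * L ⟨cl a, a, a.2, rfl⟩ := fun a =>
    (cl_eq _ (hA (hLA _)) _ (hA a.2)).1 (hLc _)
  have hinj : Function.Injective fun a : ↥A => ((⟨cl a, a, a.2, rfl⟩ : ↥U),
      decide ((a : G) = L ⟨cl a, a, a.2, rfl⟩)) := by
    intro a b e
    obtain ⟨e1, e2⟩ := Prod.ext_iff.1 e
    simp only at e1 e2
    refine Subtype.ext ?_
    rw [decide_eq_decide, e1] at e2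
    rcases hdec a with ha | ha <;> rcases hdec b with hb | hb <;> rw [e1] at ha
    · exact ha.trans hb.symm
    · exact ha.trans (e2.1 ha).symm
    · exact (e2.2 hb).trans hb.symm
    · exact ha.trans hb.symm
  have h3 := Nat.card_le_card_of_injective _ hinj
  rw [Nat.card_prod, Nat.card_eq_fintype_card (α := Bool), Fintype.card_bool] at h3
  omega

end Cfsg.Lib.FischerLarge
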