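import Cfsg.Agent.Lib.SUSixU43.Main

/-!
# The simple group PSU(4,3) has no faithful representation of dimension ten over two elements
-/

set_option autoImplicit false

namespace Cfsg.Lib.FischerLarge

open Cfsg Cfsg.Lib.SUSixU43 Equiv

/-- Few exponent vectors are fixed up to a constant by a nontrivial element of the three-cycles. -/
theorem shift_counts : ∀ p ∈ cycList, p ≠ 1 →
    (Finset.univ.filter fun e : Exp => ∃ a : ZMod 3, ∀ i, e.1 (p i) = e.1 i + a).card < 81 := by
  decide +kernel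

/-- No subgroup of order 729 of the Sylow subgroup has all commutators with the diagonal part scalar. -/
theorem no_central_729 {P : Subgroup G6} (hP : P ≤ S6) (hcard : Nat.card ↥P = 729)
    (hcomm : ∀ a ∈ P, ∀ b ∈ P, a * b * a⁻¹ * b⁻¹ ∈ C6) : False := by
  classical
  haveI := finite_G6
  have hrel : T6.relIndex P ≤ 9 := by
    have h1 : Nat.card ↥T6 * T6.relIndex S6 = Nat.card ↥S6 := by
      rw [← Subgroup.relIndex_bot_left T6, ← Subgroup.relIndex_bot_left S6]
      exact Subgroup.relIndex_mul_relIndex _ _ _ bot_le T6_le_S6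
    rw [card_T6, card_S6] at h1
    have h2 : T6.relIndex S6 = 9 := by omega
    exact h2 ▸ Subgroup.relIndex_le_of_le_right hP (by omega)
  have hinf : 81 ≤ Nat.card ↥(T6.subgroupOf P) := by
    have h3 := (T6.subgroupOf P).card_mul_index
    rw [hcard] at h3
    change Nat.card ↥(T6.subgroupOf P) * T6.relIndex P = 729 at h3
    by_contra hlt
    have := Nat.mul_le_mul (Nat.le_of_lt_succ (not_le.1 hlt : Nat.card ↥(T6.subgroupOf P) < 81)) hrel
    omega
  obtain ⟨p, hp, hpT⟩ : ∃ p ∈ P, p ∉ T6 := by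
    by_contra h
    push Not at h
    have := Subgroup.card_le_of_le (show P ≤ T6 from h)
    rw [hcard, card_T6] at this
    omega
  obtain ⟨n, hn, rfl⟩ := hP hp
  have hσ : perN n ≠ 1 := fun e => hpT ⟨n, MonoidHom.mem_ker.2 e, rfl⟩
  have hshift : ∀ t : ↥(T6.subgroupOf P), ∃ e : Exp, dT e = ((t : ↥P) : G6) ∧
      ∃ a : ZMod 3, ∀ i, e.1 (perN n i) = e.1 i + a := by
    intro t
    obtain ⟨e, he'⟩ := mem_T6_iff.1 t.2
    have he : dT e = ((t : ↥P) : G6) := he'
    refine ⟨e, he, ?_⟩
    have hc := hcomm _ hp _ (t : ↥P).2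
    rw [← he, show (N6.subtype n : G6) = (n : G6) from rfl, conj_dT] at hc
    obtain ⟨a, ha⟩ := mem_C6_iff.1 hc
    refine ⟨-a, fun i => ?_⟩
    have hE : e.1 i = e.1 (perN n i) + a := by
      have h4 : ∀ j, elE (e.1 ((perN n)⁻¹ j)) = elE a * elE (e.1 j) := by
        intro j
        have := congrFun (congrFun ha j) j
        rw [map_mul, mm_dT, mm_inv, mm_dT, Matrix.diagonal_transpose] at this
        rw [show (Matrix.diagonal fun i => elE (e.1 i)).map (fun x => x ^ 2) =
          Matrix.diagonal fun i => elE (e.1 i) ^ 2 from Matrix.diagonal_map (by norm_num)] at this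
        simp only [Matrix.diagonal_mul_diagonal, Matrix.diagonal_apply_eq, Function.comp_apply] at this
        rw [← this, mul_assoc, ← pow_succ, cube_one _ (elE_facts.2.1 _), mul_one]
      have h5 := h4 (perN n i)
      rw [Perm.coe_inv, Equiv.symm_apply_apply, ← elE_facts.1] at h5
      have hinj : ∀ x y : ZMod 3, elE x = elE y → x = y := by decide
      rw [hinj _ _ h5, add_comm]
    rw [hE, add_neg_cancel_right]
  choose ex hex1 hex2 using hshift
  have hlt := shift_counts _ (mem_cycGrp hn) hσ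
  have hle : Nat.card ↥(T6.subgroupOf P) ≤
      (Finset.univ.filter fun e : Exp => ∃ a : ZMod 3, ∀ i, e.1 (perN n i) = e.1 i + a).card := by
    rw [← Fintype.card_subtype, ← Nat.card_eq_fintype_card]
    exact Nat.card_le_card_of_injective (fun t => (⟨ex t, hex2 t⟩ : {e : Exp // ∃ a : ZMod 3, ∀ i, e.1 (perN n i) = e.1 i + a})) fun a b h =>
      Subtype.ext (Subtype.ext (by rw [← hex1 a, ← hex1 b, show ex a = ex b from congrArg Subtype.val h]))
  omega

theorem card_map_conj {G : Type*} [Group G] (P : Subgroup G) (g : G) :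
    Nat.card ↥(P.map (MulAut.conj g).toMonoidHom) = Nat.card ↥P :=
  Subgroup.card_map_of_injective (MulAut.conj g).injective

/-- No abelian subgroup of order 243. -/
theorem no_abelian_243 (A : Subgroup ↥Q112) (hA : ∀ a ∈ A, ∀ b ∈ A, a * b = b * a) :
    Nat.card ↥A ≠ 243 := by
  classical
  intro hcard
  haveI := finite_G6
  haveI := Fact.mk Nat.prime_three
  have hc : (0 : ℕ) < 3 := by norm_num
  let φ := phi hc
  let θ : ↥(KM 0) →* ↥Q112 := φ.codRestrict Q112 fun g => (phi_range hc).le ⟨g, rfl⟩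
  have hsurj : Function.Surjective θ := by
    rintro ⟨q, hq⟩
    obtain ⟨g, hg⟩ := (phi_range hc).ge hq
    exact ⟨g, Subtype.ext hg⟩
  have hk : ∀ g : ↥(KM 0), θ g = 1 ↔ (g : G6) ∈ C6 := fun g =>
    ⟨fun h => ker_phi hc (congrArg Subtype.val h), fun h => Subtype.ext (phi_C6 hc h)⟩
  let P := (A.comap θ).map (KM 0).subtype
  have hPc : Nat.card ↥P = 729 := by
    rw [Subgroup.card_map_of_injective (KM 0).subtype_injective]
    let f := θ.comp (A.comap θ).subtype
    have hf : f.range = A := by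
      ext x
      refine ⟨fun ⟨g, hg⟩ => hg ▸ g.2, fun hx => ?_⟩
      obtain ⟨g, rfl⟩ := hsurj x
      exact ⟨⟨g, hx⟩, rfl⟩
    have h := f.ker.card_mul_index
    rw [Subgroup.index_ker, hf, hcard] at h
    have hker : Nat.card ↥f.ker = 3 := by
      rw [← card_C6]
      exact Nat.card_congr
        { toFun := fun g => ⟨(g.1.1 : G6), (hk g.1.1).1 g.2⟩
          invFun := fun z => ⟨⟨⟨z, C6_le_KM 0 z.2⟩, by
            rw [Subgroup.mem_comap, (hk ⟨(z : G6), C6_le_KM 0 z.2⟩).2 z.2]
            exact one_mem _⟩, (hk ⟨(z : G6), C6_le_KM 0 z.2⟩).2 z.2⟩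
          left_inv := fun _ => rfl
          right_inv := fun _ => rfl }
    omega
  obtain ⟨S, hS⟩ := (IsPGroup.of_card (n := 6) (show Nat.card ↥P = 3 ^ 6 by rw [hPc]; norm_num)).exists_le_sylow
  obtain ⟨g, hg⟩ := MulAction.exists_smul_eq G6 S syl6
  refine no_central_729 (P := P.map (MulAut.conj g).toMonoidHom) ?_ ?_ ?_
  · have : ((g • S : Sylow 3 G6) : Subgroup G6) = S6 := congrArg Sylow.toSubgroup hg
    rw [← this]
    rintro _ ⟨x, hx, rfl⟩
    exact ⟨x, hS hx, rfl⟩
  · exact (card_map_conj P g).trans hPc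
  · rintro _ ⟨_, ⟨a, ha, rfl⟩, rfl⟩ _ ⟨_, ⟨b, hb, rfl⟩, rfl⟩
    have h1 : ((a * b * a⁻¹ * b⁻¹ : ↥(KM 0)) : G6) ∈ C6 := (hk _).1 (by
      rw [map_mul, map_mul, map_mul, map_inv, map_inv, hA _ ha _ hb, mul_inv_cancel_right, mul_inv_cancel])
    show g * (a : G6) * g⁻¹ * (g * (b : G6) * g⁻¹) * (g * (a : G6) * g⁻¹)⁻¹ * (g * (b : G6) * g⁻¹)⁻¹ ∈ C6
    rw [show g * (a : G6) * g⁻¹ * (g * (b : G6) * g⁻¹) * (g * (a : G6) * g⁻¹)⁻¹ * (g * (b : G6) * g⁻¹)⁻¹ =
      g * ((a * b * a⁻¹ * b⁻¹ : ↥(KM 0)) : G6) * g⁻¹ by push_cast; group]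
    rwa [conj_central (C6_comm h1 g)]

/-- An embedding whose image contains a Sylow subgroup pulls back abelian subgroups. -/
theorem exists_abelian_of_embedding {L J : Type} [Group L] [Group J] [Finite J] {p k m : ℕ} [Fact p.Prime]
    (f : L →* J) (hf : Function.Injective f) (hL : p ^ k ∣ Nat.card L) (hJ : (Nat.card J).factorization p = k)
    (A : Subgroup J) (hA : ∀ a ∈ A, ∀ b ∈ A, a * b = b * a) (hAc : Nat.card ↥A = p ^ m) :
    ∃ A' : Subgroup L, (∀ a ∈ A', ∀ b ∈ A', a * b = b * a) ∧ Nat.card ↥A' = p ^ m := by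
  haveI : Finite L := Finite.of_injective f hf
  obtain ⟨P, hP⟩ := Sylow.exists_subgroup_card_pow_prime p hL
  have hfP : Nat.card ↥(P.map f) = p ^ (Nat.card J).factorization p := by
    rw [Subgroup.card_map_of_injective hf, hP, hJ]
  obtain ⟨S, hS⟩ := (IsPGroup.of_card hAc).exists_le_sylow
  obtain ⟨g, hg⟩ := MulAction.exists_smul_eq J S (Sylow.ofCard (P.map f) hfP)
  have hle : A.map (MulAut.conj g).toMonoidHom ≤ f.range := by
    have : ((g • S : Sylow p J) : Subgroup J) = P.map f := by rw [hg]; rfl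
    refine le_trans (le_trans ?_ this.le) (Subgroup.map_le_range _ _)
    rintro _ ⟨x, hx, rfl⟩
    exact ⟨x, hS hx, rfl⟩
  refine ⟨(A.map (MulAut.conj g).toMonoidHom).comap f, fun a ha b hb => hf ?_, ?_⟩
  · obtain ⟨x, hx, ex⟩ := ha
    obtain ⟨y, hy, ey⟩ := hb
    rw [map_mul, map_mul, ← ex, ← ey, ← map_mul, ← map_mul, hA x hx y hy]
  · rw [← Subgroup.card_map_of_injective hf, Subgroup.map_comap_eq_self hle,
      Subgroup.card_map_of_injective (MulAut.conj g).injective, hAc]

/-- The matrix of order three. -/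
def rot : Matrix (Fin 2) (Fin 2) (ZMod 2) := !![0, 1; 1, 1]

/-- The powers of the matrix of order three. -/
def rotHom : Multiplicative (ZMod 3) →* Matrix (Fin 2) (Fin 2) (ZMod 2) where
  toFun a := rot ^ (Multiplicative.toAdd a).val
  map_one' := by decide +kernel
  map_mul' := by decide +kernel

theorem rotHom_injective : Function.Injective rotHom := by decide +kernel

/-- Five blocks. -/
noncomputable def blockHom : (Fin 5 → Multiplicative (ZMod 3)) →* GL (Fin 10) (ZMod 2) :=
  MonoidHom.toHomUnits (((Matrix.reindexAlgEquiv (ZMod 2) (ZMod 2) (finProdFinEquiv (m := 2) (n := 5))).toMonoidHom.comp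
    (Matrix.blockDiagonalRingHom (Fin 2) (Fin 5) (ZMod 2)).toMonoidHom).comp
      (MonoidHom.compLeft rotHom (Fin 5)))

theorem blockHom_injective : Function.Injective blockHom := by
  intro a b h
  have h' := congrArg (fun u : GL (Fin 10) (ZMod 2) => (u : Matrix (Fin 10) (Fin 10) (ZMod 2))) h
  simp only [blockHom, MonoidHom.coe_toHomUnits] at h'
  have h2 := Matrix.blockDiagonal_injective ((Matrix.reindexAlgEquiv (ZMod 2) (ZMod 2) _).injective h')
  exact funext fun i => rotHom_injective (congrFun h2 i)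

theorem card_gl_ten : (Nat.card (GL (Fin 10) (ZMod 2))).factorization 3 = 6 := by
  rw [Matrix.card_GL_field, ZMod.card]
  norm_num [Fin.prod_univ_succ]
  rw [show (366440137299948128422802227200 : ℕ) = 3 ^ 6 * 502661368038337624722636800 by norm_num,
    Nat.factorization_mul (by norm_num) (by norm_num), Finsupp.add_apply,
    Nat.Prime.factorization_pow (by norm_num), Finsupp.single_eq_same,
    Nat.factorization_eq_zero_of_not_dvd (by norm_num)]

/-- No faithful representation of dimension ten. -/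
theorem no_embedding_ten {C : Type*} [AddCommGroup C] [Module (ZMod 2) C] [Module.Finite (ZMod 2) C]
    (hd : Module.finrank (ZMod 2) C = 10) (f : ↥Q112 →* Module.End (ZMod 2) C) (hf : Function.Injective f) :
    False := by
  haveI := Fact.mk Nat.prime_three
  let b := (Module.finBasisOfFinrankEq (ZMod 2) C hd)
  let g : ↥Q112 →* GL (Fin 10) (ZMod 2) :=
    MonoidHom.toHomUnits ((LinearMap.toMatrixAlgEquiv b).toMonoidHom.comp f)
  have hg : Function.Injective g := fun x y h => hf ((LinearMap.toMatrixAlgEquiv b).injective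
    (congrArg (fun u : GL (Fin 10) (ZMod 2) => (u : Matrix (Fin 10) (Fin 10) (ZMod 2))) h))
  obtain ⟨A, hA, hAc⟩ := exists_abelian_of_embedding (p := 3) (k := 6) (m := 5) g hg
    (by rw [card_Q112]; norm_num) card_gl_ten blockHom.range
    (by rintro _ ⟨a, rfl⟩ _ ⟨b, rfl⟩; rw [← map_mul, ← map_mul, mul_comm])
    (by
      rw [← Nat.card_congr (MonoidHom.ofInjective blockHom_injective).toEquiv, Nat.card_pi]
      simp)
  exact no_abelian_243 A hA (hAc.trans (by norm_num))

end Cfsg.Lib.FischerLarge
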