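import Cfsg.Agent.Lib.FischerLarge.Lines

/-!
# The stabiliser of a conjugate of the central involution inside the extraspecial subgroup
-/

set_option autoImplicit false

namespace Cfsg.Lib.FischerLarge

open Cfsg Cfsg.Lib.SUSixU43 Cfsg.Lib.Extra

universe u

theorem two_pow_of_dvd {n m k : ℕ} (hn : ∃ j, n = 2 ^ j) (h : 2 ^ k ∣ n * m) (hm : Odd m) : 2 ^ k ≤ n := by
  obtain ⟨j, rfl⟩ := hn
  have := ((Nat.coprime_two_left.2 hm).pow_left k).dvd_of_dvd_mul_right h
  exact Nat.le_of_dvd (Nat.two_pow_pos j) this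

theorem arith_small {N R A : ℕ} (h1 : 2 ^ 11 ≤ N) (h2 : N ≤ 2 * (R * A)) (h3 : R ≤ 4) (h4 : A ≤ 128) : False := by
  have := Nat.mul_le_mul h3 h4
  omega

theorem arith_big {N R A : ℕ} (h1 : 2 ^ 12 ≤ N) (h2 : N ≤ 2 * (R * A)) (h3 : R ≤ 16) (h4 : A ≤ 128) :
    R = 16 ∧ A = 128 := by
  have hR : R = 16 := by
    by_contra hne
    have := Nat.mul_le_mul (show R ≤ 15 by omega) h4
    omega
  subst hR
  omega

theorem arith_in {N R A : ℕ} (h1 : 2 ^ 12 ≤ N) (h2 : N = R * A) (h3 : R ≤ 16) (h4 : A ≤ 128) : False := by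
  have := Nat.mul_le_mul h3 h4
  omega

variable {G : Type u} [Group G] [Finite G] {z : G} {Q : Subgroup G} (D : Coord z Q)

theorem commute_of_mem_cent {x s : G} (h : x ∈ Subgroup.centralizer ({s} : Set G)) : Commute x s :=
  Subgroup.mem_centralizer_singleton_iff.1 h

theorem mem_cent_of_commute {x s : G} (h : Commute x s) : x ∈ Subgroup.centralizer ({s} : Set G) :=
  Subgroup.mem_centralizer_singleton_iff.2 h.eq

theorem Coord.pt_of_conj {g s : G} (hg : g * z * g⁻¹ = s) (hs : s ∈ Q) (hne : s ≠ z) : D.Pt s := by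
  refine ⟨hs, ?_, fun e => D.ctx.ne_one (conj_eq_one_iff.1 (hg.trans e)), hne⟩
  rw [← hg, show g * z * g⁻¹ * (g * z * g⁻¹) = g * (z * z) * g⁻¹ by group, D.ctx.sq_z]
  group

theorem Coord.card_centQ {s : G} (hs : D.Pt s) :
    2 * Nat.card ↥(Q ⊓ Subgroup.centralizer ({s} : Set G)) = 2 ^ 13 := by
  obtain ⟨y, hy, hys⟩ := D.ctx.exists_move hs.1 hs.2.2.1 hs.2.2.2
  have hidx : ((Subgroup.centralizer ({s} : Set G)).subgroupOf Q).index = 2 := by
    rw [Subgroup.index_eq_two_iff]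
    refine ⟨⟨y, hy⟩, fun a => ?_⟩
    have hy' : ¬ Commute y s := fun h => D.ctx.ne_one (by
      have e : y * s * y⁻¹ = s := by rw [h.eq, mul_inv_cancel_right]
      rw [e] at hys
      exact (mul_eq_right.1 hys.symm))
    simp only [Subgroup.mem_subgroupOf, Subgroup.coe_mul, Subgroup.mem_centralizer_singleton_iff]
    rcases D.ctx.commute_or hy hys a.2 hs.1 with h | h
    · refine Or.inr ⟨h.eq, fun h' => hy' ?_⟩
      have := (h.inv_left).mul_left (show Commute ((a : G) * y) s from h')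
      rwa [inv_mul_cancel_left] at this
    · have hay : Commute ((a : G) * y) s := by
        rcases D.ctx.comm y hy (a : G) a.2 with e | e
        · have : y * (a : G) = (a : G) * y := mul_inv_eq_iff_eq_mul.1 (mul_inv_eq_one.1 e)
          rwa [this] at h
        · have : y * (a : G) = z * ((a : G) * y) := by
            rw [← mul_assoc]
            exact mul_inv_eq_iff_eq_mul.1 (mul_inv_eq_iff_eq_mul.1 e)
          rw [this] at h
          have h2 := (D.ctx.central s hs.1).mul_left h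
          rwa [← mul_assoc, D.ctx.sq_z, one_mul] at h2
      refine Or.inl ⟨hay.eq, fun h' => hy' ?_⟩
      have := (show Commute (a : G) s from h').inv_left.mul_left hay
      rwa [inv_mul_cancel_left] at this
  have h := ((Subgroup.centralizer ({s} : Set G)).subgroupOf Q).card_mul_index
  rw [hidx, D.cardQ] at h
  rw [← h, mul_comm, inf_comm, ← Subgroup.subgroupOf_map_subtype,
    Subgroup.card_map_of_injective Q.subtype_injective]

/-- The action of the unitary part of the stabiliser. -/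
theorem Coord.exists_stab_hom {s : G} (hs : D.Pt s) :
    ∃ f : ↥(D.M ⊓ Subgroup.centralizer ({s} : Set G)) →* ↥(Sb D.c (D.cl s)), Function.Surjective f ∧
      (∀ m, f m = 1 ↔ (m : G) ∈ Q) ∧ ∀ (m : ↥(D.M ⊓ Subgroup.centralizer ({s} : Set G))) (m' : ↥D.M),
        (m : G) = m' → (f m : G6) = D.π m' := by
  let f0 : ↥(D.M ⊓ Subgroup.centralizer ({s} : Set G)) →* G6 := D.π.comp (Subgroup.inclusion inf_le_left)
  have hmem : ∀ m, f0 m ∈ Sb D.c (D.cl s) := fun m => ⟨D.π_mem _, by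
    show D.π _ • D.cl s = D.cl s
    rw [← D.π_cl _ s hs.1]
    congr 1
    show (m : G) * s * (m : G)⁻¹ = s
    rw [(commute_of_mem_cent m.2.2).eq, mul_inv_cancel_right]⟩
  refine ⟨f0.codRestrict _ hmem, fun g => ?_, fun m => ?_, fun m m' e => ?_⟩
  · obtain ⟨m, hm⟩ := D.exists_pre g.2.1
    have he : D.cl ((m : G) * s * (m : G)⁻¹) = D.cl s := by
      rw [D.π_cl m s hs.1, hm]
      exact MulAction.mem_stabilizer_iff.1 g.2.2
    obtain ⟨y, hy, hye⟩ := D.fuse (D.pt_conj (D.m_comm m) hs) hs.1 he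
    refine ⟨⟨y * m, mul_mem (D.Q_le hy) m.2, mem_cent_of_commute ?_⟩, Subtype.ext ?_⟩
    · refine mul_inv_eq_iff_eq_mul.1 ?_
      rw [← show y * ((m : G) * s * (m : G)⁻¹) * y⁻¹ = y * m * s * (y * m)⁻¹ by group, hye]
    · show D.π ⟨y * m, _⟩ = (g : G6)
      rw [show (⟨y * m, mul_mem (D.Q_le hy) m.2⟩ : ↥D.M) = ⟨y, D.Q_le hy⟩ * m from rfl, map_mul,
        (D.π_ker ⟨y, D.Q_le hy⟩).2 hy, one_mul, hm]
  · exact ⟨fun h => (D.π_ker _).1 (congrArg Subtype.val h), fun h => Subtype.ext ((D.π_ker _).2 h)⟩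
  · show D.π _ = _
    exact congrArg _ (Subtype.ext e)

theorem Coord.card_stabM {s : G} (hs : D.Pt s) :
    Nat.card ↥(D.M ⊓ Subgroup.centralizer ({s} : Set G)) = 2 ^ 12 * Nat.card ↥(Sb D.c (D.cl s)) := by
  obtain ⟨f, hf, hk, -⟩ := D.exists_stab_hom hs
  have h := f.ker.card_mul_index
  rw [Subgroup.index_ker, MonoidHom.range_eq_top.2 hf, Subgroup.card_top] at h
  have hker : Nat.card ↥f.ker = Nat.card ↥(Q ⊓ Subgroup.centralizer ({s} : Set G)) := Nat.card_congr
    { toFun := fun m => ⟨(m : ↥(D.M ⊓ Subgroup.centralizer ({s} : Set G))), (hk m).1 m.2,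
        (m : ↥(D.M ⊓ Subgroup.centralizer ({s} : Set G))).2.2⟩
      invFun := fun a => ⟨⟨a, D.Q_le a.2.1, a.2.2⟩, (hk _).2 a.2.1⟩
      left_inv := fun _ => rfl
      right_inv := fun _ => rfl }
  have hL := D.card_centQ hs
  rw [← h, hker]
  congr 1
  omega

/-- Two elements outside the unitary part multiply into it. -/
theorem Coord.mul_mem_M {a b : G} (ha : Commute a z) (hb : Commute b z) (ha' : a ∉ D.M) (hb' : b ∉ D.M) :
    a * b ∈ D.M := by
  have h2 : (D.M.subgroupOf (Subgroup.centralizer ({z} : Set G))).index = 2 := by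
    have h := (D.M.subgroupOf (Subgroup.centralizer ({z} : Set G))).card_mul_index
    rw [Nat.card_congr (Subgroup.subgroupOfEquivOfLe D.M_le).toEquiv, ← D.M_index, mul_comm 2] at h
    exact Nat.eq_of_mul_eq_mul_left Nat.card_pos h
  exact (Subgroup.mul_mem_iff_of_index_two h2 (a := ⟨a, mem_cent_of_commute ha⟩)
    (b := ⟨b, mem_cent_of_commute hb⟩)).2 (iff_of_false ha' hb')

/-- A subgroup of the centralizer is at most twice its unitary part. -/
theorem Coord.card_le_double (K : Subgroup G) (hK : K ≤ Subgroup.centralizer {z}) :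
    Nat.card ↥K ≤ 2 * Nat.card ↥(K ⊓ D.M) ∧
      ((∃ a ∈ K, a ∉ D.M) → Nat.card ↥K = 2 * Nat.card ↥(K ⊓ D.M)) := by
  have h := (D.M.subgroupOf K).card_mul_index
  rw [show Nat.card ↥(D.M.subgroupOf K) = Nat.card ↥(K ⊓ D.M) by
    rw [inf_comm, ← Subgroup.subgroupOf_map_subtype, Subgroup.card_map_of_injective K.subtype_injective]] at h
  by_cases hex : ∃ a ∈ K, a ∉ D.M
  · obtain ⟨a, ha, ha'⟩ := hex
    have h2 : (D.M.subgroupOf K).index = 2 := Subgroup.index_eq_two_iff.2 ⟨⟨a, ha⟩, fun b => by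
      simp only [Subgroup.mem_subgroupOf, Subgroup.coe_mul]
      by_cases hb : (b : G) ∈ D.M
      · exact Or.inr ⟨hb, fun h' => ha' (by have := mul_mem (inv_mem hb) h'; rwa [inv_mul_cancel_left] at this)⟩
      · exact Or.inl ⟨D.mul_mem_M (commute_of_mem_cent (hK b.2)) (commute_of_mem_cent (hK ha)) hb ha', hb⟩⟩
    rw [h2] at h
    exact ⟨by omega, fun _ => by omega⟩
  · push Not at hex
    refine ⟨?_, fun ⟨a, ha, ha'⟩ => absurd (hex a ha) ha'⟩
    rw [show K ⊓ D.M = K from inf_eq_left.2 hex]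
    omega

theorem Coord.exists_outer {s : G} (hs : D.Pt s) :
    ∃ x, Commute x z ∧ Commute x s ∧ x ∉ D.M := by
  obtain ⟨h, hh, hhM⟩ : ∃ h ∈ Subgroup.centralizer ({z} : Set G), h ∉ D.M := by
    by_contra hall
    push Not at hall
    have h1 := Subgroup.card_le_of_le (show Subgroup.centralizer ({z} : Set G) ≤ D.M from hall)
    have h2 := D.M_index
    have h3 : 0 < Nat.card ↥D.M := Nat.card_pos
    omega
  have hh' := commute_of_mem_cent hh
  have hp := D.pt_conj hh' hs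
  obtain ⟨m, hm, hme⟩ : ∃ m ∈ D.M, m * (h * s * h⁻¹) * m⁻¹ = s := by
    rcases (D.pt_iff hs.1).1 hs with hc | hc
    · exact D.conj_in_M hp hs.1 (D.orb.transA _ (D.keep_A hh' hs hc) _ hc)
    · exact D.conj_in_M hp hs.1 (D.orb.transB _ (D.keep_B hh' hs hc) _ hc)
  refine ⟨m * h, (D.m_comm ⟨m, hm⟩).mul_left hh', mul_inv_eq_iff_eq_mul.1 ?_, fun e => hhM ?_⟩
  · calc m * h * s * (m * h)⁻¹ = m * (h * s * h⁻¹) * m⁻¹ := by group
      _ = s := hme
  · have := mul_mem (inv_mem hm) e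
    rwa [inv_mul_cancel_left] at this

theorem Coord.card_stab {s : G} (hs : D.Pt s) :
    Nat.card ↥(Subgroup.centralizer ({z} : Set G) ⊓ Subgroup.centralizer ({s} : Set G)) =
      2 ^ 13 * Nat.card ↥(Sb D.c (D.cl s)) := by
  obtain ⟨x, hx, hxs, hxM⟩ := D.exists_outer hs
  have h := (D.card_le_double _ (inf_le_left : Subgroup.centralizer ({z} : Set G) ⊓
    Subgroup.centralizer ({s} : Set G) ≤ _)).2 ⟨x, ⟨mem_cent_of_commute hx, mem_cent_of_commute hxs⟩, hxM⟩
  rw [h, show Subgroup.centralizer ({z} : Set G) ⊓ Subgroup.centralizer ({s} : Set G) ⊓ D.M =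
    D.M ⊓ Subgroup.centralizer ({s} : Set G) by
      rw [inf_comm, ← inf_assoc, inf_eq_left.2 D.M_le], D.card_stabM hs]
  ring

/-- The part of a conjugate extraspecial subgroup in the centralizer. -/
def farPart (_D : Coord z Q) (g : G) : Subgroup G :=
  Q.map (MulAut.conj g).toMonoidHom ⊓ Subgroup.centralizer ({z} : Set G)

variable {g s : G} (hg : g * z * g⁻¹ = s)
include D hg

theorem Coord.ctx_far : Ctx (Q.map (MulAut.conj g).toMonoidHom) s := hg ▸ D.ctx.conj g

theorem Coord.far_le : farPart D g ≤ Subgroup.centralizer ({z} : Set G) ⊓ Subgroup.centralizer ({s} : Set G) :=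
  fun a ha => ⟨ha.2, mem_cent_of_commute ((D.ctx_far hg).central a ha.1).symm⟩

theorem Coord.far_normal {x a : G} (hx : x ∈ Subgroup.centralizer ({z} : Set G) ⊓ Subgroup.centralizer ({s} : Set G))
    (ha : a ∈ farPart D g) : x * a * x⁻¹ ∈ farPart D g :=
  ⟨conj_mem (D.ctx_far hg) (commute_of_mem_cent hx.2) ha.1,
    (Subgroup.centralizer ({z} : Set G)).mul_mem (mul_mem hx.1 ha.2) (inv_mem hx.1)⟩

theorem Coord.far_dvd (hs : D.Pt s) :
    2 ^ 13 * Nat.card ↥(Sb D.c (D.cl s)) ∣ Nat.card ↥(farPart D g) * 19595520 := by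
  set R := Q.map (MulAut.conj g).toMonoidHom with hR
  set Cs := Subgroup.centralizer ({s} : Set G) with hCs
  set Hs := Subgroup.centralizer ({z} : Set G) ⊓ Cs with hHs
  haveI : (R.subgroupOf Cs).Normal := ⟨fun a ha x => conj_mem (D.ctx_far hg) (commute_of_mem_cent (s := s) x.2) ha⟩
  have hCc : Nat.card ↥Cs = 2 ^ 13 * 19595520 := by
    have hmap : (Subgroup.centralizer ({z} : Set G)).map (MulAut.conj g).toMonoidHom = Cs := by
      ext x
      constructor
      · rintro ⟨a, ha, rfl⟩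
        rw [hCs, ← hg]
        exact mem_cent_of_commute ((Commute.conj_iff g).2 (commute_of_mem_cent ha))
      · intro hx
        refine ⟨g⁻¹ * x * g, mem_cent_of_commute ?_, by show g * (g⁻¹ * x * g) * g⁻¹ = x; group⟩
        refine (Commute.conj_iff g).1 ?_
        rw [show g * (g⁻¹ * x * g) * g⁻¹ = x by group, hg]
        exact commute_of_mem_cent hx
    rw [← hmap, Subgroup.card_map_of_injective (MulAut.conj g).injective, ← D.M_index]
    let f := D.π
    have h := f.ker.card_mul_index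
    rw [Subgroup.index_ker, D.π_range, D.card_model] at h
    have hk : Nat.card ↥f.ker = Nat.card ↥Q := Nat.card_congr
      { toFun := fun m => ⟨(m : ↥D.M), (D.π_ker _).1 m.2⟩
        invFun := fun a => ⟨⟨a, D.Q_le a.2⟩, (D.π_ker _).2 a.2⟩
        left_inv := fun _ => rfl
        right_inv := fun _ => rfl }
    rw [← h, hk, D.cardQ]
    ring
  have hRle : R ≤ Cs := fun a ha => mem_cent_of_commute ((D.ctx_far hg).central a ha).symm
  have hRc : Nat.card ↥R = 2 ^ 13 := by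
    rw [hR, Subgroup.card_map_of_injective (MulAut.conj g).injective, D.cardQ]
  have hquot : Nat.card (↥Cs ⧸ R.subgroupOf Cs) = 19595520 := by
    have h := Subgroup.card_eq_card_quotient_mul_card_subgroup (R.subgroupOf Cs)
    rw [hCc, Nat.card_congr (Subgroup.subgroupOfEquivOfLe hRle).toEquiv, hRc, mul_comm (2 ^ 13)] at h
    exact (Nat.eq_of_mul_eq_mul_right (by norm_num) h).symm
  let θ : ↥Hs →* ↥Cs ⧸ R.subgroupOf Cs := (QuotientGroup.mk' _).comp (Subgroup.inclusion inf_le_right)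
  have hk : Nat.card ↥θ.ker = Nat.card ↥(farPart D g) := Nat.card_congr
    { toFun := fun a => ⟨(a : ↥Hs), (QuotientGroup.eq_one_iff (N := R.subgroupOf Cs)
          (Subgroup.inclusion inf_le_right (a : ↥Hs))).1 (MonoidHom.mem_ker.1 a.2), a.1.2.1⟩
      invFun := fun a => ⟨⟨a, D.far_le hg a.2⟩, MonoidHom.mem_ker.2 ((QuotientGroup.eq_one_iff (N := R.subgroupOf Cs)
          (Subgroup.inclusion inf_le_right (⟨a, D.far_le hg a.2⟩ : ↥Hs))).2 a.2.1)⟩
      left_inv := fun _ => rfl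
      right_inv := fun _ => rfl }
  rw [← D.card_stab hs]
  have h := θ.ker.card_mul_index
  rw [Subgroup.index_ker] at h
  change Nat.card ↥Hs ∣ _
  rw [← h, hk]
  exact Nat.mul_dvd_mul_left _ (hquot ▸ Subgroup.card_subgroup_dvd_card θ.range)

theorem Coord.far_two : IsPGroup 2 ↥(farPart D g) := (D.ctx_far hg).two.to_le inf_le_left

theorem Coord.meet_elem (hne : s ≠ z) {a b : G} (ha : a ∈ farPart D g ⊓ Q) (hb : b ∈ farPart D g ⊓ Q) :
    Commute a b ∧ a * a = 1 := by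
  have hc : ∀ {x : G}, (x = 1 ∨ x = z) → (x = 1 ∨ x = s) → x = 1 := fun h h' => by
    rcases h with rfl | rfl
    · rfl
    · exact h'.resolve_right hne.symm
  refine ⟨mul_inv_eq_iff_eq_mul.1 (mul_inv_eq_one.1 ?_), hc (D.ctx.sq a ha.2) ((D.ctx_far hg).sq a ha.1.1)⟩
  exact hc (D.ctx.comm a ha.2 b hb.2) ((D.ctx_far hg).comm a ha.1.1 b hb.1.1)

theorem Coord.meet_le (hne : s ≠ z) : Nat.card ↥(farPart D g ⊓ Q) ≤ 128 :=
  card_abelian_le D.ctx D.cardQ inf_le_right fun _ ha _ hb => (D.meet_elem hg hne ha hb).1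

/-- The image of the far part in the stabiliser of the coordinates. -/
theorem Coord.exists_far_image (hs : D.Pt s) :
    ∃ (f : ↥(D.M ⊓ Subgroup.centralizer ({s} : Set G)) →* ↥(Sb D.c (D.cl s))) (R : Subgroup ↥(Sb D.c (D.cl s))),
      Function.Surjective f ∧ (∀ m, f m = 1 ↔ (m : G) ∈ Q) ∧ R.Normal ∧ IsPGroup 2 ↥R ∧
      (∀ m, f m ∈ R ↔ ∃ n ∈ farPart D g ⊓ D.M, n⁻¹ * (m : G) ∈ Q) ∧
      Nat.card ↥(farPart D g ⊓ D.M) = Nat.card ↥R * Nat.card ↥(farPart D g ⊓ Q) := by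
  obtain ⟨f, hf, hk, -⟩ := D.exists_stab_hom hs
  have hle : farPart D g ⊓ D.M ≤ (D.M ⊓ Subgroup.centralizer ({s} : Set G)) := fun a ha => ⟨ha.2, (D.far_le hg ha.1).2⟩
  let N := (farPart D g ⊓ D.M).subgroupOf (D.M ⊓ Subgroup.centralizer ({s} : Set G))
  haveI hN : N.Normal := ⟨fun a ha x =>
    ⟨D.far_normal hg ⟨D.M_le x.2.1, x.2.2⟩ ha.1, D.M.mul_mem (D.M.mul_mem x.2.1 ha.2) (D.M.inv_mem x.2.1)⟩⟩
  refine ⟨f, N.map f, hf, hk, hN.map f hf, ?_, fun m => ?_, ?_⟩
  · exact (((D.far_two hg).to_le (inf_le_left : farPart D g ⊓ D.M ≤ _)).of_equiv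
      (Subgroup.subgroupOfEquivOfLe hle).symm).map f
  · constructor
    · rintro ⟨n, hn, e⟩
      refine ⟨(n : G), hn, ?_⟩
      have := (hk (n⁻¹ * m)).1 (by rw [map_mul, map_inv, e, inv_mul_cancel])
      simpa using this
    · rintro ⟨n, hn, hq⟩
      refine ⟨⟨n, hle hn⟩, hn, ?_⟩
      have := (hk (⟨n, hle hn⟩⁻¹ * m)).2 (by simpa using hq)
      rw [map_mul, map_inv, inv_mul_eq_one] at this
      exact this
  · let fN := f.comp N.subtype
    have h := fN.ker.card_mul_index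
    rw [Subgroup.index_ker, show fN.range = N.map f by rw [MonoidHom.range_comp, Subgroup.range_subtype]] at h
    have hker : Nat.card ↥fN.ker = Nat.card ↥(farPart D g ⊓ Q) := Nat.card_congr
      { toFun := fun a => ⟨((a : ↥N) : ↥(D.M ⊓ Subgroup.centralizer ({s} : Set G))), (a : ↥N).2.1, (hk _).1 a.2⟩
        invFun := fun a => ⟨⟨⟨a, hle ⟨a.2.1, D.Q_le a.2.2⟩⟩, ⟨a.2.1, D.Q_le a.2.2⟩⟩, (hk _).2 a.2.2⟩
        left_inv := fun _ => rfl
        right_inv := fun _ => rfl }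
    rw [← Nat.card_congr (Subgroup.subgroupOfEquivOfLe hle).toEquiv, ← h, hker, mul_comm]

/-- A conjugate of the central involution lies in the large orbit. -/
theorem Coord.conj_in_B (hs : s ∈ Q) (hne : s ≠ z) : D.cl s ∈ D.B := by
  haveI := Fact.mk Nat.prime_two
  have hp := D.pt_of_conj hg hs hne
  refine ((D.pt_iff hs).1 hp).resolve_left fun hA => ?_
  obtain ⟨f, R, -, -, hR, hR2, -, hcard⟩ := D.exists_far_image hg hp
  have h4 := D.orb.coreA _ hA R hR hR2
  have hS : Nat.card ↥(Sb D.c (D.cl s)) * D.A.ncard = Nat.card ↥(KM D.c) :=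
    card_inf_stab (KM D.c) hA D.orb.invA fun y hy => D.orb.transA _ hA y hy
  rw [D.orb.cardA, D.card_model] at hS
  have hS' : Nat.card ↥(Sb D.c (D.cl s)) = 25920 := by omega
  have hd := D.far_dvd hg hp
  rw [hS'] at hd
  have hlow : 2 ^ 11 ≤ Nat.card ↥(farPart D g) := two_pow_of_dvd (IsPGroup.iff_card.1 (D.far_two hg))
    (m := 76545) (Nat.dvd_of_mul_dvd_mul_right (show 0 < 2 ^ 8 by norm_num) (by
      refine dvd_trans ?_ (dvd_trans hd (dvd_of_eq (by ring)))
      exact ⟨405, by norm_num⟩)) ⟨38272, by norm_num⟩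
  have hup := (D.card_le_double (farPart D g) inf_le_right).1
  have h128 := D.meet_le hg hne
  rw [hcard] at hup
  exact arith_small hlow hup h4 h128

/-- The structure of the stabiliser of a conjugate. -/
theorem Coord.far_structure (hs : s ∈ Q) (hne : s ≠ z) :
    Nat.card ↥(farPart D g ⊓ Q) = 128 ∧ Nat.card ↥(farPart D g) = 4096 ∧ (∃ n ∈ farPart D g, n ∉ D.M) ∧
      ∃ ψ : ↥(D.M ⊓ Subgroup.centralizer ({s} : Set G)) →* alternatingGroup (Fin 6), Function.Surjective ψ ∧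
        ∀ m, ψ m = 1 ↔ ∃ n ∈ farPart D g ⊓ D.M, n⁻¹ * (m : G) ∈ Q := by
  haveI := Fact.mk Nat.prime_two
  have hp := D.pt_of_conj hg hs hne
  have hB := D.conj_in_B hg hs hne
  obtain ⟨f, R, hf, -, hR, hR2, hRm, hcard⟩ := D.exists_far_image hg hp
  obtain ⟨χ, hχ, hk16, hmax⟩ := D.orb.coreB _ hB
  have hRle : R ≤ χ.ker := hmax R hR hR2
  have h16 : Nat.card ↥R ≤ 16 := hk16 ▸ Subgroup.card_le_of_le hRle
  have hS : Nat.card ↥(Sb D.c (D.cl s)) * D.B.ncard = Nat.card ↥(KM D.c) :=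
    card_inf_stab (KM D.c) hB D.orb.invB fun y hy => D.orb.transB _ hB y hy
  rw [D.orb.cardB, D.card_model] at hS
  have hS' : Nat.card ↥(Sb D.c (D.cl s)) = 5760 := by omega
  have hd := D.far_dvd hg hp
  rw [hS'] at hd
  have hlow : 2 ^ 12 ≤ Nat.card ↥(farPart D g) := two_pow_of_dvd (IsPGroup.iff_card.1 (D.far_two hg))
    (m := 76545) (Nat.dvd_of_mul_dvd_mul_right (show 0 < 2 ^ 8 by norm_num) (by
      refine dvd_trans ?_ (dvd_trans hd (dvd_of_eq (by ring)))
      exact ⟨45, by norm_num⟩)) ⟨38272, by norm_num⟩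
  obtain ⟨hup, hup'⟩ := D.card_le_double (farPart D g) inf_le_right
  have h128 := D.meet_le hg hne
  rw [hcard] at hup
  have hex : ∃ n ∈ farPart D g, n ∉ D.M := by
    by_contra hall
    push Not at hall
    rw [show farPart D g ⊓ D.M = farPart D g from inf_eq_left.2 hall] at hcard
    exact arith_in hlow hcard h16 h128
  obtain ⟨hR16, hA128⟩ := arith_big hlow hup h16 h128
  have heq : R = χ.ker := Subgroup.eq_of_le_of_card_ge hRle (by rw [hk16, hR16])
  refine ⟨hA128, by rw [hup' hex, hcard, hR16, hA128], hex, χ.comp f, hχ.comp hf, fun m => ?_⟩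
  rw [MonoidHom.comp_apply, ← MonoidHom.mem_ker, ← heq]
  exact hRm m

end Cfsg.Lib.FischerLarge
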