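import Cfsg.Agent.Lib.FischerLarge.CheckLagrangian

/-! Certificates for the images of the elements of the rank four group minus one. -/

set_option autoImplicit false
set_option maxRecDepth 200000
set_option maxHeartbeats 2000000

namespace Cfsg.Lib.FischerLarge

open Cfsg.Lib.SUSixU43 Cfsg.Lib.PermAut

/-- For each element of the rank four group: four preimages, vectors it fixes, and one more vector. -/
def unipData : List (List (List ℕ × List ℕ × ℕ)) :=
  [[([], [], 0),
    ([256, 512, 257, 514], [5], 17),
    ([6, 11, 8, 12], [259], 17),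
    ([9, 14, 2, 3], [268], 68),
    ([5, 10, 4, 8], [261], 17),
    ([512, 768, 258, 515], [7], 17),
    ([1, 2, 4, 8], [256], 1280),
    ([7, 9, 12, 4], [270], 17),
    ([5, 10, 4, 8], [257], 17),
    ([4, 8, 256, 512], [1], 17),
    ([768, 256, 259, 513], [6], 17),
    ([5, 10, 1, 2], [260], 68),
    ([6, 11, 8, 12], [267], 17),
    ([1, 2, 256, 512], [4], 68),
    ([7, 9, 12, 4], [258], 17),
    ([13, 6, 3, 1], [264], 68)],
   [([], [], 0),
    ([19, 33, 16, 32], [275], 5),
    ([1, 2, 256, 512], [16], 80),
    ([19, 33, 16, 32], [259], 5),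
    ([18, 35, 48, 16], [305], 5),
    ([17, 34, 32, 48], [290], 5),
    ([768, 256, 258, 515], [17], 5),
    ([1, 2, 16, 32], [256], 1280),
    ([512, 768, 257, 514], [18], 5),
    ([256, 512, 259, 513], [19], 5),
    ([18, 35, 48, 16], [257], 5),
    ([33, 50, 3, 1], [272], 80),
    ([49, 18, 1, 2], [304], 80),
    ([17, 34, 32, 48], [258], 5),
    ([16, 32, 256, 512], [1], 5),
    ([17, 34, 2, 3], [288], 80)],
   [([], [], 0),
    ([5, 10, 8, 12], [17], 295),
    ([17, 34, 16, 32], [5], 295),
    ([12, 4, 14, 7], [23], 85),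
    ([3, 1, 11, 13], [24], 85),
    ([2, 3, 4, 8], [26], 85),
    ([5, 10, 3, 1], [20], 295),
    ([4, 8, 11, 13], [19], 85),
    ([1, 2, 14, 7], [25], 85),
    ([35, 49, 16, 32], [7], 85),
    ([13, 6, 12, 4], [22], 85),
    ([8, 12, 1, 2], [31], 85),
    ([7, 9, 3, 1], [28], 85),
    ([32, 48, 19, 33], [6], 85),
    ([7, 9, 8, 12], [18], 85),
    ([13, 6, 2, 3], [29], 85)]]

/-- Two bases of the fixed space, one in each orbit. -/
def spanPts : List (List ℕ × List ℕ) :=
  [([17, 34, 68, 136, 1280, 2560], [85, 102, 119, 153, 1297, 2577]),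
   ([5, 10, 80, 160, 1280, 2560], [85, 90, 95, 165, 1285, 2565]),
   ([1385, 1430, 1655, 1757, 1967, 2399], [85, 170, 295, 569, 1051, 2093])]

/-- A matrix of the rank four group. -/
def uMat (c i : ℕ) : ℕ := (syl c).el ((syl c).four.getD i 0)

/-- The certificate of an element. -/
def uRow (c i : ℕ) : List ℕ × List ℕ × ℕ := (unipData.getD c []).getD i ([], [], 0)

/-- The image. -/
def uImg (c i : ℕ) : List ℕ := spanL ((uRow c i).1.map fun v => addC (appM (uMat c i) v) v)

/-- The images: sixteen vectors, maximal, of codimension one over the field, small intersections. -/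
noncomputable def unipB (c : ℕ) : Bool :=
  (allBelowB 16 fun i => Nat.beq i 0 ||
    fN (uMat c i) fun m =>
      Nat.beq (uImg c i).length 16 &&
      ((uRow c i).2.1.all fun k => Nat.beq (appM m k) k) &&
      ((syl c).fix.all fun f => (uImg c i).contains f ||
        ((uRow c i).2.1.any fun k => !Nat.beq (hermC k f) 0)) &&
      ((syl c).fix.all fun f => (uImg c i).contains f ||
        ([1, 2, 3].any fun a => (uImg c i).contains (addC f (scaleC a (uRow c i).2.2)))) &&
      allBelowB i (fun j => Nat.beq j 0 ||
        Nat.ble ((uImg c i).filter fun f => (uImg c j).contains f).length 4)) &&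
  ((syl c).fix.all fun f => Nat.beq f 0 || !allBelowB 16 fun i => Nat.beq i 0 || (uImg c i).contains f) &&
  ((spanPts.getD c ([], [])).1.all fun v => (syl c).fix.contains v && (orbA c).has v) &&
  ((spanPts.getD c ([], [])).2.all fun v => (syl c).fix.contains v && (orbBig c).has v) &&
  ((syl c).fix.all fun v => (spanL (spanPts.getD c ([], [])).1).contains v) &&
  ((syl c).fix.all fun v => (spanL (spanPts.getD c ([], [])).2).contains v) &&
  Nat.beq (spanPts.getD c ([], [])).1.length 6 && Nat.beq (spanPts.getD c ([], [])).2.length 6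

theorem unip_ok0' : unipB 0 = true := by decide +kernel

theorem unip_ok1' : unipB 1 = true := by decide +kernel

theorem unip_ok2' : unipB 2 = true := by decide +kernel

theorem unip_ok : ∀ c < 3, unipB c = true := by
  intro c hc
  interval_cases c
  exacts [unip_ok0', unip_ok1', unip_ok2']

end Cfsg.Lib.FischerLarge
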