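import Cfsg.Agent.Lib.FischerLarge.MaxElem
import Cfsg.Agent.Lib.FischerLarge.CheckFusion

/-!
# The images of the elements of the rank four group minus one
-/

set_option autoImplicit false

namespace Cfsg.Lib.FischerLarge

open Cfsg Cfsg.Lib.SUSixU43 Cfsg.Lib.PermAut

set_option maxRecDepth 10000

attribute [local irreducible] syl mat mulM maskL appM ent sameM

/-- The image of an element of the rank four group minus one. -/
noncomputable def uSet (c i : ℕ) : Set V6 := {x | ∃ v, fourEl c i • v + v = x}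

theorem herm_conj_unip (x y : V6) : hermForm 6 R4 2 y x = hermForm 6 R4 2 x y ^ 2 := by
  simp only [hermForm, Fin.sum_univ_six, add_sq, mul_pow, sq_sq]
  ring

theorem herm_add_left_unip (x y w : V6) :
    hermForm 6 R4 2 (x + y) w = hermForm 6 R4 2 x w + hermForm 6 R4 2 y w := by
  simp only [hermForm, Pi.add_apply, add_mul, Finset.sum_add_distrib]

theorem herm_add_right_unip (x y w : V6) :
    hermForm 6 R4 2 w (x + y) = hermForm 6 R4 2 w x + hermForm 6 R4 2 w y := by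
  rw [herm_conj_unip, herm_add_left_unip, add_sq, ← herm_conj_unip, ← herm_conj_unip]

theorem herm_smul_left (a : R4) (x y : V6) : hermForm 6 R4 2 (a • x) y = a * hermForm 6 R4 2 x y := by
  simp only [hermForm, Pi.smul_apply, smul_eq_mul, Finset.mul_sum, mul_assoc]

theorem herm_smul_right (a : R4) (x y : V6) : hermForm 6 R4 2 x (a • y) = a ^ 2 * hermForm 6 R4 2 x y := by
  rw [herm_conj_unip, herm_smul_left, mul_pow, ← herm_conj_unip]

theorem r4_flip : ∀ p b : R4, p ^ 2 = p → b ≠ 0 →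
    ∃ a : R4, ¬ (a * (a ^ 2 * p) + a * b + (a * b) ^ 2 = 0 ↔ a * (a ^ 2 * p) = 0) := by decide +kernel

theorem r4_char : ∀ a : R4, a + a = 0 := by decide +kernel

/-- Some multiple changes the value on a vector that is not orthogonal. -/
theorem herm_flip {v f : V6} (hf : hermForm 6 R4 2 f f = 0) (hb : hermForm 6 R4 2 v f ≠ 0) :
    ∃ a : R4, ¬ (hermForm 6 R4 2 (a • v + f) (a • v + f) = 0 ↔ hermForm 6 R4 2 (a • v) (a • v) = 0) := by
  obtain ⟨a, ha⟩ := r4_flip (hermForm 6 R4 2 v v) (hermForm 6 R4 2 v f) (herm_conj_unip v v).symm hb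
  refine ⟨a, ?_⟩
  rw [herm_add_left_unip, herm_add_right_unip, herm_add_right_unip, hf, herm_conj_unip (a • v) f, herm_smul_left, herm_smul_left,
    herm_smul_right, add_zero]
  simpa only [add_assoc] using ha

theorem four_mat {c i : ℕ} (hc : c < 3) (hi : i < 16) :
    mm (fourEl c i) = mat (uMat c i) := by
  have hf := sylFix_ok c hc
  simp only [fixB, Bool.and_eq_true, List.all_eq_true, Nat.beq_eq, Nat.blt, Nat.ble_eq, fN_eq] at hf
  obtain ⟨⟨⟨⟨⟨⟨⟨⟨⟨hf16, -⟩, -⟩, -⟩, -⟩, -⟩, hfour⟩, -⟩, -⟩, -⟩ := hf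
  have hlt : (syl c).four.getD i 0 < 128 := (hfour _ (getD_mem 0 (by omega))).1
  rw [fourEl, uMat]
  exact (sy_spec hc hlt).2

/-- The facts on the images. -/
structure UnipFacts (c : ℕ) : Prop where
  small : ∀ i < 16, i ≠ 0 → (uSet c i).ncard ≤ 16
  sub : ∀ i < 16, ∀ x ∈ uSet c i, x ∈ fixSet c
  add : ∀ i, ∀ x ∈ uSet c i, ∀ y ∈ uSet c i, x + y ∈ uSet c i
  scal : ∀ i, ∀ (a : R4), ∀ x ∈ uSet c i, a • x ∈ uSet c i
  out : ∀ i < 16, i ≠ 0 → ∀ f ∈ fixSet c, f ∉ uSet c i → ∃ k, fourEl c i • k = k ∧ hermForm 6 R4 2 k f ≠ 0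
  codim : ∀ i < 16, i ≠ 0 → ∀ f ∈ fixSet c, ∀ f' ∈ fixSet c, f ∉ uSet c i → f' ∉ uSet c i →
    ∃ a : R4, a ≠ 0 ∧ f + a • f' ∈ uSet c i
  meet : ∀ i < 16, ∀ j < 16, i ≠ 0 → j ≠ 0 → i ≠ j → (uSet c i ∩ uSet c j).ncard ≤ 4
  none : ∀ f ∈ fixSet c, f ≠ 0 → ∃ i < 16, i ≠ 0 ∧ f ∉ uSet c i
  spanA : ∀ P : V6 → Prop, P 0 → (∀ x ∈ fixSet c, ∀ y ∈ fixSet c, P x → P y → P (x + y)) →
    (∀ x ∈ fixSet c, x ∈ (orbA c).set → P x) → ∀ x ∈ fixSet c, P x
  spanB : ∀ P : V6 → Prop, P 0 → (∀ x ∈ fixSet c, ∀ y ∈ fixSet c, P x → P y → P (x + y)) →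
    (∀ x ∈ fixSet c, x ∈ (orbBig c).set → P x) → ∀ x ∈ fixSet c, P x

theorem four_perp {g : G6} {x k : V6} (hk : g • k = k) :
    hermForm 6 R4 2 k (g • x + x) = 0 := by
  rw [herm_add_right_unip, show hermForm 6 R4 2 k (g • x) = hermForm 6 R4 2 (g • k) (g • x) by rw [hk], herm_smul]
  exact r4_char _

theorem r4_comb : ∀ a b : R4, a ≠ 0 → b ≠ 0 → a * b⁻¹ ≠ 0 ∧ a * b⁻¹ * b = a := fun _ _ ha hb =>
  ⟨mul_ne_zero ha (inv_ne_zero hb), inv_mul_cancel_right₀ hb _⟩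

theorem el_nonzero : ∀ a ∈ [1, 2, 3], el a ≠ 0 := by decide +kernel

theorem unipFacts {c : ℕ} (hc : c < 3) : UnipFacts c := by
  classical
  have hL := lagFacts hc
  have hf := sylFix_ok c hc
  simp only [fixB, Bool.and_eq_true, List.all_eq_true, Nat.beq_eq, Nat.blt, Nat.ble_eq, fN_eq] at hf
  obtain ⟨⟨⟨⟨⟨⟨⟨⟨⟨-, -⟩, -⟩, -⟩, -⟩, -⟩, -⟩, -⟩, hfv⟩, -⟩ := hf
  have h := unip_ok c hc
  simp only [unipB, Bool.and_eq_true, allBelowB_iff, Bool.or_eq_true, Nat.beq_eq, List.all_eq_true,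
    List.any_eq_true, fN_eq, List.contains_iff_mem, Bool.not_eq_true', Nat.ble_eq] at h
  obtain ⟨⟨⟨⟨⟨⟨⟨hrow, hnone⟩, hspA⟩, hspB⟩, hcA⟩, hcB⟩, -⟩, -⟩ := h
  have hsub : ∀ i < 16, ∀ x ∈ uSet c i, x ∈ fixSet c := by
    rintro i hi _ ⟨v, rfl⟩
    refine hL.perp _ fun y hy => ?_
    rw [herm_conj_unip, four_perp (hL.four_fix _ ((fourEl_facts hc).2.1 i hi) y hy)]
    exact zero_pow two_ne_zero
  have hadd : ∀ i, ∀ x ∈ uSet c i, ∀ y ∈ uSet c i, x + y ∈ uSet c i := by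
    rintro i _ ⟨v, rfl⟩ _ ⟨w, rfl⟩
    exact ⟨v + w, by rw [g6_add]; abel⟩
  have hscal : ∀ i, ∀ (a : R4), ∀ x ∈ uSet c i, a • x ∈ uSet c i := by
    rintro i a _ ⟨v, rfl⟩
    exact ⟨a • v, by rw [g6_scalar, smul_add]⟩
  have h0 : ∀ i, (0 : V6) ∈ uSet c i := fun i => ⟨0, by
    rw [smul_def, Matrix.mulVec_zero, add_zero]⟩
  -- the certificate of one element
  have key : ∀ i < 16, i ≠ 0 → (uImg c i).length = 16 ∧ uSet c i = {x | ∃ v ∈ uImg c i, vec v = x} ∧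
      (∀ f ∈ (syl c).fix, f ∉ uImg c i → ∃ k, fourEl c i • vec k = vec k ∧ hermForm 6 R4 2 (vec k) (vec f) ≠ 0) ∧
      (∀ f ∈ (syl c).fix, f ∈ uImg c i ∨ ∃ a ∈ [1, 2, 3], addC f (scaleC a (uRow c i).2.2) ∈ uImg c i) ∧
      ∀ j < i, j = 0 ∨ ((uImg c i).filter fun f => (uImg c j).contains f).length ≤ 4 := by
    intro i hi hi0
    obtain ⟨⟨⟨⟨hlen, hker⟩, hout⟩, hrep⟩, hmeet⟩ := (hrow i hi).resolve_left hi0
    have hm := four_mat hc hi
    have hout' : ∀ f ∈ (syl c).fix, f ∉ uImg c i →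
        ∃ k, fourEl c i • vec k = vec k ∧ hermForm 6 R4 2 (vec k) (vec f) ≠ 0 := by
      intro f hf hfn
      obtain ⟨k, hk, hne⟩ := (hout f hf).resolve_left hfn
      refine ⟨k, by rw [← vec_appM_smul hm, hker k hk], fun e => ?_⟩
      rw [herm_vec, el_eq_zero, Nat.mod_eq_of_lt (hermC_lt _ _)] at e
      rw [e, Nat.beq_refl] at hne
      exact Bool.noConfusion hne
    refine ⟨hlen, Set.Subset.antisymm (fun x hx => ?_) ?_, hout', hrep, hmeet⟩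
    · obtain ⟨f, hf, rfl⟩ := hsub i hi x hx
      by_contra hcon
      obtain ⟨k, hk, hne⟩ := hout' f hf fun h => hcon ⟨f, h, rfl⟩
      obtain ⟨v, hv⟩ := hx
      exact hne (by rw [← hv]; exact four_perp hk)
    · rintro _ ⟨v, hv, rfl⟩
      refine span_ind (P := fun x => x ∈ uSet c i) (h0 i) (fun a b ha hb => hadd i a ha b hb) _ (fun b hb => ?_) v hv
      obtain ⟨w, -, rfl⟩ := List.mem_map.1 hb
      exact ⟨vec w, by rw [vec_addC, vec_appM_smul hm]⟩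
  have hncard : ∀ (l : List ℕ), {x | ∃ v ∈ l, vec v = x}.ncard ≤ l.length := fun l => by
    rw [show {x | ∃ v ∈ l, vec v = x} = ↑(l.toFinset.image vec) by ext x; simp, Set.ncard_coe_finset]
    exact Finset.card_image_le.trans l.toFinset_card_le
  have hmem : ∀ i < 16, i ≠ 0 → ∀ f ∈ (syl c).fix, vec f ∈ uSet c i → f ∈ uImg c i := by
    intro i hi hi0 f hf hin
    by_contra hcon
    obtain ⟨k, hk, hne⟩ := (key i hi hi0).2.2.1 f hf hcon
    obtain ⟨v, hv⟩ := hin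
    exact hne (by rw [← hv]; exact four_perp hk)
  refine ⟨fun i hi hi0 => ?_, hsub, hadd, hscal, fun i hi hi0 => ?_, fun i hi hi0 => ?_,
    fun i hi j hj hi0 hj0 hij => ?_, ?_, fun P hP0 hPadd hb => ?_, fun P hP0 hPadd hb => ?_⟩
  · obtain ⟨hlen, heq, -⟩ := key i hi hi0
    rw [heq]
    exact (hncard _).trans hlen.le
  · rintro _ ⟨f, hf, rfl⟩ hout
    obtain ⟨-, heq, hk, -⟩ := key i hi hi0
    obtain ⟨k, hk1, hk2⟩ := hk f hf fun h => hout (heq ▸ ⟨f, h, rfl⟩)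
    exact ⟨vec k, hk1, hk2⟩
  · rintro _ ⟨f, hf, rfl⟩ _ ⟨f', hf', rfl⟩ hn hn'
    obtain ⟨-, heq, -, hrep, -⟩ := key i hi hi0
    have get : ∀ f ∈ (syl c).fix, vec f ∉ uSet c i →
        ∃ a : R4, a ≠ 0 ∧ vec f + a • vec (uRow c i).2.2 ∈ uSet c i := by
      intro f hf hn
      obtain ⟨a, ha, h⟩ := (hrep f hf).resolve_left fun h => hn (heq ▸ ⟨f, h, rfl⟩)
      exact ⟨el a, el_nonzero a ha, heq ▸ ⟨_, h, by rw [vec_addC, vec_scaleC]⟩⟩
    obtain ⟨a, ha, h1⟩ := get f hf hn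
    obtain ⟨b, hb, h2⟩ := get f' hf' hn'
    obtain ⟨hd, hdb⟩ := r4_comb a b ha hb
    refine ⟨_, hd, ?_⟩
    have h3 := hadd i _ h1 _ (hscal i (a * b⁻¹) _ h2)
    rwa [smul_add, smul_smul, hdb,
      show ∀ p q r : V6, p + q + (r + q) = p + r from fun p q r => by
        rw [add_add_add_comm, v6_add_self, add_zero]] at h3
  · wlog hlt : j < i generalizing i j
    · rw [Set.inter_comm]
      exact this j hj i hi hj0 hi0 (Ne.symm hij) (by omega)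
    obtain ⟨-, heq, -, -, hmeet⟩ := key i hi hi0
    refine le_trans (Set.ncard_le_ncard ?_ (Set.toFinite _)) ((hncard _).trans ((hmeet j hlt).resolve_left hj0))
    intro x hx
    obtain ⟨f, hf, rfl⟩ := heq ▸ hx.1
    obtain ⟨u, hu, hue⟩ := hsub i hi _ hx.1
    refine ⟨u, List.mem_filter.2 ⟨hmem i hi hi0 u hu (hue.symm ▸ hx.1), ?_⟩, hue⟩
    exact List.contains_iff_mem.2 (hmem j hj hj0 u hu (hue.symm ▸ hx.2))
  · rintro _ ⟨f, hf, rfl⟩ hf0
    by_contra hall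
    push Not at hall
    rcases hnone f hf with h | h
    · exact hf0 (by rw [h, vec_zero])
    · have h' : (allBelowB 16 fun i => Nat.beq i 0 || (uImg c i).contains f) = true := by
        refine allBelowB_iff.2 fun i hi => ?_
        rcases eq_or_ne i 0 with rfl | hi0
        · rfl
        · rw [Bool.or_eq_true]
          exact Or.inr (List.contains_iff_mem.2 (hmem i hi hi0 f hf (hall i hi hi0)))
      rw [h'] at h
      exact Bool.noConfusion h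
  all_goals rintro _ ⟨f, hf, rfl⟩
  · refine (span_ind (P := fun x => x ∈ fixSet c ∧ P x) ⟨hL.zero, hP0⟩
      (fun x y hx hy => ⟨hL.add _ hx.1 _ hy.1, hPadd _ hx.1 _ hy.1 hx.2 hy.2⟩) _ (fun b hb' => ?_) f (hcA f hf)).2
    obtain ⟨hb1, hb2⟩ := hspA b hb'
    exact ⟨⟨b, hb1, rfl⟩, hb _ ⟨b, hb1, rfl⟩ ((has_iff (orbA_dist hc) (hfv b hb1).1).1 hb2)⟩
  · refine (span_ind (P := fun x => x ∈ fixSet c ∧ P x) ⟨hL.zero, hP0⟩
      (fun x y hx hy => ⟨hL.add _ hx.1 _ hy.1, hPadd _ hx.1 _ hy.1 hx.2 hy.2⟩) _ (fun b hb' => ?_) f (hcB f hf)).2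
    obtain ⟨hb1, hb2⟩ := hspB b hb'
    have hd : distB (orbBig c) = true := by
      have ho := orb_ok c hc
      simp only [orbB, Bool.and_eq_true] at ho
      exact ho.1.1.1.1.1.2
    exact ⟨⟨b, hb1, rfl⟩, hb _ ⟨b, hb1, rfl⟩ ((has_iff hd (hfv b hb1).1).1 hb2)⟩

end Cfsg.Lib.FischerLarge
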