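import Cfsg.Agent.Lib.FischerLarge.Fusion
import Cfsg.Agent.Lib.Local.WeaklyClosed
import Cfsg.Agent.Lib.Thompson.Transport

/-!
# The two classes of involutions of the elementary abelian subgroup of order `2 ^ 11`
-/

set_option autoImplicit false

namespace Cfsg.Lib.FischerLarge

open Cfsg Cfsg.Lib.SUSixU43 Cfsg.Lib.Extra

universe u

theorem g6_cancel {g a b : G6} (h : g * a * g⁻¹ = g * b * g⁻¹) : a = b := mul_left_cancel (mul_right_cancel h)

theorem hom_unconj {M : Type u} [Group M] (f : M →* G6) {m x : M} {a b a' b' : G6} (hx : f (m * x * m⁻¹) = b)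
    (ha : a' = a) (hb : b' = b) (h : f m * a' = b' * f m) : f x = a := by
  rw [ha, hb] at h
  rw [map_mul, map_mul, map_inv] at hx
  exact g6_cancel (hx.trans (g6_conj h).symm)

variable {G : Type u} [Group G] [Finite G] {z : G} {Q : Subgroup G} (D : Coord z Q)

theorem Coord.four_inj {i j : ℕ} (hi : i < 16) (hj : j < 16) (e : fourEl D.c i = fourEl D.c j) : i = j := by
  classical
  have := finite_G6
  have hL := lagFacts D.c_lt
  obtain ⟨h0, hmem, hall⟩ := fourEl_facts D.c_lt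
  have hsub : fourSet D.c ⊆ ↑((Finset.range 16).image (fourEl D.c)) := by
    intro g hg
    simp only [Finset.coe_image, Finset.coe_range, Set.mem_image, Set.mem_Iio]
    by_cases h1 : g = 1
    · exact ⟨0, by norm_num, by rw [h0, h1]⟩
    · obtain ⟨k, hk, -, rfl⟩ := hall g hg h1
      exact ⟨k, hk, rfl⟩
  have h16 := Set.ncard_le_ncard hsub (Finset.finite_toSet _)
  rw [hL.four_card, Set.ncard_coe_finset] at h16
  have hinj : Set.InjOn (fourEl D.c) ↑(Finset.range 16) :=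
    Finset.card_image_iff.1 (le_antisymm Finset.card_image_le (by simpa using h16))
  exact hinj (by simpa using hi) (by simpa using hj) e

theorem Coord.lagW_decomp {a : G} (ha : a ∈ D.lagW) (h0 : D.cl a = 0) : a = 1 ∨ a = z := by
  rcases (D.cl_eq 1 (one_mem _) a ha.1).1 (by rw [D.cl_one, h0]) with e | e
  · exact Or.inl e
  · exact Or.inr (e.trans (mul_one z))

theorem Coord.exists_index {a : G} (ha : a ∈ D.lagC) (haQ : a ∉ Q) :
    ∃ i < 16, i ≠ 0 ∧ D.π ⟨a, ha.1⟩ = fourEl D.c i :=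
  (fourEl_facts D.c_lt).2.2 _ (D.lagC_image.2.2 ⟨a, ha.1⟩ ha) fun e => haQ ((D.π_ker _).1 e)

/-- Outside the extraspecial group there are at most three classes. -/
theorem Coord.classes : ∃ x₁ y₁ : G, ∀ a ∈ D.lagC, a ∉ Q →
    (¬ D.IsY a → D.Rel a x₁ ∨ D.Rel a (x₁ * z)) ∧ (D.IsY a → D.Rel a y₁) := by
  classical
  have hL := lagFacts D.c_lt
  have hU := unipFacts D.c_lt
  obtain ⟨-, hsurj, -⟩ := D.lagC_image
  obtain ⟨h0, hfe, -⟩ := fourEl_facts D.c_lt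
  obtain ⟨m₁, hm₁, hm₁e⟩ := hsurj _ (hfe 1 (by norm_num))
  obtain ⟨x₁, hx₁, hπ₁, hfix₁⟩ := D.exists_fixed hm₁
  rw [show (⟨(m₁ : G), hm₁.1⟩ : ↥D.M) = m₁ from rfl, hm₁e] at hπ₁
  obtain ⟨f₀, hf₀, hf₀U⟩ : ∃ f ∈ fixSet D.c, f ∉ uSet D.c 1 := by
    by_contra hall
    push Not at hall
    have h := Set.ncard_le_ncard (show fixSet D.c ⊆ uSet D.c 1 from hall) (Set.toFinite _)
    have := hU.small 1 (by norm_num) one_ne_zero
    rw [hL.card] at h
    omega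
  obtain ⟨w₀, hw₀Q, hw₀c⟩ := D.cl_surj f₀
  have hw₀ : w₀ ∈ D.lagW := ⟨hw₀Q, hw₀c.symm ▸ hf₀⟩
  refine ⟨x₁, x₁ * w₀, fun a ha haQ => ?_⟩
  let P : ℕ → Prop := fun i => i < 16 ∧ ∀ (a : G) (ha : a ∈ D.lagC), D.π ⟨a, ha.1⟩ = fourEl D.c i →
    (¬ D.IsY a → D.Rel a x₁ ∨ D.Rel a (x₁ * z)) ∧ (D.IsY a → D.Rel a (x₁ * w₀))
  obtain ⟨hnrm, hcov⟩ := nrm_facts D.c_lt
  obtain ⟨i, hi, hi0, hai⟩ := D.exists_index ha haQ
  refine ((hcov P ⟨by norm_num, fun a ha hae => ?_⟩ (fun k hk j hj => ?_) i hi).resolve_left hi0).2 a ha hai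
  · obtain ⟨w, hw, rfl⟩ := D.exists_part ha hx₁ (hae.trans hπ₁.symm)
    obtain ⟨hY, hrel⟩ := D.coset_kinds hx₁ hπ₁ hfix₁ (by norm_num) one_ne_zero hw
    refine ⟨fun h => hrel (not_not.1 fun h' => h (hY.2 h')), fun h => ?_⟩
    exact D.rel_outside hx₁ hπ₁ hfix₁ (by norm_num) one_ne_zero hw hw₀ (hY.1 h) (by rw [hw₀c]; exact hf₀U)
  · obtain ⟨g, hg, hgfix, hperm⟩ := hnrm k hk
    obtain ⟨j', hj', hje, hcj⟩ := hperm j hj.1
    rw [hje]
    refine ⟨hj', fun b hb hbe => ?_⟩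
    obtain ⟨m, rfl⟩ := D.exists_pre hg
    have hnorm := (D.lag_norm hgfix).2
    obtain ⟨⟨a, ha⟩, hab⟩ := Finite.surjective_of_injective
      (f := fun a : ↥D.lagC => (⟨(m : G) * a * (m : G)⁻¹, hnorm a a.2⟩ : ↥D.lagC))
      (fun a a' e => Subtype.ext (mul_left_cancel (mul_right_cancel (congrArg Subtype.val e)))) ⟨b, hb⟩
    have hab' : (m : G) * a * (m : G)⁻¹ = b := congrArg Subtype.val hab
    subst hab'
    have hb2 : D.π (m * ⟨a, ha.1⟩ * m⁻¹) = fourEl D.c j' := (congrArg D.π (Subtype.ext rfl)).trans hbe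
    have ej : sy D.c ((syl D.c).four.getD j 0) = fourEl D.c j := by rw [fourEl]
    have ej' : sy D.c ((syl D.c).four.getD j' 0) = fourEl D.c j' := by rw [fourEl]
    have hja : D.π ⟨a, ha.1⟩ = fourEl D.c j := hom_unconj D.π hb2 ej ej' hcj
    obtain ⟨hN, hY⟩ := hj.2 a ha hja
    have hmz := D.m_comm m
    have hba : D.Rel ((m : G) * a * (m : G)⁻¹) a := D.rel_symm ⟨m, hmz, rfl⟩
    refine ⟨fun h => ?_, fun h => D.rel_trans hba (hY ?_)⟩
    · exact (hN fun h' => h (D.isY_conj hmz h')).imp (D.rel_trans hba) (D.rel_trans hba)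
    · have := D.isY_conj hmz.inv_left h
      rwa [show (m : G)⁻¹ * ((m : G) * a * (m : G)⁻¹) * (m : G)⁻¹⁻¹ = a by group] at this

/-- A conjugation carrying the central involution to an element of the small subgroup normalizes the large one. -/
theorem Coord.exists_norm_conj {g s : G} (hg : g * z * g⁻¹ = s) (hs : s ∈ D.lagW) (hne : s ≠ z) :
    ∃ n : G, n * z * n⁻¹ = s ∧ ∀ x ∈ D.lagC, n * x * n⁻¹ ∈ D.lagC := by
  set A' := D.lagC.map (MulAut.conj g⁻¹).toMonoidHom with hA'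
  obtain ⟨m, hm⟩ := D.eq_conj_lagC hg hs.1 hne (T := A') (D.lagC_two.map _)
  have h := hm A' le_rfl ?_ ?_ ?_ ?_
  · refine ⟨g * (m : G)⁻¹, ?_, fun x hx => ?_⟩
    · rw [← hg, show g * (m : G)⁻¹ * z * (g * (m : G)⁻¹)⁻¹ = g * ((m : G)⁻¹ * z * m) * g⁻¹ by group,
        (D.m_comm m).inv_left.eq, inv_mul_cancel_right]
    · obtain ⟨y, hy, e⟩ : (m : G)⁻¹ * x * (m : G)⁻¹⁻¹ ∈ A' := h.symm ▸ ⟨x, hx, rfl⟩
      have e' : g⁻¹ * y * g⁻¹⁻¹ = (m : G)⁻¹ * x * (m : G)⁻¹⁻¹ := e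
      rw [show g * (m : G)⁻¹ * x * (g * (m : G)⁻¹)⁻¹ = g * ((m : G)⁻¹ * x * (m : G)⁻¹⁻¹) * g⁻¹ by group, ← e',
        show g * (g⁻¹ * y * g⁻¹⁻¹) * g⁻¹ = y by group]
      exact hy
  · rintro _ ⟨y, hy, rfl⟩
    refine mem_cent_of_commute ?_
    have := (Commute.conj_iff g⁻¹).2 (D.lagC_comm_W hy hs)
    rwa [show g⁻¹ * s * g⁻¹⁻¹ = z by rw [← hg]; group] at this
  · rintro _ ⟨a, ha, rfl⟩ _ ⟨b, hb, rfl⟩
    exact (D.lagC_comm ha hb).map (MulAut.conj g⁻¹).toMonoidHom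
  · rintro _ ⟨a, ha, rfl⟩
    rw [← map_mul, D.lagC_elem a ha, map_one]
  · rw [hA', Subgroup.card_map_of_injective (MulAut.conj g⁻¹).injective, D.lagC_image.1]

/-- The small subgroup lies in no other conjugate of the extraspecial group. -/
theorem Coord.lagW_not_far {n s : G} (hn : n * z * n⁻¹ = s) (hs : s ∈ D.lagW) (hne : s ≠ z) :
    ¬ D.lagW ≤ Q.map (MulAut.conj n).toMonoidHom := by
  intro hle
  have hX := D.ctx_far hn
  have hs1 : s ≠ 1 := hX.ne_one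
  have hv0 : D.cl s ≠ 0 := fun h => (D.lagW_decomp hs h).elim hs1 hne
  have hR : farPart D n ⊓ D.M ≤ D.lagC := by
    intro x hx
    refine ⟨hx.2, Subgroup.mem_centralizer_iff.2 fun w hw => ?_⟩
    have key : ∀ w ∈ D.lagW, (D.π ⟨x, hx.2⟩ • D.cl w = D.cl w ∧ x * w * x⁻¹ = w) ∨
        (D.π ⟨x, hx.2⟩ • D.cl w = D.cl s + D.cl w ∧ x * w * x⁻¹ = s * w) := fun w hw => by
      rw [← D.π_cl ⟨x, hx.2⟩ w hw.1]
      rcases hX.comm x hx.1.1 w (hle hw) with h | h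
      · have e := mul_inv_eq_one.1 h
        exact Or.inl ⟨congrArg D.cl e, e⟩
      · have e := mul_inv_eq_iff_eq_mul.1 h
        exact Or.inr ⟨by rw [show D.cl (x * w * x⁻¹) = D.cl (s * w) from congrArg D.cl e,
          D.cl_mul s hs.1 w hw.1], e⟩
    rcases key w hw with ⟨-, e⟩ | ⟨e1, -⟩
    · exact (mul_inv_eq_iff_eq_mul.1 e).symm
    · exfalso
      obtain ⟨w', hw'Q, hw'c⟩ := D.cl_surj (om • D.cl w)
      have hw' : w' ∈ D.lagW := ⟨hw'Q, hw'c.symm ▸ (lagFacts D.c_lt).scal _ _ hw.2⟩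
      rcases key w' hw' with ⟨e2, -⟩ | ⟨e2, -⟩ <;> rw [hw'c, g6_scalar, e1, smul_add] at e2
      · exact hv0 ((smul_eq_zero.1 (add_eq_right.1 e2)).resolve_left tau_om.2.2.2)
      · have e3 := add_right_cancel e2
        refine hv0 ((smul_eq_zero.1 (show (om + 1) • D.cl s = 0 from ?_)).resolve_left tau_om.2.2.1)
        rw [add_smul, one_smul, e3, v6_add_self]
  have hc := card_abelian_le hX (by rw [Subgroup.card_map_of_injective (MulAut.conj n).injective, D.cardQ])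
    (A := farPart D n ⊓ D.M) (fun x hx => hx.1.1) fun a ha b hb => D.lagC_comm (hR ha) (hR hb)
  have h4 : Nat.card ↥(farPart D n) = 4096 := (D.far_structure hn hs.1 hne).2.1
  have h5 := (D.card_le_double (farPart D n) inf_le_right).1
  omega

/-- The two classes. -/
theorem Coord.two_classes {g₀ : G} (hs₀ : g₀ * z * g₀⁻¹ ∈ Q) (hne₀ : g₀ * z * g₀⁻¹ ≠ z) :
    ∃ t ∈ D.lagW, t ≠ 1 ∧ ¬ IsConj z t ∧ ∀ a ∈ D.lagC, a ≠ 1 → IsConj z a ∨ IsConj t a := by
  classical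
  have := finite_G6
  have hL := lagFacts D.c_lt
  have hUF := unipFacts D.c_lt
  have hex : ∀ O : Set V6, (∀ P : V6 → Prop, P 0 →
      (∀ x ∈ fixSet D.c, ∀ y ∈ fixSet D.c, P x → P y → P (x + y)) →
      (∀ x ∈ fixSet D.c, x ∈ O → P x) → ∀ x ∈ fixSet D.c, P x) → ∃ a ∈ D.lagW, D.cl a ∈ O := by
    intro O hspan
    by_contra hall
    push Not at hall
    have h0 : ∀ f ∈ fixSet D.c, f = 0 := hspan (fun f => f = 0) rfl
      (fun x _ y _ hx hy => by rw [hx, hy, add_zero]) fun f hf hfO => by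
        obtain ⟨a, ha, rfl⟩ := D.cl_surj f
        exact absurd hfO (hall a ⟨ha, hf⟩)
    have h := Set.ncard_le_ncard (show fixSet D.c ⊆ {0} from h0) (Set.toFinite _)
    rw [hL.card, Set.ncard_singleton] at h
    omega
  obtain ⟨t, htW, htA⟩ := hex _ hUF.spanA
  obtain ⟨s, hsW, hsB⟩ := hex _ hUF.spanB
  rw [← D.A_eq] at htA
  rw [← D.B_eq] at hsB
  have hpt : ∀ a ∈ D.lagW, a ≠ 1 → a ≠ z → D.Pt a := fun a ha h1 hz => ⟨ha.1, D.lagW_sq ha, h1, hz⟩
  have hzB : ∀ a ∈ D.lagW, D.cl a ∈ D.B → IsConj z a := by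
    intro a ha hB
    obtain ⟨m, -, e⟩ := D.conj_in_M (D.pt_of_conj rfl hs₀ hne₀) ha.1
      (D.orb.transB _ (D.conj_in_B rfl hs₀ hne₀) _ hB)
    exact isConj_iff.2 ⟨m * g₀, by rw [← e]; group⟩
  have hcl0 : D.cl 1 = 0 := D.cl_one
  have hclz : D.cl z = 0 := by
    have := D.cl_z_mul (one_mem Q)
    rwa [mul_one, hcl0] at this
  have hne_of : ∀ {a : G}, D.cl a ∈ D.A ∪ D.B → a ≠ 1 ∧ a ≠ z := fun h =>
    ⟨fun e => (D.orb.sing _ h).1 (by rw [e, hcl0]), fun e => (D.orb.sing _ h).1 (by rw [e, hclz])⟩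
  have hAn : ∀ a ∈ D.lagW, D.cl a ∈ D.A → ¬ IsConj z a := by
    intro a ha hA hc
    obtain ⟨k, hk⟩ := isConj_iff.1 hc
    exact D.orb.disj _ hA (D.conj_in_B hk ha.1 (hne_of (Or.inl hA)).2)
  obtain ⟨ht1, -⟩ := hne_of (Or.inl htA)
  refine ⟨t, htW, ht1, hAn t htW htA, ?_⟩
  have hgoodW : ∀ a ∈ D.lagW, a ≠ 1 → IsConj z a ∨ IsConj t a := by
    intro a ha h1
    rcases eq_or_ne a z with rfl | hz
    · exact Or.inl (IsConj.refl _)
    rcases (D.pt_iff ha.1).1 (hpt a ha h1 hz) with h | h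
    · obtain ⟨m, -, e⟩ := D.conj_in_M (hpt t htW ht1 (hne_of (Or.inl htA)).2) ha.1 (D.orb.transA _ htA _ h)
      exact Or.inr (isConj_iff.2 ⟨m, e⟩)
    · exact Or.inl (hzB a ha h)
  obtain ⟨g, hg⟩ := isConj_iff.1 (hzB s hsW hsB)
  have hsz : s ≠ z := (hne_of (Or.inr hsB)).2
  obtain ⟨n, hn, hnC⟩ := D.exists_norm_conj hg hsW hsz
  set K : Subgroup G := D.lagW.map (MulAut.conj n).toMonoidHom with hKdef
  have hfmem : ∀ a ∈ D.lagW, n * a * n⁻¹ ∈ K := fun a ha => ⟨a, ha, rfl⟩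
  have hKC : K ≤ D.lagC := by
    rintro _ ⟨a, ha, rfl⟩
    exact hnC a (D.lagW_le_C ha)
  have hKQ : K ≤ Q.map (MulAut.conj n).toMonoidHom := Subgroup.map_mono fun a ha => ha.1
  have hKcard : Nat.card ↥K = 128 := by
    rw [hKdef, Subgroup.card_map_of_injective (MulAut.conj n).injective, D.card_lagW]
  have hnot := D.lagW_not_far hn hsW hsz
  have hzK : z ∈ K := by
    obtain ⟨p, hp, e⟩ := D.ctx.mem_symm (g := n) (by rw [hn]; exact hsW.1)
    have e' : n * p * n⁻¹ = z := e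
    obtain ⟨⟨a, ha⟩, hae⟩ := Finite.surjective_of_injective
      (f := fun a : ↥D.lagC => (⟨n * a * n⁻¹, hnC a a.2⟩ : ↥D.lagC))
      (fun a a' e => Subtype.ext (mul_left_cancel (mul_right_cancel (congrArg Subtype.val e))))
      ⟨z, D.lagW_le_C D.z_lagW⟩
    have hap : a = p := mul_left_cancel (mul_right_cancel ((congrArg Subtype.val hae).trans e'.symm))
    exact ⟨p, D.lagC_Q.le ⟨hap ▸ ha, hp⟩, e⟩
  have hsK : s ∈ K := ⟨z, D.z_lagW, hn⟩
  have hgoodK : ∀ y ∈ K, y ≠ 1 → IsConj z y ∨ IsConj t y := by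
    rintro _ ⟨a, ha, rfl⟩ h1
    have hc : IsConj a (MulAut.conj n a) := isConj_iff.2 ⟨n, rfl⟩
    exact (hgoodW a ha fun e => h1 (by rw [e, map_one])).imp (·.trans hc) (·.trans hc)
  have hWK : ¬ D.lagW ≤ K := fun h => hnot (h.trans hKQ)
  have hKW : ∃ y ∈ K, y ∉ D.lagW := by
    by_contra hall
    push Not at hall
    exact hWK (Subgroup.eq_of_le_of_card_ge (show K ≤ D.lagW from hall) (by rw [hKcard, D.card_lagW])).ge
  have hspanK : ∀ O : Set V6, (∀ P : V6 → Prop, P 0 →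
      (∀ x ∈ fixSet D.c, ∀ y ∈ fixSet D.c, P x → P y → P (x + y)) →
      (∀ x ∈ fixSet D.c, x ∈ O → P x) → ∀ x ∈ fixSet D.c, P x) →
      (∀ a ∈ D.lagW, D.cl a ∈ O → a ∈ K) → False := by
    intro O hspan hO
    refine hWK fun a ha => hspan (fun f => ∀ a ∈ D.lagW, D.cl a = f → a ∈ K) ?_ ?_ ?_ _ ha.2 a ha rfl
    · intro a ha h
      rcases D.lagW_decomp ha h with rfl | rfl
      exacts [one_mem _, hzK]
    · intro p hp q hq hP hR a ha h
      obtain ⟨u, hu, rfl⟩ := D.cl_surj p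
      obtain ⟨v, hv, rfl⟩ := D.cl_surj q
      have huv := K.mul_mem (hP u ⟨hu, hp⟩ rfl) (hR v ⟨hv, hq⟩ rfl)
      rw [← D.cl_mul u hu v hv] at h
      rcases (D.cl_eq _ (mul_mem hu hv) a ha.1).1 h.symm with rfl | rfl
      exacts [huv, K.mul_mem hzK huv]
    · intro f _ hfO a ha h
      exact hO a ha (h.symm ▸ hfO)
  obtain ⟨x₁, y₁, hcls⟩ := D.classes
  have hnQ : ∀ y ∈ K, y ∉ D.lagW → y ∉ Q := fun y hy hyW hyQ => hyW (D.lagC_Q.le ⟨hKC hy, hyQ⟩)
  -- an element of the second kind is not all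
  obtain ⟨y, hyK, hyW, hyN⟩ : ∃ y ∈ K, y ∉ D.lagW ∧ ¬ D.IsY y := by
    by_contra hall
    push Not at hall
    obtain ⟨y, hyK, hyW⟩ := hKW
    have hy1 := (hcls y (hKC hyK) (hnQ y hyK hyW)).2 (hall y hyK hyW)
    -- the elements of the other class of the intersection
    set S := {a : G | a ∈ D.lagW ∧ a ≠ 1 ∧ (IsConj z a ↔ ¬ IsConj z y)} with hS
    have hmaps : ∀ a ∈ S, n * a * n⁻¹ ∈ S := by
      rintro a ⟨ha, h1, hiff⟩
      have hc : IsConj a (n * a * n⁻¹) := isConj_iff.2 ⟨n, rfl⟩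
      have hiff' : IsConj z (n * a * n⁻¹) ↔ ¬ IsConj z y :=
        ⟨fun h => hiff.1 (h.trans hc.symm), fun h => (hiff.2 h).trans hc⟩
      refine ⟨?_, fun e => h1 (conj_eq_one_iff.1 e), hiff'⟩
      by_contra hout
      have h2 := (hcls _ (hKC (hfmem a ha)) (hnQ _ (hfmem a ha) hout)).2 (hall _ (hfmem a ha) hout)
      have hcy : IsConj (n * a * n⁻¹) y := (D.rel_conj h2).trans (D.rel_conj hy1).symm
      exact iff_not_self ((show IsConj z y ↔ IsConj z (n * a * n⁻¹) from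
        ⟨fun h => h.trans hcy.symm, fun h => h.trans hcy⟩).trans hiff')
    have hSK : ∀ b ∈ S, b ∈ K := by
      intro b hb
      obtain ⟨⟨a, ha⟩, e⟩ := Finite.surjective_of_injective
        (f := fun a : S => (⟨n * a * n⁻¹, hmaps a a.2⟩ : S))
        (fun a a' e => Subtype.ext (mul_left_cancel (mul_right_cancel (congrArg Subtype.val e)))) ⟨b, hb⟩
      have e' : n * a * n⁻¹ = b := congrArg Subtype.val e
      rw [← e']
      exact hfmem a ha.1
    by_cases hyz : IsConj z y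
    · refine hspanK _ hUF.spanA fun a ha hA => hSK a ?_
      rw [← D.A_eq] at hA
      exact ⟨ha, (hne_of (Or.inl hA)).1, iff_of_false (hAn a ha hA) (not_not.2 hyz)⟩
    · refine hspanK _ hUF.spanB fun a ha hB => hSK a ?_
      rw [← D.B_eq] at hB
      exact ⟨ha, (hne_of (Or.inr hB)).1, iff_of_true (hzB a ha hB) hyz⟩
  have hne1 : ∀ y ∈ K, y ∉ D.lagW → y ≠ 1 := fun y _ h e => h (e ▸ one_mem _)
  have hgood_rel : ∀ a b : G, D.Rel a b → (IsConj z a ∨ IsConj t a) → (IsConj z b ∨ IsConj t b) :=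
    fun a b h hh => hh.imp (·.trans (D.rel_conj h)) (·.trans (D.rel_conj h))
  have hx₁ : (IsConj z x₁ ∨ IsConj t x₁) ∧ (IsConj z (x₁ * z) ∨ IsConj t (x₁ * z)) := by
    have hyzK : y * z ∈ K := K.mul_mem hyK hzK
    have hyzW : y * z ∉ D.lagW := fun h => hyW (by simpa [mul_assoc, D.ctx.sq_z] using mul_mem h D.z_lagW)
    have h1 := hgoodK y hyK (hne1 y hyK hyW)
    have h2 := hgoodK _ hyzK (hne1 _ hyzK hyzW)
    rcases (hcls y (hKC hyK) (hnQ y hyK hyW)).1 hyN with h | h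
    · exact ⟨hgood_rel _ _ h h1, hgood_rel _ _ (D.rel_mul_z h) h2⟩
    · have h' := D.rel_mul_z h
      rw [mul_assoc, D.ctx.sq_z, mul_one] at h'
      exact ⟨hgood_rel _ _ h' h2, hgood_rel _ _ h h1⟩
  -- an element of the first kind is present
  obtain ⟨v, hvK, hvW, hvY⟩ : ∃ v ∈ K, v ∉ D.lagW ∧ D.IsY v := by
    by_contra hall
    push Not at hall
    have himg : ∀ v ∈ K, v ∉ D.lagW → ∀ i < 16, i ≠ 0 → ∀ hvC : v ∈ D.lagC,
        D.π ⟨v, hvC.1⟩ = fourEl D.c i → ∀ k ∈ K, k ∈ D.lagW → D.cl k ∈ uSet D.c i := by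
      intro v hvK hvW i hi hi0 hvC hπ k hk hkW
      obtain ⟨x, hx, hπx, hfix⟩ := D.exists_fixed hvC
      rw [hπ] at hπx
      obtain ⟨u, hu, rfl⟩ := D.exists_part hvC hx (hπ.trans hπx.symm)
      have h1 := not_not.1 fun h => hall _ hvK hvW ((D.coset_kinds hx hπx hfix hi hi0 hu).1.2 h)
      have hvkW : x * u * k ∉ D.lagW := fun h => hvW (by
        simpa [mul_assoc, mul_inv_cancel_right] using mul_mem h (inv_mem hkW))
      have h2 : D.cl (u * k) ∈ uSet D.c i := not_not.1 fun h =>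
        hall _ (K.mul_mem hvK hk) hvkW (mul_assoc x u k ▸
          (D.coset_kinds hx hπx hfix hi hi0 (mul_mem hu hkW)).1.2 h)
      have h3 := hUF.add i _ h1 _ h2
      rwa [D.cl_mul u hu.1 k hkW.1, ← add_assoc, v6_add_self, zero_add] at h3
    have hKM : K ≤ D.M := fun a ha => (hKC ha).1
    let φ : ↥K →* G6 := D.π.comp (Subgroup.inclusion hKM)
    have hk : Nat.card ↥φ.ker = Nat.card ↥(K ⊓ D.lagW) := Nat.card_congr
      { toFun := fun a => ⟨((a : ↥K) : G), (a : ↥K).2, D.lagC_Q.le ⟨hKC (a : ↥K).2, (D.π_ker _).1 a.2⟩⟩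
        invFun := fun a => ⟨⟨a, a.2.1⟩, (D.π_ker _).2 a.2.2.1⟩
        left_inv := fun _ => rfl
        right_inv := fun _ => rfl }
    have hmul := φ.ker.card_mul_index
    rw [Subgroup.index_ker, hk, hKcard] at hmul
    have hle := (D.card_le_image (A := K ⊓ D.lagW) fun a ha => ha.2.1).1
    set U := D.cl '' ((K ⊓ D.lagW : Subgroup G) : Set G) with hUdef
    have hUsub : ∀ a ∈ K, a ∉ D.lagW → ∀ i < 16, i ≠ 0 → ∀ haC : a ∈ D.lagC,
        D.π ⟨a, haC.1⟩ = fourEl D.c i → U ⊆ uSet D.c i := by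
      rintro a ha haW i hi hi0 haC hπ _ ⟨k, hk, rfl⟩
      exact himg a ha haW i hi hi0 haC hπ k hk.1 hk.2
    have hφv : ∀ (a : G) (ha : a ∈ K), φ ⟨a, ha⟩ = D.π ⟨a, hKM ha⟩ := fun _ _ => rfl
    have hout : ∀ a : ↥K, φ a ≠ 1 → (a : G) ∉ D.lagW := fun a ha h => ha ((D.π_ker _).2 h.1)
    obtain ⟨y, hyK, hyW⟩ := hKW
    obtain ⟨i, hi, hi0, hyi⟩ := D.exists_index (hKC hyK) (hnQ y hyK hyW)
    by_cases hone : ∀ a : ↥K, φ a = 1 ∨ φ a = φ ⟨y, hyK⟩
    · have hr : Nat.card ↥φ.range ≤ 2 := by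
        have h := Set.ncard_le_ncard (show (φ.range : Set G6) ⊆ {1, φ ⟨y, hyK⟩} by
          rintro _ ⟨a, rfl⟩; exact hone a) (Set.toFinite _)
        exact h.trans ((Set.ncard_insert_le _ _).trans (by rw [Set.ncard_singleton]))
      have h16 := (Set.ncard_le_ncard (hUsub y hyK hyW i hi hi0 (hKC hyK) hyi) (Set.toFinite _)).trans
        (hUF.small i hi hi0)
      have := Nat.mul_le_mul (show Nat.card ↥(K ⊓ D.lagW) ≤ 32 by omega) hr
      omega
    · push Not at hone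
      obtain ⟨⟨a, ha⟩, ha1, hay⟩ := hone
      have haW := hout ⟨a, ha⟩ ha1
      obtain ⟨j, hj, hj0, haj⟩ := D.exists_index (hKC ha) (hnQ a ha haW)
      have hij : i ≠ j := fun e => hay (by rw [hφv, hφv, haj, ← e, hyi])
      have h4 := (Set.ncard_le_ncard (Set.subset_inter (hUsub y hyK hyW i hi hi0 (hKC hyK) hyi)
        (hUsub a ha haW j hj hj0 (hKC ha) haj)) (Set.toFinite _)).trans (hUF.meet i hi j hj hi0 hj0 hij)
      have hsub : (φ.range : Set G6) ⊆ fourSet D.c := by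
        rintro _ ⟨b, rfl⟩
        exact D.lagC_image.2.2 _ (hKC b.2)
      have hr16 : 16 ≤ Nat.card ↥φ.range := by
        by_contra hlt
        have := Nat.mul_le_mul (show Nat.card ↥(K ⊓ D.lagW) ≤ 8 by omega)
          (show Nat.card ↥φ.range ≤ 15 by omega)
        omega
      have heq : (φ.range : Set G6) = fourSet D.c :=
        Set.eq_of_subset_of_ncard_le hsub (by rw [hL.four_card]; exact hr16) (Set.toFinite _)
      obtain ⟨k, hk, hk0, hkU⟩ := hUF.none _ hsW.2 fun h =>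
        (D.lagW_decomp hsW h).elim (D.ctx_far hn).ne_one hsz
      obtain ⟨⟨b, hb⟩, hbk⟩ : fourEl D.c k ∈ φ.range := by
        rw [← SetLike.mem_coe, heq]
        exact (fourEl_facts D.c_lt).2.1 k hk
      rw [hφv] at hbk
      have hbW : b ∉ D.lagW := fun h => hk0 (D.four_inj hk (by norm_num) (by
        rw [← hbk, (fourEl_facts D.c_lt).1]
        exact (D.π_ker _).2 h.1))
      exact hkU (himg b hb hbW k hk hk0 (hKC hb) hbk s hsK hsW)
  have hy₁ : IsConj z y₁ ∨ IsConj t y₁ :=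
    hgood_rel _ _ ((hcls v (hKC hvK) (hnQ v hvK hvW)).2 hvY) (hgoodK v hvK (hne1 v hvK hvW))
  intro a ha h1
  by_cases haQ : a ∈ Q
  · exact hgoodW a (D.lagC_Q.le ⟨ha, haQ⟩) h1
  · by_cases hY : D.IsY a
    · exact hgood_rel _ _ (D.rel_symm ((hcls a ha haQ).2 hY)) hy₁
    · rcases (hcls a ha haQ).1 hY with h | h
      · exact hgood_rel _ _ (D.rel_symm h) hx₁.1
      · exact hgood_rel _ _ (D.rel_symm h) hx₁.2

/-- A Sylow subgroup whose Thompson subgroup is the large elementary abelian subgroup. -/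
theorem Coord.exists_sylow_thompson {g₀ : G} (hs₀ : g₀ * z * g₀⁻¹ ∈ Q) (hne₀ : g₀ * z * g₀⁻¹ ≠ z) :
    ∃ T : Sylow 2 G, D.lagC ≤ (T : Subgroup G) ∧ Cfsg.thompsonSubgroupOf 2 (T : Subgroup G) = D.lagC ∧
      ∀ k : G, D.lagC.map (MulAut.conj k).toMonoidHom ≤ (T : Subgroup G) →
        D.lagC.map (MulAut.conj k).toMonoidHom = D.lagC := by
  haveI := Fact.mk Nat.prime_two
  have hQn : Q ≤ Subgroup.normalizer (D.lagC : Set G) := fun q hq =>
    Fusion.le_normalizer_of_conj_mem (D.Q_norm hq)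
  obtain ⟨T, hT⟩ := (Local.isPGroup_sup_of_le_normalizer D.ctx.two D.lagC_two hQn).exists_le_sylow
  have hTz : (T : Subgroup G) ≤ Subgroup.centralizer ({z} : Set G) := fun p hp =>
    mem_cent_of_commute (D.ctx.central_of_le T.2 (le_sup_left.trans hT) p hp).symm
  have hCT : D.lagC ≤ (T : Subgroup G) := le_sup_right.trans hT
  obtain ⟨m, hm⟩ := D.eq_conj_lagC rfl hs₀ hne₀ (T := (T : Subgroup G)) T.2
  have huniq : ∀ E : Subgroup G, E ≤ (T : Subgroup G) → (∀ a ∈ E, a * a = 1) → 2 ^ 11 ≤ Nat.card ↥E →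
      E = D.lagC := fun E hE hsq hcard => by
    rw [hm E hE (hE.trans hTz) (fun a ha b hb => commute_of_sq (hsq a ha) (hsq b hb) (hsq _ (mul_mem ha hb)))
      hsq hcard, ← hm D.lagC hCT (hCT.trans hTz) (fun a ha b hb => D.lagC_comm ha hb) D.lagC_elem
      D.lagC_image.1.ge]
  refine ⟨T, hCT, ?_, fun k hk => huniq _ hk ?_ ?_⟩
  · set A₀ := D.lagC.subgroupOf (T : Subgroup G) with hA₀
    have hA₀c : Nat.card ↥A₀ = 2 ^ 11 := by
      rw [Nat.card_congr (Subgroup.subgroupOfEquivOfLe hCT).toEquiv, D.lagC_image.1]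
    have hA₀e : Cfsg.IsElementaryAbelian 2 A₀ :=
      ⟨isMulCommutative_iff.2 fun a b => Subtype.ext (Subtype.ext (D.lagC_comm a.2 b.2).eq),
        fun a ha => Subtype.ext (by rw [pow_two]; exact D.lagC_elem _ ha)⟩
    have hmax : ∀ E : Subgroup ↥(T : Subgroup G), Cfsg.IsElementaryAbelian 2 E → 2 ^ 11 ≤ Nat.card ↥E →
        E = A₀ := fun E hE hcard => by
      refine Subgroup.map_injective (T : Subgroup G).subtype_injective ?_
      rw [hA₀, Subgroup.map_subgroupOf_eq_of_le hCT]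
      refine huniq _ (Subgroup.map_subtype_le _) ?_ ?_
      · rintro _ ⟨a, ha, rfl⟩
        rw [← map_mul, ← pow_two, hE.2 a ha, map_one]
      · rwa [Subgroup.card_map_of_injective (T : Subgroup G).subtype_injective]
    have hset : Cfsg.maxElementaryAbelianSubgroups 2 ↥(T : Subgroup G) = {A₀} := by
      refine Set.eq_singleton_iff_unique_mem.2 ⟨⟨hA₀e, fun E hE => ?_⟩,
        fun E hE => hmax E hE.1 (hA₀c.ge.trans (hE.2 A₀ hA₀e))⟩
      by_contra hlt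
      have := hmax E hE (by omega)
      rw [this] at hlt
      exact hlt le_rfl
    rw [Cfsg.thompsonSubgroupOf, Cfsg.thompsonSubgroup, hset, sSup_singleton, hA₀,
      Subgroup.map_subgroupOf_eq_of_le hCT]
  · rintro _ ⟨a, ha, rfl⟩
    rw [← map_mul, D.lagC_elem a ha, map_one]
  · rw [Subgroup.card_map_of_injective (MulAut.conj k).injective, D.lagC_image.1]

/-- Conjugacy inside a weakly closed abelian subgroup. -/
theorem exists_normalizer_conj_of_wc {H : Type u} [Group H] [Finite H] {p : ℕ} [Fact p.Prime] {A : Subgroup H}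
    (hA : IsPGroup p ↥A) (hwc : Cfsg.IsWeaklyClosedSubgroup p A) (hab : ∀ a ∈ A, ∀ b ∈ A, Commute a b)
    {a g : H} (ha : a ∈ A) (hg : g * a * g⁻¹ ∈ A) :
    ∃ n ∈ Subgroup.normalizer (A : Set H), n * a * n⁻¹ = g * a * g⁻¹ := by
  set b := g * a * g⁻¹ with hb
  set C := Subgroup.centralizer ({b} : Set H) with hC
  set B := A.map (MulAut.conj g).toMonoidHom with hB
  have hAC : A ≤ C := fun x hx => mem_cent_of_commute (hab x hx b hg)
  have hBC : B ≤ C := by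
    rintro _ ⟨x, hx, rfl⟩
    exact mem_cent_of_commute ((Commute.conj_iff g).2 (hab x hx a ha))
  obtain ⟨P, hP⟩ := (hA.of_equiv (Subgroup.subgroupOfEquivOfLe hAC).symm).exists_le_sylow
  obtain ⟨P', hP'⟩ := ((hA.map _ : IsPGroup p ↥B).of_equiv (Subgroup.subgroupOfEquivOfLe hBC).symm).exists_le_sylow
  obtain ⟨c, hc⟩ := MulAction.exists_smul_eq ↥C P' P
  have hA' : A ≤ (P : Subgroup ↥C).map C.subtype := fun x hx => ⟨⟨x, hAC hx⟩, hP hx, rfl⟩
  have hB' : A.map (MulAut.conj ((c : H) * g)).toMonoidHom ≤ (P : Subgroup ↥C).map C.subtype := by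
    rintro _ ⟨x, hx, rfl⟩
    have hmem : g * x * g⁻¹ ∈ B := ⟨x, hx, rfl⟩
    refine ⟨c * ⟨g * x * g⁻¹, hBC hmem⟩ * c⁻¹, ?_, by simp [mul_assoc]⟩
    rw [← hc, Sylow.coe_subgroup_smul]
    exact Subgroup.smul_mem_pointwise_smul _ _ _ (hP' hmem)
  refine ⟨(c : H) * g, Core.mem_normalizer_iff_map_conj.mpr (Local.wc_conj_eq hwc (P.2.map _) hA' hB'), ?_⟩
  rw [show (c : H) * g * a * ((c : H) * g)⁻¹ = c * (g * a * g⁻¹) * (c : H)⁻¹ by group, ← hb,
    (commute_of_mem_cent c.2).eq, mul_inv_cancel_right]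

end Cfsg.Lib.FischerLarge
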