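import Cfsg.Agent.Lib.FischerLarge.UnipFacts

/-!
# Conjugacy of the elements of the elementary abelian subgroup of order `2 ^ 11`
-/

set_option autoImplicit false

namespace Cfsg.Lib.FischerLarge

open Cfsg Cfsg.Lib.SUSixU43 Cfsg.Lib.Extra

universe u

theorem Zc_cube : Zc * Zc * Zc = 1 := by
  rw [← pow_three', show (3 : ℕ) = orderOf Zc by rw [← Nat.card_zpowers]; exact card_C6.symm, pow_orderOf_eq_one]

theorem g6_three {g : G6} (hg : g * g = 1) :
    g * (Zc * g * Zc⁻¹) * (Zc * Zc * g * (Zc * Zc)⁻¹) = g := by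
  have e : Zc * g * Zc⁻¹ = g := by rw [Zc_comm g, mul_inv_cancel_right]
  rw [show Zc * Zc * g * (Zc * Zc)⁻¹ = Zc * (Zc * g * Zc⁻¹) * Zc⁻¹ by group, e, e, hg, one_mul]

variable {G : Type u} [Group G] [Finite G] {z : G} {Q : Subgroup G} (D : Coord z Q)

/-- Conjugacy under the centralizer of the central involution. -/
def Coord.Rel (_D : Coord z Q) (a b : G) : Prop := ∃ h, Commute h z ∧ h * a * h⁻¹ = b

/-- An element is moved by the extraspecial group to its product with the central involution. -/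
def Coord.IsY (_D : Coord z Q) (a : G) : Prop := ∃ q ∈ Q, q * a * q⁻¹ = a * z

omit [Finite G] in
theorem Coord.rel_trans {a b e : G} (h₁ : D.Rel a b) (h₂ : D.Rel b e) : D.Rel a e := by
  obtain ⟨h, hh, rfl⟩ := h₁
  obtain ⟨k, hk, rfl⟩ := h₂
  exact ⟨k * h, hk.mul_left hh, by group⟩

omit [Finite G] in
theorem Coord.rel_symm {a b : G} (h₁ : D.Rel a b) : D.Rel b a := by
  obtain ⟨h, hh, rfl⟩ := h₁
  exact ⟨h⁻¹, hh.inv_left, by group⟩

omit [Finite G] in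
theorem Coord.rel_mul_z {a b : G} (h₁ : D.Rel a b) : D.Rel (a * z) (b * z) := by
  obtain ⟨h, hh, rfl⟩ := h₁
  refine ⟨h, hh, ?_⟩
  calc h * (a * z) * h⁻¹ = h * a * h⁻¹ * (h * z * h⁻¹) := by group
    _ = _ := by rw [hh.eq, mul_inv_cancel_right]

omit [Finite G] in
theorem Coord.rel_conj {a b : G} (h₁ : D.Rel a b) : IsConj a b := by
  obtain ⟨h, -, e⟩ := h₁
  exact isConj_iff.2 ⟨h, e⟩

omit [Finite G] in
theorem Coord.isY_mul_z {a : G} (h : D.IsY a) : D.IsY (a * z) := by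
  obtain ⟨q, hq, e⟩ := h
  refine ⟨q, hq, ?_⟩
  calc q * (a * z) * q⁻¹ = q * a * q⁻¹ * (q * z * q⁻¹) := by group
    _ = _ := by rw [e, ← (D.ctx.central q hq).eq, mul_inv_cancel_right]

theorem Coord.isY_conj {a h : G} (hh : Commute h z) (ha : D.IsY a) : D.IsY (h * a * h⁻¹) := by
  obtain ⟨q, hq, e⟩ := ha
  refine ⟨h * q * h⁻¹, conj_mem D.ctx hh hq, ?_⟩
  calc h * q * h⁻¹ * (h * a * h⁻¹) * (h * q * h⁻¹)⁻¹ = h * (q * a * q⁻¹) * h⁻¹ := by group
    _ = h * a * h⁻¹ * (h * z * h⁻¹) := by rw [e]; group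
    _ = _ := by rw [hh.eq, mul_inv_cancel_right]

theorem Coord.lagC_comm {x y : G} (hx : x ∈ D.lagC) (hy : y ∈ D.lagC) : Commute x y :=
  commute_of_sq (D.lagC_elem x hx) (D.lagC_elem y hy) (D.lagC_elem _ (mul_mem hx hy))

theorem Coord.lagC_inv {x : G} (hx : x ∈ D.lagC) : x⁻¹ = x := inv_eq_of_mul_eq_one_left (D.lagC_elem x hx)

theorem Coord.Q_norm {q : G} (hq : q ∈ Q) : ∀ x ∈ D.lagC, q * x * q⁻¹ ∈ D.lagC :=
  (D.lag_norm (m := ⟨q, D.Q_le hq⟩) fun x hx => by rw [(D.π_ker _).2 hq, one_smul]; exact hx).2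

/-- An element of order three fixing every image. -/
noncomputable def Coord.three : ↥D.M := D.exists_three.choose

theorem Coord.three_spec : D.π D.three = Zc ∧ (D.three : G) * D.three * D.three = 1 := D.exists_three.choose_spec

theorem Coord.three_norm : (∀ a ∈ D.lagW, (D.three : G) * a * (D.three : G)⁻¹ ∈ D.lagW) ∧
    ∀ x ∈ D.lagC, (D.three : G) * x * (D.three : G)⁻¹ ∈ D.lagC :=
  D.lag_norm fun x hx => by rw [D.three_spec.1, Zc_smul]; exact (lagFacts D.c_lt).scal _ x hx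

theorem Coord.cl_three {q : G} (hq : q ∈ Q) : D.cl ((D.three : G) * q * (D.three : G)⁻¹) = om • D.cl q := by
  rw [D.π_cl D.three q hq, D.three_spec.1, Zc_smul]

/-- Each image of the subgroup has a lift fixed by the element of order three. -/
theorem Coord.exists_fixed {a : G} (ha : a ∈ D.lagC) : ∃ x : G, ∃ hx : x ∈ D.lagC,
    D.π ⟨x, hx.1⟩ = D.π ⟨a, ha.1⟩ ∧ (D.three : G) * x * (D.three : G)⁻¹ = x := by
  set n := (D.three : G) with hn
  have h1 : n * a * n⁻¹ ∈ D.lagC := D.three_norm.2 a ha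
  have h2 : n * (n * a * n⁻¹) * n⁻¹ ∈ D.lagC := D.three_norm.2 _ h1
  refine ⟨a * (n * a * n⁻¹) * (n * (n * a * n⁻¹) * n⁻¹), mul_mem (mul_mem ha h1) h2, ?_, ?_⟩
  · have e : (⟨a * (n * a * n⁻¹) * (n * (n * a * n⁻¹) * n⁻¹), (mul_mem (mul_mem ha h1) h2).1⟩ : ↥D.M) =
        ⟨a, ha.1⟩ * (D.three * ⟨a, ha.1⟩ * D.three⁻¹) *
          (D.three * D.three * ⟨a, ha.1⟩ * (D.three * D.three)⁻¹) := by
      refine Subtype.ext ?_
      show a * (n * a * n⁻¹) * (n * (n * a * n⁻¹) * n⁻¹) = a * (n * a * n⁻¹) * (n * n * a * (n * n)⁻¹)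
      group
    rw [e]
    simp only [map_mul, map_inv, D.three_spec.1]
    refine g6_three ?_
    rw [← map_mul, show (⟨a, ha.1⟩ * ⟨a, ha.1⟩ : ↥D.M) = 1 from Subtype.ext (D.lagC_elem a ha), map_one]
  · have e3 : n * (n * (n * a * n⁻¹) * n⁻¹) * n⁻¹ = a := by
      rw [show n * (n * (n * a * n⁻¹) * n⁻¹) * n⁻¹ = n * n * n * a * (n * n * n)⁻¹ by group, hn,
        D.three_spec.2]
      group
    calc n * (a * (n * a * n⁻¹) * (n * (n * a * n⁻¹) * n⁻¹)) * n⁻¹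
        = n * a * n⁻¹ * (n * (n * a * n⁻¹) * n⁻¹) * (n * (n * (n * a * n⁻¹) * n⁻¹) * n⁻¹) := by group
      _ = n * a * n⁻¹ * (n * (n * a * n⁻¹) * n⁻¹) * a := by rw [e3]
      _ = _ := by rw [(D.lagC_comm (mul_mem h1 h2) ha).eq, ← mul_assoc]

/-- Elements of the same image differ by the part in the extraspecial group. -/
theorem Coord.exists_part {a x : G} (ha : a ∈ D.lagC) (hx : x ∈ D.lagC)
    (e : D.π ⟨a, ha.1⟩ = D.π ⟨x, hx.1⟩) : ∃ w ∈ D.lagW, a = x * w := by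
  refine ⟨x⁻¹ * a, ?_, (mul_inv_cancel_left x a).symm⟩
  rw [← D.lagC_Q]
  refine ⟨D.lagC.mul_mem (D.lagC.inv_mem hx) ha, (D.π_ker ⟨x⁻¹ * a, D.M.mul_mem (D.M.inv_mem hx.1) ha.1⟩).1 ?_⟩
  rw [show (⟨x⁻¹ * a, D.M.mul_mem (D.M.inv_mem hx.1) ha.1⟩ : ↥D.M) = ⟨x, hx.1⟩⁻¹ * ⟨a, ha.1⟩ from rfl, map_mul,
    map_inv, e, inv_mul_cancel]

theorem Coord.π_mul_W {x w : G} (hx : x ∈ D.lagC) (hw : w ∈ D.lagW) :
    D.π ⟨x * w, D.M.mul_mem hx.1 (D.Q_le hw.1)⟩ = D.π ⟨x, hx.1⟩ := by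
  rw [show (⟨x * w, D.M.mul_mem hx.1 (D.Q_le hw.1)⟩ : ↥D.M) = ⟨x, hx.1⟩ * ⟨w, D.Q_le hw.1⟩ from rfl, map_mul,
    (D.π_ker ⟨w, D.Q_le hw.1⟩).2 hw.1, mul_one]

variable {i : ℕ} {x : G} (hx : x ∈ D.lagC) (hπ : D.π ⟨x, hx.1⟩ = fourEl D.c i)
  (hfix : (D.three : G) * x * (D.three : G)⁻¹ = x)

section
include hx hπ

theorem Coord.cl_commutator {q : G} (hq : q ∈ Q) :
    D.cl (x * q * x⁻¹) = fourEl D.c i • D.cl q ∧ x * q * x⁻¹ ∈ Q := by
  refine ⟨?_, conj_mem D.ctx (D.m_comm ⟨x, hx.1⟩) hq⟩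
  rw [← hπ]
  exact D.π_cl ⟨x, hx.1⟩ q hq

/-- Translations along the image. -/
theorem Coord.conj_image {w : G} (hw : w ∈ D.lagW) (hU : D.cl w ∈ uSet D.c i) :
    ∃ q ∈ Q, ∃ e, (e = 1 ∨ e = z) ∧ q * x * q⁻¹ = x * w * e := by
  obtain ⟨v, hv⟩ := hU
  obtain ⟨q, hq, rfl⟩ := D.cl_surj v
  obtain ⟨h1, h2⟩ := D.cl_commutator hx hπ hq
  set d := x⁻¹ * (q * x * q⁻¹) with hd
  have hdQ : d ∈ Q := by
    rw [hd, D.lagC_inv hx, show x * (q * x * q⁻¹) = x * q * x * q⁻¹ by group]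
    refine mul_mem ?_ (inv_mem hq)
    conv => arg 2; rw [← D.lagC_inv hx]
    simpa only [D.lagC_inv hx] using h2
  have hdq : d * q = x * q * x⁻¹ := by
    rw [hd, D.lagC_inv hx]
    group
  have e : D.cl d = D.cl w := by
    have h3 := D.cl_mul d hdQ q hq
    rw [hdq, h1] at h3
    rw [← hv, h3, add_assoc, v6_add_self, add_zero]
  rcases (D.cl_eq w hw.1 d hdQ).1 e.symm with h | h
  · exact ⟨q, hq, 1, Or.inl rfl, by rw [mul_one, ← h, hd, mul_inv_cancel_left]⟩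
  · refine ⟨q, hq, z, Or.inr rfl, ?_⟩
    rw [show x * w * z = x * (z * w) by rw [mul_assoc, ← (D.ctx.central w hw.1).eq], ← h, hd,
      mul_inv_cancel_left]

end

include hx hπ hfix

/-- Elements with fixed coordinates commute with the fixed lift. -/
theorem Coord.commute_of_fixed {q : G} (hq : q ∈ Q) (hg : fourEl D.c i • D.cl q = D.cl q) : Commute x q := by
  obtain ⟨h1, h2⟩ := D.cl_commutator hx hπ hq
  rcases (D.cl_eq q hq _ h2).1 (h1.trans hg).symm with h | h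
  · exact mul_inv_eq_iff_eq_mul.1 h
  exfalso
  set n := (D.three : G) with hn
  have hnz : Commute n z := D.m_comm D.three
  have hnc : ∀ a : G, x * (n * a * n⁻¹) * x⁻¹ = n * (x * a * x⁻¹) * n⁻¹ := fun a => by
    calc x * (n * a * n⁻¹) * x⁻¹ = n * x * n⁻¹ * (n * a * n⁻¹) * (n * x * n⁻¹)⁻¹ := by rw [hfix]
      _ = _ := by group
  set p := q * (n * q * n⁻¹) with hp
  have hq1 : n * q * n⁻¹ ∈ Q := conj_mem D.ctx hnz hq
  have hp1 : x * p * x⁻¹ = p := by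
    rw [hp, show x * (q * (n * q * n⁻¹)) * x⁻¹ = x * q * x⁻¹ * (x * (n * q * n⁻¹) * x⁻¹) by group, hnc, h,
      show n * (z * q) * n⁻¹ = n * z * n⁻¹ * (n * q * n⁻¹) by group, hnz.eq, mul_inv_cancel_right,
      (D.ctx.central q hq).eq, mul_assoc q z, ← mul_assoc z z, D.ctx.sq_z, one_mul]
  have hpQ : p ∈ Q := mul_mem hq hq1
  set p' := n * p * n⁻¹ with hp'
  have hp'1 : x * p' * x⁻¹ = p' := by rw [hp', hnc, hp1]
  have he : D.cl p' = D.cl q := by
    rw [hp', hn, D.cl_three hpQ, hp, D.cl_mul q hq _ hq1, hn, D.cl_three hq, smul_add, smul_smul, ← pow_two,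
      tau_om.2.1, add_smul, one_smul, ← add_assoc, v6_add_self, zero_add]
  have h3 : x * q * x⁻¹ = q := by
    rcases (D.cl_eq q hq _ (conj_mem D.ctx hnz hpQ)).1 he.symm with e | e
    · rw [← e]; exact hp'1
    · have hxz : Commute x z := D.m_comm ⟨x, hx.1⟩
      have e' : p' = z * q := e
      rw [e', show x * (z * q) * x⁻¹ = x * z * x⁻¹ * (x * q * x⁻¹) by group, hxz.eq, mul_inv_cancel_right]
        at hp'1
      exact mul_left_cancel hp'1
  rw [h3] at h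
  exact D.ctx.ne_one (mul_eq_right.1 h.symm)

theorem Coord.not_isY : ¬ D.IsY x := by
  rintro ⟨q, hq, e⟩
  obtain ⟨h1, h2⟩ := D.cl_commutator hx hπ hq
  have e1 : x * q * x⁻¹ = z * q := by
    calc x * q * x⁻¹ = x * q * x := by rw [D.lagC_inv hx]
      _ = x * (q * x * q⁻¹) * q := by group
      _ = x * x * z * q := by rw [e, ← mul_assoc x x z]
      _ = _ := by rw [D.lagC_elem x hx, one_mul]
  have hg : fourEl D.c i • D.cl q = D.cl q := by rw [← h1, e1, D.cl_z_mul hq]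
  have h3 := D.commute_of_fixed hx hπ hfix hq hg
  rw [h3.eq, mul_inv_cancel_right] at e1
  exact D.ctx.ne_one (mul_eq_right.1 e1.symm)

theorem Coord.isY_outside (hi : i < 16) (hi0 : i ≠ 0) {w : G} (hw : w ∈ D.lagW)
    (hU : D.cl w ∉ uSet D.c i) : D.IsY (x * w) := by
  obtain ⟨k, hk, hne⟩ := (unipFacts D.c_lt).out i hi hi0 _ hw.2 hU
  obtain ⟨a, ha⟩ := herm_flip ((lagFacts D.c_lt).orth _ hw.2 _ hw.2) hne
  obtain ⟨q, hq, hqc⟩ := D.cl_surj (a • k)
  have hxq : Commute x q := D.commute_of_fixed hx hπ hfix hq (by rw [hqc, g6_scalar, hk])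
  refine ⟨q, hq, ?_⟩
  rcases D.ctx.comm q hq w hw.1 with h | h
  · exfalso
    have hqw : Commute q w := mul_inv_eq_iff_eq_mul.1 (mul_inv_eq_one.1 h)
    refine ha ?_
    rw [← hqc, ← D.cl_mul q hq w hw.1, ← D.cl_sq q hq, ← D.cl_sq _ (mul_mem hq hw.1),
      show q * w * (q * w) = q * q * (w * w) by rw [mul_assoc, ← mul_assoc w, ← hqw.eq, mul_assoc q w w, ← mul_assoc],
      D.lagW_sq hw, mul_one]
  · have e : q * w * q⁻¹ = z * w := mul_inv_eq_iff_eq_mul.1 h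
    calc q * (x * w) * q⁻¹ = q * x * q⁻¹ * (q * w * q⁻¹) := by group
      _ = x * (z * w) := by rw [← hxq.eq, mul_inv_cancel_right, e]
      _ = _ := by rw [(D.ctx.central w hw.1).eq, mul_assoc]

/-- The two kinds of elements over one image. -/
theorem Coord.coset_kinds (hi : i < 16) (hi0 : i ≠ 0) {w : G} (hw : w ∈ D.lagW) :
    (D.IsY (x * w) ↔ D.cl w ∉ uSet D.c i) ∧
      (D.cl w ∈ uSet D.c i → D.Rel (x * w) x ∨ D.Rel (x * w) (x * z)) := by
  have hin : D.cl w ∈ uSet D.c i → D.Rel (x * w) x ∨ D.Rel (x * w) (x * z) := fun hU => by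
    obtain ⟨q, hq, e, he, hqe⟩ := D.conj_image hx hπ hw hU
    have h : D.Rel x (x * w * e) := ⟨q, (D.ctx.central q hq).symm, hqe⟩
    rcases he with rfl | rfl
    · rw [mul_one] at h
      exact Or.inl (D.rel_symm h)
    · refine Or.inr (D.rel_symm ?_)
      have h2 := D.rel_mul_z h
      rwa [mul_assoc (x * w) _ _, D.ctx.sq_z, mul_one] at h2
  refine ⟨⟨fun hY hU => ?_, D.isY_outside hx hπ hfix hi hi0 hw⟩, hin⟩
  have h1 := D.not_isY hx hπ hfix
  rcases hin hU with ⟨h, hh, e⟩ | ⟨h, hh, e⟩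
  · exact h1 (e ▸ D.isY_conj hh hY)
  · have h2 := D.isY_mul_z (D.isY_conj hh hY)
    rw [e, mul_assoc, D.ctx.sq_z, mul_one] at h2
    exact h1 h2

theorem Coord.rel_outside (hi : i < 16) (hi0 : i ≠ 0) {w w' : G} (hw : w ∈ D.lagW) (hw' : w' ∈ D.lagW)
    (hU : D.cl w ∉ uSet D.c i) (hU' : D.cl w' ∉ uSet D.c i) : D.Rel (x * w) (x * w') := by
  have hL := lagFacts D.c_lt
  obtain ⟨a, ha, hmem⟩ := (unipFacts D.c_lt).codim i hi hi0 _ hw.2 _ hw'.2 hU hU'
  set n := (D.three : G) with hn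
  have hnz : Commute n z := D.m_comm D.three
  -- a translate of `w'` with coordinates the multiple
  obtain ⟨w'', hw'', hc, hrel⟩ : ∃ w'' ∈ D.lagW, D.cl w'' = a • D.cl w' ∧ D.Rel (x * w'') (x * w') := by
    have step : ∀ u ∈ D.lagW, D.Rel (x * (n * u * n⁻¹)) (x * u) := fun u _ =>
      D.rel_symm ⟨n, hnz, by
        calc n * (x * u) * n⁻¹ = n * x * n⁻¹ * (n * u * n⁻¹) := by group
          _ = _ := by rw [hfix]⟩
    have h1 : n * w' * n⁻¹ ∈ D.lagW := D.three_norm.1 w' hw'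
    rcases r4_cases a with rfl | rfl | rfl | rfl
    · exact absurd rfl ha
    · exact ⟨w', hw', (one_smul _ _).symm, ⟨1, Commute.one_left z, by group⟩⟩
    · exact ⟨_, h1, by rw [hn, D.cl_three hw'.1]; rfl, step w' hw'⟩
    · refine ⟨_, D.three_norm.1 _ h1, ?_, D.rel_trans (step _ h1) (step w' hw')⟩
      rw [hn, D.cl_three (conj_mem D.ctx hnz hw'.1), D.cl_three hw'.1, smul_smul, ← pow_two, tau_om.2.1]
      rfl
  refine D.rel_trans ?_ hrel
  set d := w * w'' with hd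
  have hdW : d ∈ D.lagW := mul_mem hw hw''
  have hdU : D.cl d ∈ uSet D.c i := by rw [hd, D.cl_mul w hw.1 w'' hw''.1, hc]; exact hmem
  have hback : d * w'' = w := by rw [hd, mul_assoc, D.lagW_sq hw'', mul_one]
  -- translate and correct the central part
  have hfin : ∀ q : G, Commute q z → ∀ e : G, (e = 1 ∨ e = z) → q ∈ Q → q * x * q⁻¹ = x * d * e →
      D.Rel (x * w'') (x * w) := by
    intro q hqz e he hq hqe
    have hY := D.isY_outside hx hπ hfix hi hi0 hw hU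
    obtain ⟨r, hr, hre⟩ := hY
    have hrz : D.Rel (x * w * z) (x * w) := D.rel_symm ⟨r, (D.ctx.central r hr).symm, hre⟩
    have hconj : q * w'' * q⁻¹ = w'' ∨ q * w'' * q⁻¹ = z * w'' := by
      rcases D.ctx.comm q hq w'' hw''.1 with h | h
      · exact Or.inl (mul_inv_eq_one.1 h)
      · exact Or.inr (mul_inv_eq_iff_eq_mul.1 h)
    have hxw : ∀ f : G, (f = 1 ∨ f = z) → D.Rel (x * w * f) (x * w) := by
      rintro f (rfl | rfl)
      · exact ⟨1, Commute.one_left z, by group⟩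
      · exact hrz
    have hzz : ∀ f : G, (f = 1 ∨ f = z) → ∀ u ∈ D.lagC, Commute f u := by
      rintro f (rfl | rfl) u hu
      · exact Commute.one_left u
      · exact (D.lagC_comm_W hu D.z_lagW).symm
    have hsplit : q * (x * w'') * q⁻¹ = x * d * e * (q * w'' * q⁻¹) := by rw [← hqe]; group
    have hw''C := D.lagW_le_C hw''
    rcases hconj with h | h
    · refine D.rel_trans ⟨q, hqz, hsplit⟩ ?_
      rw [h, mul_assoc (x * d), (hzz e he _ hw''C).eq, ← mul_assoc, mul_assoc x d, hback]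
      exact hxw e he
    · refine D.rel_trans ⟨q, hqz, hsplit⟩ ?_
      rw [h, ← mul_assoc, mul_assoc (x * d) e z]
      have hez : e * z = 1 ∨ e * z = z := by
        rcases he with rfl | rfl
        · exact Or.inr (one_mul z)
        · exact Or.inl D.ctx.sq_z
      rw [mul_assoc (x * d), (hzz _ hez _ hw''C).eq, ← mul_assoc, mul_assoc x d, hback]
      exact hxw _ hez
  obtain ⟨q, hq, e, he, hqe⟩ := D.conj_image hx hπ hdW hdU
  exact D.rel_symm (hfin q (D.ctx.central q hq).symm e he hq hqe)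

end Cfsg.Lib.FischerLarge
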