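import Cfsg.Agent.Lib.FischerLarge.Stab

/-!
# Translation to subgroups of the centralizer
-/

set_option autoImplicit false

namespace Cfsg.Lib.FischerLarge

open Cfsg Cfsg.Lib.Extra

universe u

variable {G : Type u} [Group G] [Finite G] {z : G} {Q : Subgroup (Subgroup.centralizer ({z} : Set G))} [Q.Normal]
  (D : Coord z (Q.map (Subgroup.centralizer ({z} : Set G)).subtype))

theorem mem_map_iff_coe {x : Subgroup.centralizer ({z} : Set G)} :
    (x : G) ∈ Q.map (Subgroup.centralizer ({z} : Set G)).subtype ↔ x ∈ Q :=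
  ⟨fun ⟨_, hy, e⟩ => Subtype.ext e ▸ hy, fun h => ⟨x, h, rfl⟩⟩

include D in
theorem two_orbits_statement :
    ∃ s t : Subgroup.centralizer ({z} : Set G), s ∈ Q ∧ t ∈ Q ∧ orderOf s = 2 ∧ orderOf t = 2 ∧ (s : G) ≠ z ∧
      (t : G) ≠ z ∧ (¬ ∃ h : Subgroup.centralizer ({z} : Set G), h * s * h⁻¹ = t) ∧
      ∀ x : Subgroup.centralizer ({z} : Set G), x ∈ Q → orderOf x = 2 → (x : G) ≠ z →
        (∃ h : Subgroup.centralizer ({z} : Set G), h * s * h⁻¹ = x) ∨
          ∃ h : Subgroup.centralizer ({z} : Set G), h * t * h⁻¹ = x := by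
  obtain ⟨s, t, hs, ht, hne, hall⟩ := D.two_orbits
  obtain ⟨s', hs', rfl⟩ := hs.1
  obtain ⟨t', ht', rfl⟩ := ht.1
  have ord : ∀ x : Subgroup.centralizer ({z} : Set G), D.Pt (x : G) → orderOf x = 2 := fun x hx => by
    rw [← Subgroup.orderOf_coe]
    exact orderOf_eq_prime (by rw [pow_two]; exact hx.2.1) hx.2.2.1
  refine ⟨s', t', hs', ht', ord _ hs, ord _ ht, hs.2.2.2, ht.2.2.2, ?_, fun x hx h2 hxz => ?_⟩
  · rintro ⟨h, e⟩
    exact hne h (Subgroup.mem_centralizer_singleton_iff.1 h.2) (congrArg Subtype.val e)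
  · have hpt : D.Pt (x : G) := by
      rw [← Subgroup.orderOf_coe] at h2
      refine ⟨mem_map_iff_coe.2 hx, ?_, fun e => ?_, hxz⟩
      · rw [← pow_two, ← h2, pow_orderOf_eq_one]
      · rw [e, orderOf_one] at h2
        norm_num at h2
    rcases hall _ hpt with ⟨m, hm, e⟩ | ⟨m, hm, e⟩
    · exact Or.inl ⟨⟨m, D.M_le hm⟩, Subtype.ext e⟩
    · exact Or.inr ⟨⟨m, D.M_le hm⟩, Subtype.ext e⟩

include D in
theorem one_orbit_statement {s t : G}
    (hsQ : ∃ hsc : s ∈ Subgroup.centralizer ({z} : Set G), (⟨s, hsc⟩ : Subgroup.centralizer ({z} : Set G)) ∈ Q)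
    (htQ : ∃ htc : t ∈ Subgroup.centralizer ({z} : Set G), (⟨t, htc⟩ : Subgroup.centralizer ({z} : Set G)) ∈ Q)
    (hs : IsConj z s) (ht : IsConj z t) (hs1 : s ≠ z) (ht1 : t ≠ z) :
    ∃ h ∈ Subgroup.centralizer ({z} : Set G), h * s * h⁻¹ = t := by
  obtain ⟨hsc, hsQ⟩ := hsQ
  obtain ⟨htc, htQ⟩ := htQ
  obtain ⟨g, hg⟩ := isConj_iff.1 hs
  obtain ⟨k, hk⟩ := isConj_iff.1 ht
  have hs' : s ∈ Q.map (Subgroup.centralizer ({z} : Set G)).subtype := ⟨_, hsQ, rfl⟩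
  have ht' : t ∈ Q.map (Subgroup.centralizer ({z} : Set G)).subtype := ⟨_, htQ, rfl⟩
  obtain ⟨m, hm, e⟩ := D.conj_in_M (D.pt_of_conj hg hs' hs1) ht'
    (D.orb.transB _ (D.conj_in_B hg hs' hs1) _ (D.conj_in_B hk ht' ht1))
  exact ⟨m, D.M_le hm, e⟩

include D in
theorem stabilizer_statement (s : G)
    (hsQ : ∃ hsc : s ∈ Subgroup.centralizer ({z} : Set G), (⟨s, hsc⟩ : Subgroup.centralizer ({z} : Set G)) ∈ Q)
    (hs1 : s ≠ z) (g : G) (hg : g * z * g⁻¹ = s)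
    (X E : Subgroup ((Subgroup.centralizer ({z} : Set G)) ⧸ Q))
    (hX : X = ((Subgroup.centralizer ({z} : Set G) ⊓ Subgroup.centralizer ({s} : Set G)).subgroupOf
      (Subgroup.centralizer ({z} : Set G))).map (QuotientGroup.mk' Q))
    (hE : E = ((((Q.map (Subgroup.centralizer ({z} : Set G)).subtype)).map (MulAut.conj g).toMonoidHom ⊓
      Subgroup.centralizer ({z} : Set G)).subgroupOf (Subgroup.centralizer ({z} : Set G))).map (QuotientGroup.mk' Q)) :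
    Cfsg.IsElementaryAbelian 2 ((Q.map (Subgroup.centralizer ({z} : Set G)).subtype) ⊓
      ((Q.map (Subgroup.centralizer ({z} : Set G)).subtype)).map (MulAut.conj g).toMonoidHom) ∧
    Nat.card ↥((Q.map (Subgroup.centralizer ({z} : Set G)).subtype) ⊓
      ((Q.map (Subgroup.centralizer ({z} : Set G)).subtype)).map (MulAut.conj g).toMonoidHom) = 2 ^ 7 ∧
    E ≤ X ∧ (∀ x ∈ X, ∀ y ∈ E, x * y * x⁻¹ ∈ E) ∧ Cfsg.IsElementaryAbelian 2 E ∧ Nat.card E = 32 ∧
      ∃ _ : (E.subgroupOf X).Normal, Nonempty (↥X ⧸ E.subgroupOf X ≃* alternatingGroup (Fin 6)) := by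
  classical
  obtain ⟨hsc, hsQ'⟩ := hsQ
  have hs : s ∈ Q.map (Subgroup.centralizer ({z} : Set G)).subtype := ⟨_, hsQ', rfl⟩
  obtain ⟨hA, hN, ⟨n₀, hn₀, hn₀M⟩, ψ, hψ, hψk⟩ := D.far_structure hg hs hs1
  have hQle : (Q.map (Subgroup.centralizer ({z} : Set G)).subtype) ≤ Subgroup.centralizer ({z} : Set G) := fun a ha => D.M_le (D.Q_le ha)
  have hmeet : (Q.map (Subgroup.centralizer ({z} : Set G)).subtype) ⊓ (Q.map (Subgroup.centralizer ({z} : Set G)).subtype).map (MulAut.conj g).toMonoidHom = farPart D g ⊓ (Q.map (Subgroup.centralizer ({z} : Set G)).subtype) :=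
    le_antisymm (fun a ha => ⟨⟨ha.2, hQle ha.1⟩, ha.1⟩) (fun a ha => ⟨ha.2, ha.1.1⟩)
  have hEmem : ∀ x : Subgroup.centralizer ({z} : Set G), QuotientGroup.mk' Q x ∈ E ↔
      ∃ n ∈ farPart D g, n⁻¹ * (x : G) ∈ (Q.map (Subgroup.centralizer ({z} : Set G)).subtype) := by
    intro x
    rw [hE]
    constructor
    · rintro ⟨y, hy, e⟩
      exact ⟨(y : G), hy, (mem_map_iff_coe (x := y⁻¹ * x)).2 (QuotientGroup.eq.1 e)⟩
    · rintro ⟨n, hn, hq⟩
      exact ⟨⟨n, hn.2⟩, hn, QuotientGroup.eq.2 ((mem_map_iff_coe (x := (⟨n, hn.2⟩ : Subgroup.centralizer _)⁻¹ * x)).1 hq)⟩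
  have hXmem : ∀ x : Subgroup.centralizer ({z} : Set G),
      Commute (x : G) s → QuotientGroup.mk' Q x ∈ X := fun x hx => by
    rw [hX]
    exact ⟨x, ⟨x.2, mem_cent_of_commute hx⟩, rfl⟩
  have hEX : E ≤ X := by
    rw [hE, hX]
    exact Subgroup.map_mono (Subgroup.comap_mono fun a ha => D.far_le hg ha)
  have hnorm : ∀ x ∈ X, ∀ y ∈ E, x * y * x⁻¹ ∈ E := by
    rw [hE, hX]
    rintro _ ⟨x, hx, rfl⟩ _ ⟨y, hy, rfl⟩
    exact ⟨x * y * x⁻¹, D.far_normal hg hx hy, by simp [map_mul, map_inv]⟩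
  refine ⟨?_, by rw [hmeet, hA]; norm_num, hEX, hnorm, ?_, ?_, ?_⟩
  · rw [hmeet]
    exact ⟨⟨⟨fun a b => Subtype.ext (D.meet_elem hg hs1 a.2 b.2).1.eq⟩⟩,
      fun a ha => by rw [pow_two]; exact (D.meet_elem hg hs1 ha ha).2⟩
  · have hsq : ∀ a : G, a = 1 ∨ a = s → a ∈ (Q.map (Subgroup.centralizer ({z} : Set G)).subtype) := fun a ha => by
      rcases ha with rfl | rfl
      exacts [one_mem _, hs]
    rw [hE]
    refine ⟨⟨⟨fun a b => Subtype.ext ?_⟩⟩, ?_⟩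
    · obtain ⟨_, ⟨x, hx, rfl⟩⟩ := a
      obtain ⟨_, ⟨y, hy, rfl⟩⟩ := b
      show QuotientGroup.mk' Q x * QuotientGroup.mk' Q y = QuotientGroup.mk' Q y * QuotientGroup.mk' Q x
      have h1 : x * y * x⁻¹ * y⁻¹ ∈ Q := mem_map_iff_coe.1
        (hsq _ ((D.ctx_far hg).comm _ hx.1 _ hy.1))
      rw [← QuotientGroup.eq_one_iff] at h1
      simp only [QuotientGroup.mk_mul, QuotientGroup.mk_inv] at h1
      exact mul_inv_eq_iff_eq_mul.1 (mul_inv_eq_one.1 h1)
    · rintro _ ⟨x, hx, rfl⟩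
      rw [← map_pow, pow_two, QuotientGroup.mk'_apply, QuotientGroup.eq_one_iff]
      exact mem_map_iff_coe.1 (hsq _ ((D.ctx_far hg).sq _ hx.1))
  · rw [hE]
    let N := (farPart D g).subgroupOf (Subgroup.centralizer ({z} : Set G))
    let f := (QuotientGroup.mk' Q).comp N.subtype
    have h := f.ker.card_mul_index
    have hNle : farPart D g ≤ Subgroup.centralizer ({z} : Set G) := inf_le_right
    rw [Subgroup.index_ker, show f.range = N.map (QuotientGroup.mk' Q) by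
      rw [MonoidHom.range_comp, Subgroup.range_subtype]] at h
    have hk : Nat.card ↥f.ker = 128 := by
      rw [← hA]
      exact Nat.card_congr
        { toFun := fun a => ⟨((a : ↥N) : Subgroup.centralizer ({z} : Set G)), (a : ↥N).2,
            mem_map_iff_coe.2 ((QuotientGroup.eq_one_iff _).1 a.2)⟩
          invFun := fun a => ⟨⟨⟨a, hQle a.2.2⟩, a.2.1⟩,
            (QuotientGroup.eq_one_iff (N := Q) _).2 (mem_map_iff_coe.1 a.2.2)⟩
          left_inv := fun _ => rfl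
          right_inv := fun _ => rfl }
    rw [hk, Nat.card_congr (Subgroup.subgroupOfEquivOfLe hNle).toEquiv, hN] at h
    change 128 * Nat.card ↥(N.map (QuotientGroup.mk' Q)) = 4096 at h
    show Nat.card ↥(N.map (QuotientGroup.mk' Q)) = 32
    omega
  · haveI hEn : (E.subgroupOf X).Normal := ⟨fun y hy x => hnorm _ x.2 _ hy⟩
    refine ⟨hEn, ?_⟩
    let incl : ↥(D.M ⊓ Subgroup.centralizer ({s} : Set G)) →* ↥X :=
      { toFun := fun m => ⟨QuotientGroup.mk' Q ⟨m, D.M_le m.2.1⟩, hXmem _ (commute_of_mem_cent m.2.2)⟩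
        map_one' := Subtype.ext (map_one (QuotientGroup.mk' Q))
        map_mul' := fun a b => Subtype.ext (map_mul (QuotientGroup.mk' Q)
          (⟨a, D.M_le a.2.1⟩ : Subgroup.centralizer ({z} : Set G)) ⟨b, D.M_le b.2.1⟩) }
    let p := (QuotientGroup.mk' (E.subgroupOf X)).comp incl
    have hp : Function.Surjective p := by
      intro y
      obtain ⟨⟨x, hx⟩, rfl⟩ := QuotientGroup.mk_surjective y
      obtain ⟨w, hw, rfl⟩ : x ∈ ((Subgroup.centralizer ({z} : Set G) ⊓ Subgroup.centralizer ({s} : Set G)).subgroupOf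
          (Subgroup.centralizer ({z} : Set G))).map (QuotientGroup.mk' Q) := hX ▸ hx
      have hn₀s : Commute n₀ s := commute_of_mem_cent (D.far_le hg hn₀).2
      by_cases hwM : (w : G) ∈ D.M
      · exact ⟨⟨w, hwM, hw.2⟩, rfl⟩
      · refine ⟨⟨(w : G) * n₀⁻¹, D.mul_mem_M (commute_of_mem_cent w.2) (commute_of_mem_cent (inv_mem hn₀.2)) hwM
          (fun h => hn₀M (by simpa using inv_mem h)), mul_mem hw.2 (mem_cent_of_commute hn₀s.inv_left)⟩, ?_⟩
        refine QuotientGroup.eq.2 ?_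
        show (QuotientGroup.mk' Q ⟨(w : G) * n₀⁻¹, _⟩)⁻¹ * QuotientGroup.mk' Q w ∈ E
        rw [← map_inv, ← map_mul, hEmem]
        refine ⟨n₀, hn₀, ?_⟩
        show n₀⁻¹ * (((w : G) * n₀⁻¹)⁻¹ * (w : G)) ∈ (Q.map (Subgroup.centralizer ({z} : Set G)).subtype)
        rw [show n₀⁻¹ * (((w : G) * n₀⁻¹)⁻¹ * (w : G)) = 1 by group]
        exact one_mem _
    have hk : p.ker = ψ.ker := by
      ext m
      rw [MonoidHom.mem_ker, MonoidHom.mem_ker, hψk]
      show QuotientGroup.mk (incl m) = (1 : ↥X ⧸ E.subgroupOf X) ↔ _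
      rw [QuotientGroup.eq_one_iff, Subgroup.mem_subgroupOf]
      show QuotientGroup.mk' Q ⟨(m : G), D.M_le m.2.1⟩ ∈ E ↔ _
      rw [hEmem]
      constructor
      · rintro ⟨n, hn, hq⟩
        refine ⟨n, ⟨hn, ?_⟩, hq⟩
        have := D.M.mul_mem m.2.1 (D.M.inv_mem (D.Q_le hq))
        simpa [mul_assoc] using this
      · rintro ⟨n, hn, hq⟩
        exact ⟨n, hn.1, hq⟩
    exact ⟨((QuotientGroup.quotientKerEquivOfSurjective p hp).symm.trans
      (QuotientGroup.quotientMulEquivOfEq hk)).trans (QuotientGroup.quotientKerEquivOfSurjective ψ hψ)⟩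

end Cfsg.Lib.FischerLarge
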