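import Cfsg.Agent.Lib.FischerLarge.LagGroup
import Cfsg.Agent.Lib.FischerLarge.Statements

/-!
# The elementary abelian subgroups of order `2 ^ 11` of a two-group of the centralizer
-/

set_option autoImplicit false

namespace Cfsg.Lib.FischerLarge

open Cfsg Cfsg.Lib.SUSixU43 Cfsg.Lib.Extra Cfsg.Lib.PermAut

universe u

theorem invol_fix {c : ℕ} (hc : c < 3) {g : G6} (hg : g ∈ sylSub hc) (hne : g ≠ 1) (hsq : g * g = 1) :
    {x : V6 | g • x = x}.ncard ≤ 256 := by
  obtain ⟨i, hi, rfl⟩ := hg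
  have h := sylInv_ok c hc
  simp only [invB, Bool.and_eq_true, allBelowB_iff] at h
  have h1 := h.1.1 i hi
  obtain ⟨hlt, he⟩ := sy_mul hc hi hi
  rw [hsq, ← sy_zero hc] at he
  have h0 := sy_inj hc (by norm_num) hlt he
  have hb : Nat.beq ((syl c).tab i i) 0 = true := by rw [← h0]; rfl
  rw [hb, cond_true, Bool.or_eq_true, Nat.beq_eq, List.contains_iff_mem] at h1
  rcases h1 with h1 | h1
  · exact absurd (by rw [h1, sy_zero hc]) hne
  · exact (rk_facts hc h1).2

theorem g6_sub_sq {E : Subgroup G6} (h : ∀ a ∈ E, a * a = 1) : ∀ a ∈ E, ∀ b ∈ E, a * b = b * a :=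
  fun a ha b hb => (commute_of_sq (h a ha) (h b hb) (h _ (E.mul_mem ha hb))).eq

variable {G : Type u} [Group G] [Finite G] {z : G} {Q : Subgroup G} (D : Coord z Q)

/-- A two-group whose unitary part acts inside the Sylow subgroup of the model. -/
theorem Coord.max_elem {g₀ s : G} (hg : g₀ * z * g₀⁻¹ = s) (hs : s ∈ Q) (hne : s ≠ z) {A : Subgroup G}
    (hA : A ≤ Subgroup.centralizer ({z} : Set G)) (hc : ∀ a ∈ A, ∀ b ∈ A, Commute a b) (hsq : ∀ a ∈ A, a * a = 1)
    (hP : ∀ m : ↥D.M, (m : G) ∈ A → D.π m ∈ sylSub D.c_lt) (hcard : 2 ^ 11 ≤ Nat.card ↥A) : A = D.lagC := by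
  classical
  have := finite_G6
  have hL := lagFacts D.c_lt
  set A1 := A ⊓ D.M with hA1
  set Ab := (A.subgroupOf D.M).map D.π with hAb
  have hAbsq : ∀ g ∈ Ab, g * g = 1 := by
    rintro _ ⟨m, hm, rfl⟩
    rw [← map_mul, show m * m = 1 from Subtype.ext (hsq _ hm), map_one]
  have hAbP : Ab ≤ sylSub D.c_lt := by
    rintro _ ⟨m, hm, rfl⟩
    exact hP m hm
  have h16 : Nat.card ↥Ab ≤ 16 := image_le_sixteen D.c_lt (by rintro _ ⟨m, -, rfl⟩; exact D.π_mem m) hAbsq
  have hAQ : Nat.card ↥(A ⊓ Q) ≤ 128 := card_abelian_le D.ctx D.cardQ inf_le_right fun a ha b hb => hc a ha.1 b hb.1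
  have hA1c : Nat.card ↥A1 = Nat.card ↥Ab * Nat.card ↥(A ⊓ Q) := by
    let f := D.π.comp (A.subgroupOf D.M).subtype
    have h := f.ker.card_mul_index
    rw [Subgroup.index_ker, show f.range = Ab by rw [MonoidHom.range_comp, Subgroup.range_subtype]] at h
    have hk : Nat.card ↥f.ker = Nat.card ↥(A ⊓ Q) := Nat.card_congr
      { toFun := fun m => ⟨(((m : ↥(A.subgroupOf D.M)) : ↥D.M) : G), (m : ↥(A.subgroupOf D.M)).2, (D.π_ker _).1 m.2⟩
        invFun := fun a => ⟨⟨⟨a, D.Q_le a.2.2⟩, a.2.1⟩, (D.π_ker _).2 a.2.2⟩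
        left_inv := fun _ => rfl
        right_inv := fun _ => rfl }
    have e : Nat.card ↥(A.subgroupOf D.M) = Nat.card ↥A1 := by
      rw [← Subgroup.card_map_of_injective D.M.subtype_injective, Subgroup.subgroupOf_map_subtype]
    rw [← e, ← h, hk, mul_comm]
  have hcl : ∀ g ∈ Ab, ∀ x ∈ D.cl '' ((A ⊓ Q : Subgroup G) : Set G), g • x = x := by
    rintro _ ⟨m, hm, rfl⟩ _ ⟨a, ha, rfl⟩
    rw [← D.π_cl m a ha.2, (hc (m : G) hm a ha.1).eq, mul_inv_cancel_right]
  have himg := (D.card_le_image (A := A ⊓ Q) inf_le_right).1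
  by_cases hAM : A ≤ D.M
  · have e : A1 = A := inf_eq_left.2 hAM
    rw [e] at hA1c
    have h128 : Nat.card ↥(A ⊓ Q) = 128 := by
      by_contra hlt
      have := Nat.mul_le_mul h16 (show Nat.card ↥(A ⊓ Q) ≤ 127 by omega)
      omega
    have h16' : Nat.card ↥Ab = 16 := by
      rw [h128] at hA1c
      omega
    have hfour : fourSet D.c ⊆ (Ab : Set G6) := by
      have hAbn : (Ab : Set G6).ncard = 16 := h16'
      rcases rank_four D.c_lt hAbP (g6_sub_sq hAbsq) hAbsq h16'.ge with h | h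
      · exact (Set.eq_of_subset_of_ncard_le h (by rw [hL.four_card, hAbn]) (Set.toFinite _)).ge
      · exfalso
        obtain ⟨K, hK, hKmem⟩ := hL.alt_small
        have heq : (Ab : Set G6) = altSet D.c :=
          Set.eq_of_subset_of_ncard_le h (by rw [hAbn]; exact hL.alt_card) (Set.toFinite _)
        have hsub : D.cl '' ((A ⊓ Q : Subgroup G) : Set G) ⊆ K := fun x hx => hKmem x fun g hg => by
          rw [← heq] at hg
          exact hcl g hg x hx
        have := Set.ncard_le_ncard hsub (Set.toFinite _)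
        omega
    have hW : A ⊓ Q = D.lagW := by
      refine Subgroup.eq_of_le_of_card_ge (fun a ha => ⟨ha.2, ?_⟩) (by rw [D.card_lagW, h128])
      obtain ⟨-, -, hmem, -⟩ := fix_facts D.c_lt
      exact hmem _ fun g hg => hcl g (hfour hg) _ ⟨a, ha, rfl⟩
    refine Subgroup.eq_of_le_of_card_ge (fun a ha => ⟨hAM ha, Subgroup.mem_centralizer_iff.2 fun w hw => ?_⟩)
      (by rw [D.lagC_image.1]; exact hcard)
    have hw' : w ∈ A ⊓ Q := hW.symm ▸ hw
    exact (hc w hw'.1 a ha).eq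
  · exfalso
    obtain ⟨a, ha, haM⟩ := SetLike.not_le_iff_exists.1 hAM
    have haz := commute_of_mem_cent (hA ha)
    have h2 := (D.card_le_double A hA).2 ⟨a, ha, haM⟩
    rw [← hA1, hA1c] at h2
    have h64 : 64 ≤ Nat.card ↥(A ⊓ Q) := by
      by_contra hlt
      have := Nat.mul_le_mul h16 (show Nat.card ↥(A ⊓ Q) ≤ 63 by omega)
      omega
    obtain ⟨g, hgA, hg1⟩ : ∃ g ∈ Ab, g ≠ 1 := by
      by_contra hall
      push Not at hall
      have hb : Ab = ⊥ := (Subgroup.eq_bot_iff_forall _).2 hall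
      rw [hb, Subgroup.card_bot] at h2
      omega
    have hsmall := invol_fix D.c_lt (hAbP hgA) hg1 (hAbsq g hgA)
    set U := D.cl '' ((A ⊓ Q : Subgroup G) : Set G) with hU
    have hsig : ∀ x ∈ U, D.sg a x = x := by
      rintro _ ⟨b, hb, rfl⟩
      rw [← D.cl_conj haz hb.2, (hc a ha b hb.1).eq, mul_inv_cancel_right]
    have hUsub : ∀ x ∈ U, ∀ y ∈ U, x + y ∈ U := by
      rintro _ ⟨b, hb, rfl⟩ _ ⟨d, hd, rfl⟩
      exact ⟨b * d, mul_mem hb hd, D.cl_mul b hb.2 d hd.2⟩
    have hinj : Set.InjOn (fun p : V6 × V6 => p.1 + om • p.2) (U ×ˢ U) := by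
      rintro ⟨x1, y1⟩ ⟨hx1, hy1⟩ ⟨x2, y2⟩ ⟨hx2, hy2⟩ e
      have e' : x1 + om • y1 = x2 + om • y2 := e
      have e2 := congrArg (D.sg a) e'
      rw [D.sg_add haz, D.sg_add haz, D.outer_twist hg hs hne haz haM, D.outer_twist hg hs hne haz haM,
        hsig _ hx1, hsig _ hy1, hsig _ hx2, hsig _ hy2, tau_om.1, add_smul, add_smul, one_smul, one_smul,
        ← add_assoc, ← add_assoc, e'] at e2
      have hy : y1 = y2 := add_left_cancel e2
      subst hy
      exact Prod.ext (add_right_cancel e') rfl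
    have hmaps : (fun p : V6 × V6 => p.1 + om • p.2) '' (U ×ˢ U) ⊆ {x : V6 | g • x = x} := by
      rintro _ ⟨⟨x, y⟩, ⟨hx, hy⟩, rfl⟩
      show g • (x + om • y) = x + om • y
      rw [g6_add, g6_scalar, hcl g hgA x hx, hcl g hgA y hy]
    have h := Set.ncard_le_ncard hmaps (Set.toFinite _)
    rw [Set.ncard_image_of_injOn hinj, Set.ncard_prod] at h
    have := Nat.mul_le_mul (show 32 ≤ U.ncard by omega) (show 32 ≤ U.ncard by omega)
    omega

/-- The unitary part of a two-group moves into the Sylow subgroup of the model. -/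
theorem Coord.exists_move_syl {T : Subgroup G} (hT : IsPGroup 2 ↥T) :
    ∃ m : ↥D.M, ∀ k : ↥D.M, (m : G)⁻¹ * k * m ∈ T → D.π k ∈ sylSub D.c_lt := by
  have := finite_G6
  have h2 : IsPGroup 2 ↥((T.subgroupOf D.M).map D.π) :=
    (hT.comap_of_injective D.M.subtype D.M.subtype_injective).map D.π
  obtain ⟨g, hg, hgk⟩ := two_le_syl D.c_lt (R := (T.subgroupOf D.M).map D.π)
    (by rintro _ ⟨m, -, rfl⟩; exact D.π_mem m) h2
  obtain ⟨m, rfl⟩ := D.exists_pre hg
  refine ⟨m, fun k hk => ?_⟩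
  have h := hgk _ ⟨m⁻¹ * k * m, hk, rfl⟩
  rwa [← map_inv, ← map_mul, ← map_mul, show m * (m⁻¹ * k * m) * m⁻¹ = k by group] at h

theorem Coord.lagC_two : IsPGroup 2 ↥D.lagC := fun x =>
  ⟨1, Subtype.ext (by rw [pow_one, pow_two]; exact D.lagC_elem x x.2)⟩

/-- The elementary abelian subgroups of large order in a two-group agree. -/
theorem Coord.eq_conj_lagC {g₀ s : G} (hg : g₀ * z * g₀⁻¹ = s) (hs : s ∈ Q) (hne : s ≠ z) {T : Subgroup G}
    (hT : IsPGroup 2 ↥T) : ∃ m : ↥D.M, ∀ A : Subgroup G, A ≤ T → A ≤ Subgroup.centralizer ({z} : Set G) →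
      (∀ a ∈ A, ∀ b ∈ A, Commute a b) → (∀ a ∈ A, a * a = 1) → 2 ^ 11 ≤ Nat.card ↥A →
      A = D.lagC.map (MulAut.conj (m : G)⁻¹).toMonoidHom := by
  obtain ⟨m, hm⟩ := D.exists_move_syl hT
  refine ⟨m, fun A hAT hAz hc hsq hcard => ?_⟩
  have hmz := D.m_comm m
  set B := A.map (MulAut.conj (m : G)).toMonoidHom with hB
  have key : B = D.lagC := by
    refine D.max_elem hg hs hne ?_ ?_ ?_ (fun k hk => hm k ?_) ?_
    · rintro _ ⟨a, ha, rfl⟩
      exact mem_cent_of_commute ((hmz.mul_left (commute_of_mem_cent (hAz ha))).mul_left hmz.inv_left)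
    · rintro _ ⟨a, ha, rfl⟩ _ ⟨b, hb, rfl⟩
      exact (hc a ha b hb).map (MulAut.conj (m : G)).toMonoidHom
    · rintro _ ⟨a, ha, rfl⟩
      rw [← map_mul, hsq a ha, map_one]
    · obtain ⟨a, ha, e⟩ := hk
      have e' : (m : G) * a * (m : G)⁻¹ = k := e
      rw [← e', show (m : G)⁻¹ * ((m : G) * a * (m : G)⁻¹) * m = a by group]
      exact hAT ha
    · rw [hB, Subgroup.card_map_of_injective (MulAut.conj (m : G)).injective]
      exact hcard
  rw [← key, hB, Subgroup.map_map]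
  conv_lhs => rw [← A.map_id]
  congr 1
  refine MonoidHom.ext fun a => ?_
  show a = (m : G)⁻¹ * ((m : G) * a * (m : G)⁻¹) * (m : G)⁻¹⁻¹
  group

end Cfsg.Lib.FischerLarge

namespace Cfsg.Lib.FischerLarge

open Cfsg Cfsg.Lib.Extra

universe v

theorem map_conj_normal {H : Type v} [Group H] {N : Subgroup H} [hN : N.Normal] (h : H) :
    N.map (MulAut.conj h).toMonoidHom = N := by
  ext x
  constructor
  · rintro ⟨y, hy, rfl⟩
    exact hN.conj_mem y hy h
  · intro hx
    exact ⟨h⁻¹ * x * h, by simpa using hN.conj_mem x hx h⁻¹, by show h * (h⁻¹ * x * h) * h⁻¹ = x; group⟩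

theorem sylow_statement {G : Type v} [Group G] [Finite G] {z : G}
    {Q : Subgroup (Subgroup.centralizer ({z} : Set G))} [Q.Normal]
    (D : Coord z (Q.map (Subgroup.centralizer ({z} : Set G)).subtype))
    {g₀ : G} (hg₀ : g₀ * z * g₀⁻¹ ∈ Q.map (Subgroup.centralizer ({z} : Set G)).subtype)
    (hne₀ : g₀ * z * g₀⁻¹ ≠ z) (T : Sylow 2 ↥(Subgroup.centralizer ({z} : Set G))) :
    ∃ A : Subgroup ↥(T : Subgroup (Subgroup.centralizer ({z} : Set G))),
      Cfsg.maxElementaryAbelianSubgroups 2 ↥(T : Subgroup (Subgroup.centralizer ({z} : Set G))) = {A} ∧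
      Nat.card A = 2 ^ 11 ∧
      Nat.card ↥(A.map (T : Subgroup (Subgroup.centralizer ({z} : Set G))).subtype ⊓ Q) = 2 ^ 7 ∧
      Nat.card ↥((A.map (T : Subgroup (Subgroup.centralizer ({z} : Set G))).subtype).map (QuotientGroup.mk' Q)) = 16 := by
  classical
  haveI := Fact.mk Nat.prime_two
  let C' : Subgroup ↥(Subgroup.centralizer ({z} : Set G)) := D.lagC.subgroupOf (Subgroup.centralizer ({z} : Set G))
  have hCle : D.lagC ≤ (Subgroup.centralizer ({z} : Set G)) := fun x hx => D.M_le hx.1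
  obtain ⟨T', hT'⟩ := (D.lagC_two.of_equiv (Subgroup.subgroupOfEquivOfLe hCle).symm).exists_le_sylow
  obtain ⟨h, hh⟩ := MulAction.exists_smul_eq ↥(Subgroup.centralizer ({z} : Set G)) T' T
  set B : Subgroup ↥(Subgroup.centralizer ({z} : Set G)) := C'.map (MulAut.conj h).toMonoidHom with hB
  have hBT : B ≤ (T : Subgroup ↥(Subgroup.centralizer ({z} : Set G))) := by
    rw [← hh, Sylow.coe_subgroup_smul]
    rintro _ ⟨x, hx, rfl⟩
    exact Subgroup.smul_mem_pointwise_smul _ _ _ (hT' hx)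
  set i : ↥(T : Subgroup ↥(Subgroup.centralizer ({z} : Set G))) →* G := (Subgroup.centralizer ({z} : Set G)).subtype.comp (T : Subgroup ↥(Subgroup.centralizer ({z} : Set G))).subtype with hi
  have hinj : Function.Injective i := (Subgroup.centralizer ({z} : Set G)).subtype_injective.comp (T : Subgroup ↥(Subgroup.centralizer ({z} : Set G))).subtype_injective
  obtain ⟨m, hm⟩ := D.eq_conj_lagC rfl hg₀ hne₀ (T := (⊤ : Subgroup ↥(T : Subgroup ↥(Subgroup.centralizer ({z} : Set G)))).map i)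
    ((IsPGroup.of_equiv T.isPGroup' Subgroup.topEquiv.symm).map i)
  have hwit : ∀ A : Subgroup ↥(T : Subgroup ↥(Subgroup.centralizer ({z} : Set G))), Cfsg.IsElementaryAbelian 2 A → 2 ^ 11 ≤ Nat.card ↥A →
      A.map i = D.lagC.map (MulAut.conj (m : G)⁻¹).toMonoidHom := by
    intro A hA hcard
    refine hm _ (Subgroup.map_mono le_top) (by rintro _ ⟨a, -, rfl⟩; exact (a : ↥(Subgroup.centralizer ({z} : Set G))).2) ?_ ?_ ?_
    · rintro _ ⟨a, ha, rfl⟩ _ ⟨b, hb, rfl⟩
      have := isMulCommutative_iff.1 hA.1 ⟨a, ha⟩ ⟨b, hb⟩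
      exact (show Commute a b from congrArg Subtype.val this).map i
    · rintro _ ⟨a, ha, rfl⟩
      rw [← map_mul, ← pow_two, hA.2 a ha, map_one]
    · rwa [Subgroup.card_map_of_injective hinj]
  set A := B.subgroupOf (T : Subgroup ↥(Subgroup.centralizer ({z} : Set G))) with hAdef
  have hBc : Nat.card ↥B = 2 ^ 11 := by
    rw [hB, Subgroup.card_map_of_injective (MulAut.conj h).injective,
      Nat.card_congr (Subgroup.subgroupOfEquivOfLe hCle).toEquiv, D.lagC_image.1]
  have hAc : Nat.card ↥A = 2 ^ 11 := by rw [Nat.card_congr (Subgroup.subgroupOfEquivOfLe hBT).toEquiv, hBc]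
  have hAe : Cfsg.IsElementaryAbelian 2 A := by
    have hsq : ∀ a ∈ B, a * a = 1 := by
      rintro _ ⟨x, hx, rfl⟩
      rw [← map_mul, show x * x = 1 from Subtype.ext (D.lagC_elem _ hx), map_one]
    refine ⟨isMulCommutative_iff.2 fun a b => ?_, fun a ha => Subtype.ext (by rw [pow_two]; exact hsq _ ha)⟩
    exact Subtype.ext (Subtype.ext
      (commute_of_sq (hsq _ a.2) (hsq _ b.2) (hsq _ (B.mul_mem a.2 b.2))).eq)
  have hmax : ∀ E : Subgroup ↥(T : Subgroup ↥(Subgroup.centralizer ({z} : Set G))), Cfsg.IsElementaryAbelian 2 E → 2 ^ 11 ≤ Nat.card ↥E → E = A :=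
    fun E hE hcard => Subgroup.map_injective hinj ((hwit E hE hcard).trans (hwit A hAe hAc.ge).symm)
  refine ⟨A, Set.eq_singleton_iff_unique_mem.2 ⟨⟨hAe, fun E hE => ?_⟩, fun E hE => ?_⟩, hAc, ?_, ?_⟩
  · by_contra hlt
    have := hmax E hE (by omega)
    rw [this] at hlt
    exact hlt le_rfl
  · exact hmax E hE.1 (hAc.ge.trans (hE.2 A hAe))
  all_goals rw [show A.map (T : Subgroup ↥(Subgroup.centralizer ({z} : Set G))).subtype = B from Subgroup.map_subgroupOf_eq_of_le hBT]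
  · have hQn : Q.map (MulAut.conj h).toMonoidHom = Q := map_conj_normal h
    rw [show B ⊓ Q = (C' ⊓ Q).map (MulAut.conj h).toMonoidHom by
      rw [Subgroup.map_inf _ _ _ (MulAut.conj h).injective, hQn]]
    rw [Subgroup.card_map_of_injective (MulAut.conj h).injective]
    have e : (C' ⊓ Q).map (Subgroup.centralizer ({z} : Set G)).subtype = D.lagW := by
      rw [Subgroup.map_inf _ _ _ (Subgroup.centralizer ({z} : Set G)).subtype_injective, Subgroup.map_subgroupOf_eq_of_le hCle, D.lagC_Q]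
    rw [← Subgroup.card_map_of_injective (Subgroup.centralizer ({z} : Set G)).subtype_injective, e, D.card_lagW]
    norm_num
  · let f := (QuotientGroup.mk' Q).comp B.subtype
    have h1 := f.ker.card_mul_index
    rw [Subgroup.index_ker, show f.range = B.map (QuotientGroup.mk' Q) by
      rw [MonoidHom.range_comp, Subgroup.range_subtype], hBc] at h1
    have hk : Nat.card ↥f.ker = Nat.card ↥(B ⊓ Q) := Nat.card_congr
      { toFun := fun x => ⟨((x : ↥B) : ↥(Subgroup.centralizer ({z} : Set G))), (x : ↥B).2, (QuotientGroup.eq_one_iff _).1 x.2⟩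
        invFun := fun x => ⟨⟨x, x.2.1⟩, (QuotientGroup.eq_one_iff (N := Q) _).2 x.2.2⟩
        left_inv := fun _ => rfl
        right_inv := fun _ => rfl }
    have e : Nat.card ↥(B ⊓ Q) = 128 := by
      have hQn : Q.map (MulAut.conj h).toMonoidHom = Q := map_conj_normal h
      rw [show B ⊓ Q = (C' ⊓ Q).map (MulAut.conj h).toMonoidHom by
          rw [Subgroup.map_inf _ _ _ (MulAut.conj h).injective, hQn],
        Subgroup.card_map_of_injective (MulAut.conj h).injective,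
        ← Subgroup.card_map_of_injective (Subgroup.centralizer ({z} : Set G)).subtype_injective, Subgroup.map_inf _ _ _ (Subgroup.centralizer ({z} : Set G)).subtype_injective,
        Subgroup.map_subgroupOf_eq_of_le hCle, D.lagC_Q, D.card_lagW]
    rw [hk, e] at h1
    omega

end Cfsg.Lib.FischerLarge
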