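import Cfsg.Agent.Lib.FischerLarge.RigidDefs

/-! Bases from words in the two elements of a stabiliser. -/

set_option autoImplicit false

namespace Cfsg.Lib.FischerLarge

/-- Data. -/
def rigAData : List RigT :=
  [⟨3549, [[], [0], [1], [0, 0], [1, 0], [0, 1]], 0x779871482cc02df59a⟩,
    ⟨2806, [[], [0], [1], [1, 0], [0, 1], [1, 1]], 0x3c2bf6a966953807bd⟩,
    ⟨2921, [[], [0], [1], [0, 0], [1, 0], [0, 1]], 0x17397b9f9d9f8c04a4⟩]

/-- Data. -/
def rigBData : List RigT :=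
  [⟨4074, [[], [0], [1], [1, 0], [0, 1], [1, 1]], 0xb1665d5fd539b676bd⟩,
    ⟨1387, [[], [0], [1], [1, 0], [0, 1], [1, 1]], 0x99150079d9fb70d505⟩,
    ⟨3743, [[], [0], [1], [1, 0], [0, 1], [1, 1]], 0xc38c74b0f341db551d⟩]

end Cfsg.Lib.FischerLarge
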