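import Cfsg.Agent.Lib.FischerLarge.Check
import Cfsg.Agent.Lib.FischerLarge.RigidData

/-! The rigidity certificates pass. -/

set_option autoImplicit false
set_option maxRecDepth 200000
set_option maxHeartbeats 2000000

namespace Cfsg.Lib.FischerLarge

open Cfsg.Lib.SUSixU43 Cfsg.Lib.PermAut

/-- The data at the first orbit. -/
def rigA (c : ℕ) : RigT := rigAData.getD c ⟨0, [], 0⟩

/-- The data at the second orbit. -/
def rigBig (c : ℕ) : RigT := rigBData.getD c ⟨0, [], 0⟩

theorem rigA_ok0' : rigB (orbA 0) (stabA 0) (rigA 0) true = true := by decide +kernel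

theorem rigA_ok1' : rigB (orbA 1) (stabA 1) (rigA 1) true = true := by decide +kernel

theorem rigA_ok2' : rigB (orbA 2) (stabA 2) (rigA 2) true = true := by decide +kernel

theorem rigA_ok : ∀ c < 3, rigB (orbA c) (stabA c) (rigA c) true = true := by
  intro c hc
  interval_cases c
  exacts [rigA_ok0', rigA_ok1', rigA_ok2']

theorem rigBig_ok0' : rigB (orbA 0) (stabBig 0) (rigBig 0) false = true := by decide +kernel

theorem rigBig_ok1' : rigB (orbA 1) (stabBig 1) (rigBig 1) false = true := by decide +kernel

theorem rigBig_ok2' : rigB (orbA 2) (stabBig 2) (rigBig 2) false = true := by decide +kernel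

theorem rigBig_ok : ∀ c < 3, rigB (orbA c) (stabBig c) (rigBig c) false = true := by
  intro c hc
  interval_cases c
  exacts [rigBig_ok0', rigBig_ok1', rigBig_ok2']

end Cfsg.Lib.FischerLarge
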