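import Cfsg.Agent.Lib.FischerLarge.Orbits
import Cfsg.Agent.Lib.FischerLarge.CheckRigid

/-!
# Semilinear maps commuting with a stabiliser
-/

set_option autoImplicit false

namespace Cfsg.Lib.FischerLarge

open Cfsg Matrix Cfsg.Lib.SUSixU43 Cfsg.Lib.PermAut

/-- The automorphism of a twist. -/
noncomputable def tau (tw : Bool) : R4 →+* R4 := bif tw then frob else RingHom.id R4

theorem tau_apply (tw : Bool) (a : R4) : tau tw a = bif tw then a ^ 2 else a := by cases tw <;> rfl

theorem vec_twV (tw : Bool) (v : ℕ) : vec (twV tw v) = fun i => tau tw (vec v i) := by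
  funext i
  cases tw
  · rfl
  · show el (vdig (pack 6 fun i => cjC (vdig v i)) i) = frob (el (vdig v i))
    rw [vdig_pack i.isLt, el_mod, el_cj]
    rfl

theorem mat_twM (tw : Bool) (m : ℕ) : mat (twM tw m) = (mat m).map (tau tw) := by
  rw [twM, fN_eq]
  cases tw
  · rfl
  · ext i j : 1
    show el (mget (ofF fun i j => cjC (mget m i j)) i j) = frob (el (mget m i j))
    rw [mget_ofF, el_mod, el_cj]
    rfl

theorem rig_sound {c : ℕ} (hc : c < 3) {S : StabT} (hS : stabB c S = true) {A : OrbT} (hA : distB A = true)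
    {R : RigT} {tw : Bool} (h : rigB A S R tw = true) (σ : V6 → V6) (hadd : ∀ x y, σ (x + y) = σ x + σ y)
    (hsmul : ∀ (a : R4) x, σ (a • x) = tau tw a • σ x) (hbase : σ (vec S.base) = vec S.base)
    (hmaps : ∀ x ∈ A.set, σ x ∈ A.set) (hcomm : ∀ g ∈ stab0 c S, ∀ x, σ (g • x) = g • σ x) :
    tw = false ∧ ∀ x, σ x = x := by
  classical
  simp only [rigB, Bool.and_eq_true, allBelowB_iff, List.all_eq_true, Nat.beq_eq, Nat.blt, Nat.ble_eq,
    sameM_iff, fN_eq] at h
  obtain ⟨⟨⟨⟨⟨hlen, hlet⟩, hinv⟩, hhas⟩, hw⟩, hall⟩ := h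
  simp only [stabB, Bool.and_eq_true, allBelowB_iff, List.all_eq_true, Nat.beq_eq, sameM_iff, Nat.blt,
    Nat.ble_eq, Bool.not_eq_true'] at hS
  obtain ⟨⟨⟨⟨⟨⟨⟨⟨⟨⟨hb4, hwl⟩, -⟩, hletters⟩, hk⟩, -⟩, -⟩, -⟩, -⟩, -⟩, -⟩ := hS
  have hword : ∀ k < 2, word2 c S k ∈ stab0 c S ∧ mm (word2 c S k) = mat (S.mats.getD k 0) := fun k hk2 => by
    obtain ⟨-, h2⟩ := word_spec hc (S.words.getD k []) fun j hj =>
      hletters _ (getD_mem [] (by omega)) j hj
    refine ⟨?_, h2.trans (hk k hk2).1.symm⟩
    interval_cases k <;> exact Subgroup.subset_closure (by simp)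
  obtain ⟨i, hi, hy⟩ := hmaps _ ((has_iff hA hw).1 hhas)
  set y := A.get i
  have hcol : ∀ (u : ℕ) (j : Fin 6), (fun k => mat (colsW S.mats R u) k j) = vec (evW S.mats (R.words.getD j []) u) :=
    fun u j => funext fun k => by
      show el (mget (colsW S.mats R u) k j) = _
      rw [colsW, fN_eq, mget_ofF, el_mod]
      rfl
  have hσcol : ∀ j : Fin 6, σ (fun k => mat (colsW S.mats R R.w) k j) = fun k => mat (colsW S.mats R y) k j := by
    intro j
    have hl : ∀ k ∈ R.words.getD j [], k < 2 := fun k hk' => hlet _ (getD_mem [] (by omega)) k hk'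
    rw [hcol, hcol]
    suffices ∀ l : List ℕ, (∀ k ∈ l, k < 2) → σ (vec (evW S.mats l R.w)) = vec (evW S.mats l y) from this _ hl
    intro l hl
    induction l with
    | nil => exact hy.symm
    | cons k l ih =>
      obtain ⟨hm, he⟩ := hword k (hl k (List.mem_cons_self ..))
      rw [evW, evW, vec_appM_smul he, vec_appM_smul he, hcomm _ hm, ih fun j hj => hl j (List.mem_cons_of_mem _ hj)]
  set T := mulM (colsW S.mats R y) (twM tw R.Pi) with hT
  have hrep : ∀ x : V6, σ x = mat T *ᵥ fun k => tau tw (x k) := by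
    intro x
    set a := mat R.Pi *ᵥ x with ha
    have hx : x = ∑ j, a j • (fun k => mat (colsW S.mats R R.w) k j) := by
      have e : mat (colsW S.mats R R.w) *ᵥ a = x := by
        rw [ha, Matrix.mulVec_mulVec, ← mat_mulM, hinv, mat_oneM, Matrix.one_mulVec]
      conv_lhs => rw [← e]
      funext k
      simp [Matrix.mulVec, dotProduct, mul_comm]
    conv_lhs => rw [hx]
    rw [show σ (∑ j, a j • fun k => mat (colsW S.mats R R.w) k j) =
      ∑ j, σ (a j • fun k => mat (colsW S.mats R R.w) k j) from map_sum (AddMonoidHom.mk' σ hadd) _ _]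
    simp only [hsmul, hσcol]
    rw [hT, mat_mulM, mat_twM, ← Matrix.mulVec_mulVec]
    have hPi : (mat R.Pi).map (tau tw) *ᵥ (fun k => tau tw (x k)) = fun j => tau tw (a j) :=
      funext fun j => ((tau tw).map_mulVec (mat R.Pi) x j).symm
    rw [hPi]
    funext k
    simp [Matrix.mulVec, dotProduct, mul_comm]
  have hg : ∀ k < 2, sameM (mulM T (twM tw (S.mats.getD k 0))) (mulM (S.mats.getD k 0) T) = true := by
    intro k hk2
    rw [sameM_iff, mat_mulM T, mat_mulM (S.mats.getD k 0) T, mat_twM tw (S.mats.getD k 0)]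
    refine Matrix.ext_of_mulVec_single fun j => ?_
    have h1 := hcomm _ (hword k hk2).1 (Pi.single j 1)
    rw [smul_def, smul_def, (hword k hk2).2, hrep, hrep] at h1
    rw [← Matrix.mulVec_mulVec, ← Matrix.mulVec_mulVec]
    have e1 : (fun i => tau tw ((Pi.single j 1 : V6) i)) = Pi.single j 1 := funext fun i => by
      rcases eq_or_ne i j with rfl | hij
      · simp
      · simp [hij]
    rw [e1] at h1
    rw [← h1]
    congr 1
    funext i
    rw [(tau tw).map_mulVec]
    exact (congrFun (congrArg (fun u => (mat (S.mats.getD k 0)).map (tau tw) *ᵥ u) e1) i).symm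
  have hfix : Nat.beq (appM T (twV tw S.base)) S.base = true := by
    have hlt : appM T (twV tw S.base) < 4096 := by simp only [appM, pack]; omega
    have e : vec (appM T (twV tw S.base)) = vec S.base := by rw [vec_appM, vec_twV, ← hrep, hbase]
    rw [Nat.beq_eq]
    exact vec_inj hlt hb4 e
  have h' := hall i hi
  rw [show Nat.beq (appM T (twV tw S.base)) S.base = true from hfix, Bool.not_true, cond_false,
    hg 0 (by norm_num), Bool.not_true, cond_false, hg 1 (by norm_num), Bool.not_true, cond_false] at h'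
  cases tw
  · refine ⟨rfl, fun x => ?_⟩
    rw [cond_false, sameM_iff, mat_oneM] at h'
    rw [hrep, h', Matrix.one_mulVec]
    rfl
  · exact Bool.noConfusion h'

theorem orbA_dist {c : ℕ} (hc : c < 3) : distB (orbA c) = true := by
  have h := orb_ok c hc
  simp only [orbB, Bool.and_eq_true] at h
  exact h.1.1.1.1.1.1.2

end Cfsg.Lib.FischerLarge
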