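import Cfsg.Agent.Lib.FischerLarge.Stab
import Cfsg.Agent.Lib.FischerLarge.Rigid

/-!
# The outer elements act semilinearly with the field automorphism
-/

set_option autoImplicit false

namespace Cfsg.Lib.FischerLarge

open Cfsg Matrix Cfsg.Lib.SUSixU43 Cfsg.Lib.Extra

universe u

/-- The primitive scalar. -/
noncomputable def om : R4 := elE 1

theorem tau_om : tau true om = om + 1 ∧ om ^ 2 = om + 1 ∧ om + 1 ≠ 0 ∧ om ≠ 0 := by
  rw [tau_apply, cond_true]
  refine ⟨?_, ?_, ?_, ?_⟩ <;> simp only [om] <;> decide +kernel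

theorem r4_cases : ∀ a : R4, a = 0 ∨ a = 1 ∨ a = elE 1 ∨ a = elE 1 + 1 := by decide +kernel

theorem Zc_smul (x : V6) : Zc • x = om • x := by
  rw [smul_def, mm_Zc, zMat_eq]
  funext i
  rw [Matrix.mulVec_diagonal]
  rfl

theorem g6_add (g : G6) (x y : V6) : g • (x + y) = g • x + g • y := by
  simp only [smul_def, Matrix.mulVec_add]

theorem g6_scalar (g : G6) (a : R4) (x : V6) : g • (a • x) = a • (g • x) := by
  simp only [smul_def, Matrix.mulVec_smul]

theorem v6_add_self (x : V6) : x + x = 0 := funext fun i => by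
  rw [Pi.add_apply, Pi.zero_apply, show x i + x i = (2 : R4) * x i by ring,
    show (2 : R4) = 0 by decide +kernel, zero_mul]

theorem center_KM {c : ℕ} (hc : c < 3) {g : G6} (hg : g ∈ KM c) (hcomm : ∀ h ∈ KM c, g * h = h * g) :
    g ∈ C6 := by
  have := finite_G6
  obtain ⟨h3, -⟩ := KM_cover (MulEquiv.refl ↥Q112) hc
  have hle : C6.subgroupOf (KM c) ≤ Subgroup.center ↥(KM c) := fun x hx =>
    Subgroup.mem_center_iff.2 fun y => Subtype.ext (C6_comm (z := (x : G6)) hx (y : G6)).symm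
  have heq := Subgroup.eq_of_le_of_card_ge hle (by
    rw [h3, Nat.card_congr (Subgroup.subgroupOfEquivOfLe (C6_le_KM c)).toEquiv, card_C6])
  have : (⟨g, hg⟩ : ↥(KM c)) ∈ C6.subgroupOf (KM c) := heq ▸
    Subgroup.mem_center_iff.2 fun y => Subtype.ext (hcomm _ y.2).symm
  exact this

theorem C6_cases {g : G6} (hg : g ∈ C6) : g = 1 ∨ g = Zc ∨ g = Zc * Zc := by
  obtain ⟨i, hi⟩ := (Subgroup.mem_zpowers_iff.1 hg)
  have h3 : Zc ^ 3 = 1 := by
    rw [← card_C6, show Nat.card ↥C6 = orderOf Zc from Nat.card_zpowers Zc, pow_orderOf_eq_one]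
  have hp : Zc ^ (i % 3) = Zc ^ i := by
    conv_rhs => rw [← Int.emod_add_mul_ediv i 3, _root_.zpow_add, _root_.zpow_mul, show Zc ^ (3 : ℤ) = 1 by exact_mod_cast h3,
      _root_.one_zpow, mul_one]
  rw [← hi, ← hp]
  have h0 := Int.emod_nonneg i (show (3 : ℤ) ≠ 0 by norm_num)
  have h1 := Int.emod_lt_of_pos i (show (0 : ℤ) < 3 by norm_num)
  rcases (show i % 3 = 0 ∨ i % 3 = 1 ∨ i % 3 = 2 by omega) with e | e | e <;> rw [e]
  · exact Or.inl (zpow_zero _)
  · exact Or.inr (Or.inl (zpow_one _))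
  · exact Or.inr (Or.inr (zpow_two _))

/-- Rigidity moved along the orbit. -/
theorem rigid_moved {c : ℕ} (hc : c < 3) {S : StabT} (hS : stabB c S = true) {R : RigT} {tw : Bool}
    (hR : rigB (orbA c) S R tw = true) {k : G6} (hk : k ∈ KM c) (σ : V6 → V6)
    (hadd : ∀ x y, σ (x + y) = σ x + σ y) (hsmul : ∀ (a : R4) x, σ (a • x) = tau tw a • σ x)
    (hbase : σ (k • vec S.base) = k • vec S.base) (hmaps : ∀ x ∈ (orbA c).set, σ x ∈ (orbA c).set)
    (hcomm : ∀ g ∈ Sb c (k • vec S.base), ∀ x, σ (g • x) = g • σ x) : tw = false ∧ ∀ x, σ x = x := by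
  have hinv := (orbFacts hc).invA
  obtain ⟨h1, h2⟩ := rig_sound hc hS (orbA_dist hc) hR (fun x => k⁻¹ • σ (k • x))
    (fun x y => by rw [g6_add, hadd, g6_add]) (fun a x => by rw [g6_scalar, hsmul, g6_scalar])
    (by rw [hbase, inv_smul_smul]) (fun x hx => hinv _ ((KM c).inv_mem hk) _ (hmaps _ (hinv _ hk _ hx))) fun g hg x => by
      have hg' := (stab_spec hc hS).1 hg
      have := hcomm (k * g * k⁻¹) ⟨(KM c).mul_mem ((KM c).mul_mem hk hg'.1) ((KM c).inv_mem hk), by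
        show (k * g * k⁻¹) • k • vec S.base = _
        rw [mul_smul, mul_smul, inv_smul_smul, MulAction.mem_stabilizer_iff.1 hg'.2]⟩ (k • x)
      rw [mul_smul, mul_smul, inv_smul_smul] at this
      rw [this, mul_smul, mul_smul, inv_smul_smul]
  refine ⟨h1, fun x => ?_⟩
  have := h2 (k⁻¹ • x)
  rwa [smul_inv_smul, smul_left_cancel_iff] at this

variable {G : Type u} [Group G] [Finite G] {z : G} {Q : Subgroup G} (D : Coord z Q)

/-- An element with given coordinates. -/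
noncomputable def Coord.lift (v : V6) : G := (D.cl_surj v).choose

theorem Coord.lift_spec (v : V6) : D.lift v ∈ Q ∧ D.cl (D.lift v) = v := (D.cl_surj v).choose_spec

/-- The action on the coordinates. -/
noncomputable def Coord.sg (h : G) (v : V6) : V6 := D.cl (h * D.lift v * h⁻¹)

theorem Coord.cl_z_mul {b : G} (hb : b ∈ Q) : D.cl (z * b) = D.cl b :=
  ((D.cl_eq b hb (z * b) (mul_mem D.ctx.mem hb)).2 (Or.inr rfl)).symm

theorem Coord.cl_conj {h a : G} (hh : Commute h z) (ha : a ∈ Q) : D.cl (h * a * h⁻¹) = D.sg h (D.cl a) := by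
  obtain ⟨hL, hLc⟩ := D.lift_spec (D.cl a)
  rcases (D.cl_eq _ hL _ ha).1 hLc with e | e
  · exact congrArg (fun w => D.cl (h * w * h⁻¹)) e
  · conv_lhs => rw [e]
    rw [show h * (z * D.lift (D.cl a)) * h⁻¹ = z * (h * D.lift (D.cl a) * h⁻¹) by
      rw [← mul_assoc h, hh.eq]; group]
    exact D.cl_z_mul (conj_mem D.ctx hh hL)

theorem Coord.sg_add {h : G} (hh : Commute h z) (x y : V6) : D.sg h (x + y) = D.sg h x + D.sg h y := by
  obtain ⟨hx, ex⟩ := D.lift_spec x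
  obtain ⟨hy, ey⟩ := D.lift_spec y
  conv_lhs => rw [← ex, ← ey, ← D.cl_mul _ hx _ hy, ← D.cl_conj hh (mul_mem hx hy)]
  rw [show h * (D.lift x * D.lift y) * h⁻¹ = h * D.lift x * h⁻¹ * (h * D.lift y * h⁻¹) by group,
    D.cl_mul _ (conj_mem D.ctx hh hx) _ (conj_mem D.ctx hh hy)]
  rfl

theorem Coord.sg_zero {h : G} (hh : Commute h z) : D.sg h 0 = 0 := by
  have := D.sg_add hh 0 0
  rw [add_zero] at this
  exact left_eq_add.1 this

theorem Coord.sg_mul {h k : G} (hh : Commute h z) (hk : Commute k z) (v : V6) :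
    D.sg (h * k) v = D.sg h (D.sg k v) := by
  show D.cl _ = D.sg h (D.cl _)
  rw [← D.cl_conj hh (conj_mem D.ctx hk (D.lift_spec v).1)]
  congr 1
  group

theorem Coord.sg_one (v : V6) : D.sg 1 v = v := by
  show D.cl _ = v
  rw [one_mul, inv_one, mul_one, (D.lift_spec v).2]

theorem Coord.sg_inv {h : G} (hh : Commute h z) (v : V6) : D.sg h (D.sg h⁻¹ v) = v := by
  rw [← D.sg_mul hh hh.inv_left, mul_inv_cancel, D.sg_one]

theorem Coord.sg_M (m : ↥D.M) (v : V6) : D.sg m v = D.π m • v := by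
  show D.cl _ = _
  rw [D.π_cl m _ (D.lift_spec v).1, (D.lift_spec v).2]

theorem Coord.sg_Q {a : G} (ha : a ∈ Q) (v : V6) : D.sg a v = v := by
  rw [show a = ((⟨a, D.Q_le ha⟩ : ↥D.M) : G) from rfl, D.sg_M, (D.π_ker _).2 ha, one_smul]

/-- Only the extraspecial subgroup acts trivially. -/
theorem Coord.mem_of_sg {h : G} (hh : Commute h z) (hid : ∀ v, D.sg h v = v) : h ∈ Q := by
  obtain ⟨V, iA, iM, iF, cl, act, B, q, -, -, cl_surj, cl_eq, -, -, -, -, -, act_cl, act_ker⟩ :=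
    exists_module D.ctx D.cardQ
  refine (act_ker h hh).1 (LinearMap.ext fun w => ?_)
  obtain ⟨a, ha, rfl⟩ := cl_surj w
  rw [act_cl h hh a ha, Module.End.one_apply]
  refine ((cl_eq a ha _ (conj_mem D.ctx hh ha)).2 ((D.cl_eq a ha _ (conj_mem D.ctx hh ha)).1 ?_)).symm
  rw [D.cl_conj hh ha, hid]

theorem Coord.sg_conj {h : G} (hh : Commute h z) (m : ↥D.M) (v : V6) :
    D.sg h (D.π m • v) =
      D.π ⟨h * m * h⁻¹, D.M_normal h (mem_cent_of_commute hh) m m.2⟩ • D.sg h v := by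
  rw [← D.sg_M, ← D.sg_M, ← D.sg_mul hh (D.m_comm m),
    ← D.sg_mul (((hh.mul_left (D.m_comm m)).mul_left hh.inv_left)) hh]
  simp

/-- The centralizer acts semilinearly. -/
theorem Coord.exists_twist {h : G} (hh : Commute h z) :
    ∃ tw, ∀ (a : R4) v, D.sg h (a • v) = tau tw a • D.sg h v := by
  obtain ⟨n, hn⟩ := D.exists_pre (Zc_mem D.c)
  set n' : ↥D.M := ⟨h * n * h⁻¹, D.M_normal h (mem_cent_of_commute hh) n n.2⟩ with hn'
  have hC : D.π n' ∈ C6 := by
    refine center_KM D.c_lt (D.π_mem _) fun g hg => ?_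
    obtain ⟨m, rfl⟩ := D.exists_pre hg
    set k : ↥D.M := ⟨h⁻¹ * m * h, by
      simpa using D.M_normal h⁻¹ (mem_cent_of_commute hh.inv_left) m m.2⟩ with hk
    have h1 : D.π (n * k * n⁻¹ * k⁻¹) = 1 := by
      rw [map_mul, map_mul, map_mul, map_inv, map_inv, hn, Zc_comm]
      group
    have h2 : D.π (n' * m * n'⁻¹ * m⁻¹) = 1 := by
      refine (D.π_ker _).2 ?_
      have h3 := conj_mem D.ctx hh ((D.π_ker _).1 h1)
      convert h3 using 1
      simp only [hn', hk, Subgroup.coe_mul, Subgroup.coe_inv]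
      group
    rw [map_mul, map_mul, map_mul, map_inv, map_inv] at h2
    exact mul_inv_eq_iff_eq_mul.1 (mul_inv_eq_one.1 h2)
  have key : ∃ tw, ∀ v, D.sg h (om • v) = tau tw om • D.sg h v := by
    rcases C6_cases hC with e | e | e
    · exfalso
      have h1 := conj_mem D.ctx hh.inv_left ((D.π_ker _).1 e)
      have hnQ : (n : G) ∈ Q := by
        convert h1 using 1
        simp only [hn']
        group
      have := (D.π_ker n).2 hnQ
      rw [hn] at this
      have h2 : (Zc • (Pi.single 0 1 : V6)) 0 = (Pi.single 0 1 : V6) 0 := by rw [this, one_smul]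
      rw [Zc_smul, Pi.smul_apply, Pi.single_eq_same, smul_eq_mul, mul_one] at h2
      exact absurd h2 (by simp only [om]; decide +kernel)
    · refine ⟨false, fun v => ?_⟩
      rw [tau_apply, cond_false, ← Zc_smul, ← hn, D.sg_conj hh, ← hn', e, Zc_smul]
    · refine ⟨true, fun v => ?_⟩
      rw [← Zc_smul, ← hn, D.sg_conj hh, ← hn', e, mul_smul, Zc_smul, Zc_smul, smul_smul, ← pow_two,
        tau_apply, cond_true]
  obtain ⟨tw, htw⟩ := key
  refine ⟨tw, fun a v => ?_⟩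
  rcases r4_cases a with rfl | rfl | rfl | rfl
  · rw [zero_smul, map_zero, zero_smul, D.sg_zero hh]
  · rw [one_smul, map_one, one_smul]
  · exact htw v
  · rw [add_smul, one_smul, D.sg_add hh, show D.sg h (elE 1 • v) = _ from htw v, map_add, map_one, add_smul,
      one_smul]
    rfl

theorem Coord.sg_A {h : G} (hh : Commute h z) {v : V6} (hv : v ∈ D.A) : D.sg h v ∈ D.A := by
  obtain ⟨hL, hLc⟩ := D.lift_spec v
  have := D.keep_A (h := h) hh ((D.pt_iff hL).2 (Or.inl (by rwa [hLc]))) (by rwa [hLc])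
  exact this

theorem herm_scalar (a : R4) (x : V6) : hermForm 6 R4 2 (a • x) (a • x) = a ^ 3 * hermForm 6 R4 2 x x := by
  simp only [hermForm, Pi.smul_apply, smul_eq_mul, Finset.mul_sum]
  exact Finset.sum_congr rfl fun i _ => by ring

include D in
/-- An element moving one element and fixing another. -/
theorem Coord.exists_sep {e p : G} (he : e ∈ Q) (he1 : e ≠ 1) (hez : e ≠ z) (hp : p ∈ Q)
    (hne : e ≠ p) (hne' : e ≠ z * p) : ∃ y ∈ Q, y * e * y⁻¹ = z * e ∧ Commute y p := by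
  obtain ⟨y₁, hy₁, h₁⟩ := D.ctx.exists_move he he1 hez
  rcases D.ctx.comm y₁ hy₁ p hp with c₁ | c₁
  · exact ⟨y₁, hy₁, h₁, mul_inv_eq_iff_eq_mul.1 (mul_inv_eq_one.1 c₁)⟩
  have hp2 : p * p = 1 ∨ p * p = z := D.ctx.sq p hp
  have hpe : p * e ≠ 1 ∧ p * e ≠ z := by
    refine ⟨fun h => ?_, fun h => ?_⟩
    · rcases hp2 with q | q
      · exact hne (mul_left_cancel (h.trans q.symm))
      · refine hne' (mul_left_cancel (h.trans ?_))
        rw [← mul_assoc, ← (D.ctx.central p hp).eq, mul_assoc, q, D.ctx.sq_z]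
    · rcases hp2 with q | q
      · refine hne' (mul_left_cancel (h.trans ?_))
        rw [← mul_assoc, ← (D.ctx.central p hp).eq, mul_assoc, q, mul_one]
      · exact hne (mul_left_cancel (h.trans q.symm))
  obtain ⟨y₂, hy₂, h₂⟩ := D.ctx.exists_move (mul_mem hp he) hpe.1 hpe.2
  have h₂' : y₂ * p * y₂⁻¹ * (y₂ * e * y₂⁻¹) = z * (p * e) := by rw [← h₂]; group
  rcases D.ctx.comm y₂ hy₂ p hp with c₂ | c₂
  · refine ⟨y₂, hy₂, ?_, mul_inv_eq_iff_eq_mul.1 (mul_inv_eq_one.1 c₂)⟩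
    rw [mul_inv_eq_one.1 c₂, ← mul_assoc z, (D.ctx.central p hp).eq, mul_assoc p z] at h₂'
    exact mul_left_cancel h₂'
  · have c₂' : y₂ * p * y₂⁻¹ = z * p := mul_inv_eq_iff_eq_mul.1 c₂
    have c₁' : y₁ * p * y₁⁻¹ = z * p := mul_inv_eq_iff_eq_mul.1 c₁
    rw [c₂', mul_assoc] at h₂'
    have hfix : y₂ * e * y₂⁻¹ = e := mul_left_cancel (mul_left_cancel h₂')
    refine ⟨y₁ * y₂, mul_mem hy₁ hy₂, ?_, mul_inv_eq_iff_eq_mul.1 ?_⟩
    · rw [show y₁ * y₂ * e * (y₁ * y₂)⁻¹ = y₁ * (y₂ * e * y₂⁻¹) * y₁⁻¹ by group, hfix, h₁]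
    · rw [show y₁ * y₂ * p * (y₁ * y₂)⁻¹ = y₁ * (y₂ * p * y₂⁻¹) * y₁⁻¹ by group, c₂',
        show y₁ * (z * p) * y₁⁻¹ = y₁ * z * y₁⁻¹ * (y₁ * p * y₁⁻¹) by group, c₁',
        ← (D.ctx.central y₁ hy₁).eq, mul_inv_cancel_right, ← mul_assoc, D.ctx.sq_z, one_mul]

/-- The outer elements act with the field automorphism. -/
theorem Coord.outer_twist {g s : G} (hg : g * z * g⁻¹ = s) (hs : s ∈ Q) (hne : s ≠ z) {h : G}
    (hh : Commute h z) (hM : h ∉ D.M) (a : R4) (v : V6) : D.sg h (a • v) = tau true a • D.sg h v := by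
  obtain ⟨tw, htw⟩ := D.exists_twist hh
  cases tw with
  | true => exact htw a v
  | false =>
  exfalso
  have hlin : ∀ k : G, Commute k z → ∀ (a : R4) (w : V6), D.sg k (a • w) = a • D.sg k w := by
    intro k hk a w
    by_cases hkM : k ∈ D.M
    · rw [D.sg_M ⟨k, hkM⟩, D.sg_M ⟨k, hkM⟩, g6_scalar]
    · have hm : k * h ∈ D.M := D.mul_mem_M hk hh hkM hM
      have e : ∀ x, D.sg k (D.sg h x) = D.π ⟨k * h, hm⟩ • x := fun x => by
        rw [← D.sg_mul hk hh, ← D.sg_M]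
      have e2 := e (a • D.sg h⁻¹ w)
      rw [htw, D.sg_inv hh, g6_scalar, ← e, D.sg_inv hh] at e2
      exact e2
  have hp := D.pt_of_conj hg hs hne
  set v := D.cl s with hv
  obtain ⟨hv0, hvs⟩ := D.orb.sing v ((D.pt_iff hs).1 hp)
  obtain ⟨n, hn⟩ := D.exists_pre (Zc_mem D.c)
  set s' := (n : G) * s * (n : G)⁻¹ with hs'
  have hs'Q : s' ∈ Q := conj_mem D.ctx (D.m_comm n) hs
  have hs'c : D.cl s' = om • v := by rw [hs', D.π_cl n s hs, hn, Zc_smul]
  have hs'p : D.Pt s' := D.pt_conj (D.m_comm n) hp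
  have hss : Commute s' s := by
    have h2 : s' * s * (s' * s) = 1 := by
      refine (D.cl_sq _ (mul_mem hs'Q hs)).2 ?_
      rw [D.cl_mul _ hs'Q _ hs, hs'c, ← hv, show om • v + v = (om + 1) • v by rw [add_smul, one_smul],
        herm_scalar, hvs, mul_zero]
    calc s' * s = (s' * s) * (s' * s) * (s' * s)⁻¹ := by group
      _ = (s' * s)⁻¹ := by rw [h2, one_mul]
      _ = s * s' := by rw [_root_.mul_inv_rev, inv_eq_of_mul_eq_one_left hp.2.1, inv_eq_of_mul_eq_one_left hs'p.2.1]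
  set p := g⁻¹ * z * g with hpdef
  have hgp : g * p * g⁻¹ = z := by rw [hpdef]; group
  have hpQ : p ∈ Q := by
    obtain ⟨a, ha, e⟩ := D.ctx.mem_symm (g := g) (by rw [hg]; exact hs)
    have e' : g * a * g⁻¹ = z := e
    have e2 : p = a := by rw [hpdef, ← e']; group
    exact e2 ▸ ha
  have hpne : p ≠ z := fun e => hne (by rw [← hg, ← e, hgp, e])
  have hpg : g⁻¹ * z * g⁻¹⁻¹ = p := by rw [inv_inv]
  have hpp := D.pt_of_conj hpg hpQ hpne
  set e := g⁻¹ * s' * g with hedef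
  have hge : g * e * g⁻¹ = s' := by rw [hedef]; group
  have hez : Commute e z := (Commute.conj_iff g).1 (by rw [hge, hg]; exact hss)
  have hep : Commute e p := (Commute.conj_iff g).1 (by rw [hge, hgp]; exact (D.ctx.central s' hs'Q).symm)
  have hcomm : ∀ k ∈ Sb D.c (D.cl p), ∀ x, D.sg e (k • x) = k • D.sg e x := by
    obtain ⟨f, hf, -, hfπ⟩ := D.exists_stab_hom hpp
    intro k hk x
    obtain ⟨⟨m, hmM, hmp⟩, hfm⟩ := hf ⟨k, hk⟩
    have hπ : D.π ⟨m, hmM⟩ = k := by rw [← hfπ ⟨m, hmM, hmp⟩ ⟨m, hmM⟩ rfl, hfm]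
    have hmz : Commute m z := D.m_comm ⟨m, hmM⟩
    have hxz : Commute (g * m * g⁻¹) z := by
      rw [← hgp]; exact (Commute.conj_iff g).2 (commute_of_mem_cent hmp)
    have hxs : Commute (g * m * g⁻¹) s := by rw [← hg]; exact (Commute.conj_iff g).2 hmz
    have hfixv : D.sg (g * m * g⁻¹) v = v := by
      rw [hv, ← D.cl_conj hxz hs, hxs.eq, mul_inv_cancel_right]
    have hfix : D.cl s' = D.cl (g * m * g⁻¹ * s' * (g * m * g⁻¹)⁻¹) := by
      rw [D.cl_conj hxz hs'Q, hs'c, hlin _ hxz, hfixv]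
    have hsame : ∀ y, D.sg (m * e * m⁻¹) y = D.sg e y := by
      intro y
      have e1 : g * (m * e * m⁻¹) * g⁻¹ = g * m * g⁻¹ * s' * (g * m * g⁻¹)⁻¹ := by rw [← hge]; group
      rcases (D.cl_eq s' hs'Q _ (conj_mem D.ctx hxz hs'Q)).1 hfix with h1 | h1
      · rw [show m * e * m⁻¹ = e from mul_left_cancel (mul_right_cancel (e1.trans (h1.trans hge.symm)))]
      · rw [show m * e * m⁻¹ = p * e from mul_left_cancel (mul_right_cancel (e1.trans (h1.trans (by
            rw [← hgp, ← hge]; group)))), D.sg_mul (D.m_comm ⟨p, D.Q_le hpQ⟩) hez, D.sg_Q hpQ]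
    have h1 : ∀ y, D.sg m (D.sg e y) = D.sg e (D.sg m y) := fun y => by
      rw [← hsame (D.sg m y), ← D.sg_mul ((hmz.mul_left hez).mul_left hmz.inv_left) hmz, inv_mul_cancel_right,
        D.sg_mul hmz hez]
    have h2 := h1 x
    rwa [D.sg_M ⟨m, hmM⟩, hπ, D.sg_M ⟨m, hmM⟩, hπ, eq_comm] at h2
  have hB := D.conj_in_B hpg hpQ hpne
  rw [D.B_eq] at hB
  obtain ⟨-, hbase, -⟩ := stabBig_ok D.c D.c_lt
  obtain ⟨k, hk, hkv⟩ := (orbit_facts D.c_lt).2.2.2.2.2.2.2.2.1 _ hB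
  have hid := (rigid_moved D.c_lt (stabBig_ok D.c D.c_lt).1 (rigBig_ok D.c D.c_lt) hk (D.sg e) (D.sg_add hez)
    (fun a x => by rw [hlin e hez, tau_apply, cond_false])
    (by rw [hbase, hkv, ← D.cl_conj hez hpQ, hep.eq, mul_inv_cancel_right])
    (by rw [← D.A_eq]; exact fun x hx => D.sg_A hez hx) (by rw [hbase, hkv]; exact hcomm)).2
  have heQ : e ∈ Q := D.mem_of_sg hez hid
  have he1 : e ≠ 1 := fun h' => hs'p.2.2.1 (by rw [← hge, h', mul_one, mul_inv_cancel])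
  have hne' : om • v ≠ v := fun h' => hv0 (by
    have h2 : (om + 1) • v = 0 := by rw [add_smul, one_smul, h', v6_add_self]
    exact (smul_eq_zero.1 h2).resolve_left tau_om.2.2.1)
  have hez' : e ≠ z := fun h' => hne' (by rw [← hs'c, ← hge, h', hg])
  have hepz : e ≠ p := fun h' => hs'p.2.2.2 (by rw [← hge, h', hgp])
  have hezp : e ≠ z * p := fun h' => hne' (by
    rw [← hs'c, ← hge, h', show g * (z * p) * g⁻¹ = g * z * g⁻¹ * (g * p * g⁻¹) by group, hg, hgp,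
      ← (D.ctx.central s hs).eq, D.cl_z_mul hs])
  obtain ⟨y, hy, hye, hyp⟩ := D.exists_sep heQ he1 hez' hpQ hepz hezp
  have hxz : Commute (g * y * g⁻¹) z := by rw [← hgp]; exact (Commute.conj_iff g).2 hyp
  have hxs : Commute (g * y * g⁻¹) s := by rw [← hg]; exact (Commute.conj_iff g).2 (D.ctx.central y hy).symm
  have h1 := D.cl_conj hxz hs'Q
  rw [show g * y * g⁻¹ * s' * (g * y * g⁻¹)⁻¹ = g * (y * e * y⁻¹) * g⁻¹ by rw [← hge]; group, hye,
    show g * (z * e) * g⁻¹ = g * z * g⁻¹ * (g * e * g⁻¹) by group, hg, hge, D.cl_mul _ hs _ hs'Q, hs'c,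
    hlin _ hxz, ← hv] at h1
  have hfixv : D.sg (g * y * g⁻¹) v = v := by rw [hv, ← D.cl_conj hxz hs, hxs.eq, mul_inv_cancel_right]
  rw [hfixv] at h1
  exact hv0 (add_right_cancel (h1.trans (zero_add _).symm))

end Cfsg.Lib.FischerLarge
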