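import Cfsg.Agent.Lib.FischerLarge.Vec

/-!
# Soundness of the certificates of a stabiliser
-/

set_option autoImplicit false

namespace Cfsg.Lib.FischerLarge

open Cfsg Matrix Cfsg.Lib.SUSixU43 Cfsg.Lib.PermAut Equiv
open scoped Pointwise

theorem ops_sound {mats : List ℕ} {H : Subgroup G6} :
    ∀ (l : List (ℕ × ℕ × ℕ)) (t : ℕ), opsB mats l t = true → (∀ j < t, ∃ g ∈ H, mm g = mat (mats.getD j 0)) →
      ∀ j < t + l.length, ∃ g ∈ H, mm g = mat (mats.getD j 0)
  | [], t, _, h0, j, hj => h0 j (by simpa using hj)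
  | (o, a, b) :: l, t, h, h0, j, hj => by
    simp only [opsB, Bool.and_eq_true, Nat.blt, Nat.ble_eq] at h
    refine ops_sound l (t + 1) h.2 (fun u hu => ?_) j (by simp only [List.length_cons] at hj; omega)
    rcases Nat.lt_succ_iff_lt_or_eq.1 hu with hu | rfl
    · exact h0 u hu
    · obtain ⟨g, hg, hge⟩ := h0 a h.1.1.1
      obtain ⟨k, hk, hke⟩ := h0 b h.1.1.2
      cases ho : Nat.beq o 0
      · have e := h.1.2
        rw [ho, cond_false, sameM_iff] at e
        exact ⟨g⁻¹, inv_mem hg, by rw [e, mm_inv_of hge]⟩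
      · have e := h.1.2
        rw [ho, cond_true, sameM_iff] at e
        exact ⟨g * k, mul_mem hg hk, by rw [map_mul, hge, hke, e, mat_mulM]⟩

/-- The elements fixing the vectors of a list of codes. -/
noncomputable def fixAll : List ℕ → Subgroup G6
  | [] => ⊤
  | u :: l => MulAction.stabilizer G6 (vec u) ⊓ fixAll l

theorem mem_fixAll : ∀ {l : List ℕ} {g : G6}, g ∈ fixAll l ↔ ∀ u ∈ l, g • vec u = vec u
  | [], g => by simp [fixAll]
  | u :: l, g => by
    simp only [fixAll, Subgroup.mem_inf, MulAction.mem_stabilizer_iff, mem_fixAll (l := l), List.forall_mem_cons]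

theorem levs_card {mats : List ℕ} {H : Subgroup G6}
    (hH : ∀ j < mats.length, ∃ g ∈ H, mm g = mat (mats.getD j 0)) :
    ∀ (levs : List LevT) (above : List ℕ), levsB mats above levs = true →
      (levs.map fun L => L.orb.len).prod ≤ Nat.card ↥(H ⊓ fixAll above)
  | [], above, _ => by
    haveI := finite_G6
    simp only [List.map_nil, List.prod_nil]
    exact Nat.card_pos
  | L :: l, above, h => by
    haveI := finite_G6
    simp only [levsB, Bool.and_eq_true, Nat.beq_eq, List.all_eq_true, Nat.blt, Nat.ble_eq] at h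
    obtain ⟨⟨⟨⟨⟨hpt, h0⟩, hd⟩, hgens⟩, htree⟩, hrest⟩ := h
    have hT : ∀ j < L.orb.len, ∃ t ∈ H ⊓ fixAll above, t • vec L.pt = vec (L.orb.get j) := by
      refine tree_root (P := fun v => ∃ t ∈ H ⊓ fixAll above, t • vec L.pt = vec v) htree
        (fun k hk x hx => ?_) ⟨1, one_mem _, by rw [one_smul, h0]⟩
      obtain ⟨t, ht, htx⟩ := hx
      obtain ⟨hlt, hfix⟩ := hgens _ (getD_mem 0 hk)
      obtain ⟨g, hg, hge⟩ := hH _ hlt
      refine ⟨g * t, mul_mem ⟨hg, mem_fixAll.2 fun u hu => ?_⟩ ht, ?_⟩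
      · rw [← vec_appM_smul hge, hfix u hu]
      · rw [mul_smul, htx, vec_appM_smul hge]
    choose t ht htv using hT
    rw [List.map_cons, List.prod_cons]
    refine le_trans (Nat.mul_le_mul_left _ (levs_card hH l (L.pt :: above) hrest)) ?_
    rw [show L.orb.len * Nat.card ↥(H ⊓ fixAll (L.pt :: above)) =
      Nat.card (Fin L.orb.len × ↥(H ⊓ fixAll (L.pt :: above))) by rw [Nat.card_prod, Nat.card_fin]]
    refine Nat.card_le_card_of_injective
      (fun p => (⟨t p.1 p.1.isLt * (p.2 : G6), mul_mem (ht _ p.1.isLt) ⟨p.2.2.1, p.2.2.2.2⟩⟩ : ↥(H ⊓ fixAll above))) ?_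
    rintro ⟨i, s⟩ ⟨j, r⟩ e
    have e' : t i i.isLt * (s : G6) = t j j.isLt * (r : G6) := congrArg Subtype.val e
    have hij : vec (L.orb.get i) = vec (L.orb.get j) := by
      have := congrArg (fun g : G6 => g • vec L.pt) e'
      simp only [mul_smul] at this
      rwa [MulAction.mem_stabilizer_iff.1 s.2.2.1, MulAction.mem_stabilizer_iff.1 r.2.2.1, htv, htv] at this
    have hget := vec_inj (get_lt hd i.isLt) (get_lt hd j.isLt) hij
    simp only [distB, allBelowB_iff, Bool.and_eq_true, Nat.beq_eq] at hd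
    have : i = j := Fin.ext (by rw [← (hd i i.isLt).2, hget, (hd j j.isLt).2])
    subst this
    exact Prod.ext rfl (Subtype.ext (mul_left_cancel e'))

theorem testBit_maskL : ∀ (l : List ℕ) (a : ℕ), Nat.testBit (maskL l) a = true ↔ a ∈ l
  | [], a => by simp [maskL]
  | b :: l, a => by
    have hl : maskL (b :: l) = 2 ^ b ||| maskL l := rfl
    rw [hl, Nat.testBit_or, Bool.or_eq_true, Nat.testBit_two_pow, decide_eq_true_iff, testBit_maskL l a,
      List.mem_cons]
    exact or_congr_left eq_comm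

theorem mem_iff_of_maskL {l l' : List ℕ} (h : maskL l = maskL l') (a : ℕ) : a ∈ l ↔ a ∈ l' := by
  rw [← testBit_maskL, h, testBit_maskL]

/-- A member of the family as a set of vectors. -/
def fset (S : StabT) (i : Fin S.fam.length) : Set V6 := {x | ∃ v ∈ S.fget i, vec v = x}

/-- The two elements of a certificate. -/
noncomputable def word2 (c : ℕ) (S : StabT) (k : ℕ) : G6 := ((S.words.getD k []).map (lett c)).prod

/-- The group of the certificate. -/
noncomputable def stab0 (c : ℕ) (S : StabT) : Subgroup G6 := Subgroup.closure {word2 c S 0, word2 c S 1}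

/-- The facts of a certificate. -/
theorem stab_spec {c : ℕ} (hc : c < 3) {S : StabT} (h : stabB c S = true) :
    stab0 c S ≤ KM c ⊓ MulAction.stabilizer G6 (vec S.base) ∧ S.size ≤ Nat.card ↥(stab0 c S) ∧
      Function.Injective (fset S) ∧
      (∀ k < 2, ∀ i : Fin S.fam.length, ∃ hlt : S.pget k i < S.fam.length,
        word2 c S k • fset S i = fset S ⟨S.pget k i, hlt⟩) := by
  classical
  haveI := finite_G6
  simp only [stabB, Bool.and_eq_true, allBelowB_iff, List.all_eq_true, Nat.beq_eq, sameM_iff, Nat.blt,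
    Nat.ble_eq, Bool.not_eq_true'] at h
  obtain ⟨⟨⟨⟨⟨⟨⟨⟨⟨⟨hbase, hw⟩, hlen⟩, hletters⟩, hk⟩, hops⟩, hlevs⟩, hsize⟩, hfam⟩, hperm⟩, hdist⟩ := h
  have hword : ∀ k < 2, word2 c S k ∈ KM c ∧ mm (word2 c S k) = mat (S.mats.getD k 0) := fun k hk2 => by
    obtain ⟨h1, h2⟩ := word_spec hc (S.words.getD k []) fun j hj =>
      hletters _ (getD_mem [] (by omega)) j hj
    exact ⟨h1, h2.trans (hk k hk2).1.symm⟩
  have hgen : ∀ k < 2, word2 c S k ∈ stab0 c S := fun k hk2 => by
    interval_cases k <;> exact Subgroup.subset_closure (by simp)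
  have hall : ∀ j < S.mats.length, ∃ g ∈ stab0 c S, mm g = mat (S.mats.getD j 0) := fun j hj =>
    ops_sound S.ops 2 hops (fun k hk2 => ⟨_, hgen k hk2, (hword k hk2).2⟩) j (by omega)
  refine ⟨?_, ?_, ?_, fun k hk2 i => ?_⟩
  · refine (Subgroup.closure_le _).2 ?_
    rintro x (rfl | rfl)
    exacts [⟨(hword 0 (by norm_num)).1, by
        show _ = _
        rw [← vec_appM_smul (hword 0 (by norm_num)).2, (hk 0 (by norm_num)).2]⟩,
      ⟨(hword 1 (by norm_num)).1, by
        show _ = _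
        rw [← vec_appM_smul (hword 1 (by norm_num)).2, (hk 1 (by norm_num)).2]⟩]
  · have := levs_card hall S.levs [] hlevs
    rwa [hsize, fixAll, inf_top_eq] at this
  · intro i j e
    have key : ∀ (a b : Fin S.fam.length), fset S a = fset S b → ∀ v ∈ S.fget a, v ∈ S.fget b := by
      intro a b e v hv
      obtain ⟨u, hu, huv⟩ := (e ▸ ⟨v, hv, rfl⟩ : vec v ∈ fset S b)
      rwa [← vec_inj (hfam b b.isLt u hu) (hfam a a.isLt v hv) huv]
    by_contra hne
    have hm : maskL (S.fget i) = maskL (S.fget j) := Nat.eq_of_testBit_eq fun a => by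
      rw [Bool.eq_iff_iff, testBit_maskL, testBit_maskL]
      exact ⟨key i j e a, key j i e.symm a⟩
    rcases Nat.lt_or_gt_of_ne (fun q => hne (Fin.ext q)) with hlt | hlt
    · have := hdist j j.isLt i hlt
      rw [hm, Nat.beq_refl] at this
      exact Bool.noConfusion this
    · have := hdist i i.isLt j hlt
      rw [hm, Nat.beq_refl] at this
      exact Bool.noConfusion this
  · obtain ⟨hlt, hmask⟩ := hperm k hk2 i i.isLt
    refine ⟨hlt, Set.ext fun x => ?_⟩
    constructor
    · rintro ⟨_, ⟨v, hv, rfl⟩, rfl⟩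
      exact ⟨_, (mem_iff_of_maskL hmask _).1 (List.mem_map.2 ⟨v, hv, rfl⟩), vec_appM_smul (hword k hk2).2 v⟩
    · rintro ⟨u, hu, rfl⟩
      obtain ⟨v, hv, rfl⟩ := List.mem_map.1 ((mem_iff_of_maskL hmask _).2 hu)
      exact ⟨_, ⟨v, hv, rfl⟩, (vec_appM_smul (hword k hk2).2 v).symm⟩

theorem exists_action_hom {G X ι : Type} [Group G] [MulAction G X] {P : ι → X} (hP : Function.Injective P)
    {T : Set G} {gp : G → Perm ι} (h : ∀ g ∈ T, ∀ i, g • P i = P (gp g i)) :
    ∃ φ : ↥(Subgroup.closure T) →* Perm ι, (∀ (g : ↥(Subgroup.closure T)) i, (g : G) • P i = P (φ g i)) ∧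
      φ.range = Subgroup.closure (gp '' T) := by
  have ex : ∀ g ∈ Subgroup.closure T, ∃ p, (g, p) ∈ movesOf P ∧ p ∈ Subgroup.closure (gp '' T) := by
    intro g hg
    induction hg using Subgroup.closure_induction with
    | mem x hx => exact ⟨gp x, h x hx, Subgroup.subset_closure ⟨x, hx, rfl⟩⟩
    | one => exact ⟨1, movesOf_one P, one_mem _⟩
    | mul x y _ _ hx hy =>
      obtain ⟨p, hp, hp'⟩ := hx
      obtain ⟨q, hq, hq'⟩ := hy
      exact ⟨p * q, movesOf_mul hp hq, mul_mem hp' hq'⟩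
    | inv x _ hx =>
      obtain ⟨p, hp, hp'⟩ := hx
      exact ⟨p⁻¹, movesOf_inv hp, inv_mem hp'⟩
  have uniq : ∀ {g : G} {p q : Perm ι}, (g, p) ∈ movesOf P → (g, q) ∈ movesOf P → p = q := fun hp hq =>
    Equiv.ext fun i => hP ((movesOf_apply hp i).symm.trans (movesOf_apply hq i))
  refine ⟨MonoidHom.mk' (fun g => (ex g g.2).choose) fun g k =>
    uniq (ex (g * k).1 (g * k).2).choose_spec.1 (movesOf_mul (ex g g.2).choose_spec.1 (ex k k.2).choose_spec.1),
    fun g i => movesOf_apply (ex g g.2).choose_spec.1 i, le_antisymm ?_ ((Subgroup.closure_le _).2 ?_)⟩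
  · rintro _ ⟨g, rfl⟩
    exact (ex g g.2).choose_spec.2
  · rintro _ ⟨x, hx, rfl⟩
    exact ⟨⟨x, Subgroup.subset_closure hx⟩,
      uniq (ex x (Subgroup.subset_closure hx)).choose_spec.1 (movesOf_mk (h x hx))⟩

open scoped Classical in
/-- The permutation of the family by a generator, as a map, the identity where the table is not one. -/
noncomputable def permMap (c : ℕ) (S : StabT) (g : G6) : Perm (Fin S.fam.length) :=
  if h : ∃ p : Perm (Fin S.fam.length), ∀ i, g • fset S i = fset S (p i) then h.choose else 1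

theorem exists_fam_hom {c : ℕ} (hc : c < 3) {S : StabT} (h : stabB c S = true) :
    ∃ φ : ↥(stab0 c S) →* Perm (Fin S.fam.length),
      (∀ (g : ↥(stab0 c S)) i, (g : G6) • fset S i = fset S (φ g i)) ∧
      (∀ k < 2, ∃ p ∈ φ.range, ∀ i : Fin S.fam.length, (p i : ℕ) = S.pget k i) ∧
      φ.range ≤ Subgroup.closure {p | ∃ k < 2, ∀ i : Fin S.fam.length, (p i : ℕ) = S.pget k i} := by
  classical
  obtain ⟨-, -, hinj, hmove⟩ := stab_spec hc h
  have hp : ∀ k < 2, ∃ p : Perm (Fin S.fam.length), (∀ i, word2 c S k • fset S i = fset S (p i)) ∧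
      ∀ i, (p i : ℕ) = S.pget k i := by
    intro k hk
    choose hlt he using hmove k hk
    let f : Fin S.fam.length → Fin S.fam.length := fun i => ⟨S.pget k i, hlt i⟩
    have hf : Function.Injective f := fun a b e => hinj (smul_left_cancel (word2 c S k)
      ((he a).trans ((congrArg (fset S) e).trans (he b).symm)))
    exact ⟨Equiv.ofBijective f (Finite.injective_iff_bijective.1 hf), he, fun i => rfl⟩
  have hT : ∀ g ∈ ({word2 c S 0, word2 c S 1} : Set G6), ∀ i, g • fset S i = fset S (permMap c S g i) := by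
    intro g hg
    have hex : ∃ p : Perm (Fin S.fam.length), ∀ i, g • fset S i = fset S (p i) := by
      rcases hg with rfl | rfl
      · exact ⟨_, (hp 0 (by norm_num)).choose_spec.1⟩
      · exact ⟨_, (hp 1 (by norm_num)).choose_spec.1⟩
    rw [permMap, dif_pos hex]
    exact hex.choose_spec
  obtain ⟨φ, hφ, hr⟩ := exists_action_hom hinj hT
  refine ⟨φ, hφ, fun k hk => ?_, ?_⟩
  obtain ⟨p, hp1, hp2⟩ := hp k hk
  have hg : word2 c S k ∈ stab0 c S := by interval_cases k <;> exact Subgroup.subset_closure (by simp)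
  exact ⟨φ ⟨_, hg⟩, ⟨_, rfl⟩, fun i => by rw [← hp2 i, hinj ((hφ ⟨_, hg⟩ i).symm.trans (hp1 i))]⟩
  refine hr.le.trans ((Subgroup.closure_le _).2 ?_)
  rintro _ ⟨g, hg, rfl⟩
  obtain ⟨k, hk, rfl⟩ : ∃ k < 2, g = word2 c S k := by
    rcases hg with rfl | rfl
    exacts [⟨0, by norm_num, rfl⟩, ⟨1, by norm_num, rfl⟩]
  obtain ⟨p, hp1, hp2⟩ := hp k hk
  exact Subgroup.subset_closure ⟨k, hk, fun i => by rw [← hp2 i, hinj ((hT _ hg i).symm.trans (hp1 i))]⟩

end Cfsg.Lib.FischerLarge
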