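import Cfsg.Agent.Lib.FischerLarge.Data0
import Cfsg.Agent.Lib.FischerLarge.Data1
import Cfsg.Agent.Lib.FischerLarge.Data2

/-! The certificates pass. -/

set_option autoImplicit false
set_option maxRecDepth 200000
set_option maxHeartbeats 2000000

namespace Cfsg.Lib.FischerLarge

open Cfsg.Lib.SUSixU43 Cfsg.Lib.PermAut

/-- The orbit of a model of length 378. -/
def orbA (c : ℕ) : OrbT := [orbA0, orbA1, orbA2].getD c orbA0

/-- The orbit of a model of length 1701. -/
def orbBig (c : ℕ) : OrbT := [orbB0, orbB1, orbB2].getD c orbB0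

/-- A stabiliser in the first orbit. -/
def stabA (c : ℕ) : StabT := [stabA0, stabA1, stabA2].getD c stabA0

/-- A stabiliser in the second orbit. -/
def stabBig (c : ℕ) : StabT := [stabB0, stabB1, stabB2].getD c stabB0

theorem orb_ok0' : orbB 0 (orbA 0) (orbBig 0) 5 85 = true := by decide +kernel

theorem orb_ok1' : orbB 1 (orbA 1) (orbBig 1) 5 85 = true := by decide +kernel

theorem orb_ok2' : orbB 2 (orbA 2) (orbBig 2) 5 85 = true := by decide +kernel

theorem orb_ok : ∀ c < 3, orbB c (orbA c) (orbBig c) 5 85 = true := by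
  intro c hc
  interval_cases c
  exacts [orb_ok0', orb_ok1', orb_ok2']

theorem stabA_ok0' : stabB 0 (stabA 0) = true ∧ (stabA 0).base = 5 ∧ (stabA 0).size = 25920 := by decide +kernel

theorem stabA_ok1' : stabB 1 (stabA 1) = true ∧ (stabA 1).base = 5 ∧ (stabA 1).size = 25920 := by decide +kernel

theorem stabA_ok2' : stabB 2 (stabA 2) = true ∧ (stabA 2).base = 5 ∧ (stabA 2).size = 25920 := by decide +kernel

theorem stabA_ok : ∀ c < 3, stabB c (stabA c) = true ∧ (stabA c).base = 5 ∧ (stabA c).size = 25920 := by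
  intro c hc
  interval_cases c
  exacts [stabA_ok0', stabA_ok1', stabA_ok2']

theorem stabBig_ok0' : stabB 0 (stabBig 0) = true ∧ (stabBig 0).base = 85 ∧ (stabBig 0).size = 5760 := by decide +kernel

theorem stabBig_ok1' : stabB 1 (stabBig 1) = true ∧ (stabBig 1).base = 85 ∧ (stabBig 1).size = 5760 := by decide +kernel

theorem stabBig_ok2' : stabB 2 (stabBig 2) = true ∧ (stabBig 2).base = 85 ∧ (stabBig 2).size = 5760 := by decide +kernel

theorem stabBig_ok : ∀ c < 3, stabB c (stabBig c) = true ∧ (stabBig c).base = 85 ∧ (stabBig c).size = 5760 := by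
  intro c hc
  interval_cases c
  exacts [stabBig_ok0', stabBig_ok1', stabBig_ok2']

end Cfsg.Lib.FischerLarge
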