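import Cfsg.Agent.Lib.FischerLarge.CheckSylow

/-! The fixed space is its own perpendicular and has a basis of six vectors over the prime field. -/

set_option autoImplicit false
set_option maxRecDepth 200000
set_option maxHeartbeats 2000000

namespace Cfsg.Lib.FischerLarge

open Cfsg.Lib.SUSixU43 Cfsg.Lib.PermAut

/-- The sum of packed vectors. -/
def addC (u v : ℕ) : ℕ := pack 6 fun i => adC (vdig u i) (vdig v i)

/-- The sums of the sublists. -/
def spanL : List ℕ → List ℕ
  | [] => [0]
  | b :: l => spanL l ++ (spanL l).map (addC b)

/-- The basis. -/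
def lagBasis (c : ℕ) : List ℕ :=
  [[17, 34, 68, 136, 1280, 2560], [5, 10, 80, 160, 1280, 2560], [85, 170, 295, 569, 1051, 2093]].getD c []

/-- The test. -/
noncomputable def lagB (c : ℕ) : Bool :=
  Nat.beq (lagBasis c).length 6 && ((syl c).fix.all fun v => (spanL (lagBasis c)).contains v) &&
    ((lagBasis c).all fun v => (syl c).fix.contains v) &&
    (allBelowB 4096 fun v => (bif (syl c).fix.all fun u => Nat.beq (hermC v u) 0 then (syl c).fix.contains v else true)) &&
    allBelowB (syl c).four.length fun i => allBelowB i fun j => !Nat.beq ((syl c).four.getD i 0) ((syl c).four.getD j 0)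

theorem lag_ok0' : lagB 0 = true := by decide +kernel

theorem lag_ok1' : lagB 1 = true := by decide +kernel

theorem lag_ok2' : lagB 2 = true := by decide +kernel

theorem lag_ok : ∀ c < 3, lagB c = true := by
  intro c hc
  interval_cases c
  exacts [lag_ok0', lag_ok1', lag_ok2']

end Cfsg.Lib.FischerLarge
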