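import Cfsg.Agent.Lib.FischerLarge.CheckSylow
import Cfsg.Agent.Lib.FischerLarge.CheckRigid
import Cfsg.Agent.Lib.FischerLarge.CheckLagrangian

/-! Certificates for the line of an isotropic vector of the second orbit. -/

set_option autoImplicit false
set_option maxRecDepth 200000
set_option maxHeartbeats 2000000

namespace Cfsg.Lib.FischerLarge

open Cfsg.Lib.SUSixU43 Cfsg.Lib.PermAut

/-- The multiples of the base vector. -/
def line85 : List ℕ := [0, 85, 170, 255]

/-- Equality of truth values. -/
def eqB (a b : Bool) : Bool := bif a then b else !b

/-- The vectors whose lifts commute with those of the multiples of the base vector. -/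
def perpB (w : ℕ) : Bool := eqB (singB (addC w 85)) (singB w) && eqB (singB (addC w 170)) (singB w)

/-- Elements of the Sylow subgroup acting trivially on the perpendicular modulo the line. -/
def eightList (c : ℕ) : List ℕ :=
  [[0, 4, 12, 42, 43, 46, 49, 51, 57, 60, 63, 70, 119, 121, 125, 127],
    [0, 32, 33, 39, 40, 48, 51, 53, 54, 56, 58, 59, 60, 65, 66, 69],
    [0, 4, 8, 12, 40, 44, 49, 58, 66, 67, 71, 73, 118, 121, 126, 127]].getD c []

/-- A basis of the perpendicular over the field with two elements. -/
def perpBasis : List ℕ := [5, 10, 17, 34, 65, 130, 256, 512, 1024, 2048]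

/-- The perpendicular is spanned by the basis. -/
noncomputable def perpSpanB : Bool :=
  fN (maskL (spanL perpBasis)) fun L => allBelowB 4096 fun w => bif perpB w then Nat.testBit L w else true

/-- The test of these elements. -/
noncomputable def eightB (c : ℕ) : Bool :=
  Nat.beq (eightList c).length 16 &&
    (allBelowB 16 fun i => allBelowB i fun j => !Nat.beq ((eightList c).getD i 0) ((eightList c).getD j 0)) &&
    ((eightList c).all fun t => Nat.blt t 128 && Nat.beq (appM ((syl c).el t) 85) 85) &&
    perpBasis.all fun w => (eightList c).all fun t =>
      fN (appM ((syl c).el t) w) fun u => line85.contains (addC u w)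

/-- A vector moved only along the base vector by the stabiliser is a multiple of it. -/
noncomputable def lineB (c : ℕ) : Bool :=
  allBelowB 4096 fun v => bif ((List.range 2).all fun k =>
      fN (appM ((stabBig c).mats.getD k 0) v) fun u => Nat.beq u v || Nat.beq u (addC v 85)) then
    line85.contains v else true

theorem eight_ok0' : eightB 0 = true := by decide +kernel

theorem eight_ok1' : eightB 1 = true := by decide +kernel

theorem eight_ok2' : eightB 2 = true := by decide +kernel

theorem eight_ok : ∀ c < 3, eightB c = true := by
  intro c hc
  interval_cases c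
  exacts [eight_ok0', eight_ok1', eight_ok2']

theorem perpSpan_ok : perpSpanB = true := by decide +kernel

theorem line_ok0' : lineB 0 = true := by decide +kernel

theorem line_ok1' : lineB 1 = true := by decide +kernel

theorem line_ok2' : lineB 2 = true := by decide +kernel

theorem line_ok : ∀ c < 3, lineB c = true := by
  intro c hc
  interval_cases c
  exacts [line_ok0', line_ok1', line_ok2']

theorem rigBigTwist_ok0' : rigB (orbA 0) (stabBig 0) (rigBig 0) true = true := by decide +kernel

theorem rigBigTwist_ok1' : rigB (orbA 1) (stabBig 1) (rigBig 1) true = true := by decide +kernel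

theorem rigBigTwist_ok2' : rigB (orbA 2) (stabBig 2) (rigBig 2) true = true := by decide +kernel

theorem rigBigTwist_ok : ∀ c < 3, rigB (orbA c) (stabBig c) (rigBig c) true = true := by
  intro c hc
  interval_cases c
  exacts [rigBigTwist_ok0', rigBigTwist_ok1', rigBigTwist_ok2']

end Cfsg.Lib.FischerLarge
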