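import Cfsg.Agent.Lib.FischerLarge.CheckLagrangian
import Cfsg.Agent.Lib.FischerLarge.Check

/-! The six lines of the fixed space in the small orbit and the labels of the group of rank four by pairs of lines. -/

set_option autoImplicit false
set_option maxRecDepth 200000
set_option maxHeartbeats 2000000

namespace Cfsg.Lib.FischerLarge

open Cfsg.Lib.SUSixU43 Cfsg.Lib.PermAut

/-- The lines, the labels, the preimages and two permutations. -/
def ptData : List (List ℕ × List (List ℕ) × List (List ℕ) × List (List ℕ)) :=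
  [([17, 68, 1280, 1365, 1467, 1518], [[0, 6, 13, 11, 15, 3], [6, 0, 9, 8, 2, 14], [13, 9, 0, 1, 10, 5], [11, 8, 1, 0, 7, 12], [15, 2, 10, 7, 0, 4], [3, 14, 5, 12, 4, 0]], [[0, 1, 1, 5, 13, 9], [4, 0, 4, 5, 6, 7], [256, 256, 0, 257, 259, 258], [4, 1, 1, 0, 11, 14], [8, 3, 3, 5, 0, 14], [12, 2, 2, 5, 11, 0]], [[3, 1, 4, 0, 2, 5], [5, 4, 3, 0, 1, 2]]),
    ([5, 80, 1280, 1375, 1450, 1525], [[0, 7, 2, 11, 15, 12], [7, 0, 14, 3, 13, 10], [2, 14, 0, 9, 6, 8], [11, 3, 9, 0, 4, 5], [15, 13, 6, 4, 0, 1], [12, 10, 8, 5, 1, 0]], [[0, 1, 1, 33, 17, 49], [16, 0, 16, 19, 17, 18], [256, 256, 0, 259, 258, 257], [16, 3, 3, 0, 34, 49], [32, 2, 2, 19, 0, 49], [48, 1, 1, 19, 34, 0]], [[1, 0, 5, 4, 2, 3], [2, 0, 5, 1, 4, 3]]),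
    ([1385, 1430, 1655, 1757, 1967, 2042], [[0, 6, 9, 5, 15, 7], [6, 0, 11, 13, 14, 8], [9, 11, 0, 1, 4, 10], [5, 13, 1, 0, 3, 12], [15, 14, 4, 3, 0, 2], [7, 8, 10, 12, 2, 0]], [[0, 6, 51, 6, 15, 15], [9, 0, 9, 51, 15, 15], [33, 13, 0, 13, 10, 10], [7, 35, 7, 0, 10, 10], [9, 6, 9, 6, 0, 50], [7, 13, 7, 13, 35, 0]], [[3, 5, 2, 0, 4, 1], [2, 0, 5, 3, 1, 4]])]

/-- A line. -/
def ptL (c i : ℕ) : ℕ := (ptData.getD c ([], [], [], [])).1.getD i 0

/-- The label of a pair of lines. -/
def ptIdx (c i j : ℕ) : ℕ := (((ptData.getD c ([], [], [], [])).2.1).getD i []).getD j 0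

/-- A preimage of the first line of a pair. -/
def ptPre (c i j : ℕ) : ℕ := (((ptData.getD c ([], [], [], [])).2.2.1).getD i []).getD j 0

/-- The permutation of the lines. -/
def ptSig (c k i : ℕ) : ℕ := (((ptData.getD c ([], [], [], [])).2.2.2).getD k []).getD i 0

/-- The element with a label. -/
def ptU (c i j : ℕ) : ℕ := (syl c).four.getD (ptIdx c i j) 0

/-- The lines lie in the small orbit; the fixed space consists of zero, their multiples and the large orbit. -/
noncomputable def ptCoverB (c : ℕ) : Bool :=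
  (allBelowB 6 fun i => (syl c).fix.contains (ptL c i) && (orbA c).has (ptL c i)) &&
    ((syl c).fix.all fun v => Nat.beq v 0 || (orbBig c).has v ||
      (List.range 6).any fun i => (List.range 4).any fun a => !Nat.beq a 0 && Nat.beq v (scaleC a (ptL c i))) &&
    Nat.beq (((syl c).fix.filter fun v => (orbBig c).has v).length) 45 &&
    Nat.beq (syl c).fix.length 64 &&
    allBelowB 64 fun i => allBelowB i fun j => !Nat.beq ((syl c).fix.getD i 0) ((syl c).fix.getD j 0)

/-- Three lines are independent and the first three span. -/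
noncomputable def ptIndepB (c : ℕ) : Bool :=
  (allBelowB 6 fun i => allBelowB i fun j => allBelowB j fun k => allBelowB 64 fun t =>
    Nat.beq t 0 || !Nat.beq (addC (addC (scaleC (t % 4) (ptL c i)) (scaleC (t / 4 % 4) (ptL c j)))
      (scaleC (t / 16) (ptL c k))) 0)

/-- The labels are a bijection to the elements different from one, compatible with the products. -/
noncomputable def ptLabelB (c : ℕ) : Bool :=
  (allBelowB 6 fun i => allBelowB 6 fun j => Nat.beq i j || (Nat.blt 0 (ptIdx c i j) && Nat.blt (ptIdx c i j) 16 &&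
    Nat.beq (ptIdx c i j) (ptIdx c j i) && allBelowB 6 fun k => allBelowB 6 fun l => Nat.beq k l ||
      !Nat.beq (ptIdx c i j) (ptIdx c k l) || (Nat.beq i k && Nat.beq j l) || (Nat.beq i l && Nat.beq j k))) &&
    (allBelowB 16 fun t => Nat.beq t 0 || (List.range 6).any fun i => (List.range 6).any fun j =>
      !Nat.beq i j && Nat.beq (ptIdx c i j) t) &&
    (allBelowB 6 fun i => allBelowB 6 fun j => allBelowB 6 fun k => Nat.beq i j || Nat.beq i k || Nat.beq j k ||
      (Nat.beq ((syl c).tab (ptU c i j) (ptU c i k)) (ptU c j k) &&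
        allBelowB 6 fun l => Nat.beq l i || Nat.beq l j || Nat.beq l k || allBelowB 6 fun m =>
          Nat.beq m i || Nat.beq m j || Nat.beq m k || Nat.beq m l || allBelowB 6 fun n =>
            Nat.beq n i || Nat.beq n j || Nat.beq n k || Nat.beq n l || Nat.beq n m ||
              Nat.beq ((syl c).tab (ptU c i j) (ptU c k l)) (ptU c m n)))

/-- A preimage of a line under an element and its products with the two lines. -/
noncomputable def ptPreB (c : ℕ) : Bool :=
  allBelowB 6 fun i => allBelowB 6 fun j => Nat.beq i j ||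
    (fN (ptPre c i j) fun y => Nat.beq (addC (appM ((syl c).el (ptU c i j)) y) y) (ptL c i) &&
      Nat.beq (hermC (ptL c i) y) 1 && Nat.beq (hermC (ptL c j) y) 0)

/-- The permutations of the labels. -/
noncomputable def ptSigB (c : ℕ) : Bool :=
  allBelowB 2 fun k => (allBelowB 6 fun i => Nat.blt (ptSig c k i) 6) &&
    (allBelowB 6 fun i => allBelowB i fun j => !Nat.beq (ptSig c k i) (ptSig c k j)) &&
    allBelowB 6 fun i => allBelowB 6 fun j => Nat.beq i j ||
      Nat.beq (((syl c).perm.getD k []).getD (ptIdx c i j) 0) (ptIdx c (ptSig c k i) (ptSig c k j))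

/-- The images of a set of triples, added. -/
def ptStep (c : ℕ) (l : List ℕ) : List ℕ :=
  ([0, 1].flatMap fun k => l.map fun t => ptSig c k (t % 8) + 8 * ptSig c k (t / 8 % 8) + 64 * ptSig c k (t / 64)).foldl
    (fun acc t => if acc.contains t then acc else t :: acc) l

/-- The closure of a triple. -/
def ptReach (c : ℕ) : ℕ → List ℕ
  | 0 => [0 + 8 * 1 + 64 * 2]
  | n + 1 => ptStep c (ptReach c n)

/-- The permutations are transitive on the triples of lines. -/
noncomputable def ptTransB (c : ℕ) : Bool :=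
  (fun l => allBelowB 6 fun i => allBelowB 6 fun j => allBelowB 6 fun k =>
    Nat.beq i j || Nat.beq i k || Nat.beq j k || l.contains (i + 8 * j + 64 * k)) (ptReach c 24)

theorem ptCover_ok0' : ptCoverB 0 = true := by decide +kernel

theorem ptCover_ok1' : ptCoverB 1 = true := by decide +kernel

theorem ptCover_ok2' : ptCoverB 2 = true := by decide +kernel

theorem ptCover_ok : ∀ c < 3, ptCoverB c = true := by
  intro c hc
  interval_cases c
  exacts [ptCover_ok0', ptCover_ok1', ptCover_ok2']

theorem ptIndep_ok0' : ptIndepB 0 = true := by decide +kernel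

theorem ptIndep_ok1' : ptIndepB 1 = true := by decide +kernel

theorem ptIndep_ok2' : ptIndepB 2 = true := by decide +kernel

theorem ptIndep_ok : ∀ c < 3, ptIndepB c = true := by
  intro c hc
  interval_cases c
  exacts [ptIndep_ok0', ptIndep_ok1', ptIndep_ok2']

theorem ptLabel_ok0' : ptLabelB 0 = true := by decide +kernel

theorem ptLabel_ok1' : ptLabelB 1 = true := by decide +kernel

theorem ptLabel_ok2' : ptLabelB 2 = true := by decide +kernel

theorem ptLabel_ok : ∀ c < 3, ptLabelB c = true := by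
  intro c hc
  interval_cases c
  exacts [ptLabel_ok0', ptLabel_ok1', ptLabel_ok2']

theorem ptPre_ok0' : ptPreB 0 = true := by decide +kernel

theorem ptPre_ok1' : ptPreB 1 = true := by decide +kernel

theorem ptPre_ok2' : ptPreB 2 = true := by decide +kernel

theorem ptPre_ok : ∀ c < 3, ptPreB c = true := by
  intro c hc
  interval_cases c
  exacts [ptPre_ok0', ptPre_ok1', ptPre_ok2']

theorem ptSig_ok0' : ptSigB 0 = true := by decide +kernel

theorem ptSig_ok1' : ptSigB 1 = true := by decide +kernel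

theorem ptSig_ok2' : ptSigB 2 = true := by decide +kernel

theorem ptSig_ok : ∀ c < 3, ptSigB c = true := by
  intro c hc
  interval_cases c
  exacts [ptSig_ok0', ptSig_ok1', ptSig_ok2']

theorem ptTrans_ok0' : ptTransB 0 = true := by decide +kernel

theorem ptTrans_ok1' : ptTransB 1 = true := by decide +kernel

theorem ptTrans_ok2' : ptTransB 2 = true := by decide +kernel

theorem ptTrans_ok : ∀ c < 3, ptTransB c = true := by
  intro c hc
  interval_cases c
  exacts [ptTrans_ok0', ptTrans_ok1', ptTrans_ok2']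

end Cfsg.Lib.FischerLarge
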