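import Cfsg.Agent.Lib.FischerLarge.Check

/-! Five points of the permuted family spanning the hyperplane of the fixed vector. -/

set_option autoImplicit false
set_option maxRecDepth 200000
set_option maxHeartbeats 2000000

namespace Cfsg.Lib.FischerLarge

open Cfsg.Lib.SUSixU43 Cfsg.Lib.PermAut

/-- Five indices, the matrix with their points and one more vector as columns, its inverse, the coefficients of
the fixed vector, and the four vectors with the products of the sixth column. -/
def spanData : List (List ℕ × ℕ × ℕ × ℕ × List ℕ) :=
  [([4, 7, 8, 16, 36], 3911184286348984190528, 17872746375930923942, 679, [3538, 3543, 3544, 3549]),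
    ([4, 7, 8, 16, 36], 3910895844841895494208, 6343250267219372964, 697, [3073, 3076, 3083, 3086]),
    ([4, 7, 8, 16, 36], 369409213067960779328, 6341842480153181101, 670, [257, 260, 267, 270])]

/-- The indices. -/
def spIdx (c j : ℕ) : ℕ := ((spanData.getD c ([], 0, 0, 0, [])).1).getD j 0

/-- The matrix of the columns. -/
def spP (c : ℕ) : ℕ := (spanData.getD c ([], 0, 0, 0, [])).2.1

/-- Its inverse. -/
def spI (c : ℕ) : ℕ := (spanData.getD c ([], 0, 0, 0, [])).2.2.1

/-- The coefficients. -/
def spA (c : ℕ) : ℕ := (spanData.getD c ([], 0, 0, 0, [])).2.2.2.1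

/-- The candidates. -/
def spC (c : ℕ) : List ℕ := (spanData.getD c ([], 0, 0, 0, [])).2.2.2.2

/-- The head of a member of the family. -/
def spHead (c i : ℕ) : ℕ := ((stabA c).fget i).getD 0 0

/-- A column. -/
def spCol (c j : ℕ) : ℕ := colC (spP c) j

/-- The test. -/
noncomputable def spanB (c : ℕ) : Bool :=
  Nat.beq (stabA c).fam.length 45 && sameM (mulM (spI c) (spP c)) oneM &&
    (allBelowB 5 fun j => Nat.blt (spIdx c j) 45 && Nat.beq (spCol c j) (spHead c (spIdx c j)) &&
      !Nat.beq (vdig (spA c) j) 0) &&
    Nat.beq (vdig (spA c) 5) 0 && Nat.beq (appM (spP c) (spA c)) 5 &&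
    (allBelowB 45 fun i => Nat.blt (spHead c i) 4096 &&
      ((stabA c).fget i).all fun v => Nat.beq v (scaleC 1 (spHead c i)) || Nat.beq v (scaleC 2 (spHead c i)) ||
        Nat.beq v (scaleC 3 (spHead c i))) &&
    Nat.beq (spC c).length 4 &&
    allBelowB 4096 fun y => !(allBelowB 5 fun j => Nat.beq (hermC y (spCol c j)) (hermC (spCol c 5) (spCol c j))) ||
      (spC c).any (fun u => Nat.beq y u)

/-- The orbit of the permutations of the forty-five points is everything. -/
noncomputable def transB (S : StabT) : Bool :=
  Nat.beq (S.permTree.get 0) 0 &&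
    treeB 2 (fun k i => S.pget k i) S.permTree.get S.permTree.par 0 && Nat.beq S.permTree.len S.fam.length &&
    distB S.permTree && allBelowB S.fam.length fun i => S.permTree.has i

/-- The code of the product with a generator. -/
def imP (S : StabT) (k e : ℕ) : ℕ := encP fun x => S.pget k (e / 8 ^ x % 8)

/-- A node of the tree of permutations of six points. -/
def getP (S : StabT) (i : ℕ) : ℕ := ent 18 S.permTree.V i

/-- Enough even permutations. -/
noncomputable def altB (S : StabT) : Bool :=
  Nat.beq S.fam.length 6 && Nat.beq (getP S 0) (encP id) && Nat.beq S.permTree.len 360 &&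
    treeB 2 (imP S) (getP S) S.permTree.par 0 &&
    (allBelowB 360 fun i => allBelowB i fun j => !Nat.beq (getP S i) (getP S j))

theorem span_ok0' : spanB 0 = true ∧ transB (stabA 0) = true := by decide +kernel

theorem span_ok1' : spanB 1 = true ∧ transB (stabA 1) = true := by decide +kernel

theorem span_ok2' : spanB 2 = true ∧ transB (stabA 2) = true := by decide +kernel

theorem span_ok : ∀ c < 3, spanB c = true ∧ transB (stabA c) = true := by
  intro c hc
  interval_cases c
  exacts [span_ok0', span_ok1', span_ok2']

theorem alt_ok0' : altB (stabBig 0) = true := by decide +kernel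

theorem alt_ok1' : altB (stabBig 1) = true := by decide +kernel

theorem alt_ok2' : altB (stabBig 2) = true := by decide +kernel

theorem alt_ok : ∀ c < 3, altB (stabBig c) = true := by
  intro c hc
  interval_cases c
  exacts [alt_ok0', alt_ok1', alt_ok2']

end Cfsg.Lib.FischerLarge
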