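import Cfsg.Agent.Lib.FischerLarge.Check
import Cfsg.Agent.Lib.FischerLarge.SylowData0
import Cfsg.Agent.Lib.FischerLarge.SylowData1
import Cfsg.Agent.Lib.FischerLarge.SylowData2

/-! The Sylow certificates pass. -/

set_option autoImplicit false
set_option maxRecDepth 200000
set_option maxHeartbeats 2000000

namespace Cfsg.Lib.FischerLarge

open Cfsg.Lib.SUSixU43 Cfsg.Lib.PermAut

/-- The Sylow subgroup of a model. -/
def syl (c : ℕ) : SylT := [syl0, syl1, syl2].getD c syl0

theorem sylGroup_ok0' : groupB 0 (stabBig 0) (syl 0) = true := by decide +kernel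

theorem sylGroup_ok1' : groupB 1 (stabBig 1) (syl 1) = true := by decide +kernel

theorem sylGroup_ok2' : groupB 2 (stabBig 2) (syl 2) = true := by decide +kernel

theorem sylGroup_ok : ∀ c < 3, groupB c (stabBig c) (syl c) = true := by
  intro c hc
  interval_cases c
  exacts [sylGroup_ok0', sylGroup_ok1', sylGroup_ok2']

theorem sylInv_ok0' : invB (syl 0) = true := by decide +kernel

theorem sylInv_ok1' : invB (syl 1) = true := by decide +kernel

theorem sylInv_ok2' : invB (syl 2) = true := by decide +kernel

theorem sylInv_ok : ∀ c < 3, invB (syl c) = true := by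
  intro c hc
  interval_cases c
  exacts [sylInv_ok0', sylInv_ok1', sylInv_ok2']

theorem sylRank_ok0' : rankB (syl 0) = true := by decide +kernel

theorem sylRank_ok1' : rankB (syl 1) = true := by decide +kernel

theorem sylRank_ok2' : rankB (syl 2) = true := by decide +kernel

theorem sylRank_ok : ∀ c < 3, rankB (syl c) = true := by
  intro c hc
  interval_cases c
  exacts [sylRank_ok0', sylRank_ok1', sylRank_ok2']

theorem sylFix_ok0' : fixB (syl 0) = true := by decide +kernel

theorem sylFix_ok1' : fixB (syl 1) = true := by decide +kernel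

theorem sylFix_ok2' : fixB (syl 2) = true := by decide +kernel

theorem sylFix_ok : ∀ c < 3, fixB (syl c) = true := by
  intro c hc
  interval_cases c
  exacts [sylFix_ok0', sylFix_ok1', sylFix_ok2']

theorem sylNrm_ok0' : nrmB 0 (syl 0) = true := by decide +kernel

theorem sylNrm_ok1' : nrmB 1 (syl 1) = true := by decide +kernel

theorem sylNrm_ok2' : nrmB 2 (syl 2) = true := by decide +kernel

theorem sylNrm_ok : ∀ c < 3, nrmB c (syl c) = true := by
  intro c hc
  interval_cases c
  exacts [sylNrm_ok0', sylNrm_ok1', sylNrm_ok2']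

end Cfsg.Lib.FischerLarge
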