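import Cfsg.Agent.Lib.FischerLarge.Chain
import Cfsg.Agent.Lib.FischerLarge.CheckSpan
import Mathlib.GroupTheory.SpecificGroups.Alternating.Simple

/-!
# The two orbits of a model on isotropic vectors, with their stabilisers
-/

set_option autoImplicit false

namespace Cfsg.Lib.FischerLarge

open Cfsg Matrix Cfsg.Lib.SUSixU43 Cfsg.Lib.PermAut Equiv
open scoped Pointwise

/-- The stabiliser of a vector in a model. -/
noncomputable def Sb (c : ℕ) (x : V6) : Subgroup G6 := KM c ⊓ MulAction.stabilizer G6 x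

/-- The facts on the orbits of a model. -/
structure OrbFacts (c : ℕ) (A B : Set V6) : Prop where
  cardA : A.ncard = 378
  cardB : B.ncard = 1701
  cover : ∀ x : V6, x ≠ 0 → hermForm 6 R4 2 x x = 0 → x ∈ A ∨ x ∈ B
  sing : ∀ x ∈ A ∪ B, x ≠ 0 ∧ hermForm 6 R4 2 x x = 0
  disj : ∀ x ∈ A, x ∉ B
  invA : ∀ g ∈ KM c, ∀ x ∈ A, g • x ∈ A
  invB : ∀ g ∈ KM c, ∀ x ∈ B, g • x ∈ B
  transA : ∀ x ∈ A, ∀ y ∈ A, ∃ g ∈ KM c, g • x = y
  transB : ∀ x ∈ B, ∀ y ∈ B, ∃ g ∈ KM c, g • x = y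
  coreA : ∀ x ∈ A, ∀ R : Subgroup ↥(Sb c x), R.Normal → IsPGroup 2 ↥R → Nat.card ↥R ≤ 4
  coreB : ∀ x ∈ B, ∃ ψ : ↥(Sb c x) →* alternatingGroup (Fin 6), Function.Surjective ψ ∧
    Nat.card ↥ψ.ker = 16 ∧ ∀ R : Subgroup ↥(Sb c x), R.Normal → IsPGroup 2 ↥R → R ≤ ψ.ker

theorem card_KM {c : ℕ} (hc : c < 3) : Nat.card ↥(KM c) = 9797760 := by
  have h := KM_cover (MulEquiv.refl ↥Q112) hc
  rw [center_card_mul _ h.1 h.2, card_Q112]

/-- The orbit of a subgroup and the order of a stabiliser. -/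
theorem card_inf_stab {G X : Type} [Group G] [MulAction G X] (K : Subgroup G) {A : Set X} {x : X} (hx : x ∈ A)
    (hinv : ∀ g ∈ K, ∀ y ∈ A, g • y ∈ A) (htrans : ∀ y ∈ A, ∃ g ∈ K, g • x = y) :
    Nat.card ↥(K ⊓ MulAction.stabilizer G x) * A.ncard = Nat.card ↥K := by
  have horb : MulAction.orbit ↥K x = A := by
    ext y
    constructor
    · rintro ⟨g, rfl⟩
      exact hinv g g.2 x hx
    · intro hy
      obtain ⟨g, hg, rfl⟩ := htrans y hy
      exact ⟨⟨g, hg⟩, rfl⟩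
  have hst : MulAction.stabilizer ↥K x = (MulAction.stabilizer G x).subgroupOf K := rfl
  rw [← Subgroup.card_mul_index (MulAction.stabilizer ↥K x), MulAction.index_stabilizer, horb, hst,
    inf_comm, ← Subgroup.subgroupOf_map_subtype, Subgroup.card_map_of_injective K.subtype_injective]

/-- Conjugate stabilisers. -/
theorem exists_equiv_inf_stab {G X : Type} [Group G] [MulAction G X] (K : Subgroup G) {g : G} (hg : g ∈ K) (x : X) :
    Nonempty (↥(K ⊓ MulAction.stabilizer G x) ≃* ↥(K ⊓ MulAction.stabilizer G (g • x))) := by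
  have h : (K ⊓ MulAction.stabilizer G x).map (MulAut.conj g).toMonoidHom = K ⊓ MulAction.stabilizer G (g • x) := by
    ext a
    constructor
    · rintro ⟨b, hb, rfl⟩
      refine ⟨K.mul_mem (K.mul_mem hg hb.1) (K.inv_mem hg), ?_⟩
      show (g * b * g⁻¹) • g • x = g • x
      rw [← mul_smul, inv_mul_cancel_right, mul_smul, MulAction.mem_stabilizer_iff.1 hb.2]
    · intro ha
      refine ⟨g⁻¹ * a * g, ⟨K.mul_mem (K.mul_mem (K.inv_mem hg) ha.1) hg, ?_⟩, ?_⟩
      · show (g⁻¹ * a * g) • x = x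
        rw [mul_smul, mul_smul, MulAction.mem_stabilizer_iff.1 ha.2, inv_smul_smul]
      · show g * (g⁻¹ * a * g) * g⁻¹ = a
        group
  exact ⟨((K ⊓ MulAction.stabilizer G x).equivMapOfInjective _ (MulAut.conj g).injective).trans
    (MulEquiv.subgroupCongr h)⟩

theorem exists_equiv_Sb {c : ℕ} {g : G6} (hg : g ∈ KM c) (x : V6) :
    Nonempty (↥(Sb c x) ≃* ↥(Sb c (g • x))) :=
  exists_equiv_inf_stab (KM c) hg x

theorem orbit_facts {c : ℕ} (hc : c < 3) :
    (orbA c).set.ncard = 378 ∧ (orbBig c).set.ncard = 1701 ∧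
      (∀ x : V6, x ≠ 0 → hermForm 6 R4 2 x x = 0 → x ∈ (orbA c).set ∨ x ∈ (orbBig c).set) ∧
      (∀ x ∈ (orbA c).set ∪ (orbBig c).set, x ≠ 0 ∧ hermForm 6 R4 2 x x = 0) ∧
      (∀ x ∈ (orbA c).set, x ∉ (orbBig c).set) ∧
      (∀ g ∈ KM c, g • (orbA c).set = (orbA c).set) ∧ (∀ g ∈ KM c, g • (orbBig c).set = (orbBig c).set) ∧
      (∀ x ∈ (orbA c).set, ∃ g ∈ KM c, g • vec 5 = x) ∧ (∀ x ∈ (orbBig c).set, ∃ g ∈ KM c, g • vec 85 = x) ∧
      vec 5 ∈ (orbA c).set ∧ vec 85 ∈ (orbBig c).set := by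
  have h := orb_ok c hc
  simp only [orbB, Bool.and_eq_true, allBelowB_iff, Nat.beq_eq, Bool.not_eq_true', Bool.or_eq_true] at h
  obtain ⟨⟨⟨⟨⟨⟨⟨⟨⟨⟨hA0, hB0⟩, hAl⟩, hBl⟩, hAd⟩, hBd⟩, hAt⟩, hBt⟩, hAall⟩, hBall⟩, hcov⟩ := h
  have sing_iff : ∀ v, singB v = true ↔ hermForm 6 R4 2 (vec v) (vec v) = 0 := fun v => by
    rw [singB, Nat.beq_eq, herm_vec, el_eq_zero, Nat.mod_eq_of_lt (hermC_lt v v)]
  have hbound : ∀ (O : OrbT), distB O = true → O.set.Finite := fun O _ =>
    Set.Finite.subset ((Finset.range O.len).image fun i => vec (O.get i)).finite_toSet fun x ⟨i, hi, e⟩ =>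
      Finset.mem_image.2 ⟨i, Finset.mem_range.2 hi, e⟩
  have inv : ∀ (O : OrbT), distB O = true →
      (∀ i < O.len, ∀ k < 3, O.has (imB [genM c 0, genM c 1, zMat] k (O.get i)) = true) →
      ∀ g ∈ KM c, g • O.set = O.set := fun O hd hall g hg => smul_set_eq hc (hbound O hd) (fun k hk x hx => by
    obtain ⟨i, hi, rfl⟩ := hx
    rw [← vec_appM]
    have hlt : appM ([genM c 0, genM c 1, zMat].getD k 0) (O.get i) < 4096 := by
      simp only [appM, pack]
      omega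
    exact (has_iff hd hlt).1 (hall i hi k hk)) hg
  have trans : ∀ (O : OrbT) (a : ℕ), O.get 0 = a →
      treeB 3 (imB [genM c 0, genM c 1, zMat]) O.get O.par 0 = true →
      ∀ x ∈ O.set, ∃ g ∈ KM c, g • vec a = x := by
    rintro O a ha ht x ⟨i, hi, rfl⟩
    refine tree_root (P := fun v => ∃ g ∈ KM c, g • vec a = vec v) ht (fun k hk v hv => ?_)
      ⟨1, one_mem _, by rw [one_smul, ha]⟩ i hi
    obtain ⟨g, hg, hgv⟩ := hv
    obtain ⟨hm, he⟩ := gens_spec hc hk
    exact ⟨_, mul_mem hm hg, by rw [mul_smul, hgv, imB, vec_appM_smul he]⟩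
  refine ⟨by rw [ncard_set hAd, hAl], by rw [ncard_set hBd, hBl], fun x hx hs => ?_, ?_, ?_,
    inv _ hAd fun i hi k hk => (hAall i hi).2 k hk, inv _ hBd fun i hi k hk => (hBall i hi).2 k hk,
    trans _ 5 hA0 hAt, trans _ 85 hB0 hBt, ⟨0, by omega, by rw [hA0]⟩, ⟨0, by omega, by rw [hB0]⟩⟩
  · obtain ⟨v, hv, rfl⟩ := exists_code x
    rcases hcov v hv with ((h0 | h0) | h0) | h0
    · exact absurd (by rw [h0, vec_zero]) hx
    · rw [(sing_iff v).2 hs] at h0
      exact Bool.noConfusion h0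
    · exact Or.inl ((has_iff hAd hv).1 h0)
    · exact Or.inr ((has_iff hBd hv).1 h0)
  · rintro x (⟨i, hi, rfl⟩ | ⟨i, hi, rfl⟩)
    · refine ⟨fun e => ?_, (sing_iff _).1 (hAall i hi).1.1.1⟩
      have := (hAall i hi).1.2
      rw [vec_inj (get_lt hAd hi) (by norm_num) (e.trans vec_zero.symm), Nat.beq_refl] at this
      exact Bool.noConfusion this
    · refine ⟨fun e => ?_, (sing_iff _).1 (hBall i hi).1.1⟩
      have := (hBall i hi).1.2
      rw [vec_inj (get_lt hBd hi) (by norm_num) (e.trans vec_zero.symm), Nat.beq_refl] at this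
      exact Bool.noConfusion this
  · rintro x ⟨i, hi, rfl⟩ hB
    have := (hAall i hi).1.1.2
    rw [(has_iff hBd (get_lt hAd hi)).2 hB] at this
    exact Bool.noConfusion this

theorem Sb_eq {c : ℕ} (hc : c < 3) {A : Set V6} {S : StabT} (h : stabB c S = true) (hn : A.ncard ≠ 0)
    (hsize : S.size * A.ncard = 9797760) (hx : vec S.base ∈ A) (hinv : ∀ g ∈ KM c, ∀ y ∈ A, g • y ∈ A)
    (htrans : ∀ y ∈ A, ∃ g ∈ KM c, g • vec S.base = y) :
    stab0 c S = Sb c (vec S.base) ∧ Nat.card ↥(Sb c (vec S.base)) = S.size := by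
  haveI := finite_G6
  obtain ⟨hle, hge, -⟩ := stab_spec hc h
  have hcard := card_inf_stab (KM c) hx hinv htrans
  rw [card_KM hc, ← hsize] at hcard
  have hs : Nat.card ↥(Sb c (vec S.base)) = S.size := Nat.eq_of_mul_eq_mul_right (Nat.pos_of_ne_zero hn) hcard
  exact ⟨Subgroup.eq_of_le_of_card_ge hle (hs.le.trans hge), hs⟩

theorem head_mem : ∀ c < 3, ∀ i < 45, ((stabA c).fget i).isEmpty = false := by decide +kernel

theorem coreA_base {c : ℕ} (hc : c < 3) (R : Subgroup ↥(stab0 c (stabA c))) (hR : R.Normal)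
    (h2 : IsPGroup 2 ↥R) : Nat.card ↥R ≤ 4 := by
  classical
  haveI := finite_G6
  haveI := Fact.mk Nat.prime_two
  obtain ⟨hs, hb, -⟩ := stabA_ok c hc
  obtain ⟨hle, -, hinj, -⟩ := stab_spec hc hs
  obtain ⟨φ, hφ, hgen, -⟩ := exists_fam_hom hc hs
  obtain ⟨hspan, htrans⟩ := span_ok c hc
  simp only [spanB, Bool.and_eq_true, allBelowB_iff, Nat.beq_eq, sameM_iff, mat_mulM, mat_oneM, List.all_eq_true,
    Bool.or_eq_true, Bool.not_eq_true', Nat.blt, Nat.ble_eq, List.any_eq_true] at hspan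
  obtain ⟨⟨⟨⟨⟨⟨⟨hlen, hinv⟩, hcols⟩, ha5⟩, hPa⟩, hfam⟩, hC⟩, hcand⟩ := hspan
  simp only [Cfsg.Lib.FischerLarge.transB, Bool.and_eq_true, allBelowB_iff, Nat.beq_eq] at htrans
  obtain ⟨⟨⟨⟨ht0, httree⟩, htlen⟩, htd⟩, hthas⟩ := htrans
  letI : MulAction ↥R (Fin (stabA c).fam.length) := MulAction.compHom (Fin (stabA c).fam.length) (φ.comp R.subtype)
  have hfix : ∀ r ∈ R, ∀ i : Fin (stabA c).fam.length, φ r i = i := by
    obtain ⟨i0, hi0⟩ := h2.nonempty_fixed_point_of_prime_not_dvd_card (Fin (stabA c).fam.length) (by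
      rw [Nat.card_fin, hlen]
      norm_num)
    have hinvF : ∀ (g : ↥(stab0 c (stabA c))) (i : Fin (stabA c).fam.length), (∀ r ∈ R, φ r i = i) → ∀ r ∈ R, φ r (φ g i) = φ g i := by
      intro g i hi r hr
      have := hi _ (hR.conj_mem r hr g⁻¹)
      rw [inv_inv, map_mul, map_mul, map_inv, Perm.mul_apply, Perm.mul_apply, Perm.inv_eq_iff_eq] at this
      exact this
    have hreach : ∀ i : Fin (stabA c).fam.length, ∃ g, φ g ⟨0, by omega⟩ = i := by
      intro i
      have hall : ∀ t < (stabA c).permTree.len, ∃ g, (φ g ⟨0, by omega⟩ : ℕ) = (stabA c).permTree.get t := by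
        refine tree_root (P := fun v => ∃ g, (φ g ⟨0, by omega⟩ : ℕ) = v) httree (fun k hk v hv => ?_)
          ⟨1, by rw [map_one, Perm.one_apply, ht0]⟩
        obtain ⟨g, hg⟩ := hv
        obtain ⟨p, ⟨g', rfl⟩, hp⟩ := hgen k hk
        exact ⟨g' * g, by rw [map_mul, Perm.mul_apply, hp, hg]⟩
      have h1 := hthas i i.isLt
      simp only [OrbT.has, Bool.and_eq_true, Nat.blt, Nat.ble_eq, Nat.beq_eq] at h1
      obtain ⟨g, hg⟩ := hall _ h1.1
      exact ⟨g, Fin.ext (hg.trans h1.2)⟩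
    intro r hr i
    obtain ⟨g0, hg0⟩ := hreach i0
    obtain ⟨g, hg⟩ := hreach i
    have h00 : ∀ r ∈ R, φ r i0 = i0 := fun r hr => hi0 ⟨r, hr⟩
    have h0 := hinvF g0⁻¹ i0 h00
    rw [show φ g0⁻¹ i0 = (⟨0, by omega⟩ : Fin (stabA c).fam.length) by rw [map_inv, Perm.inv_eq_iff_eq, hg0]] at h0
    rw [← hg]
    exact hinvF g _ h0 r hr
  set P := mat (spP c) with hP
  set a : V6 := vec (spA c) with ha
  have hPa' : P *ᵥ a = vec (stabA c).base := by rw [hb, hP, ha, ← vec_appM, hPa]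
  have hmul : mat (spI c) * P = 1 := hinv
  have hcolj : ∀ j : Fin 6, (fun i => P i j) = vec (spCol c j) := fun j => funext fun i => (vec_col (spP c) j i).symm
  have hscal : ∀ r ∈ R, ∀ j : Fin 6, (j : ℕ) < 5 → ∃ l : R4, mm ((r : ↥(stab0 c (stabA c))) : G6) *ᵥ vec (spCol c j) =
      l • vec (spCol c j) := by
    intro r hr j hj
    obtain ⟨⟨hlt, hcol⟩, -⟩ := hcols j hj
    have hlt' : spIdx c j < (stabA c).fam.length := by omega
    have hmem : spHead c (spIdx c j) ∈ (stabA c).fget (spIdx c j) :=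
      getD_mem 0 (List.length_pos_iff.2 fun e => by
        have := head_mem c hc _ hlt
        rw [e] at this
        exact Bool.noConfusion this)
    have h1 : (r : G6) • vec (spCol c j) ∈ fset (stabA c) ⟨spIdx c j, hlt'⟩ := by
      have := hφ r ⟨spIdx c j, hlt'⟩
      rw [hfix r hr] at this
      rw [← this, hcol]
      exact ⟨_, ⟨_, hmem, rfl⟩, rfl⟩
    obtain ⟨v, hv, hve⟩ := h1
    rw [← smul_def, ← hve, hcol]
    rcases (hfam _ hlt).2 v hv with (e | e) | e <;> exact ⟨_, by rw [e, vec_scaleC]⟩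
  have hfixcol : ∀ r ∈ R, ∀ j : Fin 6, (j : ℕ) < 5 →
      mm ((r : ↥(stab0 c (stabA c))) : G6) *ᵥ vec (spCol c j) = vec (spCol c j) := by
    intro r hr
    choose l hl using hscal r hr
    let L : V6 := fun j => if h : (j : ℕ) < 5 then l j h * a j else 0
    have hL : P *ᵥ L = P *ᵥ a := by
      rw [hPa']
      conv_rhs => rw [← MulAction.mem_stabilizer_iff.1 (hle r.2).2, smul_def, ← hPa']
      rw [Matrix.mulVec_mulVec]
      funext i
      simp only [Matrix.mulVec, dotProduct]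
      refine Finset.sum_congr rfl fun j _ => ?_
      by_cases hj : (j : ℕ) < 5
      · have := congrFun (hl j hj) i
        rw [← hcolj j] at this
        simp only [Matrix.mulVec, dotProduct, Pi.smul_apply, smul_eq_mul] at this
        rw [Matrix.mul_apply, this]
        simp only [L, dif_pos hj]
        ring
      · have h5 : a j = 0 := by
          show el (vdig (spA c) j) = 0
          rw [show (j : ℕ) = 5 by omega, el_eq_zero, ha5]
        simp only [L, dif_neg hj, h5, mul_zero]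
    have hLa : L = a := by
      have := congrArg (mat (spI c) *ᵥ ·) hL
      simpa only [Matrix.mulVec_mulVec, hmul, Matrix.one_mulVec] using this
    intro j hj
    have haj : a j ≠ 0 := fun e => by
      have h0 := (hcols j hj).2
      rw [(show vdig (spA c) j = 0 from by
        have := (el_eq_zero _).1 e
        rwa [Nat.mod_eq_of_lt (vdig_lt _ _)] at this), Nat.beq_refl] at h0
      exact Bool.noConfusion h0
    have : l j hj = 1 := mul_right_cancel₀ haj (by
      have := congrFun hLa j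
      simp only [L, dif_pos hj] at this
      rw [this, one_mul])
    rw [hl j hj, this, one_smul]
  have him : ∀ r ∈ R, ∃ u ∈ spC c, vec u = ((r : ↥(stab0 c (stabA c))) : G6) • vec (spCol c 5) := by
    intro r hr
    obtain ⟨y, hy, hyv⟩ := exists_code (((r : ↥(stab0 c (stabA c))) : G6) • vec (spCol c 5))
    refine ⟨y, ?_, hyv⟩
    rcases hcand y hy with h | ⟨u, hu, rfl⟩
    · rw [Bool.eq_false_iff] at h
      refine absurd (allBelowB_iff.2 fun j hj => ?_) h
      have hj6 : j < 6 := by omega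
      have e : (el (hermC y (spCol c j)) : R4) = el (hermC (spCol c 5) (spCol c j)) := by
        have h1 := herm_smul (g := ((r : ↥(stab0 c (stabA c))) : G6)) (vec (spCol c 5)) (vec (spCol c j))
        have h2 : ((r : ↥(stab0 c (stabA c))) : G6) • vec (spCol c j) = vec (spCol c j) := hfixcol r hr ⟨j, hj6⟩ hj
        rwa [h2, ← hyv, herm_vec, herm_vec] at h1
      exact Nat.beq_eq.symm ▸ el_injOn (hermC_lt _ _) (hermC_lt _ _) e
    · exact hu
  choose u hu huv using him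
  refine le_trans (Nat.card_le_card_of_injective (fun r : ↥R => (⟨(spC c).idxOf (u r r.2), by
      rw [← hC]; exact List.idxOf_lt_length_iff.2 (hu r r.2)⟩ : Fin 4)) ?_) (by rw [Nat.card_fin])
  intro r r' e
  have e' : u r r.2 = u r' r'.2 := (List.idxOf_inj (hu r r.2)).1 (congrArg Fin.val e)
  refine Subtype.ext (Subtype.ext (mm_injective ?_))
  have hPI : P * mat (spI c) = 1 := mul_eq_one_comm.1 hmul
  have hcolsEq : mm ((r : ↥(stab0 c (stabA c))) : G6) * P = mm ((r' : ↥(stab0 c (stabA c))) : G6) * P := by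
    refine Matrix.ext fun i j => ?_
    have key : mm ((r : ↥(stab0 c (stabA c))) : G6) *ᵥ vec (spCol c j) =
        mm ((r' : ↥(stab0 c (stabA c))) : G6) *ᵥ vec (spCol c j) := by
      by_cases hj : (j : ℕ) < 5
      · rw [hfixcol r r.2 j hj, hfixcol r' r'.2 j hj]
      · rw [show (j : ℕ) = 5 by omega, ← smul_def, ← smul_def, ← huv r r.2, ← huv r' r'.2, e']
    rw [← hcolj j] at key
    exact congrFun key i
  calc mm ((r : ↥(stab0 c (stabA c))) : G6) = mm ((r : ↥(stab0 c (stabA c))) : G6) * P * mat (spI c) := by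
        rw [Matrix.mul_assoc, hPI, Matrix.mul_one]
    _ = _ := by rw [hcolsEq, Matrix.mul_assoc, hPI, Matrix.mul_one]

theorem even_gens : ∀ c < 3, ∀ k < 2, ∀ p : Perm (Fin 6),
    (∀ i : Fin 6, (p i : ℕ) = (stabBig c).pget k i) → Perm.sign p = 1 := by decide +kernel

theorem coreB_base {c : ℕ} (hc : c < 3) (hcard : Nat.card ↥(stab0 c (stabBig c)) = 5760) :
    ∃ ψ : ↥(stab0 c (stabBig c)) →* alternatingGroup (Fin 6), Function.Surjective ψ ∧ Nat.card ↥ψ.ker = 16 ∧
      ∀ R : Subgroup ↥(stab0 c (stabBig c)), R.Normal → IsPGroup 2 ↥R → R ≤ ψ.ker := by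
  classical
  haveI := finite_G6
  obtain ⟨hs, -, -⟩ := stabBig_ok c hc
  obtain ⟨φ, -, hgen, hrange⟩ := exists_fam_hom hc hs
  have halt := alt_ok c hc
  simp only [altB, Bool.and_eq_true, allBelowB_iff, Nat.beq_eq, Bool.not_eq_true'] at halt
  obtain ⟨⟨⟨⟨hlen, hroot⟩, htlen⟩, htree⟩, hdiff⟩ := halt
  let e6 := Equiv.permCongrHom (finCongr hlen)
  let χ : ↥(stab0 c (stabBig c)) →* Perm (Fin 6) := e6.toMonoidHom.comp φ
  have hval : ∀ p i, (e6 p i : ℕ) = (p ((finCongr hlen).symm i) : ℕ) := fun p i => rfl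
  have hgen' : ∀ k < 2, ∃ g, ∀ i : Fin 6, (χ g i : ℕ) = (stabBig c).pget k i := by
    intro k hk
    obtain ⟨p, ⟨g, rfl⟩, hp⟩ := hgen k hk
    exact ⟨g, fun i => (hval (φ g) i).trans (hp _)⟩
  have heven : ∀ g, χ g ∈ alternatingGroup (Fin 6) := by
    intro g
    have h1 : φ g ∈ Subgroup.comap e6.toMonoidHom (alternatingGroup (Fin 6)) := by
      refine (hrange.trans ((Subgroup.closure_le _).2 ?_)) ⟨g, rfl⟩
      rintro p ⟨k, hk, hp⟩
      exact Perm.mem_alternatingGroup.2 (even_gens c hc k hk _ fun i => (hval p i).trans (hp _))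
    exact h1
  let ψ := χ.codRestrict (alternatingGroup (Fin 6)) heven
  let enc : Perm (Fin 6) → ℕ := fun p => encP fun x => if h : x < 6 then (p ⟨x, h⟩ : ℕ) else 0
  have hdig : ∀ (p : Perm (Fin 6)) (x : ℕ) (hx : x < 6), enc p / 8 ^ x % 8 = (p ⟨x, hx⟩ : ℕ) := by
    intro p x hx
    have hb : ∀ i : Fin 6, (p i : ℕ) < 8 := fun i => by omega
    have b0 := hb 0
    have b1 := hb 1
    have b2 := hb 2
    have b3 := hb 3
    have b4 := hb 4
    have b5 := hb 5
    simp only [enc, encP, show (0 : ℕ) < 6 by norm_num, show (1 : ℕ) < 6 by norm_num, show (2 : ℕ) < 6 by norm_num,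
      show (3 : ℕ) < 6 by norm_num, show (4 : ℕ) < 6 by norm_num, show (5 : ℕ) < 6 by norm_num, dif_pos]
    interval_cases x <;> simp only [Fin.mk_zero, Fin.mk_one, Fin.reduceFinMk, pow_zero, pow_one, Nat.reducePow] <;>
      omega
  have hnodes : ∀ t < (stabBig c).permTree.len, ∃ g, enc (χ g) = getP (stabBig c) t := by
    refine tree_root (P := fun v => ∃ g, enc (χ g) = v) htree (fun k hk v hv => ?_) ⟨1, by
      rw [map_one, hroot]
      rfl⟩
    obtain ⟨g, rfl⟩ := hv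
    obtain ⟨g', hg'⟩ := hgen' k hk
    refine ⟨g' * g, ?_⟩
    show encP _ = encP _
    simp only [encP, show (0 : ℕ) < 6 by norm_num, show (1 : ℕ) < 6 by norm_num, show (2 : ℕ) < 6 by norm_num,
      show (3 : ℕ) < 6 by norm_num, show (4 : ℕ) < 6 by norm_num, show (5 : ℕ) < 6 by norm_num, dif_pos,
      map_mul, Perm.mul_apply, hg', hdig]
  choose gt hgt using hnodes
  have h360 : 360 ≤ Nat.card ↥χ.range := by
    refine le_trans (le_of_eq (Nat.card_fin 360).symm) (Nat.card_le_card_of_injective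
      (fun t : Fin 360 => (⟨χ (gt t (htlen.symm ▸ t.isLt)), ⟨_, rfl⟩⟩ : ↥χ.range)) ?_)
    intro i j e
    have e' := congrArg enc (congrArg Subtype.val e)
    rw [hgt, hgt] at e'
    rcases Nat.lt_trichotomy (i : ℕ) j with h | h | h
    · have := hdiff j j.isLt i h
      rw [e', Nat.beq_refl] at this
      exact Bool.noConfusion this
    · exact Fin.ext h
    · have := hdiff i i.isLt j h
      rw [e', Nat.beq_refl] at this
      exact Bool.noConfusion this
  have hsurj : Function.Surjective ψ := by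
    intro a
    obtain ⟨g, hg⟩ := alternating_le h360 a.2
    exact ⟨g, Subtype.ext hg⟩
  have hA : Nat.card ↥(alternatingGroup (Fin 6)) = 360 := by
    have := two_mul_nat_card_alternatingGroup (α := Fin 6)
    rw [Nat.card_perm, Nat.card_fin, show Nat.factorial 6 = 720 from rfl] at this
    omega
  refine ⟨ψ, hsurj, ?_, fun R hR h2 => ?_⟩
  · have hm := ψ.ker.card_mul_index
    rw [Subgroup.index_ker, MonoidHom.range_eq_top.2 hsurj, Subgroup.card_top, hA, hcard] at hm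
    omega
  · rw [← Subgroup.map_eq_bot_iff]
    haveI := alternatingGroup.isSimpleGroup (α := Fin 6) (by rw [Nat.card_fin]; norm_num)
    refine ((hR.map ψ hsurj).eq_bot_or_eq_top).resolve_right fun h => ?_
    have h' : IsPGroup 2 ↥(⊤ : Subgroup ↥(alternatingGroup (Fin 6))) := h ▸ h2.map ψ
    haveI := Fact.mk Nat.prime_two
    obtain ⟨n, hn⟩ := IsPGroup.iff_card.1 h'
    rw [Subgroup.card_top, hA] at hn
    have := (Nat.prime_dvd_prime_iff_eq Nat.prime_three Nat.prime_two).1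
      (Nat.prime_three.dvd_of_dvd_pow (show 3 ∣ 2 ^ n from hn ▸ by norm_num))
    omega

theorem orbFacts {c : ℕ} (hc : c < 3) : OrbFacts c (orbA c).set (orbBig c).set := by
  obtain ⟨hA, hB, hcover, hsing, hdisj, hiA, hiB, htA, htB, hmA, hmB⟩ := orbit_facts hc
  have iA : ∀ g ∈ KM c, ∀ y ∈ (orbA c).set, g • y ∈ (orbA c).set := fun g hg y hy =>
    (hiA g hg).subset ⟨y, hy, rfl⟩
  have iB : ∀ g ∈ KM c, ∀ y ∈ (orbBig c).set, g • y ∈ (orbBig c).set := fun g hg y hy =>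
    (hiB g hg).subset ⟨y, hy, rfl⟩
  have mkT : ∀ {O : Set V6} {a : ℕ}, (∀ x ∈ O, ∃ g ∈ KM c, g • vec a = x) →
      ∀ x ∈ O, ∀ y ∈ O, ∃ g ∈ KM c, g • x = y := by
    intro O a h x hx y hy
    obtain ⟨g, hg, rfl⟩ := h x hx
    obtain ⟨k, hk, rfl⟩ := h y hy
    exact ⟨k * g⁻¹, mul_mem hk (inv_mem hg), by rw [mul_smul, inv_smul_smul]⟩
  obtain ⟨hsa, hba, hza⟩ := stabA_ok c hc
  obtain ⟨hsb, hbb, hzb⟩ := stabBig_ok c hc
  obtain ⟨heA, -⟩ := Sb_eq hc hsa (by omega) (by rw [hza, hA]) (hba.symm ▸ hmA) iA (hba.symm ▸ htA)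
  obtain ⟨heB, hcB⟩ := Sb_eq hc hsb (by omega) (by rw [hzb, hB]) (hbb.symm ▸ hmB) iB (hbb.symm ▸ htB)
  rw [hba] at heA
  rw [hbb] at heB hcB
  rw [hzb] at hcB
  refine ⟨hA, hB, hcover, hsing, hdisj, iA, iB, mkT htA, mkT htB, fun x hx R hR h2 => ?_, fun x hx => ?_⟩
  · obtain ⟨g, hg, rfl⟩ := htA x hx
    obtain ⟨e⟩ := exists_equiv_Sb hg (vec 5)
    let E : ↥(Sb c (g • vec 5)) ≃* ↥(stab0 c (stabA c)) := e.symm.trans (MulEquiv.subgroupCongr heA.symm)
    have h := coreA_base hc (R.map E.toMonoidHom) (hR.map _ E.surjective) (h2.map _)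
    rwa [Subgroup.card_map_of_injective E.injective] at h
  · obtain ⟨g, hg, rfl⟩ := htB x hx
    obtain ⟨e⟩ := exists_equiv_Sb hg (vec 85)
    let E : ↥(Sb c (g • vec 85)) ≃* ↥(stab0 c (stabBig c)) := e.symm.trans (MulEquiv.subgroupCongr heB.symm)
    obtain ⟨ψ, hψ, hk, hmax⟩ := coreB_base hc (by rw [heB, hcB])
    refine ⟨ψ.comp E.toMonoidHom, hψ.comp E.surjective, ?_, fun R hR h2 r hr => ?_⟩
    · rw [← MonoidHom.comap_ker]
      exact (Nat.card_congr (E.toEquiv.subtypeEquiv fun _ => Iff.rfl)).trans hk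
    · exact hmax _ (hR.map _ E.surjective) (h2.map _) ⟨r, hr, rfl⟩

end Cfsg.Lib.FischerLarge
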