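import Cfsg.Agent.Lib.SUSixU43.FrameCheck

/-!
# Certificates for the orbits of the models on isotropic vectors, as data and tests
-/

set_option autoImplicit false

namespace Cfsg.Lib.FischerLarge

open Cfsg.Lib.SUSixU43 Cfsg.Lib.PermAut

/-- An orbit: the packed vectors, the table of their places, and the tree. -/
structure OrbT where
  V : ℕ
  W : ℕ
  par : List (ℕ × ℕ)

/-- A level of a stabiliser chain: the point, the nodes fixing the points above, and its orbit. -/
structure LevT where
  pt : ℕ
  gens : List ℕ
  orb : OrbT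

/-- A stabiliser: two words, derived nodes, the chain, and a family of sets that is permuted. -/
structure StabT where
  base : ℕ
  size : ℕ
  words : List (List ℕ)
  mats : List ℕ
  ops : List (ℕ × ℕ × ℕ)
  levs : List LevT
  fam : List (List ℕ)
  perm : List (List ℕ)
  permTree : OrbT

/-- The number of vectors of an orbit. -/
def OrbT.len (O : OrbT) : ℕ := O.par.length + 1

/-- A vector of an orbit. -/
def OrbT.get (O : OrbT) (i : ℕ) : ℕ := ent 12 O.V i

/-- Membership in an orbit. -/
def OrbT.has (O : OrbT) (v : ℕ) : Bool :=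
  Nat.blt (ent 12 O.W v) O.len && Nat.beq (O.get (ent 12 O.W v)) v

/-- The image of a vector code under a matrix of codes. -/
def appM (m v : ℕ) : ℕ := pack 6 fun i => dot6 (mget m i) (vdig v)

/-- The image of a packed array. -/
def imB (g : List ℕ) (k v : ℕ) : ℕ := appM (g.getD k 0) v

/-- The tree fills the orbit. -/
noncomputable def treeB (K : ℕ) (im : ℕ → ℕ → ℕ) (get : ℕ → ℕ) : List (ℕ × ℕ) → ℕ → Bool
  | [], _ => true
  | (p, k) :: l, i =>
    Nat.ble p i && Nat.blt k K && Nat.beq (get (i + 1)) (im k (get p)) && treeB K im get l (i + 1)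

/-- The vectors of an orbit are distinct codes. -/
noncomputable def distB (O : OrbT) : Bool :=
  allBelowB O.len fun i => Nat.blt (O.get i) 4096 && Nat.beq (ent 12 O.W (O.get i)) i

/-- A letter of the words. -/
noncomputable def lettM (c k : ℕ) : ℕ :=
  bif Nat.blt k 3 then [genM c 0, genM c 1, zMat].getD k 0 else starM ([genM c 0, genM c 1, zMat].getD (k - 3) 0)

/-- Whether a vector code is isotropic. -/
def singB (v : ℕ) : Bool := Nat.beq (hermC v v) 0

/-- The two orbits cover the isotropic vectors and are invariant. -/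
noncomputable def orbB (c : ℕ) (A B : OrbT) (a b : ℕ) : Bool :=
  Nat.beq (A.get 0) a && Nat.beq (B.get 0) b && Nat.beq A.len 378 && Nat.beq B.len 1701 &&
    distB A && distB B &&
    treeB 3 (imB [genM c 0, genM c 1, zMat]) A.get A.par 0 && treeB 3 (imB [genM c 0, genM c 1, zMat]) B.get B.par 0 &&
    (allBelowB A.len fun i => singB (A.get i) && !B.has (A.get i) && !Nat.beq (A.get i) 0 &&
      allBelowB 3 fun k => A.has (imB [genM c 0, genM c 1, zMat] k (A.get i))) &&
    (allBelowB B.len fun i => singB (B.get i) && !Nat.beq (B.get i) 0 &&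
      allBelowB 3 fun k => B.has (imB [genM c 0, genM c 1, zMat] k (B.get i))) &&
    allBelowB 4096 fun v => Nat.beq v 0 || !singB v || A.has v || B.has v

/-- The derived nodes follow the operations. -/
noncomputable def opsB (mats : List ℕ) : List (ℕ × ℕ × ℕ) → ℕ → Bool
  | [], _ => true
  | (o, i, j) :: l, t =>
    Nat.blt i t && Nat.blt j t &&
      (bif Nat.beq o 0 then sameM (mats.getD t 0) (mulM (mats.getD i 0) (mats.getD j 0))
        else sameM (mats.getD t 0) (starM (mats.getD i 0))) &&
      opsB mats l (t + 1)

/-- The levels of a chain. -/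
noncomputable def levsB (mats : List ℕ) : List ℕ → List LevT → Bool
  | _, [] => true
  | above, L :: l =>
    Nat.blt L.pt 4096 && Nat.beq (L.orb.get 0) L.pt && distB L.orb &&
      (L.gens.all fun t => Nat.blt t mats.length && above.all fun u => Nat.beq (appM (mats.getD t 0) u) u) &&
      treeB L.gens.length (fun k v => appM (mats.getD (L.gens.getD k 0) 0) v) L.orb.get L.orb.par 0 &&
      levsB mats (L.pt :: above) l

/-- The mask of a list. -/
def maskL : List ℕ → ℕ
  | [] => 0
  | a :: l => Nat.lor (Nat.pow 2 a) (maskL l)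

/-- An entry of a permutation of a family. -/
def StabT.pget (S : StabT) (k i : ℕ) : ℕ := (S.perm.getD k []).getD i 0

/-- A member of the family. -/
def StabT.fget (S : StabT) (i : ℕ) : List ℕ := S.fam.getD i []

/-- The chain and the family of a stabiliser. -/
noncomputable def stabB (c : ℕ) (S : StabT) : Bool :=
  Nat.blt S.base 4096 && Nat.beq S.words.length 2 && Nat.beq S.mats.length (S.ops.length + 2) &&
    (S.words.all fun w => w.all fun k => Nat.blt k 6) &&
    (allBelowB 2 fun k => sameM (S.mats.getD k 0) (prodM ((S.words.getD k []).map (lettM c))) &&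
      Nat.beq (appM (S.mats.getD k 0) S.base) S.base) &&
    opsB S.mats S.ops 2 && levsB S.mats [] S.levs &&
    Nat.beq ((S.levs.map fun L => L.orb.len).prod) S.size &&
    (allBelowB S.fam.length fun i => (S.fget i).all fun v => Nat.blt v 4096) &&
    (allBelowB 2 fun k => allBelowB S.fam.length fun i =>
      Nat.blt (S.pget k i) S.fam.length &&
        Nat.beq (maskL ((S.fget i).map (appM (S.mats.getD k 0)))) (maskL (S.fget (S.pget k i)))) &&
    allBelowB S.fam.length fun i => allBelowB i fun j => !Nat.beq (maskL (S.fget i)) (maskL (S.fget j))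

/-- A permutation of six points as a code. -/
def encP (f : ℕ → ℕ) : ℕ := f 0 + 8 * (f 1 + 8 * (f 2 + 8 * (f 3 + 8 * (f 4 + 8 * f 5))))

end Cfsg.Lib.FischerLarge
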