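import Cfsg.Agent.Lib.FischerLarge.MaxElem
import Cfsg.Agent.Lib.FischerLarge.CheckEight

/-!
# The line of an isotropic vector of the second orbit
-/

set_option autoImplicit false

namespace Cfsg.Lib.FischerLarge

open Cfsg Matrix Cfsg.Lib.SUSixU43 Cfsg.Lib.PermAut

set_option maxRecDepth 10000

attribute [local irreducible] syl mat mulM maskL appM ent sameM

/-- Lifts of the vector commute with lifts of the multiples of `v`. -/
def Perp (v w : V6) : Prop :=
  ∀ a : R4, (hermForm 6 R4 2 (w + a • v) (w + a • v) = 0 ↔ hermForm 6 R4 2 w w = 0)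

theorem singB_iff (v : ℕ) : singB v = true ↔ hermForm 6 R4 2 (vec v) (vec v) = 0 := by
  rw [singB, Nat.beq_eq, herm_vec, el_eq_zero, Nat.mod_eq_of_lt (hermC_lt v v)]

theorem om_el : om = el 2 := by simp only [om]; decide +kernel

theorem line85_spec {u : ℕ} (hu : u ∈ line85) : ∃ a : R4, vec u = a • vec 85 := by
  have h : ∀ i < 4, scaleC i 85 = line85.getD i 0 := by decide +kernel
  obtain ⟨i, hi, rfl⟩ := List.getElem_of_mem hu
  refine ⟨el i, ?_⟩
  rw [← vec_scaleC, h i (by simpa [line85] using hi), List.getD_eq_getElem?_getD, List.getElem?_eq_getElem hi]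
  rfl

theorem perpB_of {w : ℕ} (h : Perp (vec 85) (vec w)) : perpB w = true := by
  have e : ∀ u (a : R4), vec u = a • vec 85 → eqB (singB (addC w u)) (singB w) = true := by
    intro u a hu
    have h1 := h a
    rw [← hu, ← vec_addC, ← singB_iff, ← singB_iff] at h1
    cases hp : singB (addC w u) <;> cases hq : singB w <;> simp_all [eqB]
  rw [perpB, e 85 1 (one_smul _ _).symm, e 170 om (by rw [om_el, ← vec_scaleC]; rfl)]
  rfl

/-- The facts on the line of a vector of the second orbit. -/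
structure PointFacts (c : ℕ) (v : V6) : Prop where
  line : ∀ x, (∀ k ∈ Sb c v, k • x = x ∨ k • x = x + v) → ∃ a : R4, x = a • v
  rigid : ∀ (tw : Bool) (σ : V6 → V6), (∀ x y, σ (x + y) = σ x + σ y) →
    (∀ (a : R4) x, σ (a • x) = tau tw a • σ x) → σ v = v → (∀ x ∈ (orbA c).set, σ x ∈ (orbA c).set) →
    (∀ k ∈ Sb c v, ∀ x, σ (k • x) = k • σ x) → ∀ x, σ x = x
  perp_card : {w | Perp v w}.ncard ≤ 1024
  kernel : ∃ S : Set G6, S.ncard = 16 ∧ ∀ k ∈ S, k ∈ Sb c v ∧ ∀ w, Perp v w → ∃ a : R4, k • w + w = a • v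

theorem perp_conj {g : G6} {v w : V6} (h : Perp (g • v) w) : Perp v (g⁻¹ • w) := by
  intro a
  have := h a
  rw [← herm_smul (g := g) (g⁻¹ • w + a • v) _, g6_add, g6_scalar, smul_inv_smul,
    ← herm_smul (g := g) (g⁻¹ • w) _, smul_inv_smul]
  exact this

theorem g6_conj_smul (g k : G6) (x : V6) : (g * k * g⁻¹) • x = g • k • g⁻¹ • x := by
  rw [mul_smul, mul_smul]

theorem Sb_conj {c : ℕ} {g k : G6} {v : V6} (hg : g ∈ KM c) (hk : k ∈ Sb c v) : g * k * g⁻¹ ∈ Sb c (g • v) := by
  refine ⟨(KM c).mul_mem ((KM c).mul_mem hg hk.1) ((KM c).inv_mem hg), ?_⟩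
  show (g * k * g⁻¹) • g • v = g • v
  rw [g6_conj_smul, inv_smul_smul, MulAction.mem_stabilizer_iff.1 hk.2]

theorem word_mem {c : ℕ} (hc : c < 3) : ∀ t < 2, word2 c (stabBig c) t ∈ Sb c (vec 85) ∧
    mm (word2 c (stabBig c) t) = mat ((stabBig c).mats.getD t 0) := by
  intro t ht
  obtain ⟨hs, hb, -⟩ := stabBig_ok c hc
  have hle := (stab_spec hc hs).1
  rw [hb] at hle
  have hmem : word2 c (stabBig c) t ∈ Sb c (vec 85) := hle (by
    interval_cases t <;> exact Subgroup.subset_closure (by simp))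
  simp only [stabB, Bool.and_eq_true, allBelowB_iff, List.all_eq_true, Nat.beq_eq, sameM_iff, Nat.blt,
    Nat.ble_eq, Bool.not_eq_true'] at hs
  obtain ⟨⟨⟨⟨⟨⟨⟨⟨⟨⟨-, hwl⟩, -⟩, hl⟩, hk⟩, -⟩, -⟩, -⟩, -⟩, -⟩, -⟩ := hs
  refine ⟨hmem, ?_⟩
  rw [(hk t ht).1]
  exact (word_spec hc _ fun j hj => hl _ (getD_mem [] (by omega)) j hj).2

theorem line_base {c : ℕ} (hc : c < 3) (x : V6)
    (h : ∀ k ∈ Sb c (vec 85), k • x = x ∨ k • x = x + vec 85) : ∃ a : R4, x = a • vec 85 := by
  obtain ⟨v, hv, rfl⟩ := exists_code x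
  have ht := line_ok c hc
  simp only [lineB, allBelowB_iff] at ht
  have hcond : ((List.range 2).all fun k =>
      fN (appM ((stabBig c).mats.getD k 0) v) fun u => Nat.beq u v || Nat.beq u (addC v 85)) = true := by
    refine List.all_eq_true.2 fun t ht' => ?_
    obtain ⟨hm, he⟩ := word_mem hc t (List.mem_range.1 ht')
    simp only [fN_eq, Bool.or_eq_true, Nat.beq_eq]
    have hlt : appM ((stabBig c).mats.getD t 0) v < 4096 := by
      unfold appM
      simp only [pack]
      omega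
    have hlt' : addC v 85 < 4096 := by
      unfold addC
      simp only [pack]
      omega
    rcases h _ hm with e | e
    · exact Or.inl (vec_inj hlt hv (by rw [vec_appM_smul he, e]))
    · exact Or.inr (vec_inj hlt hlt' (by rw [vec_appM_smul he, e, vec_addC]))
  have := ht v hv
  rw [hcond, cond_true, List.contains_iff_mem] at this
  exact line85_spec this

theorem kernel_elem {c : ℕ} {g : G6} {m : ℕ} (hg : g ∈ KM c) (he : mm g = mat m) (hb : appM m 85 = 85)
    (hact : ∀ b ∈ perpBasis, addC (appM m b) b ∈ line85) :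
    g ∈ Sb c (vec 85) ∧ ∀ w, Perp (vec 85) w → ∃ a : R4, g • w + w = a • vec 85 := by
  refine ⟨⟨hg, ?_⟩, ?_⟩
  · show g • vec 85 = vec 85
    rw [← vec_appM_smul he, hb]
  intro w hw
  obtain ⟨v, hv, rfl⟩ := exists_code w
  have hs := perpSpan_ok
  simp only [perpSpanB, fN_eq, allBelowB_iff] at hs
  have hmem := hs v hv
  rw [perpB_of hw, cond_true, testBit_maskL] at hmem
  refine span_ind (P := fun x => ∃ a : R4, g • x + x = a • vec 85) ?_ ?_ perpBasis ?_ v hmem
  · exact ⟨0, by rw [zero_smul, add_zero, smul_zero]⟩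
  · rintro x y ⟨a, ha⟩ ⟨b, hb⟩
    refine ⟨a + b, ?_⟩
    rw [g6_add, add_add_add_comm, ha, hb, add_smul]
  · intro b hb
    obtain ⟨a, ha⟩ := line85_spec (hact b hb)
    refine ⟨a, ?_⟩
    rw [← ha, vec_addC, vec_appM_smul he]

theorem kernel_range {c : ℕ} {n : ℕ} (f : Fin n → G6) (hf : Function.Injective f)
    (h : ∀ i, f i ∈ Sb c (vec 85) ∧ ∀ w, Perp (vec 85) w → ∃ a : R4, f i • w + w = a • vec 85) :
    ∃ S : Set G6, S.ncard = n ∧
      ∀ k ∈ S, k ∈ Sb c (vec 85) ∧ ∀ w, Perp (vec 85) w → ∃ a : R4, k • w + w = a • vec 85 :=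
  ⟨Set.range f, by rw [Set.ncard_range_of_injective hf, Nat.card_fin], by rintro _ ⟨i, rfl⟩; exact h i⟩

theorem kernel_base {c : ℕ} (hc : c < 3) : ∃ S : Set G6, S.ncard = 16 ∧
    ∀ k ∈ S, k ∈ Sb c (vec 85) ∧ ∀ w, Perp (vec 85) w → ∃ a : R4, k • w + w = a • vec 85 := by
  classical
  have h := eight_ok c hc
  simp only [eightB, Bool.and_eq_true, Nat.beq_eq, allBelowB_iff, List.all_eq_true, Bool.not_eq_true', fN_eq,
    List.contains_iff_mem, Nat.blt, Nat.ble_eq] at h
  obtain ⟨⟨⟨hlen, hdist⟩, hfix⟩, hact⟩ := h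
  have hl : ∀ i : Fin 16, (eightList c).getD i 0 ∈ eightList c := fun i => getD_mem 0 (by omega)
  choose g hgK hgm using fun i : Fin 16 => sy_exists hc _ (hfix _ (hl i)).1
  refine kernel_range g (fun i j e => ?_) fun i =>
    kernel_elem (hgK i) (hgm i) (hfix _ (hl i)).2 fun b hb => hact b hb _ (hl i)
  have e1 : ∀ i : Fin 16, sy c ((eightList c).getD (i : ℕ) 0) = g i := fun i => by rw [sy, ofM_eq (hgm i)]
  have e' := sy_inj hc (hfix _ (hl i)).1 (hfix _ (hl j)).1 ((e1 i).trans (e.trans (e1 j).symm))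
  by_contra hne
  rcases Nat.lt_or_gt_of_ne (fun q => hne (Fin.ext q)) with hlt | hlt
  · have := hdist j j.isLt i hlt
    rw [e', Nat.beq_refl] at this
    exact Bool.noConfusion this
  · have := hdist i i.isLt j hlt
    rw [e', Nat.beq_refl] at this
    exact Bool.noConfusion this

theorem perp_card_le (g : G6) : {w | Perp (g • vec 85) w}.ncard ≤ 1024 := by
  classical
  have hs := perpSpan_ok
  simp only [perpSpanB, fN_eq, allBelowB_iff] at hs
  have hlen : (spanL perpBasis).length ≤ 1024 := by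
    have : ∀ l : List ℕ, (spanL l).length = 2 ^ l.length := by
      intro l
      induction l with
      | nil => rfl
      | cons b l ih => rw [spanL, List.length_append, List.length_map, ih, List.length_cons, pow_succ, mul_two]
    rw [this]
    decide
  have hsub : {w | Perp (g • vec 85) w} ⊆ ↑((spanL perpBasis).toFinset.image fun v => g • vec v) := by
    intro w hw
    obtain ⟨v, hv, hvw⟩ := exists_code (g⁻¹ • w)
    have hmem := hs v hv
    rw [perpB_of (by rw [hvw]; exact perp_conj hw), cond_true, testBit_maskL] at hmem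
    exact Finset.mem_image.2 ⟨v, List.mem_toFinset.2 hmem, by rw [hvw, smul_inv_smul]⟩
  refine (Set.ncard_le_ncard hsub (Finset.finite_toSet _)).trans ?_
  rw [Set.ncard_coe_finset]
  exact Finset.card_image_le.trans ((List.toFinset_card_le _).trans hlen)

theorem pointFacts {c : ℕ} (hc : c < 3) {v : V6} (hv : v ∈ (orbBig c).set) : PointFacts c v := by
  obtain ⟨g, hg, rfl⟩ := (orbit_facts hc).2.2.2.2.2.2.2.2.1 _ hv
  obtain ⟨hs, hb, -⟩ := stabBig_ok c hc
  refine ⟨fun x hx => ?_, fun tw σ hadd hsmul hfix hmaps hcomm => ?_, perp_card_le g, ?_⟩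
  · obtain ⟨a, ha⟩ := line_base hc (g⁻¹ • x) fun k hk => by
      rcases hx _ (Sb_conj hg hk) with e | e <;> rw [g6_conj_smul] at e
      · exact Or.inl (smul_left_cancel g (by rw [e, smul_inv_smul]))
      · exact Or.inr (smul_left_cancel g (by rw [e, g6_add, smul_inv_smul]))
    exact ⟨a, by rw [← g6_scalar, ← ha, smul_inv_smul]⟩
  · have hR : rigB (orbA c) (stabBig c) (rigBig c) tw = true := by
      cases tw
      exacts [rigBig_ok c hc, rigBigTwist_ok c hc]
    exact (rigid_moved hc hs hR hg σ hadd hsmul (by rwa [hb]) hmaps (by rwa [hb])).2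
  · obtain ⟨S, hS, hSk⟩ := kernel_base hc
    refine ⟨(fun k => g * k * g⁻¹) '' S, ?_, ?_⟩
    · rw [Set.ncard_image_of_injective _ fun a b e => mul_left_cancel (mul_right_cancel e), hS]
    rintro _ ⟨k, hk, rfl⟩
    refine ⟨Sb_conj hg (hSk k hk).1, fun w hw => ?_⟩
    obtain ⟨a, ha⟩ := (hSk k hk).2 _ (perp_conj hw)
    exact ⟨a, by rw [g6_conj_smul, ← g6_scalar, ← ha, g6_add, smul_inv_smul]⟩

theorem herm_add_l (x y w : V6) :
    hermForm 6 R4 2 (x + y) w = hermForm 6 R4 2 x w + hermForm 6 R4 2 y w := by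
  simp only [hermForm, Pi.add_apply, add_mul, Finset.sum_add_distrib]

theorem herm_add_r (x y w : V6) :
    hermForm 6 R4 2 w (x + y) = hermForm 6 R4 2 w x + hermForm 6 R4 2 w y := by
  have h : ∀ a b : R4, (a + b) ^ 2 = a ^ 2 + b ^ 2 := by decide +kernel
  simp only [hermForm, Pi.add_apply, h, mul_add, Finset.sum_add_distrib]

theorem herm_scalar_l (a : R4) (x w : V6) : hermForm 6 R4 2 (a • x) w = a * hermForm 6 R4 2 x w := by
  simp only [hermForm, Pi.smul_apply, smul_eq_mul, Finset.mul_sum, mul_assoc]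

theorem herm_scalar_r (a : R4) (x w : V6) : hermForm 6 R4 2 w (a • x) = a ^ 2 * hermForm 6 R4 2 w x := by
  simp only [hermForm, Pi.smul_apply, smul_eq_mul, Finset.mul_sum]
  exact Finset.sum_congr rfl fun i _ => by ring

theorem perp_of_orth {v w : V6} (hv : hermForm 6 R4 2 v v = 0) (h1 : hermForm 6 R4 2 w v = 0)
    (h2 : hermForm 6 R4 2 v w = 0) : Perp v w := fun a => by
  rw [herm_add_l, herm_add_r, herm_add_r, herm_scalar_l, herm_scalar_l, herm_scalar_r, herm_scalar_r, hv, h1, h2]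
  simp

theorem r4_add_self_eight : ∀ a : R4, a + a = 0 := by decide +kernel

theorem v6_cancel {x d : V6} : x + d + d = x := by rw [add_assoc, v6_add_self, add_zero]

/-- A stabilising element acting trivially on the perpendicular modulo the line has order dividing four. -/
theorem pow_four_eight {v : V6} (hv : hermForm 6 R4 2 v v = 0) {k : G6} (hkv : k • v = v)
    (hk : ∀ w, Perp v w → ∃ a : R4, k • w + w = a • v) : k ^ 4 = 1 := by
  have hx : ∀ x : V6, (k ^ 4) • x = x := by
    intro x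
    obtain ⟨d, hd⟩ : ∃ d, k • x + x = d := ⟨_, rfl⟩
    have hkx : k • x = x + d := by rw [← hd, add_comm x, v6_cancel]
    have e1 : hermForm 6 R4 2 d v = 0 := by
      rw [← hd, herm_add_l]
      conv_lhs => enter [1]; rw [← hkv, herm_smul]
      exact r4_add_self_eight _
    have e2 : hermForm 6 R4 2 v d = 0 := by
      rw [← hd, herm_add_r]
      conv_lhs => enter [1]; rw [← hkv, herm_smul]
      exact r4_add_self_eight _
    obtain ⟨a, ha⟩ := hk d (perp_of_orth hv e1 e2)
    have hkd : k • d = d + a • v := by rw [← ha, add_comm d, v6_cancel]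
    have h2 : k • k • x = x + a • v := by rw [hkx, g6_add, hkd, hkx, ← add_assoc, v6_cancel]
    rw [show k ^ 4 = k * k * (k * k) by simp only [pow_succ, pow_zero, one_mul, mul_assoc], mul_smul, mul_smul, mul_smul, h2, g6_add, g6_add, g6_scalar,
      g6_scalar, hkv, hkv, h2, v6_cancel]
  refine mm_injective (Matrix.ext_of_mulVec_single fun j => ?_)
  rw [map_one, Matrix.one_mulVec, ← smul_def, hx]

/-- The subgroup acting trivially on the perpendicular modulo the line. -/
def lineKer (c : ℕ) (v : V6) : Subgroup ↥(Sb c v) where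
  carrier := {k | ∀ w, Perp v w → ∃ a : R4, (k : G6) • w + w = a • v}
  one_mem' := fun w _ => ⟨0, by rw [OneMemClass.coe_one, one_smul, v6_add_self, zero_smul]⟩
  mul_mem' := fun {k l} hk hl w hw => by
    obtain ⟨a, ha⟩ := hl w hw
    obtain ⟨b, hb⟩ := hk w hw
    refine ⟨a + b, ?_⟩
    rw [Subgroup.coe_mul, mul_smul, add_smul, ← hb]
    calc (k : G6) • (l : G6) • w + w = (k : G6) • ((l : G6) • w + w) + ((k : G6) • w + w) := by
          rw [g6_add, ← add_assoc, v6_cancel]
      _ = a • v + ((k : G6) • w + w) := by rw [ha, g6_scalar, MulAction.mem_stabilizer_iff.1 k.2.2]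
  inv_mem' := fun {k} hk w hw => by
    obtain ⟨a, ha⟩ := hk w hw
    refine ⟨a, smul_left_cancel (k : G6) ?_⟩
    rw [g6_add, InvMemClass.coe_inv, smul_inv_smul, g6_scalar, MulAction.mem_stabilizer_iff.1 k.2.2,
      add_comm, ha]

theorem lineKer_normal (c : ℕ) (v : V6) : (lineKer c v).Normal := ⟨fun k hk l w hw => by
  have hl : (l : G6) • v = v := MulAction.mem_stabilizer_iff.1 l.2.2
  obtain ⟨a, ha⟩ := hk _ (perp_conj (g := (l : G6)) (by rwa [hl]))
  refine ⟨a, ?_⟩
  rw [Subgroup.coe_mul, Subgroup.coe_mul, InvMemClass.coe_inv, g6_conj_smul]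
  conv_rhs => rw [← hl, ← g6_scalar, ← ha, g6_add, smul_inv_smul]⟩

end Cfsg.Lib.FischerLarge
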