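import Cfsg.Agent.Lib.FischerLarge.Eight

/-!
# The elementary abelian group of order eight over a line of coordinates
-/

set_option autoImplicit false
set_option linter.style.haveILetI false
set_option linter.unusedSectionVars false

namespace Cfsg.Lib.FischerLarge

open Cfsg Cfsg.Lib.SUSixU43 Cfsg.Lib.Extra

universe u

variable {G : Type u} [Group G] [Finite G]

/-- An element mapping a finite subgroup into itself normalises it. -/
theorem norm_of_le {V : Subgroup G} {h : G} (hh : ∀ a ∈ V, h * a * h⁻¹ ∈ V) :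
    h ∈ Subgroup.normalizer (V : Set G) := by
  have e : V.map (MulAut.conj h).toMonoidHom = V :=
    Subgroup.eq_of_le_of_card_ge (by rintro _ ⟨a, ha, rfl⟩; exact hh a ha)
      (Subgroup.card_map_of_injective (MulAut.conj h).injective).ge
  refine Subgroup.mem_normalizer_iff.2 fun a => ⟨hh a, fun ha => ?_⟩
  rw [← e] at ha
  obtain ⟨b, hb, e'⟩ := ha
  exact mul_left_cancel (mul_right_cancel (show h * b * h⁻¹ = h * a * h⁻¹ from e')) ▸ hb

theorem r4_smul_inj {v : V6} (hv : v ≠ 0) : Function.Injective fun a : R4 => a • v := by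
  intro a b e
  have e' : (a + b) • v = 0 := by
    rw [add_smul, show a • v = b • v from e, v6_add_self]
  have h : a + b = 0 := (smul_eq_zero.1 e').resolve_right hv
  calc a = a + (b + b) := by rw [r4_add_self_eight, add_zero]
    _ = b := by rw [← add_assoc, h, zero_add]

theorem om_cases : ∀ a : R4, a = 0 ∨ a = 1 ∨ a = om ∨ a = om + 1 := fun a => r4_cases a

variable {z : G} {Q : Subgroup G} (D : Coord z Q)

theorem Coord.cl_inv_eight {a : G} (ha : a ∈ Q) : D.cl a⁻¹ = D.cl a := by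
  have h := D.cl_mul a ha _ (inv_mem ha)
  rw [mul_inv_cancel, D.cl_one] at h
  have h2 := congrArg (D.cl a + ·) h
  simp only [add_zero, ← add_assoc, v6_add_self, zero_add] at h2
  exact h2.symm

theorem Coord.cl_z : D.cl z = 0 := by
  have h := D.cl_z_mul (one_mem Q)
  rwa [mul_one, D.cl_one] at h

theorem Coord.cl_central {a : G} (ha : a ∈ Q) (h : D.cl a = 0) : a = 1 ∨ a = z := by
  rcases (D.cl_eq 1 (one_mem _) a ha).1 (by rw [h, D.cl_one]) with e | e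
  · exact Or.inl e
  · exact Or.inr (by rw [e, mul_one])

theorem Coord.sg_scalar_M (m : ↥D.M) {v : V6} (h : D.π m • v = v) (a : R4) : D.sg m (a • v) = a • v := by
  rw [D.sg_M, g6_scalar, h]

/-- The elements with coordinates on the line of `v`. -/
noncomputable def Coord.four8 (v : V6) : Subgroup G where
  carrier := {a | a ∈ Q ∧ ∃ t : R4, D.cl a = t • v}
  one_mem' := ⟨one_mem _, 0, by rw [D.cl_one, zero_smul]⟩
  mul_mem' := fun {a b} ⟨ha, t, ht⟩ ⟨hb, u, hu⟩ =>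
    ⟨mul_mem ha hb, t + u, by rw [D.cl_mul a ha b hb, ht, hu, add_smul]⟩
  inv_mem' := fun {a} ⟨ha, t, ht⟩ => ⟨inv_mem ha, t, by rw [D.cl_inv_eight ha, ht]⟩

theorem Coord.mem_four8 {v : V6} {a : G} : a ∈ D.four8 v ↔ a ∈ Q ∧ ∃ t : R4, D.cl a = t • v := Iff.rfl

theorem Coord.z_four8 (v : V6) : z ∈ D.four8 v := by
  exact ⟨D.ctx.mem, 0, by rw [zero_smul, D.cl_z]⟩

theorem Coord.norm_four8 {v : V6} {h : G} (hh : Commute h z) (hl : ∀ t : R4, ∃ t' : R4, D.sg h (t • v) = t' • v) :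
    h ∈ Subgroup.normalizer (D.four8 v : Set G) := norm_of_le fun a ha => by
  obtain ⟨haQ, t, ht⟩ := ha
  obtain ⟨t', ht'⟩ := hl t
  exact ⟨conj_mem D.ctx hh haQ, t', by rw [D.cl_conj hh haQ, ht, ht']⟩

theorem Coord.Q_norm_eight (v : V6) {a : G} (ha : a ∈ Q) : a ∈ Subgroup.normalizer (D.four8 v : Set G) :=
  D.norm_four8 (D.ctx.central a ha).symm fun t => ⟨t, D.sg_Q ha _⟩

theorem Coord.scalar_norm (v : V6) (m : ↥D.M) (hm : D.π m = Zc) :
    (m : G) ∈ Subgroup.normalizer (D.four8 v : Set G) :=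
  D.norm_four8 (D.m_comm m) fun t => ⟨om * t, by rw [D.sg_M, hm, Zc_smul, smul_smul]⟩

section Line

variable {s t : G} (hs : D.Pt s) (ht : t ∈ Q) (htc : D.cl t = om • D.cl s)
include hs ht htc

omit ht htc in
theorem Coord.line_ne : D.cl s ≠ 0 ∧ hermForm 6 R4 2 (D.cl s) (D.cl s) = 0 :=
  D.orb.sing _ ((D.pt_iff hs.1).1 hs)

theorem Coord.t_cl : D.cl (s * t) = (om + 1) • D.cl s := by
  rw [D.cl_mul s hs.1 t ht, htc, add_smul, one_smul, add_comm]

theorem Coord.four8_cases {a : G} (ha : a ∈ D.four8 (D.cl s)) :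
    (a = 1 ∨ a = z) ∨ (a = s ∨ a = z * s) ∨ (a = t ∨ a = z * t) ∨ (a = s * t ∨ a = z * (s * t)) := by
  obtain ⟨haQ, u, hu⟩ := ha
  rcases om_cases u with rfl | rfl | rfl | rfl
  · exact Or.inl (D.cl_central haQ (by rw [hu, zero_smul]))
  · exact Or.inr (Or.inl ((D.cl_eq s hs.1 a haQ).1 (by rw [hu, one_smul])))
  · exact Or.inr (Or.inr (Or.inl ((D.cl_eq t ht a haQ).1 (by rw [hu, htc]))))
  · exact Or.inr (Or.inr (Or.inr ((D.cl_eq _ (mul_mem hs.1 ht) a haQ).1 (by rw [hu, D.t_cl hs ht htc]))))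

theorem Coord.four8_le (K : Subgroup G) (h0 : z ∈ K) (h1 : s ∈ K) (h2 : t ∈ K) : D.four8 (D.cl s) ≤ K := by
  intro a ha
  rcases D.four8_cases hs ht htc ha with (e | e) | (e | e) | (e | e) | (e | e) <;> rw [e]
  exacts [K.one_mem, h0, h1, K.mul_mem h0 h1, h2, K.mul_mem h0 h2, K.mul_mem h1 h2, K.mul_mem h0 (K.mul_mem h1 h2)]

omit ht htc in
theorem Coord.s_four8 : s ∈ D.four8 (D.cl s) := ⟨hs.1, 1, (one_smul _ _).symm⟩

omit hs in
theorem Coord.t_four8 : t ∈ D.four8 (D.cl s) := ⟨ht, om, htc⟩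

omit ht htc in
theorem Coord.four8_sq {a : G} (ha : a ∈ D.four8 (D.cl s)) : a * a = 1 := by
  obtain ⟨haQ, u, hu⟩ := ha
  refine (D.cl_sq a haQ).2 ?_
  rw [hu, herm_scalar, (D.line_ne hs).2, mul_zero]

omit ht htc in
theorem Coord.four8_comm {a b : G} (ha : a ∈ D.four8 (D.cl s)) (hb : b ∈ D.four8 (D.cl s)) : Commute a b :=
  commute_of_sq (D.four8_sq hs ha) (D.four8_sq hs hb) (D.four8_sq hs (mul_mem ha hb))

theorem Coord.card_four8 : Nat.card ↥(D.four8 (D.cl s)) = 8 := by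
  classical
  rw [(D.card_le_image (A := D.four8 (D.cl s)) fun a ha => ha.1).2 (D.z_four8 _)]
  have e : D.cl '' (D.four8 (D.cl s) : Set G) = Set.range fun u : R4 => u • D.cl s := by
    ext x
    constructor
    · rintro ⟨a, ⟨-, u, hu⟩, rfl⟩
      exact ⟨u, hu.symm⟩
    · rintro ⟨u, rfl⟩
      obtain ⟨a, ha, hac⟩ := D.cl_surj (u • D.cl s)
      exact ⟨a, ⟨ha, u, hac⟩, hac⟩
  rw [e, Set.ncard_range_of_injective (r4_smul_inj (D.line_ne hs).1), Nat.card_eq_fintype_card, card_r4]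

theorem Coord.t_facts : D.Pt t ∧ t ≠ s ∧ t ≠ z * s ∧ t ≠ z * (s * t) ∧ t ≠ s * t := by
  have hne := (D.line_ne hs).1
  have inj := r4_smul_inj hne
  have e0 : om ≠ 0 ∧ om ≠ 1 ∧ om ≠ om + 1 := by simp only [om]; decide +kernel
  have hcl0 : D.cl t ≠ 0 := fun h => e0.1 (inj (show om • D.cl s = (0 : R4) • D.cl s by rw [← htc, h, zero_smul]))
  have hcl1 : D.cl t ≠ D.cl s := fun h => e0.2.1 (inj (show om • D.cl s = (1 : R4) • D.cl s by rw [← htc, h, one_smul]))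
  have hcl2 : D.cl t ≠ D.cl (s * t) := fun h => e0.2.2 (inj (show om • D.cl s = (om + 1) • D.cl s by
    rw [← htc, h, D.t_cl hs ht htc]))
  refine ⟨⟨ht, D.four8_sq hs (D.t_four8 ht htc), fun h => hcl0 (by rw [h, D.cl_one]), fun h => hcl0 ?_⟩,
    fun h => hcl1 (by rw [h]), fun h => hcl1 ?_, fun h => hcl2 ?_, fun h => hcl2 (by rw [← h])⟩
  · rw [h, D.cl_z]
  · rw [h, D.cl_z_mul hs.1]
  · conv_lhs => rw [h]
    rw [D.cl_z_mul (mul_mem hs.1 ht)]

theorem Coord.exists_sep8 : ∃ y ∈ Q, y * t * y⁻¹ = z * t ∧ Commute y s := by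
  obtain ⟨hp, h1, h2, -, -⟩ := D.t_facts hs ht htc
  exact D.exists_sep ht hp.2.2.1 hp.2.2.2 hs.1 h1 h2

theorem Coord.mem_cent8 {h : G} (h0 : Commute h z) (h1 : Commute h s) (h2 : Commute h t) :
    h ∈ Subgroup.centralizer (D.four8 (D.cl s) : Set G) := Subgroup.mem_centralizer_iff.2 fun a ha => by
  have := D.four8_le hs ht htc (Subgroup.centralizer ({h} : Set G)) (mem_cent_of_commute h0.symm)
    (mem_cent_of_commute h1.symm) (mem_cent_of_commute h2.symm) ha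
  exact (commute_of_mem_cent this).eq

variable {g : G} (hg : g * z * g⁻¹ = s) (hne : s ≠ z)
include hg hne

omit ht htc in
theorem Coord.outer_norm {x : G} (hxz : Commute x z) (hxs : Commute x s) (hxM : x ∉ D.M) :
    x ∈ Subgroup.normalizer (D.four8 (D.cl s) : Set G) ∧ ∀ a : R4, D.sg x (a • D.cl s) = tau true a • D.cl s := by
  have hfix : D.sg x (D.cl s) = D.cl s := by rw [← D.cl_conj hxz hs.1, hxs.eq, mul_inv_cancel_right]
  have key : ∀ a : R4, D.sg x (a • D.cl s) = tau true a • D.cl s := fun a => by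
    rw [D.outer_twist hg hs.1 hne hxz hxM, hfix]
  exact ⟨D.norm_four8 hxz fun a => ⟨_, key a⟩, key⟩

theorem Coord.cent_le :
    Subgroup.centralizer (D.four8 (D.cl s) : Set G) ≤ D.M ⊓ Subgroup.centralizer ({s} : Set G) := by
  intro h hh
  have hz : Commute h z := (Subgroup.mem_centralizer_iff.1 hh z (D.z_four8 _)).symm
  have hs' : Commute h s := (Subgroup.mem_centralizer_iff.1 hh s (D.s_four8 hs)).symm
  have ht' : Commute h t := (Subgroup.mem_centralizer_iff.1 hh t (D.t_four8 ht htc)).symm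
  refine ⟨?_, mem_cent_of_commute hs'⟩
  by_contra hM
  have h1 := (D.outer_norm hs hg hne hz hs' hM).2 om
  rw [← htc, ← D.cl_conj hz ht, ht'.eq, mul_inv_cancel_right, htc] at h1
  have h2 := r4_smul_inj (D.line_ne hs).1 h1
  rw [tau_om.1] at h2
  exact absurd h2 (by simp only [om]; decide +kernel)

omit hg hne in
/-- An element of the stabiliser or its product with a fixed element centralises. -/
theorem Coord.cent_or {y m : G} (hy : y ∈ Q) (hyt : y * t * y⁻¹ = z * t) (hys : Commute y s) (hm : m ∈ D.M)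
    (hms : Commute m s) :
    (m ∈ Subgroup.centralizer (D.four8 (D.cl s) : Set G) ∧ y * m ∉ Subgroup.centralizer (D.four8 (D.cl s) : Set G)) ∨
      (y * m ∈ Subgroup.centralizer (D.four8 (D.cl s) : Set G) ∧ m ∉ Subgroup.centralizer (D.four8 (D.cl s) : Set G)) := by
  have hmz := D.m_comm ⟨m, hm⟩
  have hyz := (D.ctx.central y hy).symm
  have hcl : D.cl (m * t * m⁻¹) = D.cl t := by
    rw [show m = ((⟨m, hm⟩ : ↥D.M) : G) from rfl, D.π_cl _ t ht, htc, g6_scalar, ← D.π_cl _ s hs.1]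
    show om • D.cl (m * s * m⁻¹) = _
    rw [hms.eq, mul_inv_cancel_right]
  have hzt : z * t ≠ t := fun e => D.ctx.ne_one (mul_eq_right.1 e)
  have neg : ∀ {h : G}, h * t * h⁻¹ = z * t → h ∉ Subgroup.centralizer (D.four8 (D.cl s) : Set G) := fun he hh =>
    hzt (by rw [← he, ← Subgroup.mem_centralizer_iff.1 hh t (D.t_four8 ht htc), mul_inv_cancel_right])
  rcases (D.cl_eq t ht _ (conj_mem D.ctx hmz ht)).1 hcl.symm with e | e
  · refine Or.inl ⟨D.mem_cent8 hs ht htc hmz hms (mul_inv_eq_iff_eq_mul.1 e), neg ?_⟩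
    rw [show y * m * t * (y * m)⁻¹ = y * (m * t * m⁻¹) * y⁻¹ by group, e, hyt]
  · refine Or.inr ⟨D.mem_cent8 hs ht htc (hyz.mul_left hmz) (hys.mul_left hms) (mul_inv_eq_iff_eq_mul.1 ?_), neg e⟩
    rw [show y * m * t * (y * m)⁻¹ = y * (m * t * m⁻¹) * y⁻¹ by group, e,
      show y * (z * t) * y⁻¹ = y * z * y⁻¹ * (y * t * y⁻¹) by group, hyt, hyz.eq, mul_inv_cancel_right,
      ← mul_assoc, D.ctx.sq_z, one_mul]

omit hg hne in
theorem Coord.card_half (K : Subgroup G) (hK : K ≤ D.M ⊓ Subgroup.centralizer ({s} : Set G)) {y : G} (hy : y ∈ Q)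
    (hyK : y ∈ K) (hyt : y * t * y⁻¹ = z * t) (hys : Commute y s) :
    2 * Nat.card ↥(K ⊓ Subgroup.centralizer (D.four8 (D.cl s) : Set G)) = Nat.card ↥K := by
  set C := Subgroup.centralizer (D.four8 (D.cl s) : Set G)
  have h2 : (C.subgroupOf K).index = 2 := by
    rw [Subgroup.index_eq_two_iff']
    refine ⟨⟨y, hyK⟩, fun b => ?_⟩
    simp only [Subgroup.mem_subgroupOf, Subgroup.coe_mul]
    rcases D.cent_or hs ht htc hy hyt hys (hK b.2).1 (commute_of_mem_cent (hK b.2).2) with h | h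
    · exact Or.inr h
    · exact Or.inl h
  have h := (C.subgroupOf K).card_mul_index
  rw [h2] at h
  rw [← h, mul_comm, inf_comm, ← Subgroup.subgroupOf_map_subtype, Subgroup.card_map_of_injective K.subtype_injective]

/-- The preimage of the line under a conjugation sending `z` to `s`. -/
theorem Coord.pre_line : g⁻¹ * t * g ∈ Q ∧ g⁻¹ * z * g ∈ Q ∧ g⁻¹ * z * g ≠ z ∧
    ∃ a : R4, D.cl (g⁻¹ * t * g) = a • D.cl (g⁻¹ * z * g) := by
  set v := D.cl s with hv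
  set p := g⁻¹ * z * g with hpdef
  have hgp : g * p * g⁻¹ = z := by rw [hpdef]; group
  have hpQ : p ∈ Q := by
    obtain ⟨a, ha, e⟩ := D.ctx.mem_symm (g := g) (by rw [hg]; exact hs.1)
    have e' : g * a * g⁻¹ = z := e
    have e2 : p = a := by rw [hpdef, ← e']; group
    exact e2 ▸ ha
  have hpne : p ≠ z := fun e => hne (by rw [← hg, ← e, hgp, e])
  have hpg : g⁻¹ * z * g⁻¹⁻¹ = p := by rw [inv_inv]
  have hpp := D.pt_of_conj hpg hpQ hpne
  set e := g⁻¹ * t * g with hedef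
  have hge : g * e * g⁻¹ = t := by rw [hedef]; group
  have hez : Commute e z := (Commute.conj_iff g).1 (by
    rw [hge, hg]; exact D.four8_comm hs (D.t_four8 ht htc) (D.s_four8 hs))
  have hep : Commute e p := (Commute.conj_iff g).1 (by rw [hge, hgp]; exact (D.ctx.central t ht).symm)
  have hmove : ∀ m : ↥D.M, Commute (m : G) p →
      ∃ q ∈ Q, (D.cl q = 0 ∨ D.cl q = D.cl p) ∧ (m : G) * e * (m : G)⁻¹ = q * e := by
    intro m hmp
    have hmz := D.m_comm m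
    have hxz : Commute (g * m * g⁻¹) z := by
      have h := (Commute.conj_iff g).2 hmp
      rwa [hgp] at h
    have hxs : Commute (g * m * g⁻¹) s := by rw [← hg]; exact (Commute.conj_iff g).2 hmz
    have hfix : D.sg (g * m * g⁻¹) v = v := by rw [hv, ← D.cl_conj hxz hs.1, hxs.eq, mul_inv_cancel_right]
    obtain ⟨tw, htw⟩ := D.exists_twist hxz
    have hcl : D.cl (g * m * g⁻¹ * t * (g * m * g⁻¹)⁻¹) = tau tw om • v := by
      rw [D.cl_conj hxz ht, htc, htw, hfix]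
    have e1 : g * ((m : G) * e * (m : G)⁻¹) * g⁻¹ = g * m * g⁻¹ * t * (g * m * g⁻¹)⁻¹ := by rw [← hge]; group
    have hq : ∀ q, g * m * g⁻¹ * t * (g * m * g⁻¹)⁻¹ = g * q * g⁻¹ * t → (m : G) * e * (m : G)⁻¹ = q * e :=
      fun q hq => mul_left_cancel (mul_right_cancel (e1.trans (hq.trans (by rw [← hge]; group))))
    have clz : ∀ {b : G}, b = 1 ∨ b = z → D.cl b = 0 := fun hb => by
      rcases hb with rfl | rfl
      · exact D.cl_one
      · exact D.cl_z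
    cases tw with
    | false =>
      rw [tau_apply, cond_false, ← htc] at hcl
      rcases (D.cl_eq t ht _ (conj_mem D.ctx hxz ht)).1 hcl.symm with h1 | h1
      · exact ⟨1, one_mem _, Or.inl D.cl_one, hq 1 (by rw [h1]; group)⟩
      · exact ⟨p, hpQ, Or.inr rfl, hq p (by rw [h1, hgp])⟩
    | true =>
      rw [tau_om.1, ← D.t_cl hs ht htc] at hcl
      rcases (D.cl_eq _ (mul_mem hs.1 ht) _ (conj_mem D.ctx hxz ht)).1 hcl.symm with h1 | h1
      · exact ⟨z, D.ctx.mem, Or.inl (clz (Or.inr rfl)), hq z (by rw [h1, hg])⟩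
      · refine ⟨p * z, mul_mem hpQ D.ctx.mem, Or.inr ?_, hq (p * z) ?_⟩
        · rw [D.cl_mul p hpQ z D.ctx.mem, clz (Or.inr rfl), add_zero]
        · rw [h1, show g * (p * z) * g⁻¹ = g * p * g⁻¹ * (g * z * g⁻¹) by group, hgp, hg, mul_assoc]
  obtain ⟨f, hf, -, hfπ⟩ := D.exists_stab_hom hpp
  have hlift : ∀ k ∈ Sb D.c (D.cl p), ∃ m : ↥D.M, Commute (m : G) p ∧ D.π m = k := by
    intro k hk
    obtain ⟨⟨m, hmM, hmp⟩, hfm⟩ := hf ⟨k, hk⟩
    exact ⟨⟨m, hmM⟩, commute_of_mem_cent hmp, by rw [← hfπ ⟨m, hmM, hmp⟩ ⟨m, hmM⟩ rfl, hfm]⟩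
  have hB := D.conj_in_B hpg hpQ hpne
  rw [D.B_eq] at hB
  have F := pointFacts D.c_lt hB
  have hcomm : ∀ k ∈ Sb D.c (D.cl p), ∀ x, D.sg e (k • x) = k • D.sg e x := by
    intro k hk x
    obtain ⟨m, hmp, hπ⟩ := hlift k hk
    obtain ⟨q, hq, -, hqe⟩ := hmove m hmp
    have hmz := D.m_comm m
    have h1 : ∀ y, D.sg ((m : G) * e * (m : G)⁻¹) y = D.sg e y := fun y => by
      rw [hqe, D.sg_mul (D.ctx.central q hq).symm hez, D.sg_Q hq]
    rw [← hπ, ← D.sg_M, ← D.sg_M, ← h1 (D.sg (m : G) x),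
      ← D.sg_mul ((hmz.mul_left hez).mul_left hmz.inv_left) hmz, inv_mul_cancel_right, D.sg_mul hmz hez]
  obtain ⟨tw, htw⟩ := D.exists_twist hez
  have heQ : e ∈ Q := D.mem_of_sg hez (F.rigid tw (D.sg e) (D.sg_add hez) htw
    (by rw [← D.cl_conj hez hpQ, hep.eq, mul_inv_cancel_right])
    (by rw [← D.A_eq]; exact fun x hx => D.sg_A hez hx) hcomm)
  refine ⟨heQ, hpQ, hpne, F.line _ fun k hk => ?_⟩
  obtain ⟨m, hmp, hπ⟩ := hlift k hk
  obtain ⟨q, hq, hqc, hqe⟩ := hmove m hmp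
  rw [← hπ, ← D.π_cl m e heQ, hqe, D.cl_mul q hq e heQ]
  rcases hqc with h | h <;> rw [h]
  · exact Or.inl (zero_add _)
  · exact Or.inr (add_comm _ _)

theorem Coord.exists_swap :
    ∃ τ ∈ Subgroup.normalizer (D.four8 (D.cl s) : Set G), τ * z * τ⁻¹ = s := by
  obtain ⟨heQ, hpQ, hpne, a, ha⟩ := D.pre_line hs ht htc hg hne
  set p := g⁻¹ * z * g with hpdef
  have hgp : g * p * g⁻¹ = z := by rw [hpdef]; group
  have hpg : g⁻¹ * z * g⁻¹⁻¹ = p := by rw [inv_inv]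
  have hB : D.cl p ∈ D.B := D.conj_in_B hpg hpQ hpne
  obtain ⟨m, hm, hme⟩ := D.conj_in_M (D.pt_of_conj hpg hpQ hpne) hs.1
    (D.orb.transB _ hB _ (D.conj_in_B hg hs.1 hne))
  have hmp : D.π ⟨m, hm⟩ • D.cl p = D.cl s := by rw [← D.π_cl _ p hpQ]; exact congrArg D.cl hme
  have hτz : m * g⁻¹ * z * (m * g⁻¹)⁻¹ = s := by
    rw [show m * g⁻¹ * z * (m * g⁻¹)⁻¹ = m * (g⁻¹ * z * g) * m⁻¹ by group]
    exact hme
  refine ⟨m * g⁻¹, norm_of_le fun b hb => ?_, hτz⟩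
  refine (D.four8_le hs ht htc ((D.four8 (D.cl s)).comap (MulAut.conj (m * g⁻¹)).toMonoidHom) ?_ ?_ ?_ hb : _)
  · show m * g⁻¹ * z * (m * g⁻¹)⁻¹ ∈ D.four8 (D.cl s)
    rw [hτz]
    exact D.s_four8 hs
  · show m * g⁻¹ * s * (m * g⁻¹)⁻¹ ∈ D.four8 (D.cl s)
    rw [← hg, show m * g⁻¹ * (g * z * g⁻¹) * (m * g⁻¹)⁻¹ = m * z * m⁻¹ by group, (D.m_comm ⟨m, hm⟩).eq,
      mul_inv_cancel_right]
    exact D.z_four8 _
  · show m * g⁻¹ * t * (m * g⁻¹)⁻¹ ∈ D.four8 (D.cl s)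
    rw [show m * g⁻¹ * t * (m * g⁻¹)⁻¹ = m * (g⁻¹ * t * g) * m⁻¹ by group]
    refine ⟨conj_mem D.ctx (D.m_comm ⟨m, hm⟩) heQ, a, ?_⟩
    rw [show m = ((⟨m, hm⟩ : ↥D.M) : G) from rfl, D.π_cl _ _ heQ, ha, g6_scalar, hmp]

/-- Any basis of the group is the image of the standard one. -/
theorem Coord.eight_trans :
    ∀ a₀ ∈ D.four8 (D.cl s), ∀ a₁ ∈ D.four8 (D.cl s), ∀ a₂ ∈ D.four8 (D.cl s), a₀ ≠ 1 → a₁ ≠ 1 → a₁ ≠ a₀ →
      a₂ ≠ 1 → a₂ ≠ a₀ → a₂ ≠ a₁ → a₂ ≠ a₀ * a₁ →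
      ∃ h ∈ Subgroup.normalizer (D.four8 (D.cl s) : Set G), h * z * h⁻¹ = a₀ ∧ h * s * h⁻¹ = a₁ ∧ h * t * h⁻¹ = a₂ := by
  set V := D.four8 (D.cl s) with hV
  set N := Subgroup.normalizer (V : Set G) with hN
  obtain ⟨n, hn⟩ := D.exists_pre (Zc_mem D.c)
  have hnN : (n : G) ∈ N := D.scalar_norm _ n hn
  have move1 : ∀ a ∈ V, a ≠ 1 → a ≠ z → ∃ h ∈ N, Commute h z ∧ h * s * h⁻¹ = a := by
    rintro a ⟨haQ, u, hu⟩ h1 hz
    suffices key : ∃ h ∈ N, Commute h z ∧ D.cl (h * s * h⁻¹) = u • D.cl s by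
      obtain ⟨h, hh, hhz, hc⟩ := key
      obtain ⟨y, hy, hye⟩ := D.fuse (D.pt_conj hhz hs) haQ (hc.trans hu.symm)
      exact ⟨y * h, N.mul_mem (D.Q_norm_eight _ hy) hh, (D.ctx.central y hy).symm.mul_left hhz, by rw [← hye]; group⟩
    rcases om_cases u with rfl | rfl | rfl | rfl
    · rcases D.cl_central haQ (by rw [hu, zero_smul]) with e | e
      exacts [absurd e h1, absurd e hz]
    · exact ⟨1, one_mem _, Commute.one_left _, by rw [one_smul]; group⟩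
    · exact ⟨n, hnN, D.m_comm n, by rw [D.π_cl n s hs.1, hn, Zc_smul]⟩
    · refine ⟨(n : G) * n, N.mul_mem hnN hnN, (D.m_comm n).mul_left (D.m_comm n), ?_⟩
      rw [show (n : G) * n * s * ((n : G) * n)⁻¹ = (n : G) * ((n : G) * s * (n : G)⁻¹) * (n : G)⁻¹ by group,
        D.π_cl n _ (conj_mem D.ctx (D.m_comm n) hs.1), D.π_cl n s hs.1, hn, Zc_smul, Zc_smul, smul_smul,
        ← pow_two, tau_om.2.1]
  obtain ⟨τ, hτ, hτz⟩ := D.exists_swap hs ht htc hg hne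
  have move0 : ∀ a ∈ V, a ≠ 1 → ∃ h ∈ N, h * z * h⁻¹ = a := by
    intro a ha h1
    by_cases hz : a = z
    · exact ⟨1, one_mem _, by rw [hz]; group⟩
    · obtain ⟨h, hh, -, hs'⟩ := move1 a ha h1 hz
      exact ⟨h * τ, N.mul_mem hh hτ, by rw [← hs', ← hτz]; group⟩
  obtain ⟨y, hy, hyt, hys⟩ := D.exists_sep8 hs ht htc
  have hyz := (D.ctx.central y hy).symm
  obtain ⟨x, hxz, hxs, hxM⟩ := D.exists_outer hs
  obtain ⟨hxN, hxl⟩ := D.outer_norm hs hg hne hxz hxs hxM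
  have hxt : x * t * x⁻¹ = s * t ∨ x * t * x⁻¹ = z * (s * t) := by
    refine (D.cl_eq _ (mul_mem hs.1 ht) _ (conj_mem D.ctx hxz ht)).1 ?_
    rw [D.cl_conj hxz ht, htc, hxl, tau_om.1, D.t_cl hs ht htc]
  have move2 : ∀ a ∈ V, a ≠ 1 → a ≠ z → a ≠ s → a ≠ z * s →
      ∃ h ∈ N, Commute h z ∧ Commute h s ∧ h * t * h⁻¹ = a := by
    intro a ha h1 h2 h3 h4
    have hyN : y ∈ N := D.Q_norm_eight _ hy
    have hst : y * (s * t) * y⁻¹ = z * (s * t) := by
      rw [show y * (s * t) * y⁻¹ = y * s * y⁻¹ * (y * t * y⁻¹) by group, hyt, hys.eq, mul_inv_cancel_right,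
        ← mul_assoc, ← (D.ctx.central s hs.1).eq, mul_assoc]
    have hzz : y * (z * (s * t)) * y⁻¹ = s * t := by
      rw [show y * (z * (s * t)) * y⁻¹ = y * z * y⁻¹ * (y * (s * t) * y⁻¹) by group, hst, hyz.eq,
        mul_inv_cancel_right, ← mul_assoc, D.ctx.sq_z, one_mul]
    rcases D.four8_cases hs ht htc ha with (e | e) | (e | e) | (e | e) | (e | e)
    · exact absurd e h1
    · exact absurd e h2
    · exact absurd e h3
    · exact absurd e h4
    · exact ⟨1, one_mem _, Commute.one_left _, Commute.one_left _, by rw [e]; group⟩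
    · exact ⟨y, hyN, hyz, hys, by rw [e, hyt]⟩
    · rcases hxt with q | q
      · exact ⟨x, hxN, hxz, hxs, q.trans e.symm⟩
      · exact ⟨y * x, N.mul_mem hyN hxN, hyz.mul_left hxz, hys.mul_left hxs, by
          rw [show y * x * t * (y * x)⁻¹ = y * (x * t * x⁻¹) * y⁻¹ by group, q, hzz, e]⟩
    · rcases hxt with q | q
      · exact ⟨y * x, N.mul_mem hyN hxN, hyz.mul_left hxz, hys.mul_left hxs, by
          rw [show y * x * t * (y * x)⁻¹ = y * (x * t * x⁻¹) * y⁻¹ by group, q, hst, e]⟩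
      · exact ⟨x, hxN, hxz, hxs, q.trans e.symm⟩
  intro a₀ h0 a₁ h1 a₂ h2 n0 n1 n10 n2 n20 n21 n201
  obtain ⟨u, hu, huz⟩ := move0 a₀ h0 n0
  have hpull : ∀ a ∈ V, u⁻¹ * a * u ∈ V := fun a ha => by
    have := (Subgroup.mem_normalizer_iff.1 (N.inv_mem hu) a).1 ha
    rwa [inv_inv] at this
  have back : ∀ a b : G, u⁻¹ * a * u = b → a = u * b * u⁻¹ := fun a b e => by rw [← e]; group
  obtain ⟨w, hw, hwz, hws⟩ := move1 _ (hpull a₁ h1)
    (fun e => n1 (by rw [back _ _ e]; group)) (fun e => n10 (by rw [back _ _ e, huz]))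
  have huw : ∀ b, u * w * b * (u * w)⁻¹ = u * (w * b * w⁻¹) * u⁻¹ := fun b => by group
  have k0 : u * w * z * (u * w)⁻¹ = a₀ := by rw [huw, hwz.eq, mul_inv_cancel_right, huz]
  have k1 : u * w * s * (u * w)⁻¹ = a₁ := by rw [huw, hws]; group
  have huwN : u * w ∈ N := N.mul_mem hu hw
  have hpull' : (u * w)⁻¹ * a₂ * (u * w) ∈ V := by
    have := (Subgroup.mem_normalizer_iff.1 (N.inv_mem huwN) a₂).1 h2
    rwa [inv_inv] at this
  have back' : ∀ b : G, (u * w)⁻¹ * a₂ * (u * w) = b → a₂ = u * w * b * (u * w)⁻¹ := fun b e => by rw [← e]; group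
  obtain ⟨r, hr, hrz, hrs, hrt⟩ := move2 _ hpull' (fun e => n2 (by rw [back' _ e]; group))
    (fun e => n20 (by rw [back' _ e, k0])) (fun e => n21 (by rw [back' _ e, k1]))
    (fun e => n201 (by rw [back' _ e, ← k0, ← k1]; group))
  refine ⟨u * w * r, N.mul_mem huwN hr, ?_, ?_, ?_⟩
  · rw [show u * w * r * z * (u * w * r)⁻¹ = u * w * (r * z * r⁻¹) * (u * w)⁻¹ by group, hrz.eq,
      mul_inv_cancel_right, k0]
  · rw [show u * w * r * s * (u * w * r)⁻¹ = u * w * (r * s * r⁻¹) * (u * w)⁻¹ by group, hrs.eq,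
      mul_inv_cancel_right, k1]
  · rw [show u * w * r * t * (u * w * r)⁻¹ = u * w * (r * t * r⁻¹) * (u * w)⁻¹ by group, hrt]
    group

theorem Coord.far_cent : farPart D g ⊓ D.M ≤ Subgroup.centralizer (D.four8 (D.cl s) : Set G) := by
  intro a ha
  have hR := D.ctx_far hg
  have haz : Commute a z := commute_of_mem_cent ha.1.2
  have has : Commute a s := (hR.central a ha.1.1).symm
  refine D.mem_cent8 hs ht htc haz has ?_
  have htR : t ∈ Q.map (MulAut.conj g).toMonoidHom :=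
    ⟨_, (D.pre_line hs ht htc hg hne).1, by show g * (g⁻¹ * t * g) * g⁻¹ = t; group⟩
  rcases hR.comm a ha.1.1 t htR with e | e
  · exact mul_inv_eq_iff_eq_mul.1 (mul_inv_eq_one.1 e)
  · exfalso
    have h1 : a * t * a⁻¹ = s * t := mul_inv_eq_iff_eq_mul.1 e
    have h2 := D.π_cl ⟨a, ha.2⟩ t ht
    rw [htc, g6_scalar, ← D.π_cl _ s hs.1, show a * t * a⁻¹ = s * t from h1, D.t_cl hs ht htc, has.eq,
      mul_inv_cancel_right] at h2
    have h3 := r4_smul_inj (D.line_ne hs).1 h2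
    exact absurd h3 (by simp only [om]; decide +kernel)

end Line

end Cfsg.Lib.FischerLarge
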