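import Cfsg.Agent.Lib.FischerLarge.EightQuot
import Mathlib.LinearAlgebra.Matrix.ToLin

/-!
# The action on an elementary abelian subgroup of order eight
-/

set_option autoImplicit false
set_option linter.style.haveILetI false

namespace Cfsg.Lib.FischerLarge

universe u

/-- The space of dimension three. -/
abbrev W3 : Type := Fin 3 → ZMod 2

theorem zmod2_pow {A : Type*} [Monoid A] {u : A} (hu : u * u = 1) (x y : ZMod 2) :
    u ^ (x + y).val = u ^ x.val * u ^ y.val := by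
  rw [ZMod.val_add, ← pow_add, ← pow_eq_pow_mod _ (by rw [pow_two, hu])]

theorem zmod2_unit : ∀ a b : ZMod 2, a * b = 1 → a = 1 := by decide

/-- Transitivity on bases gives the special linear group. -/
theorem exists_rho {G : Type u} [Group G] [Finite G] (V : Subgroup G) (b₀ b₁ b₂ : G) (h0 : b₀ ∈ V) (h1 : b₁ ∈ V)
    (h2 : b₂ ∈ V) (hc : ∀ a ∈ V, ∀ a' ∈ V, Commute a a') (hsq : ∀ a ∈ V, a * a = 1) (hcard : Nat.card ↥V = 8)
    (hgen : ∀ K : Subgroup G, b₀ ∈ K → b₁ ∈ K → b₂ ∈ K → V ≤ K)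
    (hT : ∀ a₀ ∈ V, ∀ a₁ ∈ V, ∀ a₂ ∈ V, a₀ ≠ 1 → a₁ ≠ 1 → a₁ ≠ a₀ → a₂ ≠ 1 → a₂ ≠ a₀ → a₂ ≠ a₁ → a₂ ≠ a₀ * a₁ →
      ∃ h ∈ Subgroup.normalizer (V : Set G), h * b₀ * h⁻¹ = a₀ ∧ h * b₁ * h⁻¹ = a₁ ∧ h * b₂ * h⁻¹ = a₂) :
    ∃ ρ : ↥(Subgroup.normalizer (V : Set G)) →* SL32, Function.Surjective ρ ∧
      ∀ h, ρ h = 1 ↔ (h : G) ∈ Subgroup.centralizer (V : Set G) := by
  classical
  let φ : W3 → G := fun x => b₀ ^ (x 0).val * b₁ ^ (x 1).val * b₂ ^ (x 2).val
  have hφV : ∀ x, φ x ∈ V := fun x => V.mul_mem (V.mul_mem (V.pow_mem h0 _) (V.pow_mem h1 _)) (V.pow_mem h2 _)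
  have hφadd : ∀ x y, φ (x + y) = φ x * φ y := fun x y => by
    show b₀ ^ (x 0 + y 0).val * b₁ ^ (x 1 + y 1).val * b₂ ^ (x 2 + y 2).val =
      b₀ ^ (x 0).val * b₁ ^ (x 1).val * b₂ ^ (x 2).val * (b₀ ^ (y 0).val * b₁ ^ (y 1).val * b₂ ^ (y 2).val)
    rw [zmod2_pow (hsq _ h0), zmod2_pow (hsq _ h1), zmod2_pow (hsq _ h2)]
    have e1 : Commute (b₂ ^ (x 2).val) (b₀ ^ (y 0).val * b₁ ^ (y 1).val) :=
      hc _ (V.pow_mem h2 _) _ (V.mul_mem (V.pow_mem h0 _) (V.pow_mem h1 _))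
    have e2 : Commute (b₁ ^ (x 1).val) (b₀ ^ (y 0).val) := hc _ (V.pow_mem h1 _) _ (V.pow_mem h0 _)
    calc b₀ ^ (x 0).val * b₀ ^ (y 0).val * (b₁ ^ (x 1).val * b₁ ^ (y 1).val) * (b₂ ^ (x 2).val * b₂ ^ (y 2).val)
        = b₀ ^ (x 0).val * (b₀ ^ (y 0).val * b₁ ^ (x 1).val) * b₁ ^ (y 1).val * b₂ ^ (x 2).val * b₂ ^ (y 2).val := by
          simp only [mul_assoc]
      _ = b₀ ^ (x 0).val * b₁ ^ (x 1).val * ((b₀ ^ (y 0).val * b₁ ^ (y 1).val) * b₂ ^ (x 2).val) * b₂ ^ (y 2).val := by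
          rw [← e2.eq]; simp only [mul_assoc]
      _ = _ := by rw [← e1.eq]; simp only [mul_assoc]
  have hφ0 : φ 0 = 1 := by simp [φ]
  let e : Multiplicative W3 →* ↥V :=
    { toFun := fun x => ⟨φ x.toAdd, hφV _⟩
      map_one' := Subtype.ext hφ0
      map_mul' := fun x y => Subtype.ext (hφadd _ _) }
  have hsurj : Function.Surjective e := by
    have hb : ∀ x : W3, φ x ∈ e.range.map V.subtype := fun x => ⟨_, ⟨Multiplicative.ofAdd x, rfl⟩, rfl⟩
    have hle : V ≤ e.range.map V.subtype := by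
      refine hgen _ ?_ ?_ ?_
      · simpa [φ, ZMod.val_one] using hb (Pi.single 0 1)
      · simpa [φ, ZMod.val_one] using hb (Pi.single 1 1)
      · simpa [φ, ZMod.val_one] using hb (Pi.single 2 1)
    intro a
    obtain ⟨_, ⟨x, rfl⟩, hx⟩ := hle a.2
    exact ⟨x, Subtype.ext hx⟩
  have hbij : Function.Bijective e := (Nat.bijective_iff_surjective_and_card e).2 ⟨hsurj, by
    rw [hcard, Nat.card_congr (Multiplicative.toAdd (α := W3)), Nat.card_pi]
    simp⟩
  let E := MulEquiv.ofBijective e hbij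
  have hφinj : Function.Injective φ := fun x y h => by
    have := E.injective (a₁ := Multiplicative.ofAdd x) (a₂ := Multiplicative.ofAdd y) (Subtype.ext h)
    exact congrArg Multiplicative.toAdd this
  have hex : ∀ (h : ↥(Subgroup.normalizer (V : Set G))) (x : W3), ∃ y : W3, φ y = (h : G) * φ x * (h : G)⁻¹ := by
    intro h x
    obtain ⟨y, hy⟩ := hsurj ⟨_, (Subgroup.mem_normalizer_iff.1 h.2 _).1 (hφV x)⟩
    exact ⟨y.toAdd, congrArg Subtype.val hy⟩
  choose L hL using hex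
  have hLadd : ∀ h x y, L h (x + y) = L h x + L h y := fun h x y => hφinj (by
    rw [hφadd, hL, hL, hL, hφadd]; group)
  let T : ↥(Subgroup.normalizer (V : Set G)) →* Module.End (ZMod 2) W3 :=
    { toFun := fun h => AddMonoidHom.toZModLinearMap 2 (AddMonoidHom.mk' (L h) (hLadd h))
      map_one' := LinearMap.ext fun x => hφinj (by
        show φ (L 1 x) = φ x
        rw [hL]; simp)
      map_mul' := fun h k => LinearMap.ext fun x => hφinj (by
        show φ (L (h * k) x) = φ (L h (L k x))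
        rw [hL, hL, hL, Subgroup.coe_mul]; group) }
  let ρ0 : ↥(Subgroup.normalizer (V : Set G)) →* Matrix (Fin 3) (Fin 3) (ZMod 2) :=
    (LinearMap.toMatrixAlgEquiv' : Module.End (ZMod 2) W3 ≃ₐ[ZMod 2] Matrix (Fin 3) (Fin 3) (ZMod 2)).toMulEquiv.toMonoidHom.comp T
  have hdet : ∀ h, (ρ0 h).det = 1 := fun h => zmod2_unit _ (ρ0 h⁻¹).det (by
    rw [← Matrix.det_mul, ← map_mul, mul_inv_cancel, map_one, Matrix.det_one])
  let ρ : ↥(Subgroup.normalizer (V : Set G)) →* SL32 :=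
    { toFun := fun h => ⟨ρ0 h, hdet h⟩
      map_one' := Subtype.ext (map_one ρ0)
      map_mul' := fun h k => Subtype.ext (map_mul ρ0 h k) }
  have hent : ∀ h i j, (ρ0 h) i j = L h (Pi.single j 1) i := fun h i j => by
    show LinearMap.toMatrixAlgEquiv' (T h) i j = _
    rw [LinearMap.toMatrixAlgEquiv'_apply]
    congr 2
  refine ⟨ρ, fun A => ?_, fun h => ?_⟩
  · have hAinj : ∀ x y : W3, φ ((A : Matrix (Fin 3) (Fin 3) (ZMod 2)).mulVec x) =
        φ ((A : Matrix (Fin 3) (Fin 3) (ZMod 2)).mulVec y) → x = y := by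
      intro x y h
      have h' := congrArg ((A⁻¹ : SL32) : Matrix (Fin 3) (Fin 3) (ZMod 2)).mulVec (hφinj h)
      rwa [Matrix.mulVec_mulVec, Matrix.mulVec_mulVec, ← Matrix.SpecialLinearGroup.coe_mul, inv_mul_cancel,
        Matrix.SpecialLinearGroup.coe_one, Matrix.one_mulVec, Matrix.one_mulVec] at h'
    set M := (A : Matrix (Fin 3) (Fin 3) (ZMod 2)) with hM
    have hadd : φ (M.mulVec (Pi.single 0 1)) * φ (M.mulVec (Pi.single 1 1)) =
        φ (M.mulVec (Pi.single 0 1 + Pi.single 1 1)) := by rw [Matrix.mulVec_add, hφadd]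
    have hone : φ (M.mulVec 0) = 1 := by rw [Matrix.mulVec_zero, hφ0]
    have ne : ∀ x y : W3, x ≠ y → φ (M.mulVec x) ≠ φ (M.mulVec y) := fun x y hxy h => hxy (hAinj x y h)
    obtain ⟨h, hh, e0, e1, e2⟩ := hT _ (hφV (M.mulVec (Pi.single 0 1))) _ (hφV (M.mulVec (Pi.single 1 1)))
      _ (hφV (M.mulVec (Pi.single 2 1))) (hone ▸ ne _ _ (by decide)) (hone ▸ ne _ _ (by decide)) (ne _ _ (by decide))
      (hone ▸ ne _ _ (by decide)) (ne _ _ (by decide)) (ne _ _ (by decide)) (hadd ▸ ne _ _ (by decide))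
    refine ⟨⟨h, hh⟩, Subtype.ext ?_⟩
    show ρ0 ⟨h, hh⟩ = M
    have key : ∀ j, L ⟨h, hh⟩ (Pi.single j 1) = M.mulVec (Pi.single j 1) := by
      intro j
      refine hφinj ((hL _ _).trans ?_)
      fin_cases j
      · refine Eq.trans ?_ e0; simp [φ, ZMod.val_one]
      · refine Eq.trans ?_ e1; simp [φ, ZMod.val_one]
      · refine Eq.trans ?_ e2; simp [φ, ZMod.val_one]
    ext i j
    rw [hent, key, Matrix.mulVec_single_one, Matrix.col_apply]
  · constructor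
    · intro hh
      have hT1 : T h = 1 := by
        have h' : ρ0 h = 1 := congrArg Subtype.val hh
        exact (LinearMap.toMatrixAlgEquiv' : Module.End (ZMod 2) W3 ≃ₐ[ZMod 2] _).injective (h'.trans (map_one _).symm)
      refine Subgroup.mem_centralizer_iff.2 fun a ha => ?_
      obtain ⟨x, hx⟩ := hsurj ⟨a, ha⟩
      have hxa : φ x.toAdd = a := congrArg Subtype.val hx
      have := hL h x.toAdd
      rw [show L h x.toAdd = x.toAdd from LinearMap.congr_fun hT1 x.toAdd, hxa] at this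
      exact (mul_inv_eq_iff_eq_mul.1 this.symm).symm
    · intro hh
      refine Subtype.ext ?_
      show ρ0 h = 1
      have hT1 : T h = 1 := LinearMap.ext fun x => hφinj (by
        show φ (L h x) = φ x
        rw [hL, ← Subgroup.mem_centralizer_iff.1 hh _ (hφV x), mul_inv_cancel_right])
      show (LinearMap.toMatrixAlgEquiv' : Module.End (ZMod 2) W3 ≃ₐ[ZMod 2] _) (T h) = 1
      rw [hT1, map_one]

end Cfsg.Lib.FischerLarge
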