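import Cfsg.Agent.Lib.FischerLarge.EightGroup
import Cfsg.Agent.Lib.FischerLarge.EightRho
import Cfsg.Agent.Lib.PGroup.Basic

/-!
# The normaliser of the elementary abelian group of order eight
-/

set_option autoImplicit false
set_option linter.style.haveILetI false
set_option linter.unusedSectionVars false

namespace Cfsg.Lib.FischerLarge

open Cfsg Cfsg.Lib.SUSixU43 Cfsg.Lib.Extra
open scoped commutatorElement

universe u

/-- Two families of generators commuting modulo a normal subgroup. -/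
theorem quot_facts {R : Type*} [Group R] (N : Subgroup R) [N.Normal] (T : Set R)
    (hT : ∀ r, ∃ a ∈ T, ∃ b ∈ T, r = a * b) (hc : ∀ a ∈ T, ∀ b ∈ T, a * b * a⁻¹ * b⁻¹ ∈ N)
    (hs : ∀ a ∈ T, a * a ∈ N) : (∀ r r' : R, r * r' * r⁻¹ * r'⁻¹ ∈ N) ∧ ∀ r : R, r * r ∈ N := by
  have hcq : ∀ a ∈ T, ∀ b ∈ T, Commute (QuotientGroup.mk' N a) (QuotientGroup.mk' N b) := fun a ha b hb => by
    have h : QuotientGroup.mk' N (a * b * a⁻¹ * b⁻¹) = 1 := (QuotientGroup.eq_one_iff _).2 (hc a ha b hb)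
    rw [map_mul, map_mul, map_mul, map_inv, map_inv] at h
    exact mul_inv_eq_iff_eq_mul.1 (mul_inv_eq_one.1 h)
  have hsq : ∀ a ∈ T, QuotientGroup.mk' N a * QuotientGroup.mk' N a = 1 := fun a ha => by
    rw [← map_mul]; exact (QuotientGroup.eq_one_iff _).2 (hs a ha)
  have hall : ∀ r r' : R, Commute (QuotientGroup.mk' N r) (QuotientGroup.mk' N r') := fun r r' => by
    obtain ⟨a, ha, b, hb, rfl⟩ := hT r
    obtain ⟨c, hc', d, hd, rfl⟩ := hT r'
    rw [map_mul, map_mul]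
    exact ((hcq a ha c hc').mul_right (hcq a ha d hd)).mul_left ((hcq b hb c hc').mul_right (hcq b hb d hd))
  refine ⟨fun r r' => (QuotientGroup.eq_one_iff _).1 ?_, fun r => (QuotientGroup.eq_one_iff _).1 ?_⟩
  · show QuotientGroup.mk' N _ = 1
    rw [map_mul, map_mul, map_mul, map_inv, map_inv, (hall r r').eq, mul_inv_cancel_right, mul_inv_cancel]
  · obtain ⟨a, ha, b, hb, rfl⟩ := hT r
    show QuotientGroup.mk' N _ = 1
    rw [map_mul, map_mul, (hcq b hb a ha).mul_mul_mul_comm, hsq a ha, hsq b hb, one_mul]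

variable {G : Type u} [Group G] [Finite G] {z : G} {Q : Subgroup G} (D : Coord z Q)

theorem Coord.card_SbB {v : V6} (hv : v ∈ D.B) : Nat.card ↥(Sb D.c v) = 5760 := by
  have hS : Nat.card ↥(Sb D.c v) * D.B.ncard = Nat.card ↥(KM D.c) :=
    card_inf_stab (KM D.c) hv D.orb.invB fun y hy => D.orb.transB _ hv y hy
  rw [D.orb.cardB, D.card_model] at hS
  omega

/-- The kernel of the map to the alternating group acts trivially on the perpendicular modulo the line. -/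
theorem Coord.ker_line {s : G} (hs : D.Pt s) (hB : D.cl s ∈ D.B)
    {ψ : ↥(D.M ⊓ Subgroup.centralizer ({s} : Set G)) →* alternatingGroup (Fin 6)} (h2 : IsPGroup 2 ↥ψ.ker)
    {m : ↥D.M} (hms : Commute (m : G) s) (hm : ψ ⟨m, m.2, mem_cent_of_commute hms⟩ = 1) :
    ∀ w, Perp (D.cl s) w → ∃ a : R4, D.π m • w + w = a • D.cl s := by
  classical
  haveI := finite_G6
  have hv := D.orb.sing _ (Or.inr hB)
  obtain ⟨χ, -, hk16, hmax⟩ := D.orb.coreB _ hB
  obtain ⟨f, hf, -, hfπ⟩ := D.exists_stab_hom hs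
  obtain ⟨S, hS, hSk⟩ := (pointFacts D.c_lt (v := D.cl s) (by rw [← D.B_eq]; exact hB)).kernel
  have hK2 : IsPGroup 2 ↥(lineKer D.c (D.cl s)) := fun k => ⟨2, by
    refine Subtype.ext (Subtype.ext ?_)
    show ((k : ↥(Sb D.c (D.cl s))) : G6) ^ 4 = 1
    exact pow_four_eight hv.2 (MulAction.mem_stabilizer_iff.1 k.1.2.2) k.2⟩
  have h16 : 16 ≤ Nat.card ↥(lineKer D.c (D.cl s)) := by
    rw [← hS, ← Nat.card_coe_set_eq]
    exact Nat.card_le_card_of_injective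
      (fun k : ↥S => (⟨⟨k, (hSk k k.2).1⟩, (hSk k k.2).2⟩ : ↥(lineKer D.c (D.cl s))))
      fun a b e => Subtype.ext (congrArg (fun x : ↥(lineKer D.c (D.cl s)) => ((x : ↥(Sb D.c (D.cl s))) : G6)) e)
  have heq : lineKer D.c (D.cl s) = χ.ker :=
    Subgroup.eq_of_le_of_card_ge (hmax _ (lineKer_normal _ _) hK2) (hk16.le.trans h16)
  have hle := hmax (ψ.ker.map f) (Subgroup.Normal.map inferInstance f hf) (h2.map f)
  rw [← heq] at hle
  intro w hw
  have := hle ⟨_, hm, rfl⟩ w hw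
  rwa [hfπ _ m rfl] at this

theorem Coord.perp_of_comm {s q : G} (hs : D.Pt s) (hq : q ∈ Q)
    (hc : ∀ a ∈ D.four8 (D.cl s), Commute q a) : Perp (D.cl s) (D.cl q) := by
  intro u
  obtain ⟨a, ha, hac⟩ := D.cl_surj (u • D.cl s)
  have haV : a ∈ D.four8 (D.cl s) := ⟨ha, u, hac⟩
  have e : q * a * (q * a) = q * q := by
    rw [(hc a haV).symm.mul_mul_mul_comm, D.four8_sq hs haV, mul_one]
  rw [← hac, ← D.cl_mul q hq a ha, ← D.cl_sq q hq, ← D.cl_sq _ (mul_mem hq ha), e]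

theorem zz_cancel {H : Type*} [Group H] {z r : H} (hz : z * z = 1) (hc : Commute z r) (x : H) :
    z * r * (z * x) = r * x := by
  rw [hc.eq, mul_assoc, ← mul_assoc z z, hz, one_mul]

theorem g6_conj_sq {g h : G6} (e : g * g = 1) : h * g * h⁻¹ * (h * g * h⁻¹) = 1 := by
  rw [show h * g * h⁻¹ * (h * g * h⁻¹) = h * (g * g) * h⁻¹ by
    simp only [mul_assoc, inv_mul_cancel_left], e, mul_one, mul_inv_cancel]

theorem g6_pow_two_group {g : G6} (e : g * g = 1) : IsPGroup 2 ↥(Subgroup.zpowers g) := by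
  rintro ⟨x, hx⟩
  obtain ⟨i, rfl⟩ := Subgroup.mem_zpowers_iff.1 hx
  refine ⟨1, Subtype.ext ?_⟩
  show (g ^ i) ^ (2 ^ 1) = 1
  rw [pow_one, pow_two, ← (Commute.refl g).mul_zpow, e, one_zpow]

/-- No involution of a model fixes a set of more than `256` vectors. -/
theorem invol_fix_le {c : ℕ} (hc : c < 3) {g : G6} (hg : g ∈ KM c) (hne : g ≠ 1) (hsq : g * g = 1) {P : Set V6}
    (hP : ∀ x ∈ P, g • x = x) : P.ncard ≤ 256 := by
  have := finite_G6
  obtain ⟨k, hk, hks⟩ := two_le_syl hc (R := Subgroup.zpowers g) (Subgroup.zpowers_le.2 hg) (g6_pow_two_group hsq)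
  refine le_trans ?_ (invol_fix hc (hks g (Subgroup.mem_zpowers g))
    (fun e => hne (conj_eq_one_iff.1 e)) (g6_conj_sq hsq))
  rw [← Set.ncard_image_of_injective P (MulAction.injective k)]
  refine Set.ncard_le_ncard ?_ (Set.toFinite _)
  rintro _ ⟨x, hx, rfl⟩
  show (k * g * k⁻¹) • k • x = k • x
  rw [g6_conj_smul, inv_smul_smul, hP x hx]

variable {g s : G} (hg : g * z * g⁻¹ = s) (hs : s ∈ Q) (hne : s ≠ z)
include D hg hs hne

/-- The local subgroup. -/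
theorem Coord.eight_local : ∃ V : Subgroup G, Cfsg.IsElementaryAbelian 2 V ∧ Nat.card V = 8 ∧ z ∈ V ∧
    ∃ R : Subgroup G, R = (Cfsg.pCore 2 ↥(Subgroup.normalizer (V : Set G))).map (Subgroup.normalizer (V : Set G)).subtype ∧
      Cfsg.IsSpecial 2 ↥R ∧ Nat.card R = 2 ^ 15 ∧ (Subgroup.center ↥R).map R.subtype = V ∧
      ∃ _ : (R.subgroupOf (Subgroup.normalizer (V : Set G))).Normal,
        Nonempty (↥(Subgroup.normalizer (V : Set G)) ⧸ R.subgroupOf (Subgroup.normalizer (V : Set G)) ≃*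
          Matrix.SpecialLinearGroup (Fin 3) (ZMod 2) × ↥(alternatingGroup (Fin 6))) := by
  classical
  haveI : Fact (Nat.Prime 2) := ⟨Nat.prime_two⟩
  have hp := D.pt_of_conj hg hs hne
  have hB := D.conj_in_B hg hs hne
  obtain ⟨n, hn⟩ := D.exists_pre (Zc_mem D.c)
  obtain ⟨t, htdef⟩ : ∃ t, t = (n : G) * s * (n : G)⁻¹ := ⟨_, rfl⟩
  have ht : t ∈ Q := htdef ▸ conj_mem D.ctx (D.m_comm n) hs
  have htc : D.cl t = om • D.cl s := by rw [htdef, D.π_cl n s hs, hn, Zc_smul]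
  set V := D.four8 (D.cl s) with hV
  have hzV : z ∈ V := D.z_four8 _
  have hsV : s ∈ V := D.s_four8 hp
  have htV : t ∈ V := D.t_four8 ht htc
  have hcommV : ∀ a ∈ V, ∀ b ∈ V, Commute a b := fun a ha b hb => D.four8_comm hp ha hb
  have hsqV : ∀ a ∈ V, a * a = 1 := fun a ha => D.four8_sq hp ha
  have hcard : Nat.card ↥V = 8 := D.card_four8 hp ht htc
  obtain ⟨tp, hts, htzs, -, -⟩ := D.t_facts hp ht htc
  set N := Subgroup.normalizer (V : Set G) with hN
  set C := Subgroup.centralizer (V : Set G) with hC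
  set F := D.M ⊓ Subgroup.centralizer ({s} : Set G) with hF
  obtain ⟨ρ, hρ, hρk⟩ := exists_rho V z s t hzV hsV htV hcommV hsqV hcard (D.four8_le hp ht htc)
    (D.eight_trans hp ht htc hg hne)
  obtain ⟨-, -, -, ψ, hψ, hψk⟩ := D.far_structure hg hs hne
  have hCF : C ≤ F := D.cent_le hp ht htc hg hne
  have hCN : C ≤ N := fun c hc => norm_of_le fun a ha => by
    rw [← Subgroup.mem_centralizer_iff.1 hc a ha, mul_inv_cancel_right]
    exact ha
  have hQN : ∀ a ∈ Q, a ∈ N := fun a ha => D.Q_norm_eight _ ha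
  have hψQ : ∀ (y : G) (hy : y ∈ Q) (hyF : y ∈ F), ψ ⟨y, hyF⟩ = 1 := fun y hy hyF =>
    (hψk _).2 ⟨1, one_mem _, by rw [inv_one, one_mul]; exact hy⟩
  have hmemC : ∀ h : ↥ρ.ker, ((h : ↥N) : G) ∈ C := fun h => (hρk _).1 (MonoidHom.mem_ker.1 h.2)
  let incl : ↥ρ.ker →* ↥F := (N.subtype.comp ρ.ker.subtype).codRestrict F fun h => hCF (hmemC h)
  have hincl : Function.Injective incl := fun a b e =>
    Subtype.ext (Subtype.ext (congrArg (fun x : ↥F => (x : G)) e))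
  let ψL : ↥ρ.ker →* Alt6 := ψ.comp incl
  have hmk : ∀ c ∈ C, ∃ h : ↥ρ.ker, ((h : ↥N) : G) = c := fun c hc =>
    ⟨⟨⟨c, hCN hc⟩, MonoidHom.mem_ker.2 ((hρk ⟨c, hCN hc⟩).2 hc)⟩, rfl⟩
  obtain ⟨y, hy, hyt, hys⟩ := D.exists_sep8 hp ht htc
  have hyF : y ∈ F := ⟨D.Q_le hy, mem_cent_of_commute hys⟩
  have hψL : Function.Surjective ψL := by
    intro a
    obtain ⟨⟨m, hmF⟩, hm⟩ := hψ a
    rcases D.cent_or hp ht htc hy hyt hys hmF.1 (commute_of_mem_cent hmF.2) with h | h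
    · obtain ⟨k, hk⟩ := hmk m h.1
      exact ⟨k, (congrArg ψ (Subtype.ext hk)).trans hm⟩
    · obtain ⟨k, hk⟩ := hmk _ h.1
      refine ⟨k, (congrArg ψ (show incl k = ⟨y, hyF⟩ * ⟨m, hmF⟩ from Subtype.ext hk)).trans ?_⟩
      rw [map_mul, hψQ y hy hyF, one_mul, hm]
  have hA6 : Nat.card ↥(alternatingGroup (Fin 6)) = 360 := alt6_facts.2
  have hSb := D.card_SbB hB
  have hFc := D.card_stabM hp
  rw [hSb] at hFc
  have hkerc : Nat.card ↥ψ.ker = 2 ^ 16 := by
    have h := ψ.ker.card_mul_index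
    rw [Subgroup.index_ker, MonoidHom.range_eq_top.2 hψ, Subgroup.card_top, hA6, hFc] at h
    rw [show (2 : ℕ) ^ 16 = 65536 from rfl]
    omega
  have hψ2 : IsPGroup 2 ↥ψ.ker := IsPGroup.of_card hkerc
  have hL2 : IsPGroup 2 ↥ψL.ker := hψ2.of_injective
    ((incl.comp ψL.ker.subtype).codRestrict ψ.ker fun h => MonoidHom.mem_ker.2 (MonoidHom.mem_ker.1 h.2 : ψL _ = 1))
    fun a b e => Subtype.ext (hincl (congrArg (fun x : ↥ψ.ker => (x : ↥F)) e))
  obtain ⟨R0, hR0core, hR0, hR0n, ⟨eR⟩⟩ := exists_split ρ hρ ψL hψL hL2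
  set R := R0.map N.subtype with hR
  have hmemR : ∀ r, r ∈ R ↔ r ∈ C ∧ ∃ a ∈ farPart D g ⊓ D.M, a⁻¹ * r ∈ Q := by
    intro r
    constructor
    · rintro ⟨x, hx, rfl⟩
      rw [hR0] at hx
      obtain ⟨h, hh, rfl⟩ := hx
      exact ⟨hmemC h, (hψk (incl h)).1 hh⟩
    · rintro ⟨hrC, hr⟩
      obtain ⟨h, rfl⟩ := hmk r hrC
      refine ⟨h, ?_, rfl⟩
      rw [hR0]
      exact ⟨h, (hψk (incl h)).2 hr, rfl⟩
  have hfar : farPart D g ⊓ D.M ≤ C := D.far_cent hp ht htc hg hne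
  have hQR : ∀ a ∈ Q ⊓ C, a ∈ R := fun a ha => (hmemR a).2 ⟨ha.2, 1, one_mem _, by rw [inv_one, one_mul]; exact ha.1⟩
  have hVC : V ≤ C := fun a ha => Subgroup.mem_centralizer_iff.2 fun b hb => (hcommV b hb a ha).eq
  have hVR : V ≤ R := fun a ha => hQR a ⟨ha.1, hVC ha⟩
  have hCcard : 2 * Nat.card ↥C = 2 ^ 12 * 5760 := by
    have h := D.card_half hp ht htc F le_rfl hy hyF hyt hys
    rwa [inf_eq_right.2 hCF, hFc] at h
  have hRcard : Nat.card ↥R = 2 ^ 15 := by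
    have e1 : Nat.card ↥ρ.ker = Nat.card ↥C := Nat.card_congr
      { toFun := fun h => ⟨((h : ↥N) : G), hmemC h⟩
        invFun := fun c => ⟨⟨c, hCN c.2⟩, MonoidHom.mem_ker.2 ((hρk ⟨c, hCN c.2⟩).2 c.2)⟩
        left_inv := fun _ => rfl
        right_inv := fun _ => rfl }
    have h := ψL.ker.card_mul_index
    rw [Subgroup.index_ker, MonoidHom.range_eq_top.2 hψL, Subgroup.card_top, e1] at h
    rw [hR, Subgroup.card_map_of_injective N.subtype_injective, hR0,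
      Subgroup.card_map_of_injective ρ.ker.subtype_injective]
    have hA : Nat.card Alt6 = 360 := alt6_facts.2
    rw [hA] at h
    rw [show (2 : ℕ) ^ 15 = 32768 from rfl]
    omega
  have hQs : Q ⊓ Subgroup.centralizer ({s} : Set G) ≤ F := fun a ha => ⟨D.Q_le ha.1, ha.2⟩
  have hQC : 2 * Nat.card ↥(Q ⊓ C) = 2 ^ 12 := by
    have h := D.card_half hp ht htc _ hQs hy ⟨hy, mem_cent_of_commute hys⟩ hyt hys
    have e : Q ⊓ Subgroup.centralizer ({s} : Set G) ⊓ C = Q ⊓ C := by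
      refine le_antisymm (fun a ha => ⟨ha.1.1, ha.2⟩) fun a ha => ⟨⟨ha.1, (hCF ha.2).2⟩, ha.2⟩
    rw [e] at h
    have h2 := D.card_centQ hp
    omega
  have hPcard : 1024 ≤ (D.cl '' ((Q ⊓ C : Subgroup G) : Set G)).ncard := by
    have h := (D.card_le_image (A := Q ⊓ C) inf_le_left).1
    omega
  have hperp : ∀ q ∈ Q, q ∈ C → Perp (D.cl s) (D.cl q) := fun q hq hqC =>
    D.perp_of_comm hp hq fun a ha => (Subgroup.mem_centralizer_iff.1 hqC a ha).symm
  -- the commutators of the two parts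
  have hcross : ∀ a ∈ farPart D g ⊓ D.M, ∀ q ∈ Q, q ∈ C → a * q * a⁻¹ * q⁻¹ ∈ V := by
    intro a ha q hq hqC
    have has : Commute a s := commute_of_mem_cent (hCF (hfar ha)).2
    obtain ⟨u, hu⟩ := D.ker_line hp hB hψ2 (m := ⟨a, ha.2⟩) has
      ((hψk _).2 ⟨a, ha, by simp⟩) _ (hperp q hq hqC)
    have haq := conj_mem D.ctx (D.m_comm ⟨a, ha.2⟩) hq
    refine ⟨mul_mem haq (inv_mem hq), u, ?_⟩
    rw [D.cl_mul _ haq _ (inv_mem hq), D.cl_inv_eight hq]
    exact (congrArg (· + D.cl q) (D.π_cl ⟨a, ha.2⟩ q hq)).trans hu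
  have hRsub : R ≤ C := fun r hr => ((hmemR r).1 hr).1
  set VR := V.subgroupOf R with hVRdef
  have hcentral : ∀ v : ↥R, v ∈ VR → ∀ x : ↥R, x * v = v * x := fun v hv x =>
    Subtype.ext (Subgroup.mem_centralizer_iff.1 (hRsub x.2) (v : G) hv).symm
  haveI hVn : VR.Normal := ⟨fun v hv x => by rw [hcentral v hv x, mul_inv_cancel_right]; exact hv⟩
  have hR' := D.ctx_far hg
  have h1s : ∀ a : G, a = 1 ∨ a = s → a ∈ V := fun a ha => by
    rcases ha with rfl | rfl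
    exacts [one_mem _, hsV]
  have h1z : ∀ a : G, a = 1 ∨ a = z → a ∈ V := fun a ha => by
    rcases ha with rfl | rfl
    exacts [one_mem _, hzV]
  obtain ⟨hcomm, hsq⟩ := quot_facts VR
    {x : ↥R | (x : G) ∈ farPart D g ⊓ D.M ∨ ((x : G) ∈ Q ∧ (x : G) ∈ C)}
    (fun r => by
      obtain ⟨hrC, a, ha, hq⟩ := (hmemR r).1 r.2
      have haR : a ∈ R := (hmemR a).2 ⟨hfar ha, a, ha, by simp⟩
      exact ⟨⟨a, haR⟩, Or.inl ha, ⟨a⁻¹ * (r : G), mul_mem (inv_mem haR) r.2⟩,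
        Or.inr ⟨hq, mul_mem (inv_mem (hfar ha)) hrC⟩, Subtype.ext (by simp)⟩)
    (fun a ha b hb => by
      show (a : G) * b * (a : G)⁻¹ * (b : G)⁻¹ ∈ V
      rcases ha with ha | ha <;> rcases hb with hb | hb
      · exact h1s _ (hR'.comm _ ha.1.1 _ hb.1.1)
      · exact hcross _ ha _ hb.1 hb.2
      · have h := inv_mem (hcross _ hb _ ha.1 ha.2)
        simpa [mul_assoc] using h
      · exact h1z _ (D.ctx.comm _ ha.1 _ hb.1))
    (fun a ha => by
      show (a : G) * a ∈ V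
      rcases ha with ha | ha
      · exact h1s _ (hR'.sq _ ha.1.1)
      · exact h1z _ (D.ctx.sq _ ha.1))
  have hR2 : IsPGroup 2 ↥R := IsPGroup.of_card hRcard
  obtain ⟨a, haQC, b, hbQC, hab⟩ : ∃ a ∈ Q ⊓ C, ∃ b ∈ Q ⊓ C, ¬ Commute a b := by
    by_contra hall
    push Not at hall
    have := card_abelian_le D.ctx D.cardQ (inf_le_left : Q ⊓ C ≤ Q) hall
    omega
  have habz : a * b * a⁻¹ * b⁻¹ = z := (D.ctx.comm a haQC.1 b hbQC.1).resolve_left
    fun e => hab (mul_inv_eq_iff_eq_mul.1 (mul_inv_eq_one.1 e))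
  have hnorm : ∀ h ∈ N, ∀ r ∈ R, h * r * h⁻¹ ∈ R := by
    rintro h hh _ ⟨x, hx, rfl⟩
    exact ⟨⟨h, hh⟩ * x * ⟨h, hh⟩⁻¹, hR0n.conj_mem x hx _, rfl⟩
  have hgen : ∀ a' ∈ V, (∃ h ∈ N, h * z * h⁻¹ = a') → ∀ x : ↥R, (x : G) = a' → x ∈ commutator ↥R := by
    rintro _ - ⟨h, hh, rfl⟩ x hx
    have key : x = ⁅(⟨h * a * h⁻¹, hnorm h hh a (hQR a haQC)⟩ : ↥R), ⟨h * b * h⁻¹, hnorm h hh b (hQR b hbQC)⟩⁆ := by
      refine Subtype.ext ?_
      rw [hx, ← habz]
      simp [commutatorElement_def]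
      group
    rw [key]
    exact Subgroup.commutator_mem_commutator (Subgroup.mem_top _) (Subgroup.mem_top _)
  have hst : s ≠ t := hts.symm
  obtain ⟨h₁, h₁N, h₁z, -, -⟩ := D.eight_trans hp ht htc hg hne s hsV z hzV t htV hp.2.2.1 D.ctx.ne_one hne.symm
    tp.2.2.1 hts tp.2.2.2 (fun e => htzs (by rw [e, (D.ctx.central s hs).eq]))
  obtain ⟨h₂, h₂N, h₂z, -, -⟩ := D.eight_trans hp ht htc hg hne t htV z hzV s hsV tp.2.2.1 D.ctx.ne_one
    tp.2.2.2.symm hp.2.2.1 hst hne (fun e => htzs (by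
      rw [e, (D.ctx.central t ht).symm.eq, ← mul_assoc, D.ctx.sq_z, one_mul]))
  have hVcomm : VR ≤ commutator ↥R := by
    intro x hx
    have key := D.four8_le hp ht htc ((commutator ↥R).map R.subtype)
      ⟨⟨z, hVR hzV⟩, hgen z hzV ⟨1, one_mem _, by group⟩ _ rfl, rfl⟩
      ⟨⟨s, hVR hsV⟩, hgen s hsV ⟨h₁, h₁N, h₁z⟩ _ rfl, rfl⟩
      ⟨⟨t, hVR htV⟩, hgen t htV ⟨h₂, h₂N, h₂z⟩ _ rfl, rfl⟩ hx
    obtain ⟨w, hw, e⟩ := key
    rwa [Subtype.ext (show (w : G) = (x : G) from e)] at hw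
  have hcommV' : commutator ↥R ≤ VR := by
    rw [commutator_def, Subgroup.commutator_le]
    intro p _ q _
    rw [commutatorElement_def]
    exact hcomm p q
  have hfr : frattini ↥R = VR := by
    refine le_antisymm (Cfsg.Lib.PGroup.frattini_le_of_commutator_le_of_pow_mem (p := 2) hcommV' fun r => ?_)
      (hVcomm.trans (Cfsg.Lib.PGroup.commutator_le_frattini hR2))
    rw [pow_two]
    exact hsq r
  have hctr : Subgroup.center ↥R = VR := by
    refine le_antisymm (fun r hr => ?_) fun v hv => Subgroup.mem_center_iff.2 (hcentral v hv)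
    have hrc : ∀ x ∈ R, Commute (r : G) x := fun x hx =>
      (congrArg Subtype.val (Subgroup.mem_center_iff.1 hr ⟨x, hx⟩)).symm
    have hrC := hRsub r.2
    by_cases hrQ : (r : G) ∈ Q
    · obtain ⟨y', hy', hys', hyt'⟩ := D.exists_sep hs hp.2.2.1 hp.2.2.2 ht hst
        (fun e => htzs (by rw [e, ← mul_assoc, D.ctx.sq_z, one_mul]))
      have hvC : ∀ v ∈ V, ∀ x ∈ Q, x ∈ C → Commute v x := fun v hv x _ hx => Subgroup.mem_centralizer_iff.1 hx v hv
      -- adjust to commute with the two moving elements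
      obtain ⟨v1, hv1, hc1, hc1'⟩ : ∃ v1 ∈ V, Commute ((r : G) * v1) y ∧ Commute v1 y' := by
        rcases D.ctx.comm y hy (r : G) hrQ with e | e
        · exact ⟨1, one_mem _, by rw [mul_one]; exact (mul_inv_eq_iff_eq_mul.1 (mul_inv_eq_one.1 e)).symm,
            Commute.one_left _⟩
        · refine ⟨t, htV, Commute.symm (mul_inv_eq_iff_eq_mul.1 ?_), hyt'.symm⟩
          rw [show y * ((r : G) * t) * y⁻¹ = y * (r : G) * y⁻¹ * (y * t * y⁻¹) by group, hyt,
            mul_inv_eq_iff_eq_mul.1 e, zz_cancel D.ctx.sq_z (D.ctx.central _ hrQ)]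
      have hr1Q : (r : G) * v1 ∈ Q := mul_mem hrQ hv1.1
      obtain ⟨v2, hv2, hc2, hc2'⟩ : ∃ v2 ∈ V, Commute ((r : G) * v1 * v2) y' ∧ Commute v2 y := by
        rcases D.ctx.comm y' hy' _ hr1Q with e | e
        · exact ⟨1, one_mem _, by rw [mul_one]; exact (mul_inv_eq_iff_eq_mul.1 (mul_inv_eq_one.1 e)).symm,
            Commute.one_left _⟩
        · refine ⟨s, hsV, Commute.symm (mul_inv_eq_iff_eq_mul.1 ?_), hys.symm⟩
          rw [show y' * ((r : G) * v1 * s) * y'⁻¹ = y' * ((r : G) * v1) * y'⁻¹ * (y' * s * y'⁻¹) by group, hys',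
            mul_inv_eq_iff_eq_mul.1 e, zz_cancel D.ctx.sq_z (D.ctx.central _ hr1Q)]
      set r2 := (r : G) * v1 * v2 with hr2
      have hy2 : Commute r2 y := hc1.mul_left hc2'
      have hQC2 : ∀ x ∈ Q, x ∈ C → Commute r2 x := fun x hx hxC =>
        ((hrc x (hQR x ⟨hx, hxC⟩)).mul_left (hvC v1 hv1 x hx hxC)).mul_left (hvC v2 hv2 x hx hxC)
      have hb : ∀ b ∈ Q, Commute b s → Commute r2 b := fun b hb hbs => by
        rcases D.ctx.commute_or hy hyt hb ht with h | h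
        · exact hQC2 b hb (D.mem_cent8 hp ht htc (D.ctx.central b hb).symm hbs h)
        · have h2 := hQC2 _ (mul_mem hy hb)
            (D.mem_cent8 hp ht htc ((D.ctx.central _ (mul_mem hy hb)).symm) (hys.mul_left hbs) h)
          have h3 := hy2.inv_right.mul_right h2
          rwa [inv_mul_cancel_left] at h3
      have hall : ∀ x ∈ Q, Commute r2 x := fun x hx => by
        rcases D.ctx.commute_or hy' hys' hx hs with h | h
        · exact hb x hx h
        · have h3 := hc2.inv_right.mul_right (hb _ (mul_mem hy' hx) h)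
          rwa [inv_mul_cancel_left] at h3
      have h2V : r2 ∈ V := by
        rcases D.ctx.cent r2 hall with e | e <;> rw [e]
        exacts [one_mem _, hzV]
      have : (r : G) = r2 * v2⁻¹ * v1⁻¹ := by rw [hr2]; group
      show (r : G) ∈ V
      rw [this]
      exact mul_mem (mul_mem h2V (inv_mem hv2)) (inv_mem hv1)
    · exfalso
      have hrM : (r : G) ∈ D.M := (hCF hrC).1
      set m : ↥D.M := ⟨r, hrM⟩ with hm
      have hm1 : D.π m ≠ 1 := fun e => hrQ ((D.π_ker m).1 e)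
      have hm2 : D.π m * D.π m = 1 := by
        rw [← map_mul]
        exact (D.π_ker _).2 (hsq r).1
      have hfix : ∀ x ∈ D.cl '' ((Q ⊓ C : Subgroup G) : Set G), D.π m • x = x := by
        rintro _ ⟨q, hq, rfl⟩
        rw [← D.π_cl m q hq.1]
        show D.cl ((r : G) * q * (r : G)⁻¹) = _
        rw [(hrc q (hQR q hq)).eq, mul_inv_cancel_right]
      have := invol_fix_le D.c_lt (D.π_mem m) hm1 hm2 hfix
      omega
  have hsub : R.subgroupOf N = R0 := by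
    rw [hR]
    exact Subgroup.comap_map_eq_self_of_injective N.subtype_injective R0
  refine ⟨V, ⟨⟨⟨fun p q => Subtype.ext (hcommV p p.2 q q.2).eq⟩⟩, fun p hp' => by rw [pow_two]; exact hsqV p hp'⟩,
    hcard, hzV, R, by rw [hR, hR0core], ⟨hR2, by rw [hfr, hctr], ?_⟩, hRcard, ?_, ?_⟩
  · rw [hctr]
    exact le_antisymm hcommV' hVcomm
  · rw [hctr, hVRdef, Subgroup.subgroupOf_map_subtype, inf_eq_left.2 hVR]
  · haveI : (R.subgroupOf N).Normal := hsub ▸ hR0n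
    exact ⟨inferInstance, ⟨(QuotientGroup.quotientMulEquivOfEq hsub).trans eR⟩⟩

end Cfsg.Lib.FischerLarge
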