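import Cfsg.Agent.S4231
import Cfsg.Agent.Lib.Linear.SLBasic
import Cfsg.Agent.Lib.Core.Cores
import Mathlib.GroupTheory.SpecificGroups.Alternating.Simple

/-!
# An extension of the special linear group of order 168 by the alternating group of degree six
-/

set_option autoImplicit false
set_option linter.style.haveILetI false

namespace Cfsg.Lib.FischerLarge

open Cfsg Equiv

/-- The special linear group of order 168. -/
abbrev SL32 : Type := Matrix.SpecialLinearGroup (Fin 3) (ZMod 2)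

/-- The alternating group of degree six. -/
abbrev Alt6 : Type := ↥(alternatingGroup (Fin 6))

theorem sl32_facts : IsSimpleGroup SL32 ∧ Nat.card SL32 = 168 := by
  haveI : Fact (Nat.Prime 2) := ⟨Nat.prime_two⟩
  refine ⟨?_, ?_⟩
  · haveI := Cfsg.Lib.Linear.PSL_simple (F := ZMod 2) 3 (by norm_num) (fun h => absurd h (by norm_num))
    have hc : Subgroup.center SL32 = ⊥ := Subgroup.eq_bot_of_card_eq _ (by
      rw [Cfsg.Lib.Linear.card_center_SL]; simp [ZMod.card])
    have e : Matrix.ProjectiveSpecialLinearGroup (Fin 3) (ZMod 2) ≃* SL32 :=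
      (QuotientGroup.quotientMulEquivOfEq hc).trans QuotientGroup.quotientBot
    exact e.symm.isSimpleGroup
  · have h := Cfsg.Lib.Linear.card_SL_mul (F := ZMod 2) 3 (by norm_num)
    rw [ZMod.card, Fin.prod_univ_three] at h
    simpa using h

theorem alt6_facts : IsSimpleGroup Alt6 ∧ Nat.card Alt6 = 360 := by
  refine ⟨alternatingGroup.isSimpleGroup (α := Fin 6) (by rw [Nat.card_fin]; norm_num), ?_⟩
  have := two_mul_nat_card_alternatingGroup (α := Fin 6)
  rw [Nat.card_perm, Nat.card_fin, show Nat.factorial 6 = 720 from rfl] at this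
  show Nat.card ↥(alternatingGroup (Fin 6)) = 360
  omega

theorem alt6_noncomm : ∃ x y : Alt6, x * y ≠ y * x :=
  ⟨⟨swap (0 : Fin 6) 1 * swap 1 2, Perm.mem_alternatingGroup.2 (by decide)⟩,
    ⟨swap (2 : Fin 6) 3 * swap 3 4, Perm.mem_alternatingGroup.2 (by decide)⟩, fun h => by
      have h1 := congrArg (fun g : Alt6 => (g : Perm (Fin 6)) 1) h
      simp [Perm.mul_apply] at h1
      revert h1
      decide⟩

/-- A simple group of order divisible by three has no normal two-subgroup. -/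
theorem two_normal_bot {S : Type*} [Group S] [Finite S] [IsSimpleGroup S] (h3 : 3 ∣ Nat.card S)
    {P : Subgroup S} (hP : P.Normal) (h2 : IsPGroup 2 ↥P) : P = ⊥ := by
  haveI := Fact.mk Nat.prime_two
  refine hP.eq_bot_or_eq_top.resolve_right fun ht => ?_
  obtain ⟨k, hk⟩ := IsPGroup.iff_card.1 h2
  rw [ht, Subgroup.card_top] at hk
  exact absurd (Nat.prime_three.dvd_of_dvd_pow (hk ▸ h3)) (by norm_num)

theorem two_normal_bot_alt {P : Subgroup Alt6} (hP : P.Normal) (h2 : IsPGroup 2 ↥P) : P = ⊥ := by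
  haveI := alt6_facts.1
  exact two_normal_bot (alt6_facts.2 ▸ by norm_num) hP h2

theorem conj_range_normal {A : Type*} [Group A] : (MulAut.conj : A →* MulAut A).range.Normal :=
  ⟨fun x hx φ => by
    obtain ⟨a, rfl⟩ := hx
    exact ⟨φ a, MulEquiv.ext fun y => by simp [MulAut.mul_apply]⟩⟩

/-- Automorphisms of the alternating group of degree six induced through a simple group with an element of order
seven are inner. -/
theorem inner_of_seven {L : Type*} [Group L] [Finite L] (f : L →* MulAut Alt6) (N : Subgroup L) [N.Normal]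
    [IsSimpleGroup (L ⧸ N)] (h7 : 7 ∣ Nat.card (L ⧸ N))
    (hN : N ≤ Subgroup.comap f (MulAut.conj : Alt6 →* MulAut Alt6).range) (l : L) :
    f l ∈ (MulAut.conj : Alt6 →* MulAut Alt6).range := by
  haveI : (MulAut.conj : Alt6 →* MulAut Alt6).range.Normal := conj_range_normal
  haveI : Fact (Nat.Prime 7) := ⟨by norm_num⟩
  set N' := Subgroup.comap f (MulAut.conj : Alt6 →* MulAut Alt6).range with hN'
  have hnorm : (N'.map (QuotientGroup.mk' N)).Normal :=
    Subgroup.Normal.map inferInstance _ (QuotientGroup.mk'_surjective N)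
  rcases hnorm.eq_bot_or_eq_top with h | h
  · exfalso
    have hle : N' ≤ N := by
      rw [Subgroup.map_eq_bot_iff, QuotientGroup.ker_mk'] at h
      exact h
    obtain ⟨x, hx⟩ := exists_prime_orderOf_dvd_card' (G := L ⧸ N) 7 h7
    obtain ⟨l, rfl⟩ := QuotientGroup.mk_surjective x
    obtain ⟨a, m, hm, ham⟩ := Nat.exists_eq_two_pow_mul_odd (n := orderOf (f l))
      (orderOf_pos_iff.2 (isOfFinOrder_of_finite _)).ne'
    have ho : orderOf (f l ^ 2 ^ a) = m := by
      rw [orderOf_pow, ham, Nat.gcd_eq_right (dvd_mul_right _ _), Nat.mul_div_cancel_left _ (Nat.two_pow_pos a)]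
    obtain ⟨σ, hσ⟩ := Cfsg.Agent.S4231.mem_range 6 (by norm_num) (f l ^ 2 ^ a) (Or.inr (ho.symm ▸ hm))
    have hin : f (l ^ (2 ^ a * 2)) ∈ (MulAut.conj : Alt6 →* MulAut Alt6).range := by
      have hmem : σ * σ ∈ alternatingGroup (Fin 6) := Perm.mem_alternatingGroup.2 (by rw [map_mul, Int.units_mul_self])
      have h1 : f (l ^ (2 ^ a * 2)) = MulAut.conjNormal (σ * σ) := by
        rw [map_pow, pow_mul, ← hσ, pow_two, ← map_mul]
      exact ⟨⟨σ * σ, hmem⟩, (MulEquiv.ext fun y => Subtype.ext (by simp [MulAut.conjNormal_apply, mul_assoc])).trans h1.symm⟩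
    have hone : ((l : L ⧸ N)) ^ (2 ^ a * 2) = 1 := by
      rw [← QuotientGroup.mk_pow]
      exact (QuotientGroup.eq_one_iff _).2 (hle hin)
    have hd := orderOf_dvd_of_pow_eq_one hone
    rw [hx, ← pow_succ] at hd
    exact absurd ((Nat.Prime.dvd_of_dvd_pow (by norm_num : Nat.Prime 7)) hd) (by norm_num)
  · have hl : (l : L ⧸ N) ∈ N'.map (QuotientGroup.mk' N) := h ▸ Subgroup.mem_top _
    obtain ⟨k, hk, e⟩ := hl
    have hkl : k⁻¹ * l ∈ N := QuotientGroup.eq.1 e
    have := N'.mul_mem hk (hN hkl)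
    rwa [mul_inv_cancel_left] at this

/-- The splitting. -/
theorem exists_split {L : Type*} [Group L] [Finite L] (ρ : L →* SL32) (hρ : Function.Surjective ρ)
    (ψ : ↥ρ.ker →* Alt6) (hψ : Function.Surjective ψ) (hk : IsPGroup 2 ↥ψ.ker) :
    ∃ R : Subgroup L, R = Cfsg.pCore 2 L ∧ R = ψ.ker.map ρ.ker.subtype ∧
      ∃ _ : R.Normal, Nonempty (L ⧸ R ≃* SL32 × Alt6) := by
  classical
  haveI := sl32_facts.1
  haveI := alt6_facts.1
  haveI hcn : (MulAut.conj : Alt6 →* MulAut Alt6).range.Normal := conj_range_normal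
  have hinv : ∀ h : L, ψ.ker ≤ (ψ.comp (MulAut.conjNormal h : MulAut ↥ρ.ker).toMonoidHom).ker := by
    intro h
    have hb : (ψ.ker.map (ψ.comp (MulAut.conjNormal h : MulAut ↥ρ.ker).toMonoidHom)) = ⊥ :=
      two_normal_bot_alt (Subgroup.Normal.map inferInstance _
        (hψ.comp (MulAut.conjNormal h : MulAut ↥ρ.ker).surjective)) (hk.map _)
    exact (Subgroup.map_eq_bot_iff _).1 hb
  let F : L → Alt6 →* Alt6 := fun h => ψ.liftOfSurjective hψ ⟨_, hinv h⟩
  have hF : ∀ h a, F h (ψ a) = ψ (MulAut.conjNormal h a) := fun h a =>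
    MonoidHom.liftOfRightInverse_comp_apply ..
  have hFmul : ∀ h k x, F (h * k) x = F h (F k x) := fun h k x => by
    obtain ⟨a, rfl⟩ := hψ x
    rw [hF, hF, hF, map_mul]
    rfl
  have hF1 : ∀ x, F 1 x = x := fun x => by
    obtain ⟨a, rfl⟩ := hψ x
    rw [hF, map_one]
    rfl
  let θ : L →* MulAut Alt6 :=
    { toFun := fun h =>
        { toFun := F h
          invFun := F h⁻¹
          left_inv := fun x => by rw [← hFmul, inv_mul_cancel, hF1]
          right_inv := fun x => by rw [← hFmul, mul_inv_cancel, hF1]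
          map_mul' := map_mul (F h) }
      map_one' := MulEquiv.ext hF1
      map_mul' := fun h k => MulEquiv.ext (hFmul h k) }
  have hθ : ∀ c : ↥ρ.ker, θ c = MulAut.conj (ψ c) := fun c => MulEquiv.ext fun x => by
    obtain ⟨a, rfl⟩ := hψ x
    show F c (ψ a) = _
    rw [hF, MulAut.conj_apply, ← map_inv, ← map_mul, ← map_mul]
    congr 1
  haveI : IsSimpleGroup (L ⧸ ρ.ker) := (QuotientGroup.quotientKerEquivOfSurjective ρ hρ).isSimpleGroup
  have h7 : 7 ∣ Nat.card (L ⧸ ρ.ker) := by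
    rw [Nat.card_congr (QuotientGroup.quotientKerEquivOfSurjective ρ hρ).toEquiv, sl32_facts.2]
    norm_num
  have hall : ∀ l, θ l ∈ (MulAut.conj : Alt6 →* MulAut Alt6).range :=
    inner_of_seven θ ρ.ker h7 fun c hc => ⟨ψ ⟨c, hc⟩, (hθ ⟨c, hc⟩).symm⟩
  have hinj : Function.Injective (MulAut.conj : Alt6 →* MulAut Alt6) := by
    rw [← MonoidHom.ker_eq_bot_iff]
    refine (Subgroup.eq_bot_iff_forall _).2 fun a ha => ?_
    have hcomm : ∀ g : Alt6, g * a = a * g := fun g => by
      have h := MulEquiv.congr_fun (MonoidHom.mem_ker.1 ha) g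
      rw [MulAut.conj_apply, MulAut.one_apply, mul_inv_eq_iff_eq_mul] at h
      exact h.symm
    have hc : a ∈ Subgroup.center Alt6 := Subgroup.mem_center_iff.2 hcomm
    rcases (inferInstance : (Subgroup.center Alt6).Normal).eq_bot_or_eq_top with h | h
    · exact (Subgroup.eq_bot_iff_forall _).1 h a hc
    · exfalso
      obtain ⟨x, y, hxy⟩ := alt6_noncomm
      exact hxy (Subgroup.mem_center_iff.1 (h ▸ Subgroup.mem_top y) x)
  let E := MonoidHom.ofInjective hinj
  let χ : L →* Alt6 := E.symm.toMonoidHom.comp (θ.codRestrict _ hall)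
  have hχ : ∀ c : ↥ρ.ker, χ c = ψ c := fun c => E.symm_apply_eq.2 (Subtype.ext (hθ c))
  let Φ := ρ.prod χ
  have hsurj : Function.Surjective Φ := by
    rintro ⟨s, a⟩
    obtain ⟨l, rfl⟩ := hρ s
    obtain ⟨c, hc⟩ := hψ (a * (χ l)⁻¹)
    refine ⟨c * l, Prod.ext ?_ ?_⟩
    · show ρ ((c : L) * l) = ρ l
      rw [map_mul, MonoidHom.mem_ker.1 c.2, one_mul]
    · show χ ((c : L) * l) = a
      rw [map_mul, hχ, hc, inv_mul_cancel_right]
  have hker : Φ.ker = ψ.ker.map ρ.ker.subtype := by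
    ext l
    constructor
    · intro hl
      have h1 : ρ l = 1 := congrArg Prod.fst (MonoidHom.mem_ker.1 hl)
      have h2 : χ l = 1 := congrArg Prod.snd (MonoidHom.mem_ker.1 hl)
      exact ⟨⟨l, h1⟩, MonoidHom.mem_ker.2 ((hχ ⟨l, h1⟩).symm.trans h2), rfl⟩
    · rintro ⟨c, hc, rfl⟩
      exact MonoidHom.mem_ker.2 (Prod.ext (MonoidHom.mem_ker.1 c.2) ((hχ c).trans (MonoidHom.mem_ker.1 hc)))
  refine ⟨Φ.ker, ?_, hker, inferInstance, ⟨QuotientGroup.quotientKerEquivOfSurjective Φ hsurj⟩⟩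
  refine le_antisymm (Cfsg.Lib.Core.le_pCore' inferInstance (hker ▸ hk.map _)) fun x hx => ?_
  refine MonoidHom.mem_ker.2 (Prod.ext ?_ ?_)
  · have h1 := two_normal_bot (S := SL32) (sl32_facts.2 ▸ by norm_num)
      (Subgroup.Normal.map inferInstance ρ hρ) ((Cfsg.Lib.Core.pCore_isPGroup 2 L).map ρ)
    exact (Subgroup.eq_bot_iff_forall _).1 h1 _ ⟨x, hx, rfl⟩
  · have h1 := two_normal_bot_alt (Subgroup.Normal.map inferInstance χ
      fun a => ⟨(hψ a).choose, (hχ _).trans (hψ a).choose_spec⟩) ((Cfsg.Lib.Core.pCore_isPGroup 2 L).map χ)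
    exact (Subgroup.eq_bot_iff_forall _).1 h1 _ ⟨x, hx, rfl⟩

end Cfsg.Lib.FischerLarge
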