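import Cfsg.Agent.Lib.FischerLarge.PointsPlus
import Cfsg.Agent.Lib.FischerLarge.PairCode
import Cfsg.Agent.Lib.FischerLarge.FusionMain

/-!
# The Mathieu group on twenty-four points in the normaliser of the large elementary abelian subgroup
-/

set_option autoImplicit false

namespace Cfsg.Lib.FischerLarge

open Cfsg Cfsg.Lib Cfsg.Lib.SUSixU43 Cfsg.Lib.Extra
open scoped Pointwise

universe u

variable {G : Type u} [Group G] [Finite G] {z : G} {Q : Subgroup G} (D : Coord z Q)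

/-- The commutative structure of the large elementary abelian subgroup. -/
noncomputable abbrev Coord.lagCommGroup : CommGroup ↥D.lagC :=
  { (inferInstance : Group ↥D.lagC) with mul_comm := fun a b => Subtype.ext (D.lag_comm a.2 b.2).eq }

/-- The order of the unitary part. -/
theorem Coord.card_M : Nat.card ↥D.M = 2 ^ 13 * 9797760 := by
  have h := D.π.ker.card_mul_index
  have hk : D.π.ker = Q.subgroupOf D.M := by
    ext m
    rw [MonoidHom.mem_ker, D.π_ker, Subgroup.mem_subgroupOf]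
  rw [Subgroup.index_ker, D.π_range, D.card_model, hk,
    Nat.card_congr (Subgroup.subgroupOfEquivOfLe D.Q_le).toEquiv, D.cardQ] at h
  exact h.symm

theorem Coord.two_pow_dvd_nA {g₀ s : G} (hw : D.Wit g₀ s) : 2 ^ 21 ∣ Nat.card ↥D.nA := by
  haveI := Fact.mk Nat.prime_two
  obtain ⟨rfl, hs, hne⟩ := hw
  obtain ⟨T, -, hth, -⟩ := D.exists_sylow_thompson hs hne
  have hle : (T : Subgroup G) ≤ D.nA := by
    intro p hp
    refine D.nA_of_conj fun a ha => ?_
    have hmap : (T : Subgroup G).map (MulAut.conj p).toMonoidHom = (T : Subgroup G) := by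
      refine Subgroup.eq_of_le_of_card_ge ?_ (by rw [Subgroup.card_map_of_injective (MulAut.conj p).injective])
      rintro _ ⟨x, hx, rfl⟩
      exact mul_mem (mul_mem hp hx) (inv_mem hp)
    have h := Thompson.map_thompsonSubgroupOf (p := 2) (MulAut.conj p).toMonoidHom (T : Subgroup G)
      (MulAut.conj p).injective.injOn
    rw [hmap, hth] at h
    rw [← h]
    exact ⟨a, ha, rfl⟩
  refine (T.pow_dvd_card_of_pow_dvd_card ?_).trans (Subgroup.card_dvd_of_le hle)
  refine Dvd.dvd.trans ?_ (Subgroup.card_subgroup_dvd_card (Subgroup.centralizer ({z} : Set G)))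
  rw [← D.M_index, D.card_M]
  norm_num

theorem Coord.fifteen_dvd_nA (F : PtFacts D.c) :
    15 ∣ Nat.card ↥(D.nA ⊓ Subgroup.centralizer ({z} : Set G)) := by
  classical
  haveI := finite_G6
  set K := (D.nA.subgroupOf D.M).map D.π with hK
  have hKd : Nat.card ↥K ∣ Nat.card ↥(D.nA ⊓ Subgroup.centralizer ({z} : Set G)) := by
    refine (Subgroup.card_map_dvd _ _).trans ?_
    rw [← Subgroup.card_map_of_injective D.M.subtype_injective, Subgroup.subgroupOf_map_subtype]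
    exact Subgroup.card_dvd_of_le (inf_le_inf_left _ D.M_le)
  refine Dvd.dvd.trans ?_ hKd
  set O := {b : G6 | ∃ h ∈ K, h * F.U 0 1 * h⁻¹ = b} with hO
  have h01 : (0 : Fin 6) ≠ 1 := by decide
  have hU : ∀ i j, i ≠ j → F.U i j ∈ O := by
    intro i j hij
    obtain ⟨l, hil, hjl⟩ := six_third i j
    refine F.trans (fun i j _ => i ≠ j → F.U i j ∈ O) (fun _ => ⟨1, one_mem _, by rw [one_mul, inv_one, mul_one]⟩)
      (fun k i j _ h hne => ?_) i j l hij hil hjl hij
    obtain ⟨g, hg, hfix, hcomm⟩ := F.nrm k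
    obtain ⟨m, rfl⟩ := D.exists_pre hg
    have hne' : i ≠ j := fun e => hne (by rw [e])
    obtain ⟨h₁, hh₁, e⟩ := h hne'
    refine ⟨D.π m * h₁, mul_mem ⟨m, D.mem_nA_of_fix hfix, rfl⟩ hh₁, ?_⟩
    rw [mul_inv_rev, show D.π m * h₁ * F.U 0 1 * (h₁⁻¹ * (D.π m)⁻¹) =
      D.π m * (h₁ * F.U 0 1 * h₁⁻¹) * (D.π m)⁻¹ by simp only [mul_assoc], e, hcomm i j hne', mul_inv_cancel_right]
  set Pr := (Finset.univ : Finset (Fin 6 × Fin 6)).filter (fun u => u.1 < u.2) with hPr
  have hOe : O = ↑(Pr.image fun u => F.U u.1 u.2) := by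
    ext b
    simp only [Finset.coe_image, Set.mem_image, hPr, Finset.mem_coe, Finset.mem_filter, Finset.mem_univ, true_and]
    constructor
    · rintro ⟨_, ⟨m, hm, rfl⟩, rfl⟩
      obtain ⟨a, hA, ha⟩ := D.Cst_nonempty F h01
      have hmA : (m : G) * a * (m : G)⁻¹ ∈ D.lagC := D.nA_conj hm hA
      have he : D.π ⟨(m : G) * a * (m : G)⁻¹, hmA.1⟩ = D.π m * F.U 0 1 * (D.π m)⁻¹ := by
        rw [← ha, show (⟨(m : G) * a * (m : G)⁻¹, hmA.1⟩ : ↥D.M) = m * ⟨a, hA.1⟩ * m⁻¹ from rfl, map_mul, map_mul,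
          map_inv]
      obtain ⟨i, j, hij, e⟩ := F.U_surj _ (he ▸ D.lagC_image.2.2 ⟨_, hmA.1⟩ hmA)
        (fun e => F.U_ne 0 1 h01 (conj_eq_one_iff.1 e))
      rcases lt_or_gt_of_ne hij with h | h
      · exact ⟨(i, j), h, e⟩
      · exact ⟨(j, i), h, (F.U_symm j i hij.symm).trans e⟩
    · rintro ⟨u, hu, rfl⟩
      exact hU _ _ hu.ne
  have h15 : O.ncard = 15 := by
    rw [hOe, Set.ncard_coe_finset, Finset.card_image_of_injOn, hPr]
    · decide
    · intro u hu v hv e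
      simp only [hPr, Finset.coe_filter, Finset.mem_univ, true_and, Set.mem_ofPred_eq] at hu hv
      rcases F.U_inj u.1 u.2 v.1 v.2 hu.ne hv.ne e with ⟨e1, e2⟩ | ⟨e1, e2⟩
      · exact Prod.ext e1 e2
      · rw [e1, e2] at hu
        exact absurd hu (lt_asymm hv)
  exact h15 ▸ Dvd.intro_left _ (conj_orbit_card K (F.U 0 1))

/-- The normaliser modulo the elementary abelian subgroup is the Mathieu group. -/
theorem Coord.exists_mathieu {g₀ s : G} (hw : D.Wit g₀ s) {t : G} (ht : t ∈ D.Ts) :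
    ∃ ψ : ↥D.nA →* ↥Cfsg.M24, Function.Surjective ψ ∧ ψ.ker = D.lagC.subgroupOf D.nA ∧
      ∀ n : ↥D.nA, (n : G) * t * (n : G)⁻¹ = t ↔
        (ψ n : Equiv.Perm GolayPt) ∈ MulAction.stabilizer (Equiv.Perm GolayPt) ({none, some 0} : Set GolayPt) := by
  classical
  letI := D.lagCommGroup
  obtain ⟨Fr⟩ := D.exists_frame' hw
  obtain ⟨F⟩ := exists_ptFacts D.c_lt
  obtain ⟨hX, hT, -, -⟩ := D.class_sizes F hw
  have hsub : ∀ S : Set G, S ⊆ D.lagC → {a : ↥D.lagC | (a : G) ∈ S}.ncard = S.ncard := fun S hS =>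
    Set.ncard_preimage_of_injective_subset_range D.lagC.subtype_injective
      fun a ha => ⟨⟨a, hS ha⟩, rfl⟩
  let P : PairCode ↥D.lagC Pt24 :=
    { f := fun p => ⟨Fr.f p, Fr.mem p⟩
      T := {a | (a : G) ∈ D.Ts}
      sq := fun a => Subtype.ext (D.lagC_elem a a.2)
      one_notMem := fun h => h.2.1 rfl
      pair := Fr.pair
      surj := fun a ha => by
        obtain ⟨p, q, hpq, e⟩ := Fr.surj a ha
        exact ⟨p, q, hpq, Subtype.ext e⟩
      gen := by
        refine Subgroup.map_injective D.lagC.subtype_injective ?_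
        rw [MonoidHom.map_closure, ← MonoidHom.range_eq_map, Subgroup.range_subtype,
          show D.lagC.subtype '' {a | (a : G) ∈ D.Ts} = D.Ts from
            Set.image_preimage_eq_of_subset fun a ha => ⟨⟨a, ha.1⟩, rfl⟩]
        exact le_antisymm ((Subgroup.closure_le _).2 fun a ha => ha.1) Fr.gen
      cardα := by rw [Fintype.card_prod, Fintype.card_fin, card_r4]
      cardT := (hsub D.Ts fun a ha => ha.1).trans hT
      cardX := by
        refine Eq.trans (congrArg Set.ncard ?_) ((hsub D.Xs fun a ha => ha.1).trans hX)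
        ext a
        simp only [Set.mem_ofPred_eq, Coord.Xs, Coord.Ts, SetLike.coe_mem, true_and, not_and, not_not]
        refine ⟨fun h => h.2 fun e => h.1 (Subtype.ext e), fun h => ⟨fun e => D.ctx.ne_one ?_, fun _ => h⟩⟩
        rw [e] at h
        exact isConj_one_left.1 (show IsConj z 1 from h)
      nbrs := fun a ha => (hsub (D.nbrs a) fun b hb => hb.1.1).trans (D.card_nbrs F hw ha) }
  let φ : ↥D.nA →* MulAut ↥D.lagC := Subgroup.normalizerMonoidHom D.lagC
  have happ : ∀ (n : ↥D.nA) (a : ↥D.lagC), (φ n a : G) = (n : G) * a * (n : G)⁻¹ := fun _ _ => rfl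
  have hker : φ.ker = D.lagC.subgroupOf D.nA := by
    ext n
    rw [MonoidHom.mem_ker, Subgroup.mem_subgroupOf]
    constructor
    · intro h
      refine D.cent_lag hw F fun a ha => ?_
      have e := happ n ⟨a, ha⟩
      rw [h] at e
      exact (mul_inv_eq_iff_eq_mul.1 e.symm)
    · intro h
      refine MulEquiv.ext fun a => Subtype.ext ((happ n a).trans ?_)
      rw [(D.lag_comm h a.2).eq, mul_inv_cancel_right]
      rfl
  have hdvd : 1771 * 15 * 2 ^ 10 ∣ Nat.card ↥φ.range := by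
    have hm := φ.ker.card_mul_index
    rw [Subgroup.index_ker, hker, Nat.card_congr (Subgroup.subgroupOfEquivOfLe D.lag_le_nA).toEquiv,
      D.lagC_image.1, ← D.card_Xs_mul hw, hX] at hm
    have h2 : 2 ^ 21 ∣ Nat.card ↥(D.nA ⊓ Subgroup.centralizer ({z} : Set G)) := by
      refine (show Nat.Coprime (2 ^ 21) 1771 by norm_num).dvd_of_dvd_mul_left ?_
      rw [← hX, D.card_Xs_mul hw]
      exact D.two_pow_dvd_nA hw
    have h15 := D.fifteen_dvd_nA F
    have := (show Nat.Coprime (2 ^ 21) 15 by norm_num).mul_dvd_of_dvd_of_dvd h2 h15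
    refine Nat.dvd_of_mul_dvd_mul_left (k := 2 ^ 11) (by norm_num) ?_
    rw [hm, show 2 ^ 11 * (1771 * 15 * 2 ^ 10) = 1771 * (2 ^ 21 * 15) by norm_num]
    exact Nat.mul_dvd_mul_left _ this
  obtain ⟨ψ, hsurj, hψ, hst⟩ := P.exists_mathieu φ (fun n a ha => D.nA_Ts n.2 ha) hdvd
    (t := ⟨t, ht.1⟩) ht
  refine ⟨ψ, hsurj, hψ.trans hker, fun n => (Iff.trans ?_ (hst n))⟩
  rw [Subtype.ext_iff]
  exact Iff.rfl

omit [Finite G] in
theorem conj_map_normalizer (A : Subgroup G) (g : G) {m : G}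
    (hm : m ∈ Subgroup.normalizer (A.map (MulAut.conj g).toMonoidHom : Set G)) :
    g⁻¹ * m * g ∈ Subgroup.normalizer (A : Set G) := by
  refine Subgroup.mem_normalizer_iff.2 fun a => ?_
  have key : ∀ x, g * x * g⁻¹ ∈ A.map (MulAut.conj g).toMonoidHom ↔ x ∈ A := fun x =>
    ⟨fun ⟨y, hy, e⟩ => by
      have : y = x := mul_left_cancel (mul_right_cancel e)
      exact this ▸ hy, fun h => ⟨x, h, rfl⟩⟩
  refine (key a).symm.trans ((Subgroup.mem_normalizer_iff.1 hm (g * a * g⁻¹)).trans ?_)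
  rw [← key, show g * (g⁻¹ * m * g * a * (g⁻¹ * m * g)⁻¹) * g⁻¹ = m * (g * a * g⁻¹) * m⁻¹ by group]

/-- The same for a conjugate. -/
theorem Coord.exists_mathieu_conj {g₀ s : G} (hw : D.Wit g₀ s) (g : G) {A : Subgroup G}
    (hA : A = D.lagC.map (MulAut.conj g).toMonoidHom) {t : G} (ht : t ∈ A) (ht1 : t ≠ 1) (htz : ¬ IsConj z t) :
    ∃ χ : ↥(Subgroup.normalizer (A : Set G)) →* ↥Cfsg.M24, Function.Surjective χ ∧
      χ.ker = A.subgroupOf (Subgroup.normalizer (A : Set G)) ∧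
      ∀ m : ↥(Subgroup.normalizer (A : Set G)), (m : G) * t * (m : G)⁻¹ = t ↔
        (χ m : Equiv.Perm GolayPt) ∈ MulAction.stabilizer (Equiv.Perm GolayPt) ({none, some 0} : Set GolayPt) := by
  subst hA
  obtain ⟨t, ht', rfl⟩ := ht
  have htT : t ∈ D.Ts := ⟨ht', fun e => ht1 (by rw [e]; exact map_one _),
    fun h => htz (h.trans (isConj_iff.2 ⟨g, rfl⟩))⟩
  obtain ⟨ψ, hsurj, hker, hst⟩ := D.exists_mathieu hw htT
  let N := Subgroup.normalizer (D.lagC.map (MulAut.conj g).toMonoidHom : Set G)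
  let c : ↥N →* ↥D.nA :=
    { toFun := fun m => ⟨g⁻¹ * m * g, conj_map_normalizer D.lagC g m.2⟩
      map_one' := Subtype.ext (by simp)
      map_mul' := fun a b => Subtype.ext (by simp [mul_assoc]) }
  have hc : Function.Surjective c := by
    intro n
    refine ⟨⟨g * n * g⁻¹, ?_⟩, Subtype.ext (show g⁻¹ * (g * n * g⁻¹) * g = n by group)⟩
    refine Subgroup.mem_normalizer_iff.2 fun a => ?_
    constructor
    · rintro ⟨y, hy, rfl⟩
      refine ⟨(n : G) * y * (n : G)⁻¹, D.nA_conj n.2 hy, ?_⟩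
      show g * ((n : G) * y * (n : G)⁻¹) * g⁻¹ = g * n * g⁻¹ * (g * y * g⁻¹) * (g * n * g⁻¹)⁻¹
      group
    · rintro ⟨y, hy, e⟩
      refine ⟨(n : G)⁻¹ * y * n, by simpa using D.nA_conj (inv_mem n.2) hy, ?_⟩
      have e' : g * y * g⁻¹ = g * n * g⁻¹ * a * (g * n * g⁻¹)⁻¹ := e
      show g * ((n : G)⁻¹ * y * n) * g⁻¹ = a
      rw [show g * ((n : G)⁻¹ * y * n) * g⁻¹ = (g * n * g⁻¹)⁻¹ * (g * y * g⁻¹) * (g * n * g⁻¹) by group, e']
      group
  refine ⟨ψ.comp c, hsurj.comp hc, ?_, fun m => ?_⟩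
  · ext m
    rw [← MonoidHom.comap_ker, hker, Subgroup.mem_comap, Subgroup.mem_subgroupOf, Subgroup.mem_subgroupOf]
    constructor
    · intro h
      exact ⟨_, h, show g * (g⁻¹ * m * g) * g⁻¹ = m by group⟩
    · rintro ⟨y, hy, e⟩
      have e' : g * y * g⁻¹ = (m : G) := e
      show g⁻¹ * (m : G) * g ∈ D.lagC
      rw [← e', show g⁻¹ * (g * y * g⁻¹) * g = y by group]
      exact hy
  · refine Iff.trans ?_ (hst (c m))
    show (m : G) * (g * t * g⁻¹) * (m : G)⁻¹ = g * t * g⁻¹ ↔ g⁻¹ * m * g * t * (g⁻¹ * m * g)⁻¹ = t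
    rw [show (m : G) * (g * t * g⁻¹) * (m : G)⁻¹ = g * (g⁻¹ * m * g * t * (g⁻¹ * m * g)⁻¹) * g⁻¹ by group]
    exact ⟨fun e => mul_left_cancel (mul_right_cancel e), fun e => by rw [e]⟩

/-- The Thompson subgroup of every Sylow subgroup is a conjugate of the large one. -/
theorem Coord.thompson_eq {g₀ : G} (hs₀ : g₀ * z * g₀⁻¹ ∈ Q) (hne₀ : g₀ * z * g₀⁻¹ ≠ z) (T : Sylow 2 G) :
    ∃ g, Cfsg.thompsonSubgroupOf 2 (T : Subgroup G) = D.lagC.map (MulAut.conj g).toMonoidHom := by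
  haveI := Fact.mk Nat.prime_two
  obtain ⟨T₁, -, hth, -⟩ := D.exists_sylow_thompson hs₀ hne₀
  obtain ⟨g, hg⟩ := MulAction.exists_smul_eq G T₁ T
  refine ⟨g, ?_⟩
  have hTe : (T : Subgroup G) = (T₁ : Subgroup G).map (MulAut.conj g).toMonoidHom := by
    rw [← hg]; rfl
  rw [hTe, ← Thompson.map_thompsonSubgroupOf _ _ (MulAut.conj g).injective.injOn, hth]

end Cfsg.Lib.FischerLarge
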