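import Cfsg.Agent.Lib.FischerLarge.StabSU
import Cfsg.Agent.Lib.FischerLarge.LagGroup
import Cfsg.Agent.Lib.Extra.SubExtra

/-!
# Four-groups over a point of the small orbit and their centralizers in the centralizer of the involution
-/

set_option autoImplicit false
set_option linter.unusedSectionVars false

namespace Cfsg.Lib.FischerLarge

open Cfsg Cfsg.Lib.SUSixU43 Cfsg.Lib.Extra

universe u

/-- A finite group with commutators and squares in a central subgroup of order two that is the centre. -/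
theorem extraspecial_of_small {R : Type*} [Group R] [Finite R] (hp : IsPGroup 2 R) (c : R) (hc1 : c ≠ 1)
    (hcomm : ∀ a b : R, a * b * a⁻¹ * b⁻¹ = 1 ∨ a * b * a⁻¹ * b⁻¹ = c) (hsq : ∀ a : R, a * a = 1 ∨ a * a = c)
    (hcc : ∀ a : R, a * c = c * a) (hna : ∃ a b : R, a * b ≠ b * a)
    (hcen : ∀ x : R, (∀ a, x * a = a * x) → x = 1 ∨ x = c) : Cfsg.IsExtraspecial 2 R := by
  have : Fact (Nat.Prime 2) := ⟨Nat.prime_two⟩
  have hzc : c ∈ Subgroup.center R := Subgroup.mem_center_iff.2 hcc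
  have hC2 : Nat.card (Subgroup.center R) = 2 := by
    refine Nat.card_eq_two_iff.2 ⟨1, ⟨c, hzc⟩, fun h => hc1 (congrArg Subtype.val h).symm,
      Set.eq_univ_iff_forall.2 fun u => ?_⟩
    rcases hcen u fun a => (Subgroup.mem_center_iff.1 u.2 a).symm with h | h
    · exact Or.inl (Subtype.ext h)
    · exact Or.inr (Subtype.ext h)
  have hsmall : ∀ u : R, (u = 1 ∨ u = c) → u ∈ Subgroup.center R := fun u hu => by
    rcases hu with rfl | rfl
    exacts [one_mem _, hzc]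
  have hle : commutator R ≤ Subgroup.center R := by
    rw [commutator_def, Subgroup.commutator_le]
    intro u _ v _
    exact hsmall _ (hcomm u v)
  have hne : commutator R ≠ ⊥ := fun h => by
    obtain ⟨a, b, hab⟩ := hna
    have h1 := Subgroup.commutator_mem_commutator (Subgroup.mem_top a) (Subgroup.mem_top b)
    rw [← commutator_def, h, Subgroup.mem_bot] at h1
    exact hab (mul_inv_eq_iff_eq_mul.1 (mul_inv_eq_one.1 h1))
  have heq : commutator R = Subgroup.center R := by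
    refine Subgroup.eq_of_le_of_card_ge hle ?_
    rw [hC2]
    exact (Subgroup.one_lt_card_iff_ne_bot _).2 hne
  refine ⟨⟨hp, le_antisymm ?_ (heq ▸ Lib.PGroup.commutator_le_frattini hp), heq⟩, hC2⟩
  exact Lib.PGroup.frattini_le_of_commutator_le_of_pow_mem (p := 2) hle fun u =>
    hsmall _ (by simpa [pow_two] using hsq u)

variable {G : Type u} [Group G] [Finite G] {z : G} {Q : Subgroup G} (D : Coord z Q)

include D in
/-- An element moving a point halves the centralizer of the point in a subgroup. -/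
theorem Coord.card_move_half {P : Subgroup G} (hP : P ≤ Q) {a y : G} (ha : a ∈ Q) (hy : y ∈ P)
    (hya : y * a * y⁻¹ = z * a) :
    2 * Nat.card ↥(P ⊓ Subgroup.centralizer ({a} : Set G)) = Nat.card ↥P := by
  have hidx : ((Subgroup.centralizer ({a} : Set G)).subgroupOf P).index = 2 := by
    rw [Subgroup.index_eq_two_iff]
    refine ⟨⟨y, hy⟩, fun b => ?_⟩
    simp only [Subgroup.mem_subgroupOf, Subgroup.coe_mul, Subgroup.mem_centralizer_singleton_iff]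
    have key : ∀ w ∈ Q, w * a = a * w ∨ w * a = z * (a * w) := fun w hw => by
      rcases D.ctx.comm w hw a ha with h | h
      · exact Or.inl (mul_inv_eq_iff_eq_mul.1 (mul_inv_eq_one.1 h))
      · refine Or.inr ?_
        rw [← mul_assoc]
        exact mul_inv_eq_iff_eq_mul.1 (mul_inv_eq_iff_eq_mul.1 h)
    have hy' : y * a = z * (a * y) := by rw [← mul_assoc]; exact mul_inv_eq_iff_eq_mul.1 hya
    have hzb : z * (b : G) = b * z := (D.ctx.central _ (hP b.2)).eq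
    rcases key b (hP b.2) with h | h
    · refine Or.inr ⟨h, fun h' => D.ctx.ne_one ?_⟩
      have e : (b : G) * y * a = z * (a * (b * y)) := by
        rw [mul_assoc, hy', ← mul_assoc, ← hzb, mul_assoc, ← mul_assoc (b : G) a, h]
        simp only [mul_assoc]
      rw [h'] at e
      exact mul_eq_right.1 e.symm
    · refine Or.inl ⟨?_, fun h' => D.ctx.ne_one ?_⟩
      · rw [mul_assoc, hy', ← mul_assoc, ← hzb, mul_assoc, ← mul_assoc (b : G) a, h]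
        simp only [← mul_assoc, D.ctx.sq_z, one_mul]
      · rw [h'] at h
        exact mul_eq_right.1 h.symm
  have h := ((Subgroup.centralizer ({a} : Set G)).subgroupOf P).card_mul_index
  rw [hidx] at h
  rw [← h, mul_comm, inf_comm, ← Subgroup.subgroupOf_map_subtype, Subgroup.card_map_of_injective P.subtype_injective]

/-- A four-group over the multiples of a coordinate vector. -/
structure Coord.IsQuad (v : V6) (E : Subgroup G) : Prop where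
  small : v ∈ D.A
  le : E ≤ Q
  sq : ∀ a ∈ E, a * a = 1
  inj : ∀ a ∈ E, D.cl a = 0 → a = 1
  cls : ∀ b : R4, ∃ a ∈ E, D.cl a = b • v
  only : ∀ a ∈ E, ∃ b : R4, D.cl a = b • v
  card : Nat.card ↥E = 4

theorem Coord.om_smul_A {v : V6} (hv : v ∈ D.A) : om • v ∈ D.A :=
  Zc_smul v ▸ D.orb.invA _ (Zc_mem D.c) v hv

theorem Coord.smul_A {v : V6} (hv : v ∈ D.A) {b : R4} (hb : b ≠ 0) : b • v ∈ D.A := by
  rcases r4_cases b with rfl | rfl | rfl | rfl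
  · exact absurd rfl hb
  · rwa [one_smul]
  · exact D.om_smul_A hv
  · have h := D.om_smul_A (D.om_smul_A hv)
    rwa [smul_smul, ← pow_two, tau_om.2.1] at h

theorem Coord.A_ne_zero {v : V6} (hv : v ∈ D.A) : v ≠ 0 := (D.orb.sing v (Or.inl hv)).1

theorem Coord.cl_sq_A {a : G} (ha : a ∈ Q) (hA : D.cl a ∈ D.A) : a * a = 1 :=
  (D.cl_sq a ha).2 (D.orb.sing _ (Or.inl hA)).2

theorem Coord.cl_cases {a b : G} (ha : a ∈ Q) (hb : b ∈ Q) (h : D.cl a = D.cl b) : b = a ∨ b = z * a :=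
  (D.cl_eq a ha b hb).1 h

theorem Coord.exists_quad {v : V6} (hv : v ∈ D.A) : ∃ E : Subgroup G, D.IsQuad v E := by
  obtain ⟨e₁, h₁, c₁⟩ := D.cl_surj v
  obtain ⟨e₂, h₂, c₂⟩ := D.cl_surj (om • v)
  have hs : v + om • v = (om + 1) • v := by rw [add_smul, one_smul, add_comm]
  have c₃ : D.cl (e₁ * e₂) = (om + 1) • v := by rw [D.cl_mul _ h₁ _ h₂, c₁, c₂, hs]
  have q₁ : e₁ * e₁ = 1 := D.cl_sq_A h₁ (c₁.symm ▸ hv)
  have q₂ : e₂ * e₂ = 1 := D.cl_sq_A h₂ (c₂.symm ▸ D.om_smul_A hv)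
  have q₃ : e₁ * e₂ * (e₁ * e₂) = 1 := D.cl_sq_A (mul_mem h₁ h₂) (c₃.symm ▸ D.smul_A hv tau_om.2.2.1)
  have hc : e₂ * e₁ = e₁ * e₂ := (commute_of_sq q₁ q₂ q₃).eq.symm
  have hv0 := D.A_ne_zero hv
  have hne : ∀ b : R4, b ≠ 0 → b • v ≠ 0 := fun b hb h => (smul_eq_zero.1 h).elim hb hv0
  have d1 : e₁ ≠ 1 := fun h => hv0 (by rw [← c₁, h, D.cl_one])
  have d2 : e₂ ≠ 1 := fun h => hne om tau_om.2.2.2 (by rw [← c₂, h, D.cl_one])
  have d3 : e₁ * e₂ ≠ 1 := fun h => hne (om + 1) tau_om.2.2.1 (by rw [← c₃, h, D.cl_one])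
  have d12 : e₁ ≠ e₂ := fun h => d3 (by rw [← h, q₁])
  have i1 : e₁⁻¹ = e₁ := inv_eq_of_mul_eq_one_right q₁
  have i2 : e₂⁻¹ = e₂ := inv_eq_of_mul_eq_one_right q₂
  have a1 : e₁ * (e₁ * e₂) = e₂ := by rw [← mul_assoc, q₁, one_mul]
  have a2 : e₂ * (e₁ * e₂) = e₁ := by rw [← mul_assoc, hc, mul_assoc, q₂, mul_one]
  let E : Subgroup G :=
    { carrier := {1, e₁, e₂, e₁ * e₂}
      one_mem' := by simp
      mul_mem' := by
        intro a b ha hb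
        simp only [Set.mem_insert_iff, Set.mem_singleton_iff] at ha hb ⊢
        rcases ha with rfl | rfl | rfl | rfl <;> rcases hb with rfl | rfl | rfl | rfl <;>
          simp [q₁, q₂, q₃, hc, a1, a2, mul_assoc]
      inv_mem' := by
        intro a ha
        simp only [Set.mem_insert_iff, Set.mem_singleton_iff] at ha ⊢
        rcases ha with rfl | rfl | rfl | rfl <;> simp [i1, i2, hc] }
  have hE : ∀ a, a ∈ E ↔ a = 1 ∨ a = e₁ ∨ a = e₂ ∨ a = e₁ * e₂ := fun a => by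
    show a ∈ ({1, e₁, e₂, e₁ * e₂} : Set G) ↔ _
    simp
  refine ⟨E, hv, ?_, ?_, ?_, ?_, ?_, ?_⟩
  · intro a ha
    rcases (hE a).1 ha with rfl | rfl | rfl | rfl
    exacts [one_mem _, h₁, h₂, mul_mem h₁ h₂]
  · intro a ha
    rcases (hE a).1 ha with rfl | rfl | rfl | rfl
    exacts [one_mul 1, q₁, q₂, q₃]
  · intro a ha h
    rcases (hE a).1 ha with rfl | rfl | rfl | rfl
    · rfl
    · exact absurd (c₁.symm.trans h) hv0
    · exact absurd (c₂.symm.trans h) (hne _ tau_om.2.2.2)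
    · exact absurd (c₃.symm.trans h) (hne _ tau_om.2.2.1)
  · intro b
    rcases r4_cases b with rfl | rfl | rfl | rfl
    · exact ⟨1, one_mem _, by rw [D.cl_one, zero_smul]⟩
    · exact ⟨e₁, (hE _).2 (by simp), by rw [c₁, one_smul]⟩
    · exact ⟨e₂, (hE _).2 (by simp), c₂⟩
    · exact ⟨e₁ * e₂, (hE _).2 (by simp), c₃⟩
  · intro a ha
    rcases (hE a).1 ha with rfl | rfl | rfl | rfl
    exacts [⟨0, by rw [D.cl_one, zero_smul]⟩, ⟨1, by rw [c₁, one_smul]⟩, ⟨om, c₂⟩, ⟨om + 1, c₃⟩]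
  · show Nat.card ↥({1, e₁, e₂, e₁ * e₂} : Set G) = 4
    rw [Nat.card_coe_set_eq, Set.ncard_insert_of_notMem, Set.ncard_insert_of_notMem, Set.ncard_pair]
    · exact fun h => d1 (mul_eq_right.1 h.symm)
    · simp only [Set.mem_insert_iff, Set.mem_singleton_iff, not_or]
      exact ⟨d12, fun h => d2 (mul_eq_left.1 h.symm)⟩
    · simp only [Set.mem_insert_iff, Set.mem_singleton_iff, not_or]
      exact ⟨d1.symm, d2.symm, d3.symm⟩

variable {v : V6} {E : Subgroup G}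

theorem Coord.quad_ne_z (hE : D.IsQuad v E) : z ∉ E := fun h => D.ctx.ne_one (hE.inj z h (by
  have := D.cl_z_mul (one_mem Q)
  rwa [mul_one, D.cl_one] at this))

theorem Coord.quad_comm (hE : D.IsQuad v E) {a b : G} (ha : a ∈ E) (hb : b ∈ E) : Commute a b :=
  commute_of_sq (hE.sq a ha) (hE.sq b hb) (hE.sq _ (mul_mem ha hb))

theorem Coord.quad_uniq (hE : D.IsQuad v E) {a b : G} (ha : a ∈ E) (hb : b ∈ E) (h : D.cl a = D.cl b) : a = b := by
  have hab : D.cl (a * b) = 0 := by rw [D.cl_mul a (hE.le ha) b (hE.le hb), h, v6_add_self]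
  have h1 := hE.inj _ (mul_mem ha hb) hab
  calc a = a * (b * b) := by rw [hE.sq b hb, mul_one]
    _ = b := by rw [← mul_assoc, h1, one_mul]

theorem Coord.quad_cl_A (hE : D.IsQuad v E) {a : G} (ha : a ∈ E) (h1 : a ≠ 1) : D.cl a ∈ D.A := by
  obtain ⟨b, hb⟩ := hE.only a ha
  rw [hb]
  refine D.smul_A hE.small fun h => h1 (hE.inj a ha ?_)
  rw [hb, h, zero_smul]

theorem Coord.quad_gens (hE : D.IsQuad v E) : ∃ a₁ ∈ E, ∃ a₂ ∈ E, D.cl a₁ = v ∧ D.cl a₂ = om • v ∧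
    ∀ x : G, (Commute x a₁ ∧ Commute x a₂) → ∀ a ∈ E, Commute x a := by
  obtain ⟨a₁, h₁, c₁⟩ := hE.cls 1
  obtain ⟨a₂, h₂, c₂⟩ := hE.cls om
  rw [one_smul] at c₁
  refine ⟨a₁, h₁, a₂, h₂, c₁, c₂, fun x hx a ha => ?_⟩
  obtain ⟨b, hb⟩ := hE.only a ha
  rcases r4_cases b with rfl | rfl | rfl | rfl
  · rw [hE.inj a ha (by rw [hb, zero_smul])]
    exact Commute.one_right x
  · rw [D.quad_uniq hE ha h₁ (by rw [hb, c₁, one_smul])]
    exact hx.1
  · rw [D.quad_uniq hE ha h₂ (by rw [hb, c₂]; rfl)]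
    exact hx.2
  · rw [D.quad_uniq hE ha (mul_mem h₁ h₂) (by
      rw [hb, D.cl_mul _ (hE.le h₁) _ (hE.le h₂), c₁, c₂, add_smul, one_smul, add_comm]; rfl)]
    exact hx.1.mul_right hx.2

/-- A move of an element fixing the four-group. -/
theorem Coord.quad_move (hE : D.IsQuad v E) {j : G} (hj : j ∈ Q)
    (hout : ∀ a ∈ E, j ≠ a ∧ j ≠ z * a) :
    ∃ y ∈ Q, y * j * y⁻¹ = z * j ∧ ∀ a ∈ E, Commute y a := by
  obtain ⟨a₁, h₁, a₂, h₂, c₁, c₂, hgen⟩ := D.quad_gens hE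
  have hj1 : j ≠ 1 ∧ j ≠ z := ⟨(hout 1 (one_mem _)).1, fun h => (hout 1 (one_mem _)).2 (by rw [h, mul_one])⟩
  have hne : ∀ a ∈ E, a ≠ 1 → a ≠ z := fun a ha _ e => D.quad_ne_z hE (e ▸ ha)
  have ha1 : a₁ ≠ 1 := fun h => D.A_ne_zero hE.small (by rw [← c₁, h, D.cl_one])
  have ha2 : a₂ ≠ 1 := fun h => D.A_ne_zero (D.om_smul_A hE.small) (by rw [← c₂, h, D.cl_one])
  have ha12 : a₂ ≠ a₁ := fun h => D.A_ne_zero (D.smul_A hE.small tau_om.2.2.1) (by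
    rw [add_smul, one_smul, ← c₂, ← c₁, h, v6_add_self])
  have ha12' : a₂ ≠ z * a₁ := fun h => ha12 (D.quad_uniq hE h₂ h₁ (by rw [h, D.cl_z_mul (hE.le h₁)]))
  obtain ⟨y₁, hy₁, hm₁, hf₁⟩ := D.exists_sep hj hj1.1 hj1.2 (hE.le h₁) (hout a₁ h₁).1 (hout a₁ h₁).2
  rcases D.ctx.comm y₁ hy₁ a₂ (hE.le h₂) with e | e
  · exact ⟨y₁, hy₁, hm₁, hgen y₁ ⟨hf₁, mul_inv_eq_iff_eq_mul.1 (mul_inv_eq_one.1 e)⟩⟩
  have hm12 : y₁ * a₂ * y₁⁻¹ = z * a₂ := mul_inv_eq_iff_eq_mul.1 e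
  obtain ⟨y', hy', hm', hf'⟩ := D.exists_sep (hE.le h₂) ha2 (hne _ h₂ ha2) (hE.le h₁) ha12 ha12'
  have hcan : ∀ w : G, z * (z * w) = w := fun w => by rw [← mul_assoc, D.ctx.sq_z, one_mul]
  have conjz : ∀ w, w ∈ Q → ∀ a : G, w * (z * a) * w⁻¹ = z * (w * a * w⁻¹) := fun w hw a => by
    rw [show w * (z * a) * w⁻¹ = w * z * w⁻¹ * (w * a * w⁻¹) by group, ← (D.ctx.central w hw).eq,
      mul_inv_cancel_right]
  rcases D.ctx.comm y' hy' j hj with e' | e'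
  · refine ⟨y₁ * y', mul_mem hy₁ hy', ?_, hgen _ ⟨hf₁.mul_left hf', ?_⟩⟩
    · rw [show y₁ * y' * j * (y₁ * y')⁻¹ = y₁ * (y' * j * y'⁻¹) * y₁⁻¹ by group, mul_inv_eq_one.1 e', hm₁]
    · refine mul_inv_eq_iff_eq_mul.1 ?_
      rw [show y₁ * y' * a₂ * (y₁ * y')⁻¹ = y₁ * (y' * a₂ * y'⁻¹) * y₁⁻¹ by group, hm', conjz y₁ hy₁, hm12, hcan]
  · have hmj' : y' * j * y'⁻¹ = z * j := mul_inv_eq_iff_eq_mul.1 e'
    have hja : j * a₂ ∈ Q := mul_mem hj (hE.le h₂)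
    have hout' : ∀ a ∈ E, j * a₂ ≠ a ∧ j * a₂ ≠ z * a := fun a ha => by
      refine ⟨fun h => (hout (a * a₂) (mul_mem ha h₂)).1 ?_, fun h => (hout (a * a₂) (mul_mem ha h₂)).2 ?_⟩
      · rw [← h, mul_assoc, hE.sq _ h₂, mul_one]
      · rw [← mul_assoc, ← h, mul_assoc, hE.sq _ h₂, mul_one]
    obtain ⟨y'', hy'', hm'', hf''⟩ := D.exists_sep hja (fun h => (hout' 1 (one_mem _)).1 h)
      (fun h => (hout' 1 (one_mem _)).2 (by rw [h, mul_one])) (hE.le h₁) (hout' a₁ h₁).1 (hout' a₁ h₁).2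
    have hsplit : y'' * j * y''⁻¹ * (y'' * a₂ * y''⁻¹) = z * (j * a₂) := by rw [← hm'']; group
    rcases D.ctx.comm y'' hy'' a₂ (hE.le h₂) with e'' | e''
    · refine ⟨y'', hy'', ?_, hgen _ ⟨hf'', mul_inv_eq_iff_eq_mul.1 (mul_inv_eq_one.1 e'')⟩⟩
      rw [mul_inv_eq_one.1 e'', ← mul_assoc z] at hsplit
      exact mul_right_cancel hsplit
    · have hm2 : y'' * a₂ * y''⁻¹ = z * a₂ := mul_inv_eq_iff_eq_mul.1 e''
      have hzj : z * j = j * z := (D.ctx.central j hj).eq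
      rw [hm2, ← mul_assoc z j, hzj, mul_assoc j z] at hsplit
      have hfix : y'' * j * y''⁻¹ = j := mul_right_cancel hsplit
      refine ⟨y₁ * y'', mul_mem hy₁ hy'', ?_, hgen _ ⟨hf₁.mul_left hf'', ?_⟩⟩
      · rw [show y₁ * y'' * j * (y₁ * y'')⁻¹ = y₁ * (y'' * j * y''⁻¹) * y₁⁻¹ by group, hfix, hm₁]
      · refine mul_inv_eq_iff_eq_mul.1 ?_
        rw [show y₁ * y'' * a₂ * (y₁ * y'')⁻¹ = y₁ * (y'' * a₂ * y''⁻¹) * y₁⁻¹ by group, hm2, conjz y₁ hy₁, hm12, hcan]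

/-- The centralizer of the four-group in the centralizer of the involution. -/
def Coord.quadCent (_D : Coord z Q) (E : Subgroup G) : Subgroup G :=
  Subgroup.centralizer ({z} : Set G) ⊓ Subgroup.centralizer (E : Set G)

theorem Coord.mem_quadCent {x : G} : x ∈ D.quadCent E ↔ Commute x z ∧ ∀ a ∈ E, Commute x a := by
  rw [Coord.quadCent, Subgroup.mem_inf, Subgroup.mem_centralizer_singleton_iff, Subgroup.mem_centralizer_iff]
  exact ⟨fun h => ⟨h.1, fun a ha => (h.2 a ha).symm⟩, fun h => ⟨h.1, fun a ha => (h.2 a ha).symm⟩⟩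

theorem Coord.quadCent_le_M {g₀ s : G} (hw : g₀ * z * g₀⁻¹ = s ∧ s ∈ Q ∧ s ≠ z) (hE : D.IsQuad v E) :
    D.quadCent E ≤ D.M := by
  intro h hh
  obtain ⟨hz, hc⟩ := D.mem_quadCent.1 hh
  obtain ⟨a₁, h₁, a₂, h₂, c₁, c₂, -⟩ := D.quad_gens hE
  by_contra hM
  have e : ∀ a ∈ E, D.sg h (D.cl a) = D.cl a := fun a ha => by
    rw [← D.cl_conj hz (hE.le ha), (hc a ha).eq, mul_inv_cancel_right]
  have h0 := D.outer_twist hw.1 hw.2.1 hw.2.2 hz hM om v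
  have e1 := e a₁ h₁
  have e2 := e a₂ h₂
  rw [c₁] at e1
  rw [c₂, h0, e1, tau_om.1, add_smul, one_smul] at e2
  exact D.A_ne_zero hE.small (add_eq_left.1 e2)

/-- The action of the centralizer of the four-group. -/
theorem Coord.exists_quad_hom {g₀ s : G} (hw : g₀ * z * g₀⁻¹ = s ∧ s ∈ Q ∧ s ≠ z) (hE : D.IsQuad v E) :
    ∃ f : ↥(D.quadCent E) →* ↥(Sb D.c v), Function.Surjective f ∧ (∀ m, f m = 1 ↔ (m : G) ∈ Q) := by
  let f0 : ↥(D.quadCent E) →* G6 := D.π.comp (Subgroup.inclusion (D.quadCent_le_M hw hE))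
  obtain ⟨a₁, h₁, a₂, h₂, c₁, c₂, hgen⟩ := D.quad_gens hE
  have hmem : ∀ m, f0 m ∈ Sb D.c v := fun m => ⟨D.π_mem _, by
    show D.π ⟨(m : G), _⟩ • v = v
    have e := D.π_cl ⟨(m : G), D.quadCent_le_M hw hE m.2⟩ a₁ (hE.le h₁)
    simp only [((D.mem_quadCent.1 m.2).2 a₁ h₁).eq, mul_inv_cancel_right, c₁] at e
    exact e.symm⟩
  refine ⟨f0.codRestrict _ hmem, fun g => ?_, fun m =>
    ⟨fun h => (D.π_ker _).1 (congrArg Subtype.val h), fun h => Subtype.ext ((D.π_ker _).2 h)⟩⟩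
  obtain ⟨m, hm⟩ := D.exists_pre g.2.1
  have hgv : (g : G6) • v = v := MulAction.mem_stabilizer_iff.1 g.2.2
  have fix1 : ∀ a ∈ E, D.cl ((m : G) * a * (m : G)⁻¹) = D.cl a := fun a ha => by
    obtain ⟨b, hb⟩ := hE.only a ha
    rw [D.π_cl m a (hE.le ha), hm, hb, g6_scalar, hgv]
  have hz := D.m_comm m
  have hA : ∀ a ∈ E, a ≠ 1 → D.Pt a := fun a ha h1 =>
    (D.pt_iff (hE.le ha)).2 (Or.inl (D.quad_cl_A hE ha h1))
  have ha1 : a₁ ≠ 1 := fun h => D.A_ne_zero hE.small (by rw [← c₁, h, D.cl_one])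
  obtain ⟨y, hy, hye⟩ := D.fuse (D.pt_conj hz (hA a₁ h₁ ha1)) (hE.le h₁) (fix1 a₁ h₁)
  have hym : Commute (y * (m : G)) a₁ := by
    refine mul_inv_eq_iff_eq_mul.1 ?_
    rw [show y * (m : G) * a₁ * (y * (m : G))⁻¹ = y * ((m : G) * a₁ * (m : G)⁻¹) * y⁻¹ by group, hye]
  have hyz : Commute (y * (m : G)) z := (D.ctx.central y hy).symm.mul_left hz
  set b := y * (m : G) * a₂ * (y * (m : G))⁻¹ with hb
  have hbQ : b ∈ Q := conj_mem D.ctx hyz (hE.le h₂)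
  have hbc : D.cl b = D.cl a₂ := by
    rw [hb, show y * (m : G) * a₂ * (y * (m : G))⁻¹ = y * ((m : G) * a₂ * (m : G)⁻¹) * y⁻¹ by group,
      D.π_cl ⟨y, D.Q_le hy⟩ _ (conj_mem D.ctx hz (hE.le h₂)), (D.π_ker ⟨y, D.Q_le hy⟩).2 hy, one_smul,
      fix1 a₂ h₂]
  obtain ⟨w, hw', hwm⟩ : ∃ w ∈ Q, ∀ a ∈ E, Commute (w * (y * (m : G))) a := by
    rcases D.cl_cases (hE.le h₂) hbQ hbc.symm with e | e
    · exact ⟨1, one_mem _, hgen _ ⟨by rwa [one_mul], by rw [one_mul]; exact mul_inv_eq_iff_eq_mul.1 e⟩⟩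
    · have ha2 : a₂ ≠ 1 := fun h => D.A_ne_zero (D.om_smul_A hE.small) (by rw [← c₂, h, D.cl_one])
      have hd : D.cl a₂ ≠ D.cl a₁ := fun h => D.A_ne_zero (D.smul_A hE.small tau_om.2.2.1) (by
        rw [add_smul, one_smul, ← c₂, ← c₁, h, v6_add_self])
      obtain ⟨w, hw, hwm, hwf⟩ := D.exists_sep (hE.le h₂) ha2 (fun h => D.quad_ne_z hE (h ▸ h₂)) (hE.le h₁)
        (fun h => hd (by rw [h])) (fun h => hd (by rw [h, D.cl_z_mul (hE.le h₁)]))
      refine ⟨w, hw, hgen _ ⟨hwf.mul_left hym, mul_inv_eq_iff_eq_mul.1 ?_⟩⟩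
      rw [show w * (y * (m : G)) * a₂ * (w * (y * (m : G)))⁻¹ = w * b * w⁻¹ by rw [hb]; group, e,
        show w * (z * a₂) * w⁻¹ = w * z * w⁻¹ * (w * a₂ * w⁻¹) by group, hwm, ← (D.ctx.central w hw).eq,
        mul_inv_cancel_right, ← mul_assoc, D.ctx.sq_z, one_mul]
  have hwy : w * y ∈ Q := mul_mem hw' hy
  refine ⟨⟨w * (y * (m : G)), D.mem_quadCent.2 ⟨(D.ctx.central w hw').symm.mul_left hyz, hwm⟩⟩, Subtype.ext ?_⟩
  show D.π ⟨w * (y * (m : G)), _⟩ = (g : G6)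
  rw [show (⟨w * (y * (m : G)), D.quadCent_le_M hw hE (D.mem_quadCent.2 ⟨(D.ctx.central w hw').symm.mul_left hyz, hwm⟩)⟩ : ↥D.M) = ⟨w * y, D.Q_le hwy⟩ * m from
    Subtype.ext (mul_assoc w y _).symm, map_mul, (D.π_ker ⟨w * y, D.Q_le hwy⟩).2 hwy, one_mul, hm]

theorem Coord.card_quadQ (hE : D.IsQuad v E) :
    Nat.card ↥(Q ⊓ Subgroup.centralizer (E : Set G)) = 2 ^ 11 := by
  obtain ⟨a₁, h₁, a₂, h₂, c₁, c₂, hgen⟩ := D.quad_gens hE
  have ha1 : a₁ ≠ 1 := fun h => D.A_ne_zero hE.small (by rw [← c₁, h, D.cl_one])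
  have ha2 : a₂ ≠ 1 := fun h => D.A_ne_zero (D.om_smul_A hE.small) (by rw [← c₂, h, D.cl_one])
  have hd : D.cl a₂ ≠ D.cl a₁ := fun h => D.A_ne_zero (D.smul_A hE.small tau_om.2.2.1) (by
    rw [add_smul, one_smul, ← c₂, ← c₁, h, v6_add_self])
  obtain ⟨y₁, hy₁, hm₁⟩ := D.ctx.exists_move (hE.le h₁) ha1 (fun h => D.quad_ne_z hE (h ▸ h₁))
  obtain ⟨y₂, hy₂, hm₂, hf₂⟩ := D.exists_sep (hE.le h₂) ha2 (fun h => D.quad_ne_z hE (h ▸ h₂)) (hE.le h₁)
    (fun h => hd (by rw [h])) (fun h => hd (by rw [h, D.cl_z_mul (hE.le h₁)]))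
  have e1 := D.card_move_half (P := Q) le_rfl (hE.le h₁) hy₁ hm₁
  have e2 := D.card_move_half (P := Q ⊓ Subgroup.centralizer ({a₁} : Set G)) inf_le_left (hE.le h₂)
    ⟨hy₂, mem_cent_of_commute hf₂⟩ hm₂
  have he : Q ⊓ Subgroup.centralizer ({a₁} : Set G) ⊓ Subgroup.centralizer ({a₂} : Set G) =
      Q ⊓ Subgroup.centralizer (E : Set G) := by
    ext x
    rw [Subgroup.mem_inf, Subgroup.mem_inf, Subgroup.mem_inf, Subgroup.mem_centralizer_singleton_iff,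
      Subgroup.mem_centralizer_singleton_iff, Subgroup.mem_centralizer_iff]
    exact ⟨fun h => ⟨h.1.1, fun a ha => (hgen x ⟨h.1.2, h.2⟩ a ha).eq.symm⟩,
      fun h => ⟨⟨h.1, (h.2 a₁ h₁).symm⟩, (h.2 a₂ h₂).symm⟩⟩
  rw [he] at e2
  rw [D.cardQ] at e1
  omega

theorem Coord.card_quadCent {g₀ s : G} (hw : g₀ * z * g₀⁻¹ = s ∧ s ∈ Q ∧ s ≠ z) (hE : D.IsQuad v E) :
    Nat.card ↥(D.quadCent E) = 2 ^ 11 * 25920 := by
  have : Finite G6 := finite_G6
  obtain ⟨f, hf, hk⟩ := D.exists_quad_hom hw hE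
  obtain ⟨eP⟩ := sb_equiv D.c_lt (D.A_eq ▸ hE.small)
  have h := f.ker.card_mul_index
  rw [Subgroup.index_ker, MonoidHom.range_eq_top.2 hf, Subgroup.card_top, Nat.card_congr eP.toEquiv,
    Cfsg.Lib.Fischer.Relations.TwoPair.psu_four_card (K := R4) (by rw [card_r4]; norm_num)] at h
  rw [← h]
  congr 1
  rw [← D.card_quadQ hE]
  exact Nat.card_congr
    { toFun := fun x => ⟨((x : ↥(D.quadCent E)) : G), (hk _).1 x.2, (x : ↥(D.quadCent E)).2.2⟩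
      invFun := fun a => ⟨⟨a, D.M_le (D.Q_le a.2.1), a.2.2⟩, (hk _).2 a.2.1⟩
      left_inv := fun _ => rfl
      right_inv := fun _ => rfl }

end Cfsg.Lib.FischerLarge
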