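import Cfsg.Agent.Lib.FischerLarge.FourMain
import Cfsg.Prelude.Def_CaseTheorems

/-!
# Every four-group over a point of the small orbit has centralizer a four-fold cover of `U₆(2)`
-/

set_option autoImplicit false
set_option linter.unusedSectionVars false

namespace Cfsg.Lib.FischerLarge

open Cfsg Cfsg.Lib.SUSixU43 Cfsg.Lib.Extra

universe u

variable {G : Type u} [Group G] [Finite G] {z : G} {Q : Subgroup G} (D : Coord z Q)
variable {E : Subgroup G} {v : V6}

/-- The centralizer of the four-group over the fourth line. -/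
theorem Coord.line_cover (F : PtFacts D.c) {g₀ s : G} (hw : D.Wit g₀ s) (hE : D.IsQuad (F.L 3) E)
    {K : Type} [Field K] [Fintype K] (hK : Fintype.card K = 4) :
    Cfsg.IsQuasisimple ↥(Subgroup.centralizer (E : Set G)) ∧
      Subgroup.center ↥(Subgroup.centralizer (E : Set G)) = E.subgroupOf (Subgroup.centralizer (E : Set G)) ∧
      Nonempty (↥(Subgroup.centralizer (E : Set G)) ⧸ Subgroup.center ↥(Subgroup.centralizer (E : Set G)) ≃*
        Cfsg.PSU 6 K 2) := by
  haveI hn := subgroupOf_central_normal E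
  obtain ⟨ψ⟩ := D.quot_iso F hw hE hK
  have : IsSimpleGroup (Cfsg.PSU 6 K 2) := Cfsg.Lib.Linear.Herm.psu_simple (by rw [hK]; norm_num) (by norm_num)
  have hsimp : IsSimpleGroup (↥(Subgroup.centralizer (E : Set G)) ⧸ E.subgroupOf (Subgroup.centralizer (E : Set G))) :=
    ψ.isSimpleGroup
  set q := QuotientGroup.mk' (E.subgroupOf (Subgroup.centralizer (E : Set G))) with hq'
  have hzK : z ∈ Subgroup.centralizer (E : Set G) :=
    Subgroup.mem_centralizer_iff.2 fun a ha => (D.ctx.central a (hE.le ha)).eq.symm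
  have hna : ∃ a b : ↥(Subgroup.centralizer (E : Set G)) ⧸ E.subgroupOf (Subgroup.centralizer (E : Set G)),
      a * b ≠ b * a := by
    by_contra hcomm
    push Not at hcomm
    let : CommGroup (↥(Subgroup.centralizer (E : Set G)) ⧸ E.subgroupOf (Subgroup.centralizer (E : Set G))) :=
      { (inferInstance : Group (↥(Subgroup.centralizer (E : Set G)) ⧸ E.subgroupOf (Subgroup.centralizer (E : Set G)))) with
        mul_comm := hcomm }
    have hp := IsSimpleGroup.prime_card
      (α := ↥(Subgroup.centralizer (E : Set G)) ⧸ E.subgroupOf (Subgroup.centralizer (E : Set G)))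
    obtain ⟨-, -, -, -, hc, -⟩ := D.quot_hyps hw hE hzK (F := ZMod 3) (ZMod.card 3) _ rfl
    have hd := Subgroup.card_subgroup_dvd_card
      (Subgroup.centralizer ({QuotientGroup.mk ⟨z, hzK⟩} : Set (↥(Subgroup.centralizer (E : Set G)) ⧸
        E.subgroupOf (Subgroup.centralizer (E : Set G)))))
    rw [hc] at hd
    rcases (Nat.dvd_prime hp).1 hd with h | h
    · norm_num at h
    · rw [← h] at hp
      norm_num at hp
  have hcenQ : Subgroup.center (↥(Subgroup.centralizer (E : Set G)) ⧸
      E.subgroupOf (Subgroup.centralizer (E : Set G))) = ⊥ := by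
    refine ((inferInstance : (Subgroup.center _).Normal).eq_bot_or_eq_top).resolve_right fun htop => ?_
    obtain ⟨a, b, hab⟩ := hna
    exact hab (Subgroup.mem_center_iff.1 (htop ▸ Subgroup.mem_top b) a)
  have hcen : Subgroup.center ↥(Subgroup.centralizer (E : Set G)) =
      E.subgroupOf (Subgroup.centralizer (E : Set G)) := by
    refine le_antisymm (fun a ha => ?_) fun a ha => ?_
    · have hqa : q a ∈ Subgroup.center (↥(Subgroup.centralizer (E : Set G)) ⧸
          E.subgroupOf (Subgroup.centralizer (E : Set G))) := Subgroup.mem_center_iff.2 fun b => by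
        obtain ⟨b, rfl⟩ := QuotientGroup.mk'_surjective _ b
        rw [← map_mul, ← map_mul, Subgroup.mem_center_iff.1 ha b]
      rw [hcenQ, Subgroup.mem_bot] at hqa
      exact (QuotientGroup.eq_one_iff a).1 hqa
    · exact Subgroup.mem_center_iff.2 fun b => Subtype.ext
        (Subgroup.mem_centralizer_iff.1 b.2 _ (Subgroup.mem_subgroupOf.1 ha)).symm
  have hperf : commutator ↥(Subgroup.centralizer (E : Set G)) = ⊤ := by
    have hmap : (commutator ↥(Subgroup.centralizer (E : Set G))).map q = ⊤ := by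
      rw [commutator_def, Subgroup.map_commutator, Subgroup.map_top_of_surjective q (QuotientGroup.mk'_surjective _)]
      rcases ((inferInstance : (commutator (↥(Subgroup.centralizer (E : Set G)) ⧸
        E.subgroupOf (Subgroup.centralizer (E : Set G)))).Normal)).eq_bot_or_eq_top with h | h
      · obtain ⟨a, b, hab⟩ := hna
        have h1 := Subgroup.commutator_mem_commutator (Subgroup.mem_top a) (Subgroup.mem_top b)
        rw [← commutator_def, h, Subgroup.mem_bot] at h1
        exact absurd (commutatorElement_eq_one_iff_mul_comm.1 h1) hab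
      · exact h
    rw [eq_top_iff]
    intro a _
    obtain ⟨c, hc, e⟩ := hmap ▸ Subgroup.mem_top (q a)
    have he : c⁻¹ * a ∈ E.subgroupOf (Subgroup.centralizer (E : Set G)) := QuotientGroup.eq.1 e
    obtain ⟨d, hd, hd'⟩ := D.quad_le_commutator F hw hE (Subgroup.mem_subgroupOf.1 he)
    have hd2 : d = c⁻¹ * a := Subtype.ext hd'
    have := mul_mem hc hd
    rwa [hd2, mul_inv_cancel_left] at this
  exact ⟨⟨⟨hperf⟩, (QuotientGroup.quotientMulEquivOfEq hcen).isSimpleGroup⟩, hcen,
    ⟨(QuotientGroup.quotientMulEquivOfEq hcen).trans ψ⟩⟩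

/-- Conjugates of four-groups by the unitary part. -/
theorem Coord.quad_map (hE : D.IsQuad v E) (m : ↥D.M) :
    D.IsQuad (D.π m • v) (E.map (MulAut.conj (m : G)).toMonoidHom) := by
  refine ⟨?_, ?_, ?_, ?_, fun b => ?_, ?_, ?_⟩
  · exact D.orb.invA _ (D.π_mem m) v hE.small
  · rintro _ ⟨a, ha, rfl⟩
    exact conj_mem D.ctx (D.m_comm m) (hE.le ha)
  · rintro _ ⟨a, ha, rfl⟩
    rw [← map_mul, hE.sq a ha, map_one]
  · rintro _ ⟨a, ha, rfl⟩ h
    have h' : D.π m • D.cl a = 0 := (D.π_cl m a (hE.le ha)).symm.trans h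
    rw [hE.inj a ha ?_, map_one]
    have h2 := congrArg ((D.π m)⁻¹ • ·) h'
    simp only [inv_smul_smul] at h2
    rw [h2, smul_def, Matrix.mulVec_zero]
  · obtain ⟨a, ha, hb⟩ := hE.cls b
    exact ⟨_, ⟨a, ha, rfl⟩, by
      show D.cl ((m : G) * a * (m : G)⁻¹) = _
      rw [D.π_cl m a (hE.le ha), hb, g6_scalar]⟩
  · rintro _ ⟨a, ha, rfl⟩
    obtain ⟨b, hb⟩ := hE.only a ha
    refine ⟨b, ?_⟩
    show D.cl ((m : G) * a * (m : G)⁻¹) = _
    rw [D.π_cl m a (hE.le ha), hb, g6_scalar]
  · rw [Subgroup.card_map_of_injective (MulAut.conj (m : G)).injective, hE.card]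

/-- The centralizer of every four-group is a four-fold cover of the unitary group. -/
theorem Coord.quad_cover {g₀ s : G} (hw : D.Wit g₀ s) (hE : D.IsQuad v E) {K : Type} [Field K] [Fintype K]
    (hK : Fintype.card K = 4) :
    Cfsg.IsQuasisimple ↥(Subgroup.centralizer (E : Set G)) ∧
      Subgroup.center ↥(Subgroup.centralizer (E : Set G)) = E.subgroupOf (Subgroup.centralizer (E : Set G)) ∧
      Nonempty (↥(Subgroup.centralizer (E : Set G)) ⧸ Subgroup.center ↥(Subgroup.centralizer (E : Set G)) ≃*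
        Cfsg.PSU 6 K 2) := by
  obtain ⟨F⟩ := exists_ptFacts D.c_lt
  obtain ⟨g, hg, hgv⟩ := D.orb.transA v hE.small _ (D.line_mem_A F 3)
  obtain ⟨m, rfl⟩ := D.exists_pre hg
  have hE' := D.quad_map hE m
  rw [hgv] at hE'
  obtain ⟨⟨hperf, hsimp⟩, hcen, ⟨ψ⟩⟩ := D.line_cover F hw hE' hK
  let c : ↥(Subgroup.centralizer (E : Set G)) ≃*
      ↥(Subgroup.centralizer ((E.map (MulAut.conj (m : G)).toMonoidHom : Subgroup G) : Set G)) :=
    ((MulAut.conj (m : G)).subgroupMap _).trans (MulEquiv.subgroupCongr (by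
      ext x
      simp only [Subgroup.mem_map, Subgroup.mem_centralizer_iff]
      constructor
      · rintro ⟨y, hy, rfl⟩ _ ⟨a, ha, rfl⟩
        show MulAut.conj (m : G) a * MulAut.conj (m : G) y = MulAut.conj (m : G) y * MulAut.conj (m : G) a
        rw [← map_mul, ← map_mul, hy a ha]
      · intro h
        refine ⟨(MulAut.conj (m : G)).symm x, fun a ha => ?_, MulEquiv.apply_symm_apply _ _⟩
        apply (MulAut.conj (m : G)).injective
        rw [map_mul, map_mul, MulEquiv.apply_symm_apply]
        exact h _ ⟨a, ha, rfl⟩))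
  have hcmem : ∀ x : ↥(Subgroup.centralizer (E : Set G)), c x ∈ Subgroup.center _ ↔ x ∈ Subgroup.center _ := fun x => by
    simp only [Subgroup.mem_center_iff]
    refine ⟨fun h y => c.injective (by rw [map_mul, map_mul]; exact h (c y)), fun h y => ?_⟩
    obtain ⟨y, rfl⟩ := c.surjective y
    rw [← map_mul, ← map_mul, h y]
  let e := QuotientGroup.congr (Subgroup.center ↥(Subgroup.centralizer (E : Set G))) (Subgroup.center _) c (by
    ext y
    constructor
    · rintro ⟨x, hx, rfl⟩
      exact (hcmem x).2 hx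
    · intro hy
      exact ⟨c.symm y, (hcmem _).1 (by rwa [MulEquiv.apply_symm_apply]), MulEquiv.apply_symm_apply _ _⟩)
  refine ⟨⟨⟨?_⟩, e.isSimpleGroup⟩, ?_, ⟨e.trans ψ⟩⟩
  · refine Subgroup.map_injective c.injective (f := c.toMonoidHom) ?_
    rw [commutator_def, Subgroup.map_commutator, Subgroup.map_top_of_surjective _ c.surjective, ← commutator_def,
      hperf.commutator_eq_top]
  · ext x
    rw [← hcmem, hcen, Subgroup.mem_subgroupOf, Subgroup.mem_subgroupOf]
    show (m : G) * (x : G) * (m : G)⁻¹ ∈ E.map (MulAut.conj (m : G)).toMonoidHom ↔ (x : G) ∈ E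
    exact ⟨fun ⟨a, ha, e'⟩ => (show a = (x : G) from (MulAut.conj (m : G)).injective e') ▸ ha, fun h => ⟨_, h, rfl⟩⟩

end Cfsg.Lib.FischerLarge
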