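import Cfsg.Agent.Lib.FischerLarge.FourQuot
import Cfsg.Agent.Lib.FischerLarge.PointsCode
import Cfsg.Agent.Lib.Concrete.M24
import Cfsg.Agent.S3230

/-!
# The centralizer of a four-group of the other involutions is a four-fold cover of `U₆(2)`
-/

set_option autoImplicit false
set_option linter.unusedSectionVars false

namespace Cfsg.Lib.FischerLarge

open Cfsg Cfsg.Lib.SUSixU43 Cfsg.Lib.Extra

universe u

variable {G : Type u} [Group G] [Finite G] {z : G} {Q : Subgroup G} (D : Coord z Q) (F : PtFacts D.c)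
variable {E : Subgroup G}

include F in
theorem Coord.line_mem_A (i : Fin 6) : F.L i ∈ D.A := by
  have := D.line_small F (i := i) (a := 1) one_ne_zero
  rwa [one_smul] at this

theorem Coord.quad_lag {i : Fin 6} (hE : D.IsQuad (F.L i) E) : E ≤ D.lagW := fun a ha => by
  obtain ⟨b, hb⟩ := hE.only a ha
  refine ⟨hE.le ha, ?_⟩
  rw [hb]
  exact (lagFacts D.c_lt).scal b _ (F.L_fix i)

/-- The large elementary subgroup moves a point into a neighbour. -/
theorem Coord.exists_outside {g₀ s : G} (hw : D.Wit g₀ s) {i : Fin 6} (hE : D.IsQuad (F.L i) E) :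
    ∃ n ∈ D.nA, (∀ a ∈ E, Commute n a) ∧ ¬ Commute n z := by
  classical
  by_contra hall
  push Not at hall
  obtain ⟨a₁, h₁, a₂, h₂, c₁, c₂, hgen⟩ := D.quad_gens hE
  have hW := D.quad_lag F hE
  have hT : ∀ a ∈ E, a ≠ 1 → a ∈ D.Ts := fun a ha h1 => by
    obtain ⟨b, hb⟩ := hE.only a ha
    refine D.line_Ts F (i := i) (a := b) (fun h => h1 (hE.inj a ha (by rw [hb, h, zero_smul]))) (hW ha) hb
  have ha1 : a₁ ≠ 1 := fun h => D.A_ne_zero hE.small (by rw [← c₁, h, D.cl_one])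
  have ha2 : a₂ ≠ 1 := fun h => D.A_ne_zero (D.om_smul_A hE.small) (by rw [← c₂, h, D.cl_one])
  have ha3 : a₁ * a₂ ≠ 1 := fun h => D.A_ne_zero (D.smul_A hE.small tau_om.2.2.1) (by
    rw [add_smul, one_smul, ← c₂, ← c₁, add_comm, ← D.cl_mul _ (hE.le h₁) _ (hE.le h₂), h, D.cl_one])
  have hT1 := hT a₁ h₁ ha1
  set H := D.nA ⊓ Subgroup.centralizer ({a₁} : Set G) with hH
  set O : Set G := {b | ∃ h ∈ H, h * a₂ * h⁻¹ = b} with hO
  have hsub : O ⊆ D.nbrs a₁ := by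
    rintro _ ⟨h, hh, rfl⟩
    refine ⟨D.nA_Ts hh.1 (hT a₂ h₂ ha2), ?_⟩
    have := D.nA_Ts hh.1 (hT _ (mul_mem h₁ h₂) ha3)
    rwa [show h * (a₁ * a₂) * h⁻¹ = h * a₁ * h⁻¹ * (h * a₂ * h⁻¹) by group,
      (commute_of_mem_cent hh.2).eq, mul_inv_cancel_right] at this
  have hOc : O.ncard ≤ 44 := (Set.ncard_le_ncard hsub (Set.toFinite _)).trans (D.card_nbrs F hw hT1).le
  have hOpos : 0 < O.ncard := (Set.ncard_pos (Set.toFinite _)).2 ⟨a₂, 1, one_mem _, by group⟩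
  have hle : H ⊓ Subgroup.centralizer ({a₂} : Set G) ≤ D.quadCent E := fun x hx => by
    have hxE := hgen x ⟨commute_of_mem_cent hx.1.2, commute_of_mem_cent hx.2⟩
    exact D.mem_quadCent.2 ⟨hall x hx.1.1 hxE, hxE⟩
  have hd := Subgroup.card_dvd_of_le hle
  rw [D.card_quadCent hw hE] at hd
  have h1 := conj_orbit_card H a₂
  rw [← hO] at h1
  have hnA : Nat.card ↥D.nA = 2 ^ 11 * 244823040 := by
    obtain ⟨ψ, hs, hk, -⟩ := D.exists_mathieu hw hT1
    have h := ψ.ker.card_mul_index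
    rw [Subgroup.index_ker, MonoidHom.range_eq_top.2 hs, Subgroup.card_top, hk,
      Nat.card_congr (Subgroup.subgroupOfEquivOfLe D.lag_le_nA).toEquiv, D.lagC_image.1,
      Cfsg.Lib.Concrete.card_M24] at h
    exact h.symm
  have h2 := conj_orbit_card D.nA a₁
  have hTs : {b | ∃ h ∈ D.nA, h * a₁ * h⁻¹ = b} = D.Ts := by
    ext b
    refine ⟨?_, fun hb => ?_⟩
    · rintro ⟨h, hh, rfl⟩
      exact D.nA_Ts hh hT1
    · exact D.Ts_trans F hw hT1 hb
  rw [hTs, (D.class_sizes F hw).2.1, ← hH, hnA] at h2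
  have hHc : Nat.card ↥H = 2 ^ 11 * 887040 := by
    norm_num at h2 ⊢
    omega
  rw [hHc] at h1
  have h77 : 77 ∣ O.ncard := by
    have hc : Nat.Coprime 77 (Nat.card ↥(H ⊓ Subgroup.centralizer ({a₂} : Set G))) :=
      (show Nat.Coprime 77 (2 ^ 11 * 25920) by norm_num).coprime_dvd_right hd
    exact hc.dvd_of_dvd_mul_left (h1.symm ▸ by norm_num)
  have := Nat.le_of_dvd hOpos h77
  omega

include F in
/-- The lift of a line lies in the derived group. -/
theorem Coord.line_commutator {g₀ s : G} (_hw : D.Wit g₀ s) {i j : Fin 6} (hij : j ≠ i)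
    (hE : D.IsQuad (F.L i) E) (b : R4) :
    ∃ w ∈ (commutator ↥(Subgroup.centralizer (E : Set G))).map (Subgroup.centralizer (E : Set G)).subtype,
      w ∈ D.lagW ∧ D.cl w = b • F.L j := by
  obtain ⟨y, hy, -, hy0⟩ := F.U_pre j i hij
  obtain ⟨x, hx, hxc⟩ := D.cl_surj (b • y)
  obtain ⟨d, hd⟩ := D.Cst_nonempty F hij
  obtain ⟨w, hwW, hdw, hwc⟩ := D.Q_shift F hd hx
  have hW := D.quad_lag F hE
  have hxK : x ∈ Subgroup.centralizer (E : Set G) := Subgroup.mem_centralizer_iff.2 fun a ha => by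
    refine ((D.commute_iff (hW ha) hx).2 ?_).eq
    obtain ⟨r, hr⟩ := hE.only a ha
    rw [hr, hxc, herm_smul_smul, herm_smul_smul, hy0, herm_conj (F.L i) y, hy0]
    ring
  have hdK : d ∈ Subgroup.centralizer (E : Set G) := Subgroup.mem_centralizer_iff.2 fun a ha =>
    (D.lagC_comm_W hd.1 (hW ha)).eq.symm
  refine ⟨w, ⟨⟨d, hdK⟩⁻¹ * ⟨x, hxK⟩ * ⟨d, hdK⟩ * ⟨x, hxK⟩⁻¹, ?_, ?_⟩, hwW, ?_⟩
  · have := Subgroup.commutator_mem_commutator (Subgroup.mem_top (⟨d, hdK⟩⁻¹ : ↥(Subgroup.centralizer (E : Set G))))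
      (Subgroup.mem_top (⟨x, hxK⟩ : ↥(Subgroup.centralizer (E : Set G))))
    rw [← commutator_def, commutatorElement_def, inv_inv] at this
    exact this
  · show d⁻¹ * x * d * x⁻¹ = w
    rw [show d⁻¹ * x * d * x⁻¹ = d⁻¹ * (x * d * x⁻¹) by group, hdw, inv_mul_cancel_left]
  · rw [hwc, hxc, g6_scalar, ← smul_add, hy]

/-- The four-group is in the derived group of its centralizer. -/
theorem Coord.quad_le_commutator {g₀ s : G} (hw : D.Wit g₀ s) (hE : D.IsQuad (F.L 3) E) :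
    E ≤ (commutator ↥(Subgroup.centralizer (E : Set G))).map (Subgroup.centralizer (E : Set G)).subtype := by
  classical
  set R := (commutator ↥(Subgroup.centralizer (E : Set G))).map (Subgroup.centralizer (E : Set G)).subtype with hR
  have hz : z ∈ R := by
    obtain ⟨j, hj, hjE, hout⟩ : ∃ j ∈ Q, (∀ a ∈ E, Commute j a) ∧ ∀ a ∈ E, j ≠ a ∧ j ≠ z * a := by
      by_contra hcon
      push Not at hcon
      have hsub : ((Q ⊓ Subgroup.centralizer (E : Set G) : Subgroup G) : Set G) ⊆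
          (E : Set G) ∪ (fun a => z * a) '' (E : Set G) := fun j hj => by
        obtain ⟨a, ha, e⟩ := hcon j hj.1 fun a ha => (Subgroup.mem_centralizer_iff.1 hj.2 a ha).symm
        by_cases e' : j = a
        · exact Or.inl (e' ▸ ha)
        · exact Or.inr ⟨a, ha, (e e').symm⟩
      have h := (Set.ncard_le_ncard hsub (Set.toFinite _)).trans ((Set.ncard_union_le _ _).trans
        (Nat.add_le_add_left (Set.ncard_image_le (Set.toFinite _)) _))
      rw [← Nat.card_coe_set_eq, ← Nat.card_coe_set_eq] at h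
      have h11 := D.card_quadQ hE
      have h4 := hE.card
      simp only [SetLike.coe_sort_coe] at h
      omega
    obtain ⟨y, hy, hyj, hyE⟩ := D.quad_move hE hj hout
    have hjK : j ∈ Subgroup.centralizer (E : Set G) :=
      Subgroup.mem_centralizer_iff.2 fun a ha => (hjE a ha).eq.symm
    have hyK : y ∈ Subgroup.centralizer (E : Set G) :=
      Subgroup.mem_centralizer_iff.2 fun a ha => (hyE a ha).eq.symm
    refine ⟨⟨y, hyK⟩ * ⟨j, hjK⟩ * ⟨y, hyK⟩⁻¹ * ⟨j, hjK⟩⁻¹, ?_, ?_⟩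
    · have := Subgroup.commutator_mem_commutator (Subgroup.mem_top (⟨y, hyK⟩ : ↥(Subgroup.centralizer (E : Set G))))
        (Subgroup.mem_top (⟨j, hjK⟩ : ↥(Subgroup.centralizer (E : Set G))))
      rwa [← commutator_def, commutatorElement_def] at this
    · show y * j * y⁻¹ * j⁻¹ = z
      rw [hyj, mul_inv_cancel_right]
  intro a ha
  obtain ⟨r, hr⟩ := hE.only a ha
  obtain ⟨b₀, b₁, b₂, e⟩ := F.span _ (F.L_fix 3)
  obtain ⟨w₀, h₀, hW₀, e₀⟩ := D.line_commutator F hw (show (0 : Fin 6) ≠ 3 by decide) hE (r * b₀)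
  obtain ⟨w₁, h₁, hW₁, e₁⟩ := D.line_commutator F hw (show (1 : Fin 6) ≠ 3 by decide) hE (r * b₁)
  obtain ⟨w₂, h₂, hW₂, e₂⟩ := D.line_commutator F hw (show (2 : Fin 6) ≠ 3 by decide) hE (r * b₂)
  have hm : w₀ * w₁ * w₂ ∈ R := mul_mem (mul_mem h₀ h₁) h₂
  have hcl : D.cl (w₀ * w₁ * w₂) = D.cl a := by
    rw [D.cl_mul _ (mul_mem hW₀.1 hW₁.1) _ hW₂.1, D.cl_mul _ hW₀.1 _ hW₁.1, e₀, e₁, e₂, hr, e, smul_add,
      smul_add, smul_smul, smul_smul, smul_smul]
  rcases D.cl_cases (mul_mem (mul_mem hW₀.1 hW₁.1) hW₂.1) (hE.le ha) hcl with h | h <;> rw [h]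
  exacts [hm, mul_mem hz hm]

/-- The quotient is the unitary group. -/
theorem Coord.quot_iso {g₀ s : G} (hw : D.Wit g₀ s) {i : Fin 6} (hE : D.IsQuad (F.L i) E)
    [(E.subgroupOf (Subgroup.centralizer (E : Set G))).Normal]
    {K : Type} [Field K] [Fintype K] (hK : Fintype.card K = 4) :
    Nonempty ((↥(Subgroup.centralizer (E : Set G)) ⧸ E.subgroupOf (Subgroup.centralizer (E : Set G))) ≃*
      Cfsg.PSU 6 K 2) := by
  have hzK : z ∈ Subgroup.centralizer (E : Set G) :=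
    Subgroup.mem_centralizer_iff.2 fun a ha => (D.ctx.central a (hE.le ha)).eq.symm
  obtain ⟨ho, hJ, hJc, hCJ, -, hJn, ⟨e⟩⟩ := D.quot_hyps hw hE hzK (F := ZMod 3) (ZMod.card 3) _ rfl
  rcases Cfsg.Agent.S3230.result _ ho (F := ZMod 3) (ZMod.card 3) hK hJ hJc hCJ e with h | h
  · exact h
  exfalso
  obtain ⟨n, hn, hnE, hnz⟩ := D.exists_outside F hw hE
  set zb : ↥(Subgroup.centralizer (E : Set G)) ⧸ E.subgroupOf (Subgroup.centralizer (E : Set G)) :=
    QuotientGroup.mk ⟨z, hzK⟩ with hzb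
  have hnK : n ∈ Subgroup.centralizer (E : Set G) := Subgroup.mem_centralizer_iff.2 fun a ha => (hnE a ha).eq.symm
  set g : ↥(Subgroup.centralizer (E : Set G)) ⧸ E.subgroupOf (Subgroup.centralizer (E : Set G)) :=
    QuotientGroup.mk ⟨n, hnK⟩ with hg
  have hmem : g * zb * g⁻¹ * zb⁻¹ ∈ Cfsg.oddCore (↥(Subgroup.centralizer (E : Set G)) ⧸
      E.subgroupOf (Subgroup.centralizer (E : Set G))) := by
    have hgt := h.symm ▸ Subgroup.mem_top g
    rw [← SetLike.mem_coe, Subgroup.mul_normal, Set.mem_mul] at hgt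
    obtain ⟨c, hc, o, ho', hco⟩ := hgt
    rw [← hco]
    have hcz : c * zb = zb * c := Subgroup.mem_centralizer_singleton_iff.1 hc
    have hN : (Cfsg.oddCore (↥(Subgroup.centralizer (E : Set G)) ⧸
      E.subgroupOf (Subgroup.centralizer (E : Set G)))).Normal := inferInstance
    have h1 : o * (zb * o⁻¹ * zb⁻¹) ∈ Cfsg.oddCore _ := mul_mem ho' (hN.conj_mem _ (inv_mem ho') zb)
    have h2 := hN.conj_mem _ h1 c
    rwa [show c * (o * (zb * o⁻¹ * zb⁻¹)) * c⁻¹ = c * o * zb * o⁻¹ * c⁻¹ * (c * zb * c⁻¹)⁻¹ by group, hcz,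
      mul_inv_cancel_right, show c * o * zb * o⁻¹ * c⁻¹ = c * o * zb * (c * o)⁻¹ by group] at h2
  have hzA : n * z * n⁻¹ ∈ D.lagC := D.nA_conj hn D.z_lagC
  have hz' : n * z * n⁻¹ ≠ z := fun e => hnz (mul_inv_eq_iff_eq_mul.1 e)
  have hcomm : Commute (n * z * n⁻¹) z := D.lag_comm hzA D.z_lagC
  have hinv : n * z * n⁻¹ * (n * z * n⁻¹) = 1 := by
    rw [show n * z * n⁻¹ * (n * z * n⁻¹) = n * (z * z) * n⁻¹ by group, D.ctx.sq_z, mul_one, mul_inv_cancel]
  have hzi : z⁻¹ = z := inv_eq_of_mul_eq_one_right D.ctx.sq_z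
  have hsq : (g * zb * g⁻¹ * zb⁻¹) * (g * zb * g⁻¹ * zb⁻¹) = 1 := by
    rw [hg, hzb, ← QuotientGroup.mk_inv, ← QuotientGroup.mk_inv, ← QuotientGroup.mk_mul, ← QuotientGroup.mk_mul,
      ← QuotientGroup.mk_mul, ← QuotientGroup.mk_mul, QuotientGroup.eq_one_iff, Subgroup.mem_subgroupOf]
    simp only [Subgroup.coe_mul, Subgroup.coe_inv, hzi]
    rw [show n * z * n⁻¹ * z * (n * z * n⁻¹ * z) = n * z * n⁻¹ * (z * (n * z * n⁻¹)) * z by group, ← hcomm.eq,
      ← mul_assoc (n * z * n⁻¹) (n * z * n⁻¹), hinv, one_mul, D.ctx.sq_z]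
    exact one_mem _
  have hne : g * zb * g⁻¹ * zb⁻¹ ≠ 1 := by
    rw [hg, hzb, ← QuotientGroup.mk_inv, ← QuotientGroup.mk_inv, ← QuotientGroup.mk_mul, ← QuotientGroup.mk_mul,
      ← QuotientGroup.mk_mul, Ne, QuotientGroup.eq_one_iff, Subgroup.mem_subgroupOf]
    simp only [Subgroup.coe_mul, Subgroup.coe_inv, hzi]
    intro hin
    refine D.not_conj_quad hw hE hin (fun e => hz' ?_) (isConj_iff.2 ⟨n, ?_⟩)
    · calc n * z * n⁻¹ = n * z * n⁻¹ * (z * z) := by rw [D.ctx.sq_z, mul_one]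
        _ = z := by rw [← mul_assoc, e, one_mul]
    · rw [hcomm.eq, ← mul_assoc, D.ctx.sq_z, one_mul]
  have hodd := Cfsg.Lib.ZStar.odd_card_oddCore (G := ↥(Subgroup.centralizer (E : Set G)) ⧸
      E.subgroupOf (Subgroup.centralizer (E : Set G)))
  have hord : orderOf (g * zb * g⁻¹ * zb⁻¹) = 2 := by
    have : Fact (Nat.Prime 2) := ⟨Nat.prime_two⟩
    exact orderOf_eq_prime (by rw [pow_two, hsq]) hne
  have hd : orderOf (g * zb * g⁻¹ * zb⁻¹) ∣ Nat.card ↥(Cfsg.oddCore (↥(Subgroup.centralizer (E : Set G)) ⧸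
      E.subgroupOf (Subgroup.centralizer (E : Set G)))) := by
    rw [← Subgroup.orderOf_mk _ hmem]
    exact orderOf_dvd_natCard _
  rw [hord] at hd
  exact (Nat.not_even_iff_odd.2 hodd) (even_iff_two_dvd.2 hd)

end Cfsg.Lib.FischerLarge
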