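import Cfsg.Agent.Lib.FischerLarge.FourBasic
import Cfsg.Agent.Lib.Core.Cores
import Cfsg.Agent.S0822

/-!
# The involution centralizer in the centralizer of the four-group modulo the four-group
-/

set_option autoImplicit false
set_option linter.unusedSectionVars false

namespace Cfsg.Lib.FischerLarge

open Cfsg Cfsg.Lib.SUSixU43 Cfsg.Lib.Extra

universe u

variable {G : Type u} [Group G] [Finite G] {z : G} {Q : Subgroup G} (D : Coord z Q)
variable {v : V6} {E : Subgroup G}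

theorem subgroupOf_central_normal (E : Subgroup G) :
    (E.subgroupOf (Subgroup.centralizer (E : Set G))).Normal := ⟨fun a ha x => by
  rw [Subgroup.mem_subgroupOf] at ha ⊢
  rw [Subgroup.coe_mul, Subgroup.coe_mul, Subgroup.coe_inv,
    ← Subgroup.mem_centralizer_iff.1 x.2 _ ha, mul_inv_cancel_right]
  exact ha⟩

include D in
theorem Coord.not_conj_quad {g₀ s : G} (_hw : g₀ * z * g₀⁻¹ = s ∧ s ∈ Q ∧ s ≠ z) (hE : D.IsQuad v E) {a : G}
    (ha : a ∈ E) (h1 : a ≠ 1) : ¬ IsConj z (z * a) := by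
  intro h
  have hA := D.quad_cl_A hE ha h1
  rw [← D.cl_z_mul (hE.le ha)] at hA
  have hzaQ : z * a ∈ Q := mul_mem D.ctx.mem (hE.le ha)
  have hne : z * a ≠ z := fun e => h1 (mul_eq_left.1 e)
  obtain ⟨g, hg⟩ := isConj_iff.1 h
  exact D.orb.disj _ hA (D.conj_in_B hg hzaQ hne)

/-- An element of order five cannot centralize the extraspecial part of the quotient. -/
theorem Coord.five_absurd (hE : D.IsQuad v E) {x : G} (hxz : Commute x z) (hxE : ∀ a ∈ E, Commute x a)
    (hx5 : orderOf x = 5) (hJ : ∀ j ∈ Q, (∀ a ∈ E, Commute j a) → j⁻¹ * (x * j * x⁻¹) ∈ E) : False := by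
  have hpow : x ^ 5 = 1 := by rw [← hx5, pow_orderOf_eq_one]
  have step : ∀ q l : G, x * q * x⁻¹ = q * l → x * l * x⁻¹ = l → l * l = 1 → x * q * x⁻¹ = q := by
    intro q l hq hl hl2
    have hn : ∀ n : ℕ, x ^ n * q * (x ^ n)⁻¹ = q * l ^ n := by
      intro n
      induction n with
      | zero => simp
      | succ n ih =>
        calc x ^ (n + 1) * q * (x ^ (n + 1))⁻¹ = x * (x ^ n * q * (x ^ n)⁻¹) * x⁻¹ := by rw [pow_succ']; group
          _ = x * q * x⁻¹ * (x * l * x⁻¹) ^ n := by rw [ih, conj_pow]; group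
          _ = q * l ^ (n + 1) := by rw [hq, hl, pow_succ', mul_assoc]
    have h5 := hn 5
    rw [hpow, one_mul, inv_one, mul_one] at h5
    have hl5 : l ^ 5 = 1 := mul_eq_left.1 h5.symm
    have hl1 : l = 1 := by
      rwa [show l ^ 5 = l * l * (l * l) * l by simp only [pow_succ, pow_zero, one_mul, mul_assoc], hl2, one_mul, one_mul] at hl5
    rw [hq, hl1, mul_one]
  have hfixE : ∀ a ∈ E, x * a * x⁻¹ = a := fun a ha => by rw [(hxE a ha).eq, mul_inv_cancel_right]
  have hfixz : x * z * x⁻¹ = z := by rw [hxz.eq, mul_inv_cancel_right]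
  have hJfix : ∀ j ∈ Q, (∀ a ∈ E, Commute j a) → x * j * x⁻¹ = j := fun j hj hjE => by
    have he := hJ j hj hjE
    exact step j _ (by group) (hfixE _ he) (hE.sq _ he)
  have hall : ∀ q ∈ Q, x * q * x⁻¹ = q := by
    intro q hq
    set k := q⁻¹ * (x * q * x⁻¹) with hk
    have hxq : x * q * x⁻¹ ∈ Q := conj_mem D.ctx hxz hq
    have hkQ : k ∈ Q := mul_mem (inv_mem hq) hxq
    have hkJ : ∀ j ∈ Q, (∀ a ∈ E, Commute j a) → Commute j k := fun j hj hjE => by
      have hfj := hJfix j hj hjE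
      have hxj : x * (j * q * j⁻¹ * q⁻¹) * x⁻¹ = j * (x * q * x⁻¹) * j⁻¹ * (x * q * x⁻¹)⁻¹ := by
        calc x * (j * q * j⁻¹ * q⁻¹) * x⁻¹
            = x * j * x⁻¹ * (x * q * x⁻¹) * (x * j * x⁻¹)⁻¹ * (x * q * x⁻¹)⁻¹ := by group
          _ = _ := by rw [hfj]
      have hzc : ∀ w ∈ Q, j * q * j⁻¹ * q⁻¹ * w = w * (j * q * j⁻¹ * q⁻¹) := fun w hw => by
        rcases D.ctx.comm j hj q hq with e | e <;> rw [e]
        · rw [one_mul, mul_one]
        · exact (D.ctx.central w hw).eq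
      have hc : x * (j * q * j⁻¹ * q⁻¹) * x⁻¹ = j * q * j⁻¹ * q⁻¹ := by
        rcases D.ctx.comm j hj q hq with e | e <;> rw [e]
        · simp
        · exact hfixz
      rw [hc] at hxj
      have h2 : j * k * j⁻¹ = k := by
        calc j * k * j⁻¹ = (j * q * j⁻¹)⁻¹ * (j * (x * q * x⁻¹) * j⁻¹) := by rw [hk]; group
          _ = (j * q * j⁻¹)⁻¹ * ((j * q * j⁻¹ * q⁻¹) * (x * q * x⁻¹)) := by rw [hxj]; group
          _ = k := by rw [hk]; group
      exact mul_inv_eq_iff_eq_mul.1 h2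
    by_cases hout : ∀ a ∈ E, k ≠ a ∧ k ≠ z * a
    · obtain ⟨y, hy, hyk, hyE⟩ := D.quad_move hE hkQ hout
      rw [(hkJ y hy hyE).eq, mul_inv_cancel_right] at hyk
      exact absurd (mul_eq_right.1 hyk.symm) D.ctx.ne_one
    · push Not at hout
      obtain ⟨a, ha, hka⟩ := hout
      have hq' : x * q * x⁻¹ = q * k := by rw [hk]; group
      by_cases e : k = a
      · exact step q k hq' (by rw [e]; exact hfixE a ha) (by rw [e]; exact hE.sq a ha)
      · have e' := hka e
        refine step q k hq' ?_ ?_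
        · rw [e', show x * (z * a) * x⁻¹ = x * z * x⁻¹ * (x * a * x⁻¹) by group, hfixz, hfixE a ha]
        · rw [e', show z * a * (z * a) = z * (a * z) * a by group, ← (D.ctx.central a (hE.le ha)).eq,
            show z * (z * a) * a = z * z * (a * a) by group, D.ctx.sq_z, hE.sq a ha, one_mul]
  rcases D.ctx.cent x fun q hq => mul_inv_eq_iff_eq_mul.1 (hall q hq) with e | e
  · rw [e, orderOf_one] at hx5
    norm_num at hx5
  · rw [e] at hx5
    have h2 : orderOf z = 2 := orderOf_eq_prime (by rw [pow_two, D.ctx.sq_z]) D.ctx.ne_one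
    omega

/-- The hypotheses of the recognition of `U₆(2)` hold in the quotient. -/
theorem Coord.quot_hyps {g₀ s : G} (hw : g₀ * z * g₀⁻¹ = s ∧ s ∈ Q ∧ s ≠ z) (hE : D.IsQuad v E)
    [(E.subgroupOf (Subgroup.centralizer (E : Set G))).Normal] (hzK : z ∈ Subgroup.centralizer (E : Set G))
    {F : Type*} [Field F] [Fintype F] (hF : Fintype.card F = 3)
    (zb : ↥(Subgroup.centralizer (E : Set G)) ⧸ E.subgroupOf (Subgroup.centralizer (E : Set G)))
    (hzb : zb = QuotientGroup.mk ⟨z, hzK⟩) :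
    orderOf zb = 2 ∧
      Cfsg.IsExtraspecial 2 ↥(Cfsg.pCore 2 ↥(Subgroup.centralizer ({zb} : Set _))) ∧
      Nat.card ↥(Cfsg.pCore 2 ↥(Subgroup.centralizer ({zb} : Set _))) = 2 ^ 9 ∧
      Subgroup.centralizer ((Cfsg.pCore 2 ↥(Subgroup.centralizer ({zb} : Set _))) : Set ↥(Subgroup.centralizer ({zb} : Set _)))
        ≤ Cfsg.pCore 2 ↥(Subgroup.centralizer ({zb} : Set _)) ∧
      Nat.card ↥(Subgroup.centralizer ({zb} : Set _)) = 2 ^ 9 * 25920 ∧
      ∃ _ : (Cfsg.pCore 2 ↥(Subgroup.centralizer ({zb} : Set _))).Normal,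
        Nonempty ((↥(Subgroup.centralizer ({zb} : Set _)) ⧸ Cfsg.pCore 2 ↥(Subgroup.centralizer ({zb} : Set _))) ≃*
          Cfsg.PSp 2 F) := by
  classical
  have : Fact (Nat.Prime 2) := ⟨Nat.prime_two⟩
  have : Fact (Nat.Prime 5) := ⟨by norm_num⟩
  have : Finite G6 := finite_G6
  set S := D.quadCent E with hS
  have hSK : S ≤ (Subgroup.centralizer (E : Set G)) := inf_le_right
  let ι : ↥S →* ↥(Subgroup.centralizer (E : Set G)) := Subgroup.inclusion hSK
  let q := QuotientGroup.mk' (E.subgroupOf (Subgroup.centralizer (E : Set G)))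
  have hzbval : q ⟨z, hzK⟩ = zb := hzb.symm
  have hmemC : ∀ x : ↥S, q (ι x) ∈ Subgroup.centralizer ({zb} : Set _) := fun x => by
    rw [Subgroup.mem_centralizer_singleton_iff, ← hzbval, ← map_mul, ← map_mul]
    exact congrArg q (Subtype.ext (show (x : G) * z = z * x from (D.mem_quadCent.1 x.2).1.eq))
  let φ : ↥S →* ↥(Subgroup.centralizer ({zb} : Set (↥(Subgroup.centralizer (E : Set G)) ⧸ E.subgroupOf (Subgroup.centralizer (E : Set G))))) := (q.comp ι).codRestrict _ hmemC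
  have hφk : ∀ x : ↥S, φ x = 1 ↔ (x : G) ∈ E := fun x => by
    rw [Subtype.ext_iff]
    exact QuotientGroup.eq_one_iff (N := (E.subgroupOf (Subgroup.centralizer (E : Set G)))) (ι x)
  have hφs : Function.Surjective φ := by
    rintro ⟨y, hy⟩
    obtain ⟨x, rfl⟩ := QuotientGroup.mk_surjective y
    rw [Subgroup.mem_centralizer_singleton_iff, ← hzbval] at hy
    have he : (z : G)⁻¹ * ((x : G) * z * (x : G)⁻¹) ∈ E := by
      have h1 : q (x * ⟨z, hzK⟩ * x⁻¹) = q ⟨z, hzK⟩ := by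
        rw [map_mul, map_mul, map_inv]
        exact mul_inv_eq_iff_eq_mul.2 hy
      have h2 : (⟨z, hzK⟩ : ↥(Subgroup.centralizer (E : Set G)))⁻¹ * (x * ⟨z, hzK⟩ * x⁻¹) ∈
          E.subgroupOf (Subgroup.centralizer (E : Set G)) := QuotientGroup.eq.1 h1.symm
      exact h2
    have hxz : Commute (x : G) z := by
      refine mul_inv_eq_iff_eq_mul.1 ?_
      by_contra hne
      refine D.not_conj_quad hw hE he (fun e => hne (inv_mul_eq_one.1 e).symm) ?_
      rw [mul_inv_cancel_left]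
      exact isConj_iff.2 ⟨(x : G), rfl⟩
    exact ⟨⟨x, mem_cent_of_commute hxz, x.2⟩, rfl⟩
  obtain ⟨f, hf, hfk⟩ := D.exists_quad_hom hw hE
  obtain ⟨eP⟩ := sb_equiv D.c_lt (D.A_eq ▸ hE.small)
  have hPc : Nat.card ↥(Sb D.c v) = 25920 := by
    rw [Nat.card_congr eP.toEquiv, Cfsg.Lib.Fischer.Relations.TwoPair.psu_four_card (by rw [card_r4]; norm_num)]
  have : IsSimpleGroup ↥(Sb D.c v) := by
    have : IsSimpleGroup (PSU 4 R4 2) := Cfsg.Lib.Linear.Herm.psu_simple (by rw [card_r4]; norm_num) le_rfl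
    exact eP.isSimpleGroup
  have hkle : φ.ker ≤ f.ker := fun x hx => (hfk x).2 (hE.le ((hφk x).1 hx))
  let g := φ.liftOfSurjective hφs ⟨f, hkle⟩
  have hg : ∀ x, g (φ x) = f x := fun x => MonoidHom.liftOfRightInverse_comp_apply ..
  have hgs : Function.Surjective g := fun p => by
    obtain ⟨x, rfl⟩ := hf p
    exact ⟨φ x, hg x⟩
  have hgk : ∀ x, g (φ x) = 1 ↔ (x : G) ∈ Q := fun x => by rw [hg, hfk]
  have hkp : IsPGroup 2 ↥g.ker := by
    intro y
    obtain ⟨x, hx⟩ := hφs (y : ↥(Subgroup.centralizer ({zb} : Set (↥(Subgroup.centralizer (E : Set G)) ⧸ E.subgroupOf (Subgroup.centralizer (E : Set G))))))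
    have hxQ : (x : G) ∈ Q := (hgk x).1 (by rw [hx]; exact y.2)
    refine ⟨2, Subtype.ext ?_⟩
    rw [Subgroup.coe_pow, ← hx, ← map_pow]
    refine (hφk _).2 ?_
    rw [Subgroup.coe_pow, show (x : G) ^ 2 ^ 2 = (x : G) * x * ((x : G) * x) by
      norm_num [pow_succ, mul_assoc]]
    rcases D.ctx.sq _ hxQ with e | e <;> rw [e]
    · rw [one_mul]; exact one_mem _
    · rw [D.ctx.sq_z]; exact one_mem _
  have hcore : Cfsg.pCore 2 ↥(Subgroup.centralizer ({zb} : Set (↥(Subgroup.centralizer (E : Set G)) ⧸ E.subgroupOf (Subgroup.centralizer (E : Set G))))) = g.ker := by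
    refine le_antisymm (fun y hy => ?_) (Cfsg.Lib.Core.le_pCore' (MonoidHom.normal_ker g) hkp)
    rcases (Subgroup.Normal.map (inferInstance : (Cfsg.pCore 2 ↥(Subgroup.centralizer ({zb} : Set (↥(Subgroup.centralizer (E : Set G)) ⧸ E.subgroupOf (Subgroup.centralizer (E : Set G)))))).Normal) g
      hgs).eq_bot_or_eq_top with h | h
    · exact MonoidHom.mem_ker.2 (Subgroup.mem_bot.1 (h ▸ Subgroup.mem_map_of_mem g hy))
    · exfalso
      obtain ⟨n, hn⟩ := IsPGroup.iff_card.1 ((Cfsg.Lib.Core.pCore_isPGroup 2 _).map g)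
      rw [h, Subgroup.card_top, hPc] at hn
      have := congrArg (fun k => 5 ∣ k) hn
      simp only [eq_iff_iff] at this
      have h5 := Nat.Prime.dvd_of_dvd_pow (by norm_num) (this.1 (by norm_num))
      norm_num at h5
  have hsurjker : ∀ y ∈ g.ker, ∃ x : ↥S, (x : G) ∈ Q ∧ φ x = y := fun y hy => by
    obtain ⟨x, rfl⟩ := hφs y
    exact ⟨x, (hgk x).1 hy, rfl⟩
  have hkerE : Nat.card ↥φ.ker = 4 := by
    rw [← hE.card]
    exact Nat.card_congr
      { toFun := fun x => ⟨((x : ↥S) : G), (hφk _).1 x.2⟩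
        invFun := fun a => ⟨⟨a, D.mem_quadCent.2 ⟨(D.ctx.central a (hE.le a.2)).symm,
          fun b hb => D.quad_comm hE a.2 hb⟩⟩, (hφk _).2 a.2⟩
        left_inv := fun _ => rfl
        right_inv := fun _ => rfl }
  have hCcard : Nat.card ↥(Subgroup.centralizer ({zb} : Set (↥(Subgroup.centralizer (E : Set G)) ⧸ E.subgroupOf (Subgroup.centralizer (E : Set G))))) = 2 ^ 9 * 25920 := by
    have h := φ.ker.card_mul_index
    rw [Subgroup.index_ker, MonoidHom.range_eq_top.2 hφs, Subgroup.card_top, hkerE, D.card_quadCent hw hE] at h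
    refine Nat.eq_of_mul_eq_mul_left (show 0 < 4 by norm_num) (h.trans ?_)
    norm_num
  have hkcard : Nat.card ↥g.ker = 2 ^ 9 := by
    have h := g.ker.card_mul_index
    rw [Subgroup.index_ker, MonoidHom.range_eq_top.2 hgs, Subgroup.card_top, hPc, hCcard] at h
    exact Nat.eq_of_mul_eq_mul_right (by norm_num) h

  have hzS : z ∈ D.quadCent E :=
    D.mem_quadCent.2 ⟨Commute.refl z, fun a ha => D.ctx.central a (hE.le ha)⟩
  let zS : ↥S := ⟨z, hzS⟩
  have hφeq : ∀ (x y : ↥S), (x : G) = y → φ x = φ y := fun x y e => congrArg φ (Subtype.ext e)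
  have hQS : ∀ x ∈ Q, (∀ a ∈ E, Commute x a) → x ∈ S := fun x hx h =>
    D.mem_quadCent.2 ⟨(D.ctx.central x hx).symm, h⟩
  have hzker : φ zS ∈ g.ker := MonoidHom.mem_ker.2 ((hgk zS).2 D.ctx.mem)
  let c : ↥g.ker := ⟨φ zS, hzker⟩
  have hcut : ∀ x : ↥S, (x : G) ∈ Q → (∀ y ∈ Q, (∀ a ∈ E, Commute y a) → Commute y (x : G)) →
      ∃ a ∈ E, (x : G) = a ∨ (x : G) = z * a := fun x hxQ hall => by
    by_contra hout
    push Not at hout
    obtain ⟨y, hy, hyk, hyE⟩ := D.quad_move hE hxQ hout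
    rw [(hall y hy hyE).eq, mul_inv_cancel_right] at hyk
    exact D.ctx.ne_one (mul_eq_right.1 hyk.symm)
  have hext : Cfsg.IsExtraspecial 2 ↥g.ker := by
    refine extraspecial_of_small hkp c ?_ ?_ ?_ ?_ ?_ ?_
    · intro h
      exact D.quad_ne_z hE ((hφk zS).1 (congrArg Subtype.val h))
    · intro a b
      obtain ⟨x, hx, ha⟩ := hsurjker a a.2
      obtain ⟨y, hy, hb⟩ := hsurjker b b.2
      rcases D.ctx.comm _ hx _ hy with e | e
      · refine Or.inl (Subtype.ext ?_)
        simp only [Subgroup.coe_mul, Subgroup.coe_inv, ← ha, ← hb, ← map_inv, ← map_mul]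
        exact (hφk _).2 (by simp only [Subgroup.coe_mul, Subgroup.coe_inv, e]; exact one_mem _)
      · refine Or.inr (Subtype.ext ?_)
        simp only [c, Subgroup.coe_mul, Subgroup.coe_inv, ← ha, ← hb, ← map_inv, ← map_mul]
        exact hφeq _ _ (by simp only [Subgroup.coe_mul, Subgroup.coe_inv]; exact e)
    · intro a
      obtain ⟨x, hx, ha⟩ := hsurjker a a.2
      rcases D.ctx.sq _ hx with e | e
      · refine Or.inl (Subtype.ext ?_)
        simp only [Subgroup.coe_mul, ← ha, ← map_mul]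
        exact (hφk _).2 (by simp only [Subgroup.coe_mul, e]; exact one_mem _)
      · refine Or.inr (Subtype.ext ?_)
        simp only [c, Subgroup.coe_mul, ← ha, ← map_mul]
        exact hφeq _ _ (by simp only [Subgroup.coe_mul]; exact e)
    · intro a
      obtain ⟨x, hx, ha⟩ := hsurjker a a.2
      refine Subtype.ext ?_
      simp only [c, Subgroup.coe_mul, ← ha, ← map_mul]
      exact hφeq _ _ (D.ctx.central _ hx).symm.eq
    · by_contra hcom
      push Not at hcom
      have hsub : ((Q ⊓ Subgroup.centralizer (E : Set G) : Subgroup G) : Set G) ⊆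
          (E : Set G) ∪ (fun a => z * a) '' (E : Set G) := by
        intro x hx
        have hxE : ∀ a ∈ E, Commute x a := fun a ha => (Subgroup.mem_centralizer_iff.1 hx.2 a ha).symm
        obtain ⟨a, ha, e⟩ := hcut ⟨x, hQS x hx.1 hxE⟩ hx.1 fun y hy hyE => by
          rcases D.ctx.comm y hy x hx.1 with e | e
          · exact mul_inv_eq_iff_eq_mul.1 (mul_inv_eq_one.1 e)
          · exfalso
            have hY : φ ⟨y, hQS y hy hyE⟩ ∈ g.ker := MonoidHom.mem_ker.2 ((hgk _).2 hy)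
            have hX : φ ⟨x, hQS x hx.1 hxE⟩ ∈ g.ker := MonoidHom.mem_ker.2 ((hgk _).2 hx.1)
            have h1 := congrArg Subtype.val (hcom ⟨_, hY⟩ ⟨_, hX⟩)
            refine D.quad_ne_z hE ((hφk zS).1 ?_)
            rw [hφeq zS (⟨y, hQS y hy hyE⟩ * ⟨x, hQS x hx.1 hxE⟩ * ⟨y, hQS y hy hyE⟩⁻¹ * ⟨x, hQS x hx.1 hxE⟩⁻¹) e.symm,
              map_mul, map_mul, map_mul, map_inv, map_inv]
            exact mul_inv_eq_one.2 (mul_inv_eq_iff_eq_mul.2 h1)
        rcases e with e | e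
        · have e' : x = a := e
          exact Or.inl (e' ▸ ha)
        · have e' : x = z * a := e
          exact Or.inr ⟨a, ha, e'.symm⟩
      have h := (Set.ncard_le_ncard hsub (Set.toFinite _)).trans ((Set.ncard_union_le _ _).trans
        (Nat.add_le_add_left (Set.ncard_image_le (Set.toFinite _)) _))
      rw [← Nat.card_coe_set_eq, ← Nat.card_coe_set_eq] at h
      have h11 := D.card_quadQ hE
      have h4 := hE.card
      simp only [SetLike.coe_sort_coe] at h
      omega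
    · intro a hall
      obtain ⟨x, hx, ha⟩ := hsurjker a a.2
      obtain ⟨b, hb, e⟩ := hcut x hx fun y hy hyE => by
        rcases D.ctx.comm y hy x hx with e | e
        · exact mul_inv_eq_iff_eq_mul.1 (mul_inv_eq_one.1 e)
        · exfalso
          have hY : φ ⟨y, hQS y hy hyE⟩ ∈ g.ker := MonoidHom.mem_ker.2 ((hgk _).2 hy)
          have h1 := congrArg Subtype.val (hall ⟨_, hY⟩)
          simp only [Subgroup.coe_mul, ← ha] at h1
          refine D.quad_ne_z hE ((hφk zS).1 ?_)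
          rw [hφeq zS (⟨y, hQS y hy hyE⟩ * x * ⟨y, hQS y hy hyE⟩⁻¹ * x⁻¹) e.symm,
            map_mul, map_mul, map_mul, map_inv, map_inv]
          exact mul_inv_eq_one.2 (mul_inv_eq_iff_eq_mul.2 h1.symm)
      have hbS : b ∈ S := hQS b (hE.le hb) fun a ha => D.quad_comm hE hb ha
      have hb1 : φ ⟨b, hbS⟩ = 1 := (hφk _).2 hb
      rcases e with e | e
      · exact Or.inl (Subtype.ext (ha.symm.trans ((hφeq x ⟨b, hbS⟩ e).trans hb1)))
      · refine Or.inr (Subtype.ext (ha.symm.trans ?_))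
        rw [hφeq x (zS * ⟨b, hbS⟩) e, map_mul, hb1, mul_one]
  refine ⟨?_, hcore ▸ hext, hcore ▸ hkcard, ?_, hCcard, inferInstance, ?_⟩
  · rw [hzb]
    refine orderOf_eq_prime ?_ ?_
    · rw [pow_two, ← QuotientGroup.mk_mul, show (⟨z, hzK⟩ : ↥(Subgroup.centralizer (E : Set G))) * ⟨z, hzK⟩ = 1 from
        Subtype.ext D.ctx.sq_z, QuotientGroup.mk_one]
    · intro h
      exact D.quad_ne_z hE ((QuotientGroup.eq_one_iff _).1 h : _)
  · rw [hcore]
    rcases (Subgroup.Normal.map (inferInstance : (Subgroup.centralizer (g.ker :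
        Set ↥(Subgroup.centralizer ({zb} : Set (↥(Subgroup.centralizer (E : Set G)) ⧸
          E.subgroupOf (Subgroup.centralizer (E : Set G))))))).Normal) g hgs).eq_bot_or_eq_top with h | h
    · exact fun y hy => MonoidHom.mem_ker.2 (Subgroup.mem_bot.1 (h ▸ Subgroup.mem_map_of_mem g hy))
    · exfalso
      set P := (Subgroup.centralizer (g.ker : Set ↥(Subgroup.centralizer ({zb} : Set (↥(Subgroup.centralizer (E : Set G)) ⧸
          E.subgroupOf (Subgroup.centralizer (E : Set G))))))).comap φ with hP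
      have hPf : P.map f = ⊤ := by
        rw [eq_top_iff]
        intro p _
        obtain ⟨n, hn, rfl⟩ : p ∈ (Subgroup.centralizer (g.ker : Set ↥(Subgroup.centralizer ({zb} : Set (↥(Subgroup.centralizer (E : Set G)) ⧸
          E.subgroupOf (Subgroup.centralizer (E : Set G))))))).map g := h ▸ Subgroup.mem_top p
        obtain ⟨x, rfl⟩ := hφs n
        exact ⟨x, hn, (hg x).symm⟩
      have h5 : 5 ∣ Nat.card ↥P := by
        refine Dvd.dvd.trans ?_ (Subgroup.card_map_dvd _ f)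
        rw [hPf, Subgroup.card_top, hPc]
        norm_num
      obtain ⟨⟨x, hxP⟩, hx5⟩ := exists_prime_orderOf_dvd_card' (G := ↥P) 5 h5
      rw [Subgroup.orderOf_mk, ← Subgroup.orderOf_coe] at hx5
      obtain ⟨hxz, hxE⟩ := D.mem_quadCent.1 x.2
      refine D.five_absurd hE hxz hxE hx5 fun j hj hjE => ?_
      have hY : φ ⟨j, hQS j hj hjE⟩ ∈ g.ker := MonoidHom.mem_ker.2 ((hgk _).2 hj)
      have h1 : φ ⟨j, hQS j hj hjE⟩ * φ x = φ x * φ ⟨j, hQS j hj hjE⟩ :=
        Subgroup.mem_centralizer_iff.1 hxP _ hY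
      refine (hφk (⟨j, hQS j hj hjE⟩⁻¹ * (x * ⟨j, hQS j hj hjE⟩ * x⁻¹))).1 ?_
      rw [map_mul, map_mul, map_mul, map_inv, map_inv, ← h1, mul_inv_cancel_right, inv_mul_cancel]
  · exact ⟨(QuotientGroup.quotientMulEquivOfEq hcore).trans ((QuotientGroup.quotientKerEquivOfSurjective g hgs).trans
      (eP.trans (Cfsg.Agent.S0822.result card_r4 hF).some))⟩

end Cfsg.Lib.FischerLarge
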