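import Cfsg.Agent.Lib.SUSixU43.Main
import Cfsg.Agent.Lib.FischerLarge.Defs

/-!
# Vectors as codes and the soundness of trees
-/

set_option autoImplicit false

namespace Cfsg.Lib.FischerLarge

open Cfsg Matrix Cfsg.Lib.SUSixU43 Cfsg.Lib.PermAut
open scoped Pointwise

/-- The space. -/
abbrev V6 : Type := Fin 6 → R4

/-- The vector of a code. -/
def vec (v : ℕ) : V6 := fun i => el (vdig v i)

theorem smul_def (g : G6) (x : V6) : g • x = mm g *ᵥ x := rfl

theorem vec_appM (m v : ℕ) : vec (appM m v) = mat m *ᵥ vec v := by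
  funext i
  show el (vdig (pack 6 fun i => dot6 (mget m i) (vdig v)) i) = _
  rw [vdig_pack i.isLt, el_mod, el_dot6]
  rfl

theorem vec_appM_smul {g : G6} {m : ℕ} (hg : mm g = mat m) (v : ℕ) : vec (appM m v) = g • vec v := by
  rw [vec_appM, smul_def, hg]

theorem vec_scaleC (a v : ℕ) : vec (scaleC a v) = el a • vec v := by
  funext i
  show el (vdig (pack 6 fun i => muC a (vdig v i)) i) = _
  rw [vdig_pack i.isLt, el_mod, el_mu]
  rfl

theorem vec_col (m : ℕ) (j : Fin 6) (i : Fin 6) : vec (colC m j) i = mat m i j := by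
  show el (vdig (pack 6 fun i => mget m i j) i) = el (mget m i j)
  rw [vdig_pack i.isLt, el_mod]

theorem el_injOn {a b : ℕ} (ha : a < 4) (hb : b < 4) (h : el a = el b) : a = b := by
  have := (el_eq_iff a b).1 h
  rwa [Nat.mod_eq_of_lt ha, Nat.mod_eq_of_lt hb] at this

theorem vec_inj {u v : ℕ} (hu : u < 4096) (hv : v < 4096) (h : vec u = vec v) : u = v := by
  have e : ∀ i : Fin 6, vdig u i = vdig v i := fun i => el_injOn (vdig_lt _ _) (vdig_lt _ _) (congrFun h i)
  have e0 : u / 1 % 4 = v / 1 % 4 := e 0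
  have e1 : u / 4 % 4 = v / 4 % 4 := e 1
  have e2 : u / 16 % 4 = v / 16 % 4 := e 2
  have e3 : u / 64 % 4 = v / 64 % 4 := e 3
  have e4 : u / 256 % 4 = v / 256 % 4 := e 4
  have e5 : u / 1024 % 4 = v / 1024 % 4 := e 5
  omega

theorem exists_code (x : V6) : ∃ v < 4096, vec v = x := by
  refine ⟨pack 6 fun i => if h : i < 6 then code (x ⟨i, h⟩) else 0, ?_, funext fun i => ?_⟩
  · simp only [pack]
    omega
  · show el (vdig (pack 6 _) i) = x i
    rw [vdig_pack i.isLt, el_mod, dif_pos i.isLt]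
    exact (code_el _).2

theorem vec_zero : vec 0 = 0 := by
  funext i
  show el (0 / 4 ^ (i : ℕ) % 4) = 0
  rw [Nat.zero_div, el_eq_zero]

theorem herm_vec (u v : ℕ) : hermForm 6 R4 2 (vec u) (vec v) = el (hermC u v) := (el_hermC u v).symm

theorem herm_smul {g : G6} (x y : V6) : hermForm 6 R4 2 (g • x) (g • y) = hermForm 6 R4 2 x y := g.2 x y

/-- The nodes of a tree inherit an invariant property. -/
theorem tree_sound {K : ℕ} {im : ℕ → ℕ → ℕ} {get : ℕ → ℕ} {P : ℕ → Prop}
    (hstep : ∀ k < K, ∀ x, P x → P (im k x)) :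
    ∀ (l : List (ℕ × ℕ)) (i : ℕ), treeB K im get l i = true → (∀ j ≤ i, P (get j)) →
      ∀ j ≤ i + l.length, P (get j)
  | [], _, _, h0, j, hj => h0 j hj
  | (p, k) :: l, i, h, h0, j, hj => by
    simp only [treeB, Bool.and_eq_true, Nat.ble_eq, Nat.blt, Nat.beq_eq] at h
    refine tree_sound hstep l (i + 1) h.2 (fun t ht => ?_) j (by simp only [List.length_cons] at hj; omega)
    rcases Nat.lt_or_ge t (i + 1) with hlt | hge
    · exact h0 t (by omega)
    · rw [show t = i + 1 by omega, h.1.2]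
      exact hstep k h.1.1.2 _ (h0 p h.1.1.1)

theorem tree_root {K : ℕ} {im : ℕ → ℕ → ℕ} {O : OrbT} {get : ℕ → ℕ} {P : ℕ → Prop}
    (h : treeB K im get O.par 0 = true) (hstep : ∀ k < K, ∀ x, P x → P (im k x)) (h0 : P (get 0)) :
    ∀ j < O.len, P (get j) := fun j hj =>
  tree_sound hstep O.par 0 h (fun t ht => by rw [Nat.le_zero.1 ht]; exact h0) j (by
    simp only [OrbT.len] at hj; omega)

/-- The vectors of an orbit. -/
def OrbT.set (O : OrbT) : Set V6 := {x | ∃ i < O.len, vec (O.get i) = x}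

theorem get_lt {O : OrbT} (h : distB O = true) {i : ℕ} (hi : i < O.len) : O.get i < 4096 := by
  simp only [distB, allBelowB_iff, Bool.and_eq_true, Nat.blt, Nat.ble_eq] at h
  exact (h i hi).1

theorem has_get {O : OrbT} (h : distB O = true) {i : ℕ} (hi : i < O.len) : O.has (O.get i) = true := by
  simp only [distB, allBelowB_iff, Bool.and_eq_true, Nat.blt, Nat.ble_eq, Nat.beq_eq] at h
  simp only [OrbT.has, Bool.and_eq_true, Nat.blt, Nat.ble_eq, Nat.beq_eq, (h i hi).2]
  exact ⟨hi, trivial⟩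

theorem has_iff {O : OrbT} (h : distB O = true) {v : ℕ} (hv : v < 4096) : O.has v = true ↔ vec v ∈ O.set := by
  refine ⟨fun e => ?_, fun ⟨i, hi, e⟩ => ?_⟩
  · simp only [OrbT.has, Bool.and_eq_true, Nat.blt, Nat.ble_eq, Nat.beq_eq] at e
    exact ⟨ent 12 O.W v, e.1, by rw [e.2]⟩
  · rw [← vec_inj (get_lt h hi) hv e]
    exact has_get h hi

theorem ncard_set {O : OrbT} (h : distB O = true) : O.set.ncard = O.len := by
  classical
  have e : O.set = ↑((Finset.range O.len).image fun i => vec (O.get i)) := by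
    ext x
    simp [OrbT.set]
  rw [e, Set.ncard_coe_finset, Finset.card_image_of_injOn, Finset.card_range]
  intro i hi j hj hij
  simp only [Finset.coe_range, Set.mem_Iio] at hi hj
  have hg := vec_inj (get_lt h hi) (get_lt h hj) hij
  simp only [distB, allBelowB_iff, Bool.and_eq_true, Nat.beq_eq] at h
  rw [← (h i hi).2, hg, (h j hj).2]

/-- The letters of the words. -/
noncomputable def lett (c k : ℕ) : G6 :=
  if k < 3 then [gen c 0, gen c 1, Zc].getD k 1 else ([gen c 0, gen c 1, Zc].getD (k - 3) 1)⁻¹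

theorem gens_spec {c k : ℕ} (hc : c < 3) (hk : k < 3) :
    [gen c 0, gen c 1, Zc].getD k 1 ∈ KM c ∧
      mm ([gen c 0, gen c 1, Zc].getD k 1) = mat ([genM c 0, genM c 1, zMat].getD k 0) := by
  interval_cases k <;> simp only [List.getD_cons_zero, List.getD_cons_succ]
  exacts [⟨gen_mem c 0 (by norm_num), mm_gen hc (by norm_num)⟩,
    ⟨gen_mem c 1 (by norm_num), mm_gen hc (by norm_num)⟩, ⟨Zc_mem c, mm_Zc⟩]

theorem lett_spec {c k : ℕ} (hc : c < 3) (hk : k < 6) : lett c k ∈ KM c ∧ mm (lett c k) = mat (lettM c k) := by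
  by_cases h : k < 3
  · have hb : Nat.blt k 3 = true := by rw [Nat.blt, Nat.ble_eq]; exact h
    rw [lett, lettM, if_pos h, hb, cond_true]
    exact gens_spec hc h
  · have hb : Nat.blt k 3 = false := Bool.eq_false_iff.2 fun e => h (by rwa [Nat.blt, Nat.ble_eq] at e)
    rw [lett, lettM, if_neg h, hb, cond_false]
    obtain ⟨hm, he⟩ := gens_spec hc (k := k - 3) (by omega)
    exact ⟨inv_mem hm, mm_inv_of he⟩

/-- The value of a word. -/
theorem word_spec {c : ℕ} (hc : c < 3) : ∀ w : List ℕ, (∀ k ∈ w, k < 6) →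
    (w.map (lett c)).prod ∈ KM c ∧ mm (w.map (lett c)).prod = mat (prodM (w.map (lettM c)))
  | [], _ => ⟨one_mem _, by simp only [List.map_nil, List.prod_nil, map_one, prodM, mat_oneM]⟩
  | k :: w, h => by
    obtain ⟨h1, h2⟩ := lett_spec hc (h k (List.mem_cons_self ..))
    obtain ⟨h3, h4⟩ := word_spec hc w fun j hj => h j (List.mem_cons_of_mem _ hj)
    simp only [List.map_cons, List.prod_cons, prodM]
    exact ⟨mul_mem h1 h3, by rw [map_mul, h2, h4, mat_mulM]⟩

/-- A model preserves a set preserved by its generators. -/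
theorem smul_set_eq {c : ℕ} (hc : c < 3) {S : Set V6} (hfin : S.Finite)
    (h : ∀ k < 3, ∀ x ∈ S, mat ([genM c 0, genM c 1, zMat].getD k 0) *ᵥ x ∈ S) {g : G6} (hg : g ∈ KM c) :
    g • S = S := by
  have key : ∀ k < 3, [gen c 0, gen c 1, Zc].getD k 1 • S = S := fun k hk => by
    refine Set.eq_of_subset_of_ncard_le ?_ ?_ hfin
    · rintro _ ⟨x, hx, rfl⟩
      show mm ([gen c 0, gen c 1, Zc].getD k 1) *ᵥ x ∈ S
      rw [(gens_spec hc hk).2]
      exact h k hk x hx
    · show S.ncard ≤ ((fun x => [gen c 0, gen c 1, Zc].getD k 1 • x) '' S).ncard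
      exact (Set.ncard_image_of_injective S (f := fun x : V6 => [gen c 0, gen c 1, Zc].getD k 1 • x)
        fun a b e => smul_left_cancel _ e).ge
  have key0 := key 0 (by norm_num)
  have key1 := key 1 (by norm_num)
  have key2 := key 2 (by norm_num)
  simp only [List.getD_cons_zero, List.getD_cons_succ] at key0 key1 key2
  induction hg using Subgroup.closure_induction with
  | mem x hx =>
    rcases hx with rfl | rfl | rfl
    exacts [key0, key1, key2]
  | one => exact one_smul _ _
  | mul x y _ _ hx hy => rw [mul_smul, hy, hx]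
  | inv x _ hx => rw [inv_smul_eq_iff, hx]

end Cfsg.Lib.FischerLarge
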