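import Cfsg.Agent.Lib.FischerLarge.Split
import Cfsg.Agent.Lib.FischerLarge.Vec

/-!
# Unitary coordinates from an orthogonal space with a fixed-point-free isometry of order three
-/

set_option autoImplicit false

namespace Cfsg.Lib.FischerLarge

open Cfsg Matrix Cfsg.Lib.SUSixU43

theorem omega_mul : ∀ (r : R4) (x y : ZMod 2),
    (⟨r.re * x + r.im * y, r.re * y + r.im * (x + y)⟩ : R4) = r * ⟨x, y⟩ := by decide +kernel

theorem conj_eq : ∀ x y : ZMod 2, (⟨x + y, y⟩ : R4) = (⟨x, y⟩ : R4) ^ 2 := by decide +kernel

theorem z2_self : ∀ a : ZMod 2, a + a = 0 := by decide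

theorem r4_self : ∀ a : R4, a + a = 0 := by decide +kernel

universe u

variable {V : Type u} [AddCommGroup V] [Module (ZMod 2) V]

/-- The coordinates. -/
theorem exists_coords [Finite V] (hV : Nat.card V = 4096) (B : V →ₗ[ZMod 2] V →ₗ[ZMod 2] ZMod 2) (q : V → ZMod 2)
    (T : Module.End (ZMod 2) V) (hT : T * T + T + 1 = 0) (hq : ∀ u v, q (u + v) = q u + q v + B u v)
    (hsymm : ∀ u v, B u v = B v u) (hnd : ∀ u, (∀ v, B u v = 0) → u = 0) (hTq : ∀ v, q (T v) = q v) :
    ∃ ψ : V6 ≃+ V, (∀ x, q (ψ x) = 0 ↔ hermForm 6 R4 2 x x = 0) ∧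
      (∀ (r : R4) x, ψ (r • x) = r.re • ψ x + r.im • T (ψ x)) ∧
      ∀ f : Module.End (ZMod 2) V, Commute f T → (∀ v, q (f v) = q v) →
        ∃ A : Matrix (Fin 6) (Fin 6) R4, A.transpose * A.map (fun x => x ^ 2) = 1 ∧
          ∀ x, f (ψ x) = ψ (A *ᵥ x) := by
  classical
  have hT2 : ∀ v, T (T v) = T v + v := fun v => by
    have := LinearMap.congr_fun hT v
    simp only [LinearMap.add_apply, Module.End.mul_apply, Module.End.one_apply, LinearMap.zero_apply] at this
    rw [add_assoc] at this
    rw [eq_neg_of_add_eq_zero_left this]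
    have h2 : ∀ w : V, -w = w := fun w => neg_eq_of_add_eq_zero_left (by
      rw [← two_smul (ZMod 2) w, show (2 : ZMod 2) = 0 from rfl, zero_smul])
    exact h2 _
  have hBf : ∀ {f : V →ₗ[ZMod 2] V}, (∀ v, q (f v) = q v) → ∀ u v, B (f u) (f v) = B u v := fun {f} hf u v => by
    have h1 := hq (f u) (f v)
    rw [← map_add, hf, hf, hf, hq u v] at h1
    exact (add_left_cancel h1).symm
  have hBT := hBf hTq
  have hq0 : q 0 = 0 := by
    have := hq 0 0
    rw [add_zero, map_zero, add_zero, z2_self] at this
    exact this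
  have hBvv : ∀ v, B v v = 0 := fun v => by
    have := hq v v
    rw [show v + v = 0 by rw [← two_smul (ZMod 2) v, show (2 : ZMod 2) = 0 from rfl, zero_smul], hq0, z2_self,
      zero_add] at this
    exact this.symm
  have hBvT : ∀ v, B (T v) v = q v := fun v => by
    have h1 := hq (T v) v
    rw [← hT2, hTq, hTq, z2_self, zero_add] at h1
    exact h1.symm
  letI : Module R4 V := Module.compHom V (omegaHom T hT)
  have hsm : ∀ (r : R4) (v : V), r • v = r.re • v + r.im • T v := fun r v => rfl
  let h : V → V → R4 := fun u v => ⟨B (T u) v + B u v, B u v⟩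
  have hlin : ∀ (r : R4) (u v : V), h (r • u) v = r * h u v := fun r u v => by
    show (⟨_, _⟩ : R4) = _
    rw [← omega_mul r (B (T u) v + B u v) (B u v), hsm]
    simp only [map_add, map_smul, LinearMap.add_apply, LinearMap.smul_apply, smul_eq_mul, hT2]
    generalize B (T u) v = x
    generalize B u v = y
    revert r x y
    decide +kernel
  have hadd : ∀ u u' v, h (u + u') v = h u v + h u' v := fun u u' v => by
    ext <;> simp only [h, map_add, LinearMap.add_apply, QuadraticAlgebra.re_add, QuadraticAlgebra.im_add] <;> ring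
  have hconj : ∀ u v, h v u = h u v ^ 2 := fun u v => by
    show (⟨_, _⟩ : R4) = _
    have e1 : B (T v) u = B (T u) v + B u v := by
      rw [hsymm, ← hBT u (T v), hT2, map_add, hBT u v, add_comm, hsymm (T u) v]
    rw [← conj_eq, e1, hsymm v u]
  have hright : ∀ (r : R4) (u v : V), h u (r • v) = r ^ 2 * h u v := fun r u v => by
    rw [hconj (r • v) u, hlin, mul_pow, ← hconj v u]
  have hradd : ∀ u v v', h u (v + v') = h u v + h u v' := fun u v v' => by
    rw [hconj, hadd, SUSixU43.add_sq, ← hconj, ← hconj]
  have hB0 : ∀ {u v}, h u v = 0 → B u v = 0 := fun {u v} e => congrArg QuadraticAlgebra.im e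
  have hself : ∀ v, h v v = ⟨q v, 0⟩ := fun v => by
    show (⟨_, _⟩ : R4) = _
    rw [hBvT, hBvv, add_zero]
  let hL : V → (V →ₗ[R4] R4) := fun v =>
    { toFun := fun u => h u v
      map_add' := fun a b => hadd a b v
      map_smul' := fun r a => hlin r a v }
  have hsum : ∀ {i : ℕ} (e : Fin i → V), (∀ a b, h (e a) (e b) = if a = b then 1 else 0) →
      ∀ (x : Fin i → R4) (b : Fin i), h (∑ a, x a • e a) (e b) = x b := fun {i} e he x b => by
    show hL (e b) (∑ a, x a • e a) = _
    rw [map_sum, Finset.sum_eq_single b (fun a _ hab => by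
      rw [map_smul]
      show x a • h (e a) (e b) = 0
      rw [he, if_neg hab, smul_zero]) (by simp), map_smul]
    show x b • h (e b) (e b) = _
    rw [he, if_pos rfl, smul_eq_mul, mul_one]
  have hON : ∀ i ≤ 6, ∃ e : Fin i → V, ∀ a b, h (e a) (e b) = if a = b then 1 else 0 := by
    intro i hi
    induction i with
    | zero => exact ⟨Fin.elim0, fun a => a.elim0⟩
    | succ i ih =>
      obtain ⟨e, he⟩ := ih (by omega)
      let σ : V → V := fun u => ∑ a, h u (e a) • e a
      have horth : ∀ u b, h (u + σ u) (e b) = 0 := fun u b => by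
        rw [hadd, hsum e he, r4_self]
      obtain ⟨v, hv⟩ : ∃ v, v + σ v ≠ 0 := by
        by_contra hall
        push Not at hall
        have hsurj : Function.Surjective fun x : Fin i → R4 => ∑ a, x a • e a := fun v => ⟨fun a => h v (e a), by
          have h2 : ∀ w : V, -w = w := fun w => neg_eq_of_add_eq_zero_left (by
            rw [← two_smul (ZMod 2) w, show (2 : ZMod 2) = 0 from rfl, zero_smul])
          exact ((eq_neg_of_add_eq_zero_left (hall v)).trans (h2 _)).symm⟩
        have hle := Nat.card_le_card_of_surjective _ hsurj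
        rw [hV, Nat.card_fun, Nat.card_eq_fintype_card, card_r4, Nat.card_fin] at hle
        have := Nat.pow_le_pow_right (show 1 ≤ 4 by norm_num) (show i ≤ 5 by omega)
        omega
      obtain ⟨w, hw, hqw⟩ : ∃ w, (∀ b, h w (e b) = 0) ∧ q w = 1 := by
        by_contra hall
        push Not at hall
        have hz : ∀ w, (∀ b, h w (e b) = 0) → q w = 0 := fun w hw => (bit2 _).resolve_right (hall w hw)
        refine hv (hnd _ fun u => ?_)
        have hu : B (v + σ v) (u + σ u) = 0 := by
          have h1 := hq (v + σ v) (u + σ u)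
          rw [hz _ (horth v), hz _ (horth u), hz _ (fun b => by rw [hadd, horth, horth, add_zero]), zero_add,
            zero_add] at h1
          exact h1.symm
        have hσ : B (v + σ v) (σ u) = 0 := hB0 (by
          rw [hconj, show h (σ u) (v + σ v) = hL (v + σ v) (σ u) from rfl, map_sum,
            Finset.sum_eq_zero fun a _ => ?_, zero_pow two_ne_zero]
          rw [map_smul]
          show _ • h (e a) (v + σ v) = 0
          rw [hconj (v + σ v) (e a), horth, zero_pow two_ne_zero, smul_zero])
        rwa [map_add, hσ, add_zero] at hu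
      refine ⟨Fin.cons w e, fun a b => ?_⟩
      induction a using Fin.cases with
      | zero =>
        induction b using Fin.cases with
        | zero => simp [hself, hqw]; rfl
        | succ b => simp [hw, (Fin.succ_ne_zero b).symm]
      | succ a =>
        induction b using Fin.cases with
        | zero =>
          simp only [Fin.cons_succ, Fin.cons_zero, Fin.succ_ne_zero, if_false]
          rw [hconj, hw, zero_pow two_ne_zero]
        | succ b => simp [he]
  obtain ⟨e, he⟩ := hON 6 le_rfl
  let ψl : V6 →ₗ[R4] V :=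
    { toFun := fun x => ∑ a, x a • e a
      map_add' := fun x y => by simp only [Pi.add_apply, add_smul, Finset.sum_add_distrib]
      map_smul' := fun r x => by simp only [Pi.smul_apply, smul_eq_mul, mul_smul, Finset.smul_sum, RingHom.id_apply] }
  have hinj : Function.Injective ψl := fun x y hxy => funext fun b => by
    rw [← hsum e he x b, ← hsum e he y b]
    exact congrArg (fun u => h u (e b)) hxy
  have hbij : Function.Bijective ψl := hinj.bijective_of_nat_card_le (by
    rw [hV, Nat.card_fun, Nat.card_eq_fintype_card, card_r4, Nat.card_fin]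
    norm_num)
  let ψ := LinearEquiv.ofBijective ψl hbij
  have hherm : ∀ x y, h (ψ x) (ψ y) = hermForm 6 R4 2 x y := fun x y => by
    show hL (ψ y) (∑ a, x a • e a) = ∑ a, x a * y a ^ 2
    rw [map_sum]
    refine Finset.sum_congr rfl fun a _ => ?_
    rw [map_smul]
    show x a • h (e a) (ψ y) = _
    rw [hconj, show h (ψ y) (e a) = y a from hsum e he y a, smul_eq_mul]
  refine ⟨ψ.toAddEquiv, fun x => ?_, fun r x => ?_, fun f hfT hfq => ?_⟩
  · show q (ψ x) = 0 ↔ _
    rw [← hherm, hself]
    exact ⟨fun e => by rw [e]; rfl, fun e => congrArg QuadraticAlgebra.re e⟩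
  · exact (map_smul ψ r x).trans (hsm r _)
  · let fR : V →ₗ[R4] V :=
      { toFun := f
        map_add' := map_add f
        map_smul' := fun r v => by
          show f (r.re • v + r.im • T v) = r.re • f v + r.im • T (f v)
          rw [map_add, map_smul, map_smul, ← Module.End.mul_apply, hfT.eq, Module.End.mul_apply] }
    let g : V6 →ₗ[R4] V6 := ψ.symm.toLinearMap ∘ₗ fR ∘ₗ ψ.toLinearMap
    have hA : ∀ x, f (ψ x) = ψ (LinearMap.toMatrix' g *ᵥ x) := fun x => by
      rw [LinearMap.toMatrix'_mulVec]
      exact (ψ.apply_symm_apply _).symm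
    refine ⟨LinearMap.toMatrix' g, Matrix.ext fun i j => ?_, hA⟩
    have hh : h (f (ψ (Pi.single i 1))) (f (ψ (Pi.single j 1))) = h (ψ (Pi.single i 1)) (ψ (Pi.single j 1)) := by
      show (⟨_, _⟩ : R4) = (⟨_, _⟩ : R4)
      rw [← Module.End.mul_apply T f, ← hfT.eq, Module.End.mul_apply, hBf hfq, hBf hfq]
    rw [hA, hA, hherm, hherm] at hh
    simp only [hermForm, Matrix.mulVec_single_one, Matrix.col_apply] at hh
    rw [Matrix.mul_apply]
    simp only [Matrix.transpose_apply, Matrix.map_apply]
    rw [hh, Finset.sum_eq_single i (fun l _ hl => by simp [hl]) (by simp), Pi.single_eq_same, one_mul,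
      Matrix.one_apply]
    rcases eq_or_ne i j with rfl | hij
    · simp
    · simp [hij]

end Cfsg.Lib.FischerLarge
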