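import Cfsg.Agent.Lib.FischerLarge.Sylow
import Cfsg.Agent.Lib.FischerLarge.CheckLagrangian

/-!
# The fixed space of the elementary abelian group of rank four
-/

set_option autoImplicit false

namespace Cfsg.Lib.FischerLarge

open Cfsg Cfsg.Lib.SUSixU43 Cfsg.Lib.PermAut

set_option maxRecDepth 10000

attribute [local irreducible] syl mat mulM maskL appM ent sameM

theorem vec_addC (u v : ℕ) : vec (addC u v) = vec u + vec v := by
  funext i
  show el (vdig (pack 6 fun i => adC (vdig u i) (vdig v i)) i) = el (vdig u i) + el (vdig v i)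
  rw [vdig_pack i.isLt, el_mod, el_ad]

theorem span_ind {P : V6 → Prop} (h0 : P 0) (hadd : ∀ x y, P x → P y → P (x + y)) :
    ∀ l : List ℕ, (∀ b ∈ l, P (vec b)) → ∀ v ∈ spanL l, P (vec v)
  | [], _, v, hv => by
    rw [List.mem_singleton.1 hv, vec_zero]
    exact h0
  | b :: l, hl, v, hv => by
    rcases List.mem_append.1 hv with h | h
    · exact span_ind h0 hadd l (fun x hx => hl x (List.mem_cons_of_mem _ hx)) v h
    · obtain ⟨u, hu, rfl⟩ := List.mem_map.1 h
      rw [vec_addC]
      exact hadd _ _ (hl b (List.mem_cons_self ..))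
        (span_ind h0 hadd l (fun x hx => hl x (List.mem_cons_of_mem _ hx)) u hu)

/-- The basis of the fixed space. -/
noncomputable def lagVec (c : ℕ) (i : Fin 6) : V6 := vec ((lagBasis c).getD i 0)

/-- The facts on the fixed space. -/
structure LagFacts (c : ℕ) : Prop where
  card : (fixSet c).ncard = 64
  zero : (0 : V6) ∈ fixSet c
  add : ∀ x ∈ fixSet c, ∀ y ∈ fixSet c, x + y ∈ fixSet c
  scal : ∀ (a : R4), ∀ x ∈ fixSet c, a • x ∈ fixSet c
  orth : ∀ x ∈ fixSet c, ∀ y ∈ fixSet c, hermForm 6 R4 2 x y = 0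
  perp : ∀ x, (∀ y ∈ fixSet c, hermForm 6 R4 2 x y = 0) → x ∈ fixSet c
  basis : ∀ P : V6 → Prop, P 0 → (∀ x y, P x → P y → P (x + y)) → (∀ i, P (lagVec c i)) → ∀ x ∈ fixSet c, P x
  basis_mem : ∀ i, lagVec c i ∈ fixSet c
  four_fix : ∀ g ∈ fourSet c, ∀ x ∈ fixSet c, g • x = x
  four_card : (fourSet c).ncard = 16
  four_le : ∀ g ∈ fourSet c, g ∈ KM c
  alt_small : ∃ K : Set V6, K.ncard < 64 ∧ ∀ x, (∀ g ∈ altSet c, g • x = x) → x ∈ K
  alt_card : (altSet c).ncard ≤ 16

theorem lagFacts {c : ℕ} (hc : c < 3) : LagFacts c := by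
  classical
  obtain ⟨hcard, hfix, hmem, halt, horth, h4, hA⟩ := fix_facts hc
  have h := lag_ok c hc
  simp only [lagB, Bool.and_eq_true, Nat.beq_eq, List.all_eq_true, allBelowB_iff, List.contains_iff_mem,
    Bool.not_eq_true'] at h
  obtain ⟨⟨⟨⟨hlen, hspan⟩, hbmem⟩, hperp⟩, hnd⟩ := h
  have hf := sylFix_ok c hc
  simp only [fixB, Bool.and_eq_true, List.all_eq_true, Nat.beq_eq, Nat.blt, Nat.ble_eq, fN_eq] at hf
  obtain ⟨⟨⟨⟨⟨⟨⟨⟨⟨hf16, -⟩, -⟩, -⟩, -⟩, -⟩, hfour⟩, -⟩, hfv⟩, -⟩ := hf
  refine ⟨hcard, hmem 0 fun g _ => ?_, fun x hx y hy => hmem _ fun g hg => ?_,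
    fun a x hx => hmem _ fun g hg => ?_, horth, fun x hx => ?_, fun P h0 hadd hb => ?_, fun i => ?_, hfix, ?_, ?_,
    halt, hA⟩
  · have := g6_add g 0 0
    rw [add_zero] at this
    exact left_eq_add.1 this
  · rw [g6_add, hfix g hg x hx, hfix g hg y hy]
  · rw [g6_scalar, hfix g hg x hx]
  · obtain ⟨v, hv, rfl⟩ := exists_code x
    have := hperp v hv
    rw [List.all_eq_true.2 fun u hu => ?_, cond_true, List.contains_iff_mem] at this
    · exact ⟨v, this, rfl⟩
    · have h1 := hx _ ⟨u, hu, rfl⟩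
      rw [herm_vec, el_eq_zero, Nat.mod_eq_of_lt (hermC_lt _ _)] at h1
      rw [h1]
      rfl
  · rintro _ ⟨v, hv, rfl⟩
    refine span_ind h0 hadd _ (fun b hb' => ?_) v (hspan v hv)
    obtain ⟨t, ht, rfl⟩ := List.getElem_of_mem hb'
    have := hb ⟨t, by omega⟩
    rwa [lagVec, List.getD_eq_getElem _ _ ht] at this
  · exact ⟨_, hbmem _ (getD_mem 0 (by omega)), rfl⟩
  · have hlt : ∀ i < 16, (syl c).four.getD i 0 < 128 := fun i hi => (hfour _ (getD_mem 0 (by omega))).1
    refine le_antisymm h4 ?_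
    have hinj : Set.InjOn (fun i => sy c ((syl c).four.getD i 0)) (↑(Finset.range 16) : Set ℕ) := by
      intro i hi j hj e
      simp only [Finset.coe_range, Set.mem_Iio] at hi hj
      have e' := sy_inj hc (hlt i hi) (hlt j hj) e
      by_contra hne
      rcases Nat.lt_or_gt_of_ne hne with hl | hl
      · have := hnd j (by omega) i hl
        rw [e', Nat.beq_refl] at this
        exact Bool.noConfusion this
      · have := hnd i (by omega) j hl
        rw [e', Nat.beq_refl] at this
        exact Bool.noConfusion this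
    have hsub : (fun i => sy c ((syl c).four.getD i 0)) '' (↑(Finset.range 16) : Set ℕ) ⊆ fourSet c := by
      rintro _ ⟨i, hi, rfl⟩
      simp only [Finset.coe_range, Set.mem_Iio] at hi
      exact ⟨_, getD_mem 0 (by omega), rfl⟩
    have := finite_G6
    have h1 := Set.ncard_le_ncard hsub (Set.toFinite _)
    rwa [Set.ncard_image_of_injOn hinj, Set.ncard_coe_finset, Finset.card_range] at h1
  · rintro _ ⟨i, hi, rfl⟩
    exact (sy_spec hc (hfour i hi).1).1

theorem g6_sq_one {g : G6} (h : ∀ x : V6, g • g • x = x) : g * g = 1 := by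
  refine mm_injective (Matrix.ext_of_mulVec_single fun j => ?_)
  rw [map_one, Matrix.one_mulVec, ← smul_def, mul_smul, h]

/-- An element fixing the fixed space pointwise is an involution or trivial. -/
theorem fixer_sq {c : ℕ} (hc : c < 3) {g : G6} (hg : ∀ x ∈ fixSet c, g • x = x) : g * g = 1 := by
  obtain h := lagFacts hc
  refine g6_sq_one fun x => ?_
  have hin : g • x + x ∈ fixSet c := h.perp _ fun y hy => by
    have h1 := herm_smul (g := g) x y
    rw [hg y hy] at h1
    simp only [hermForm, Pi.add_apply, add_mul, Finset.sum_add_distrib] at h1 ⊢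
    rw [h1, ← Finset.sum_add_distrib]
    exact Finset.sum_eq_zero fun i _ => r4_self _
  have h2 := hg _ hin
  rw [g6_add] at h2
  have h3 := congrArg (· + g • x) h2
  simp only [add_assoc, v6_add_self, add_zero] at h3
  rw [h3, add_comm x, ← add_assoc, v6_add_self, zero_add]
where
  r4_self (a : R4) : a + a = 0 := by
    rw [show a + a = (2 : R4) * a by ring, show (2 : R4) = 0 by decide +kernel, zero_mul]

end Cfsg.Lib.FischerLarge
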