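import Cfsg.Agent.Lib.FischerLarge.Coord
import Cfsg.Agent.Lib.FischerLarge.Abelian

/-!
# The orbits of the centralizer on the involutions of the extraspecial subgroup
-/

set_option autoImplicit false

namespace Cfsg.Lib.FischerLarge

open Cfsg Cfsg.Lib.SUSixU43 Cfsg.Lib.Extra

universe u

variable {G : Type u} [Group G] [Finite G] {z : G} {Q : Subgroup G} (D : Coord z Q)

/-- A noncentral involution of the extraspecial subgroup. -/
def Coord.Pt (_D : Coord z Q) (a : G) : Prop := a ∈ Q ∧ a * a = 1 ∧ a ≠ 1 ∧ a ≠ z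

theorem Coord.cl_one : D.cl 1 = 0 := by
  have h := D.cl_mul 1 (one_mem _) 1 (one_mem _)
  rw [mul_one] at h
  exact left_eq_add.1 h

theorem Coord.pt_iff {a : G} (ha : a ∈ Q) : D.Pt a ↔ D.cl a ∈ D.A ∪ D.B := by
  constructor
  · rintro ⟨-, h2, h1, hz⟩
    refine D.orb.cover _ (fun e => ?_) ((D.cl_sq a ha).1 h2)
    rcases (D.cl_eq 1 (one_mem _) a ha).1 (by rw [D.cl_one, e]) with e' | e'
    · exact h1 e'
    · exact hz (by rw [e', mul_one])
  · intro h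
    obtain ⟨hne, hs⟩ := D.orb.sing _ h
    refine ⟨ha, (D.cl_sq a ha).2 hs, fun e => hne (by rw [e, D.cl_one]), fun e => hne ?_⟩
    rw [e, ← D.cl_one]
    exact ((D.cl_eq 1 (one_mem _) z D.ctx.mem).2 (Or.inr (mul_one z).symm)).symm

theorem Coord.pt_conj {a h : G} (hh : Commute h z) (ha : D.Pt a) : D.Pt (h * a * h⁻¹) := by
  obtain ⟨haQ, h2, h1, hz⟩ := ha
  refine ⟨conj_mem D.ctx hh haQ, ?_, fun e => h1 (conj_eq_one_iff.1 e), fun e => hz ?_⟩
  · rw [show h * a * h⁻¹ * (h * a * h⁻¹) = h * (a * a) * h⁻¹ by group, h2]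
    group
  · calc a = h⁻¹ * (h * a * h⁻¹) * h := by group
      _ = h⁻¹ * z * h := by rw [e]
      _ = z := by rw [mul_assoc, ← hh.eq, inv_mul_cancel_left]

theorem Coord.m_comm (m : ↥D.M) : Commute (m : G) z := Subgroup.mem_centralizer_singleton_iff.1 (D.M_le m.2)

theorem Coord.exists_pre {g : G6} (hg : g ∈ KM D.c) : ∃ m : ↥D.M, D.π m = g := by
  rw [← D.π_range] at hg
  exact hg

theorem Coord.π_mem (m : ↥D.M) : D.π m ∈ KM D.c := by rw [← D.π_range]; exact ⟨m, rfl⟩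

/-- Elements with the same coordinates are conjugate. -/
theorem Coord.fuse {a b : G} (ha : D.Pt a) (hb : b ∈ Q) (h : D.cl a = D.cl b) : ∃ y ∈ Q, y * a * y⁻¹ = b := by
  rcases (D.cl_eq a ha.1 b hb).1 h with e | e
  · exact ⟨1, one_mem _, by rw [e]; group⟩
  · obtain ⟨y, hy, hya⟩ := D.ctx.exists_move ha.1 ha.2.2.1 ha.2.2.2
    exact ⟨y, hy, hya.trans e.symm⟩

/-- Elements in one orbit are conjugate by the unitary part. -/
theorem Coord.conj_in_M {a b : G} (ha : D.Pt a) (hb : b ∈ Q) (h : ∃ g ∈ KM D.c, g • D.cl a = D.cl b) :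
    ∃ m ∈ D.M, m * a * m⁻¹ = b := by
  obtain ⟨g, hg, he⟩ := h
  obtain ⟨m, rfl⟩ := D.exists_pre hg
  rw [← D.π_cl m a ha.1] at he
  obtain ⟨y, hy, hye⟩ := D.fuse (D.pt_conj (D.m_comm m) ha) hb he
  exact ⟨y * m, mul_mem (D.Q_le hy) m.2, by rw [← hye]; group⟩

theorem Coord.not_B_to_A {h a : G} (hh : Commute h z) (ha : a ∈ Q) (haB : D.cl a ∈ D.B) :
    D.cl (h * a * h⁻¹) ∉ D.A := by
  intro hA
  choose L hLQ hLc using D.cl_surj
  let σ : V6 → V6 := fun v => D.cl (h * L v * h⁻¹)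
  have hzh : h * z * h⁻¹ = z := by rw [hh.eq, mul_inv_cancel_right]
  have hσ : ∀ b ∈ Q, D.cl (h * b * h⁻¹) = σ (D.cl b) := fun b hb => by
    rcases (D.cl_eq _ (hLQ _) _ hb).1 (hLc (D.cl b)) with e | e
    · exact congrArg (fun w => D.cl (h * w * h⁻¹)) e
    · refine ((D.cl_eq _ (conj_mem D.ctx hh (hLQ _)) _ (conj_mem D.ctx hh hb)).2 (Or.inr ?_)).symm
      conv_lhs => rw [e]
      rw [show h * (z * L (D.cl b)) * h⁻¹ = h * z * h⁻¹ * (h * L (D.cl b) * h⁻¹) by group, hzh]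
  have hinj : Function.Injective σ := fun v w e => by
    rw [← hLc v, ← hLc w]
    refine (D.cl_eq _ (hLQ v) _ (hLQ w)).2 ?_
    rcases (D.cl_eq _ (conj_mem D.ctx hh (hLQ v)) _ (conj_mem D.ctx hh (hLQ w))).1 e with e' | e'
    · exact Or.inl (mul_left_cancel (mul_right_cancel e'))
    · refine Or.inr (mul_left_cancel (mul_right_cancel (e'.trans ?_) : h * L w = h * (z * L v)))
      rw [← mul_assoc z, ← mul_assoc z, hh.symm.eq]
      simp only [mul_assoc]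
  have hsub : σ '' D.B ⊆ D.A := by
    rintro _ ⟨w, hw, rfl⟩
    obtain ⟨g, hg, he⟩ := D.orb.transB _ haB w hw
    obtain ⟨m, rfl⟩ := D.exists_pre hg
    rw [← D.π_cl m a ha] at he
    rw [← he, ← hσ _ (conj_mem D.ctx (D.m_comm m) ha)]
    let m' : ↥D.M := ⟨h * m * h⁻¹, D.M_normal h (Subgroup.mem_centralizer_singleton_iff.2 hh.eq) _ m.2⟩
    have key : h * ((m : G) * a * (m : G)⁻¹) * h⁻¹ = (m' : G) * (h * a * h⁻¹) * (m' : G)⁻¹ := by
      show _ = h * m * h⁻¹ * _ * (h * m * h⁻¹)⁻¹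
      group
    rw [key, D.π_cl m' _ (conj_mem D.ctx hh ha)]
    exact D.orb.invA _ (D.π_mem m') _ hA
  have := Set.ncard_le_ncard hsub (Set.toFinite _)
  rw [Set.ncard_image_of_injective _ hinj, D.orb.cardA, D.orb.cardB] at this
  omega

theorem Coord.keep_B {h a : G} (hh : Commute h z) (ha : D.Pt a) (haB : D.cl a ∈ D.B) :
    D.cl (h * a * h⁻¹) ∈ D.B :=
  ((D.pt_iff (conj_mem D.ctx hh ha.1)).1 (D.pt_conj hh ha)).resolve_left (D.not_B_to_A hh ha.1 haB)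

theorem Coord.keep_A {h a : G} (hh : Commute h z) (ha : D.Pt a) (haA : D.cl a ∈ D.A) :
    D.cl (h * a * h⁻¹) ∈ D.A := by
  refine ((D.pt_iff (conj_mem D.ctx hh ha.1)).1 (D.pt_conj hh ha)).resolve_right fun hB => ?_
  have := D.keep_B hh.inv_left (D.pt_conj hh ha) hB
  rw [show h⁻¹ * (h * a * h⁻¹) * h⁻¹⁻¹ = a by group] at this
  exact D.orb.disj _ haA this

/-- Two orbits. -/
theorem Coord.two_orbits : ∃ s t : G, D.Pt s ∧ D.Pt t ∧ (∀ h, Commute h z → h * s * h⁻¹ ≠ t) ∧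
    ∀ x, D.Pt x → (∃ m ∈ D.M, m * s * m⁻¹ = x) ∨ ∃ m ∈ D.M, m * t * m⁻¹ = x := by
  obtain ⟨v, hv⟩ := Set.nonempty_of_ncard_ne_zero (s := D.A) (by rw [D.orb.cardA]; norm_num)
  obtain ⟨w, hw⟩ := Set.nonempty_of_ncard_ne_zero (s := D.B) (by rw [D.orb.cardB]; norm_num)
  obtain ⟨s, hs, hsv⟩ := D.cl_surj v
  obtain ⟨t, ht, htw⟩ := D.cl_surj w
  have hsA : D.cl s ∈ D.A := hsv ▸ hv
  have htB : D.cl t ∈ D.B := htw ▸ hw
  refine ⟨s, t, (D.pt_iff hs).2 (Or.inl hsA), (D.pt_iff ht).2 (Or.inr htB), fun h hh e => ?_, fun x hx => ?_⟩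
  · exact D.orb.disj _ (D.keep_A hh ((D.pt_iff hs).2 (Or.inl hsA)) hsA) (e.symm ▸ htB)
  · rcases (D.pt_iff hx.1).1 hx with h | h
    · exact Or.inl (D.conj_in_M ((D.pt_iff hs).2 (Or.inl hsA)) hx.1 (D.orb.transA _ hsA _ h))
    · exact Or.inr (D.conj_in_M ((D.pt_iff ht).2 (Or.inr htB)) hx.1 (D.orb.transB _ htB _ h))

end Cfsg.Lib.FischerLarge
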