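import Cfsg.Agent.Lib.Extra.Large

/-!
# The orthogonal space of an extraspecial subgroup, with the action of the centralizer of its involution
-/

set_option autoImplicit false

namespace Cfsg.Lib.FischerLarge

open Cfsg Cfsg.Lib.Extra

universe u

variable {G : Type u} [Group G] {Q : Subgroup G} {z : G}

theorem bit2 : ∀ a : ZMod 2, a = 0 ∨ a = 1 := by decide

open scoped Classical in
/-- The exponent of a power of an involution. -/
noncomputable def expo (g : G) : ZMod 2 := if g = 1 then 0 else 1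

theorem expo_one : expo (1 : G) = 0 := if_pos rfl

theorem expo_eq_zero {g : G} : expo g = 0 ↔ g = 1 := by
  by_cases h : g = 1
  · simp [expo, h]
  · simp [expo, h]

section Ctx

variable (hQ : Ctx Q z)
include hQ

theorem expo_mul {g h : G} (hg : g = 1 ∨ g = z) (hh : h = 1 ∨ h = z) : expo (g * h) = expo g + expo h := by
  rcases hg with rfl | rfl <;> rcases hh with rfl | rfl <;>
    simp [expo, hQ.sq_z, hQ.ne_one]
  rfl

theorem expo_inj {g h : G} (hg : g = 1 ∨ g = z) (hh : h = 1 ∨ h = z) (e : expo g = expo h) : g = h := by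
  rcases hg with rfl | rfl <;> rcases hh with rfl | rfl <;> simp [expo, hQ.ne_one] at e <;> rfl

theorem conj_mem {c a : G} (hc : Commute c z) (ha : a ∈ Q) : c * a * c⁻¹ ∈ Q :=
  (Subgroup.mem_normalizer_iff.1 (hQ.norm _ hc) _).1 ha

/-- The centre as a subgroup of the extraspecial group. -/
def zSub : Subgroup ↥Q where
  carrier := {a | (a : G) = 1 ∨ (a : G) = z}
  one_mem' := Or.inl rfl
  mul_mem' {a b} ha hb := by
    show ((a * b : ↥Q) : G) = 1 ∨ ((a * b : ↥Q) : G) = z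
    rw [Subgroup.coe_mul]
    rcases ha with ha | ha <;> rcases hb with hb | hb <;> rw [ha, hb] <;> simp [hQ.sq_z]
  inv_mem' {a} ha := by
    show ((a⁻¹ : ↥Q) : G) = 1 ∨ ((a⁻¹ : ↥Q) : G) = z
    rw [Subgroup.coe_inv]
    rcases ha with ha | ha <;> rw [ha] <;> simp [hQ.inv_z]

/-- The module with all its structure. -/
theorem exists_module [Finite G] (hcard : Nat.card ↥Q = 2 ^ 13) :
    ∃ (V : Type u) (_ : AddCommGroup V) (_ : Module (ZMod 2) V) (_ : Finite V) (cl : G → V)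
      (act : G → Module.End (ZMod 2) V) (B : V →ₗ[ZMod 2] V →ₗ[ZMod 2] ZMod 2) (q : V → ZMod 2),
      Nat.card V = 4096 ∧
      (∀ a ∈ Q, ∀ b ∈ Q, cl (a * b) = cl a + cl b) ∧
      (∀ v, ∃ a ∈ Q, cl a = v) ∧
      (∀ a ∈ Q, ∀ b ∈ Q, cl a = cl b ↔ b = a ∨ b = z * a) ∧
      (∀ a ∈ Q, q (cl a) = 0 ↔ a * a = 1) ∧
      (∀ a ∈ Q, ∀ b ∈ Q, B (cl a) (cl b) = 0 ↔ Commute a b) ∧
      (∀ u v, q (u + v) = q u + q v + B u v) ∧
      (∀ u v, B u v = B v u) ∧
      (∀ u, (∀ v, B u v = 0) → u = 0) ∧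
      (∀ c, Commute c z → ∀ a ∈ Q, act c (cl a) = cl (c * a * c⁻¹)) ∧
      (∀ c, Commute c z → (act c = 1 ↔ c ∈ Q)) := by
  classical
  set Z := zSub hQ with hZdef
  haveI hZn : Z.Normal := ⟨fun a ha g => by
    have e : ((g * a * g⁻¹ : ↥Q) : G) = a := by
      rcases ha with h | h <;> simp only [Subgroup.coe_mul, Subgroup.coe_inv, h]
      · simp
      · rw [← (hQ.central _ g.2).eq, mul_inv_cancel_right]
    show (_ = 1 ∨ _ = z)
    rw [e]
    exact ha⟩
  letI : CommGroup (↥Q ⧸ Z) := { (inferInstance : Group (↥Q ⧸ Z)) with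
    mul_comm := fun x y => by
      obtain ⟨x, rfl⟩ := QuotientGroup.mk_surjective x
      obtain ⟨y, rfl⟩ := QuotientGroup.mk_surjective y
      rw [← QuotientGroup.mk_mul, ← QuotientGroup.mk_mul, QuotientGroup.eq]
      have e : (((x * y)⁻¹ * (y * x) : ↥Q) : G) = (y : G)⁻¹ * (x : G)⁻¹ * ((y : G)⁻¹)⁻¹ * ((x : G)⁻¹)⁻¹ := by
        simp [mul_assoc]
      show (_ = 1 ∨ _ = z)
      rw [e]
      exact hQ.comm _ (inv_mem y.2) _ (inv_mem x.2) }
  let V := Additive (↥Q ⧸ Z)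
  letI : AddCommGroup V := inferInstanceAs (AddCommGroup (Additive (↥Q ⧸ Z)))
  haveI : Finite V := Finite.of_equiv (↥Q ⧸ Z) Additive.ofMul
  let cl : G → V := fun a => if h : a ∈ Q then Additive.ofMul (QuotientGroup.mk (⟨a, h⟩ : ↥Q)) else 0
  have hcl : ∀ {a} (h : a ∈ Q), cl a = Additive.ofMul (QuotientGroup.mk (⟨a, h⟩ : ↥Q)) := fun h => dif_pos h
  have cl_mul : ∀ a ∈ Q, ∀ b ∈ Q, cl (a * b) = cl a + cl b := fun a ha b hb => by
    rw [hcl ha, hcl hb, hcl (mul_mem ha hb), ← ofMul_mul]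
    rfl
  have cl_eq : ∀ a ∈ Q, ∀ b ∈ Q, cl a = cl b ↔ b = a ∨ b = z * a := fun a ha b hb => by
    rw [hcl ha, hcl hb, Additive.ofMul.injective.eq_iff, QuotientGroup.eq]
    show (a⁻¹ * b = 1 ∨ a⁻¹ * b = z) ↔ _
    rw [inv_mul_eq_one, inv_mul_eq_iff_eq_mul, (hQ.central a ha).eq, eq_comm (a := a)]
  have cl_one : cl 1 = 0 := by
    have h := cl_mul 1 (one_mem _) 1 (one_mem _)
    rw [mul_one] at h
    exact left_eq_add.1 h
  have cl_z : cl z = 0 := by
    rw [← cl_one]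
    exact (cl_eq _ hQ.mem _ (one_mem _)).2 (Or.inr hQ.sq_z.symm)
  have hsurj : ∀ v : V, ∃ a ∈ Q, cl a = v := fun v => by
    obtain ⟨a, ha⟩ := QuotientGroup.mk_surjective (Additive.toMul v)
    exact ⟨a, a.2, by rw [hcl a.2, Subtype.coe_eta, ha]; rfl⟩
  have two : ∀ v : V, (2 : ℕ) • v = 0 := fun v => by
    obtain ⟨a, ha, rfl⟩ := hsurj v
    rw [two_nsmul, ← cl_mul a ha a ha]
    rcases hQ.sq a ha with e | e <;> rw [e]
    exacts [cl_one, cl_z]
  letI : Module (ZMod 2) V := AddCommGroup.zmodModule two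
  choose L hLQ hLc using hsurj
  have hlift : ∀ {a}, a ∈ Q → a = L (cl a) ∨ a = z * L (cl a) := fun {a} ha =>
    (cl_eq _ (hLQ _) _ ha).1 (hLc _)
  -- the commutator of lifts
  have comm_z : ∀ {a b : G}, a ∈ Q → b ∈ Q → a * b * a⁻¹ * b⁻¹ = 1 ∨ a * b * a⁻¹ * b⁻¹ = z := fun ha hb =>
    hQ.comm _ ha _ hb
  have comm_add : ∀ {a b c : G}, a ∈ Q → b ∈ Q → c ∈ Q →
      expo (a * b * c * (a * b)⁻¹ * c⁻¹) = expo (a * c * a⁻¹ * c⁻¹) + expo (b * c * b⁻¹ * c⁻¹) := by
    intro a b c ha hb hc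
    rw [← expo_mul hQ (comm_z ha hc) (comm_z hb hc)]
    congr 1
    rcases comm_z hb hc with e | e
    · rw [e, mul_one]
      calc a * b * c * (a * b)⁻¹ * c⁻¹ = a * (b * c * b⁻¹ * c⁻¹) * c * a⁻¹ * c⁻¹ := by group
        _ = _ := by rw [e]; group
    · calc a * b * c * (a * b)⁻¹ * c⁻¹ = a * (b * c * b⁻¹ * c⁻¹) * c * a⁻¹ * c⁻¹ := by group
        _ = a * z * c * a⁻¹ * c⁻¹ := by rw [e]
        _ = z * (a * c * a⁻¹ * c⁻¹) := by rw [← (hQ.central a ha).eq]; group
        _ = a * c * a⁻¹ * c⁻¹ * z :=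
          (hQ.central _ (mul_mem (mul_mem (mul_mem ha hc) (inv_mem ha)) (inv_mem hc))).eq
        _ = _ := by rw [e]
  have comm_symm : ∀ {a b : G}, a ∈ Q → b ∈ Q →
      expo (b * a * b⁻¹ * a⁻¹) = expo (a * b * a⁻¹ * b⁻¹) := fun {a b} ha hb => by
    rw [show b * a * b⁻¹ * a⁻¹ = (a * b * a⁻¹ * b⁻¹)⁻¹ by group]
    rcases comm_z ha hb with e | e <;> rw [e]
    · rw [inv_one]
    · rw [hQ.inv_z]
  let ω : V → V → ZMod 2 := fun u v => expo (L u * L v * (L u)⁻¹ * (L v)⁻¹)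
  have hω : ∀ {a b}, a ∈ Q → b ∈ Q → ω (cl a) (cl b) = expo (a * b * a⁻¹ * b⁻¹) := by
    intro a b ha hb
    have hz : ∀ {c}, c ∈ Q → expo (z * c * z⁻¹ * c⁻¹) = 0 := fun {c} hc => by
      rw [(hQ.central c hc).eq, mul_inv_cancel_right, mul_inv_cancel, expo_one]
    have left : ∀ {x c}, x ∈ Q → c ∈ Q → expo (x * c * x⁻¹ * c⁻¹) =
        expo (L (cl x) * c * (L (cl x))⁻¹ * c⁻¹) := by
      intro x c hx hc
      rcases hlift hx with e | e
      · exact congrArg (fun w => expo (w * c * w⁻¹ * c⁻¹)) e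
      · exact (congrArg (fun w => expo (w * c * w⁻¹ * c⁻¹)) e).trans
          (by rw [comm_add hQ.mem (hLQ _) hc, hz hc, zero_add])
    show expo _ = _
    rw [← left ha (hLQ _), comm_symm (hLQ _) ha, ← left hb ha, comm_symm ha hb]
  have ω_symm : ∀ u v, ω u v = ω v u := fun u v => comm_symm (hLQ v) (hLQ u)
  have ω_add : ∀ u u' v, ω (u + u') v = ω u v + ω u' v := fun u u' v => by
    rw [← hLc u, ← hLc u', ← hLc v, ← cl_mul _ (hLQ u) _ (hLQ u'), hω (mul_mem (hLQ u) (hLQ u')) (hLQ v),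
      hω (hLQ u) (hLQ v), hω (hLQ u') (hLQ v), comm_add (hLQ u) (hLQ u') (hLQ v)]
  have ω_zero : ∀ v, ω 0 v = 0 := fun v => by
    have h := ω_add 0 0 v
    rw [add_zero] at h
    exact left_eq_add.1 h
  have ω_smul : ∀ (r : ZMod 2) u v, ω (r • u) v = r * ω u v := fun r u v => by
    rcases bit2 r with rfl | rfl
    · rw [zero_smul, zero_mul, ω_zero]
    · rw [one_smul, one_mul]
  let B : V →ₗ[ZMod 2] V →ₗ[ZMod 2] ZMod 2 := LinearMap.mk₂ (ZMod 2) ω ω_add ω_smul
    (fun u v v' => by rw [ω_symm, ω_add, ω_symm v, ω_symm v']) (fun r u v => by rw [ω_symm, ω_smul, ω_symm v]; rfl)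
  have hB : ∀ a ∈ Q, ∀ b ∈ Q, B (cl a) (cl b) = 0 ↔ Commute a b := fun a ha b hb => by
    show ω _ _ = 0 ↔ _
    rw [hω ha hb, expo_eq_zero]
    exact ⟨fun h => mul_inv_eq_iff_eq_mul.1 (mul_inv_eq_one.1 h), fun h => by rw [h.eq]; group⟩
  let q : V → ZMod 2 := fun v => expo (L v * L v)
  have hq : ∀ {a}, a ∈ Q → q (cl a) = expo (a * a) := fun {a} ha => by
    show expo _ = _
    rcases hlift ha with e | e
    · rw [← e]
    · conv_rhs => rw [e]
      rw [mul_assoc z, ← mul_assoc (L (cl a)), ← (hQ.central _ (hLQ (cl a))).eq, ← mul_assoc, ← mul_assoc,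
        hQ.sq_z, one_mul]
  have hnd : ∀ u, (∀ v, B u v = 0) → u = 0 := fun u hu => by
    rcases hQ.cent (L u) (fun a ha => (hB _ (hLQ u) _ ha).1 (by rw [hLc]; exact hu _)) with e | e <;>
      rw [← hLc u, e]
    exacts [cl_one, cl_z]
  -- the action
  let a0 : G → V → V := fun c v => cl (c * L v * c⁻¹)
  have ha0 : ∀ {c}, Commute c z → ∀ a ∈ Q, cl (c * a * c⁻¹) = a0 c (cl a) := fun {c} hc a ha => by
    rcases hlift ha with e | e
    · exact congrArg (fun w => cl (c * w * c⁻¹)) e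
    · conv_lhs => rw [e]
      rw [show c * (z * L (cl a)) * c⁻¹ = c * z * c⁻¹ * (c * L (cl a) * c⁻¹) by group, hc.eq,
        mul_inv_cancel_right, cl_mul _ hQ.mem _ (conj_mem hQ hc (hLQ _)), cl_z, zero_add]
  have hadd : ∀ {c}, Commute c z → ∀ v w, a0 c (v + w) = a0 c v + a0 c w := fun {c} hc v w => by
    have h := ha0 hc _ (mul_mem (hLQ v) (hLQ w))
    rw [cl_mul _ (hLQ v) _ (hLQ w), hLc, hLc] at h
    rw [← h, show c * (L v * L w) * c⁻¹ = c * L v * c⁻¹ * (c * L w * c⁻¹) by group,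
      cl_mul _ (conj_mem hQ hc (hLQ v)) _ (conj_mem hQ hc (hLQ w))]
  let act : G → Module.End (ZMod 2) V := fun c =>
    if h : Commute c z then (AddMonoidHom.mk' (a0 c) (hadd h)).toZModLinearMap 2 else 1
  have hact : ∀ {c}, Commute c z → ∀ v, act c v = a0 c v := fun {c} hc v => by
    rw [show act c = (AddMonoidHom.mk' (a0 c) (hadd hc)).toZModLinearMap 2 from dif_pos hc]
    rfl
  refine ⟨V, inferInstance, inferInstance, inferInstance, cl, act, B, q, ?_, cl_mul,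
    fun v => ⟨L v, hLQ v, hLc v⟩, cl_eq, fun a ha => by rw [hq ha, expo_eq_zero], hB, ?_, ω_symm, hnd,
    fun c hc a ha => by rw [hact hc, ha0 hc a ha], fun c hc => ⟨fun h => ?_, fun hcQ => ?_⟩⟩
  · have hZ2 : Nat.card ↥Z = 2 := by
      rw [Nat.card_eq_two_iff]
      refine ⟨1, ⟨⟨z, hQ.mem⟩, Or.inr rfl⟩, fun e => hQ.ne_one (congrArg (fun x : ↥Z => ((x : ↥Q) : G)) e).symm, ?_⟩
      ext ⟨a, ha⟩
      simp only [Set.mem_insert_iff, Set.mem_singleton_iff, Set.mem_univ, iff_true]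
      rcases ha with h | h
      · exact Or.inl (Subtype.ext (Subtype.ext h))
      · exact Or.inr (Subtype.ext (Subtype.ext h))
    have h := Subgroup.card_eq_card_quotient_mul_card_subgroup Z
    rw [hcard, hZ2] at h
    show Nat.card (↥Q ⧸ Z) = 4096
    omega
  · intro u v
    rw [← hLc u, ← hLc v, ← cl_mul _ (hLQ u) _ (hLQ v), hq (mul_mem (hLQ u) (hLQ v)), hq (hLQ u), hq (hLQ v)]
    show _ = _ + ω _ _
    rw [hω (hLQ u) (hLQ v)]
    set a := L u
    set b := L v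
    have ha := hLQ u
    have hb := hLQ v
    rw [← comm_symm (a := a) (b := b) ha hb, ← expo_mul hQ (hQ.sq _ ha) (hQ.sq _ hb), ← expo_mul hQ ?_ (comm_z hb ha)]
    · congr 1
      rcases hQ.sq _ hb with e | e
      · rw [e, mul_one]
        rcases comm_z hb ha with f | f <;> rw [f]
        · have hba : b * a = a * b := mul_inv_eq_iff_eq_mul.1 (mul_inv_eq_one.1 f)
          rw [mul_one, mul_assoc, ← mul_assoc b, hba, mul_assoc, e, mul_one]
        · have hba : b * a = z * (a * b) := by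
            rw [← mul_assoc]
            exact mul_inv_eq_iff_eq_mul.1 (mul_inv_eq_iff_eq_mul.1 f)
          rw [mul_assoc, ← mul_assoc b, hba, ← mul_assoc, ← mul_assoc, ← mul_assoc, ← (hQ.central a ha).eq,
            mul_assoc _ b b, e, mul_one, mul_assoc]
          exact ((hQ.central _ (mul_mem ha ha)).eq)
      · rw [e]
        rcases comm_z hb ha with f | f <;> rw [f]
        · have hba : b * a = a * b := mul_inv_eq_iff_eq_mul.1 (mul_inv_eq_one.1 f)
          rw [mul_one, mul_assoc, ← mul_assoc b, hba, mul_assoc, e, ← mul_assoc]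
        · have hba : b * a = z * (a * b) := by
            rw [← mul_assoc]
            exact mul_inv_eq_iff_eq_mul.1 (mul_inv_eq_iff_eq_mul.1 f)
          rw [mul_assoc, ← mul_assoc b, hba, ← mul_assoc, ← mul_assoc, ← mul_assoc, ← (hQ.central a ha).eq,
            mul_assoc _ b b, e, mul_assoc z a a, (hQ.central _ (mul_mem ha ha)).eq]
    · rcases hQ.sq _ ha with e | e <;> rcases hQ.sq _ hb with f | f <;> simp [e, f, hQ.sq_z]
  · have hconj : ∀ v, c * L v * c⁻¹ * (L v)⁻¹ = 1 ∨ c * L v * c⁻¹ * (L v)⁻¹ = z := fun v => by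
      rcases (cl_eq _ (hLQ v) _ (conj_mem hQ hc (hLQ v))).1 (by
        rw [ha0 hc _ (hLQ v), ← hact hc, h, hLc]; rfl) with e | e <;> rw [e]
      · exact Or.inl (mul_inv_cancel _)
      · exact Or.inr (mul_inv_cancel_right _ _)
    let φ : V → ZMod 2 := fun v => expo (c * L v * c⁻¹ * (L v)⁻¹)
    have hφz : ∀ a ∈ Q, expo (c * a * c⁻¹ * a⁻¹) = φ (cl a) := fun a ha => by
      rcases hlift ha with e | e
      · exact congrArg (fun w => expo (c * w * c⁻¹ * w⁻¹)) e
      · conv_lhs => rw [e]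
        rw [show c * (z * L (cl a)) * c⁻¹ * (z * L (cl a))⁻¹ =
          c * z * c⁻¹ * (c * L (cl a) * c⁻¹ * (L (cl a))⁻¹) * z⁻¹ by group, hc.eq, mul_inv_cancel_right]
        rcases hconj (cl a) with f | f <;>
          simp only [φ, f, mul_one, mul_inv_cancel, hQ.sq_z, one_mul, hQ.inv_z]
    have hφadd : ∀ v w, φ (v + w) = φ v + φ w := fun v w => by
      rw [← hLc v, ← hLc w, ← cl_mul _ (hLQ v) _ (hLQ w), ← hφz _ (mul_mem (hLQ v) (hLQ w)), hLc, hLc,
        ← expo_mul hQ (hconj v) (hconj w)]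
      congr 1
      rcases hconj w with f | f
      · rw [f, mul_one, show c * (L v * L w) * c⁻¹ * (L v * L w)⁻¹ =
          c * L v * c⁻¹ * (c * L w * c⁻¹ * (L w)⁻¹) * (L v)⁻¹ by group, f, mul_one]
      · rw [f, show c * (L v * L w) * c⁻¹ * (L v * L w)⁻¹ =
          c * L v * c⁻¹ * (c * L w * c⁻¹ * (L w)⁻¹) * (L v)⁻¹ by group, f, mul_assoc (c * L v * c⁻¹) z,
          (hQ.central _ (inv_mem (hLQ v))).eq, ← mul_assoc]
    let Φ : Module.Dual (ZMod 2) V := (AddMonoidHom.mk' φ hφadd).toZModLinearMap 2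
    haveI : Module.Finite (ZMod 2) V := Module.Finite.of_finite
    have hinj : Function.Injective B := (injective_iff_map_eq_zero B).2 fun u hu => hnd u fun v => by
      rw [hu]; rfl
    have hsurjB : Function.Surjective B :=
      ((LinearMap.injective_iff_surjective_of_finrank_eq_finrank (by rw [Subspace.dual_finrank_eq])).1 hinj)
    obtain ⟨w, hw⟩ := hsurjB Φ
    have hall : ∀ v, expo (c * L v * c⁻¹ * (L v)⁻¹) = expo (L w * L v * (L w)⁻¹ * (L v)⁻¹) := fun v => by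
      show φ v = _
      rw [← hω (hLQ w) (hLQ v), hLc, hLc]
      exact (LinearMap.congr_fun hw v).symm
    have hcent : ∀ a ∈ Q, Commute ((L w)⁻¹ * c) a := fun a ha => by
      have key : c * a * c⁻¹ = L w * a * (L w)⁻¹ := by
        have h1 : c * L (cl a) * c⁻¹ * (L (cl a))⁻¹ = L w * L (cl a) * (L w)⁻¹ * (L (cl a))⁻¹ :=
          expo_inj hQ (hconj _) (comm_z (hLQ w) (hLQ _)) (hall _)
        have h2 := mul_right_cancel h1
        rcases hlift ha with e | e <;> rw [e]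
        · exact h2
        · rw [show c * (z * L (cl a)) * c⁻¹ = c * z * c⁻¹ * (c * L (cl a) * c⁻¹) by group, hc.eq,
            mul_inv_cancel_right, h2, show L w * (z * L (cl a)) * (L w)⁻¹ =
              L w * z * (L w)⁻¹ * (L w * L (cl a) * (L w)⁻¹) by group, ← (hQ.central _ (hLQ w)).eq,
            mul_inv_cancel_right]
      refine mul_inv_eq_iff_eq_mul.1 ?_
      calc (L w)⁻¹ * c * a * ((L w)⁻¹ * c)⁻¹ = (L w)⁻¹ * (c * a * c⁻¹) * L w := by group
        _ = a := by rw [key]; group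
    have hm : (L w)⁻¹ * c ∈ Q := by
      rcases hQ.cent _ hcent with e | e <;> rw [e]
      exacts [one_mem _, hQ.mem]
    have := mul_mem (hLQ w) hm
    rwa [mul_inv_cancel_left] at this
  · refine LinearMap.ext fun v => ?_
    rw [hact hc]
    show cl (c * L v * c⁻¹) = v
    rcases hQ.comm c hcQ _ (hLQ v) with e | e
    · rw [mul_inv_eq_one.1 e, hLc]
    · rw [mul_inv_eq_iff_eq_mul.1 e, cl_mul _ hQ.mem _ (hLQ v), cl_z, zero_add, hLc]

end Ctx

end Cfsg.Lib.FischerLarge
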