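import Cfsg.Agent.Lib.FischerLarge.StabSU
import Cfsg.Agent.Lib.FischerLarge.Statements

/-!
# The stabiliser of an involution of the extraspecial subgroup that is not conjugate to the central one
-/

set_option autoImplicit false

namespace Cfsg.Lib.FischerLarge

open Cfsg Cfsg.Lib.SUSixU43 Cfsg.Lib.Extra

universe u

/-- Conjugation induces automorphisms of an image of a normal subgroup. -/
theorem exists_induced {G : Type u} [Group G] {P : Type*} [Group P] (C N : Subgroup G)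
    (hN : ∀ x ∈ C, ∀ n ∈ N, x * n * x⁻¹ ∈ N) (f : ↥N →* P) (hf : Function.Surjective f)
    (hk : ∀ (x : ↥C) (n : ↥N), f n = 1 → f ⟨x * n * (x : G)⁻¹, hN x x.2 n n.2⟩ = 1) :
    ∃ Θ : ↥C →* MulAut P, ∀ (x : ↥C) (n : ↥N), Θ x (f n) = f ⟨x * n * (x : G)⁻¹, hN x x.2 n n.2⟩ := by
  classical
  let cj : ↥C → ↥N →* P := fun x =>
    { toFun := fun n => f ⟨x * n * (x : G)⁻¹, hN x x.2 n n.2⟩
      map_one' := by rw [← map_one f]; congr 1; exact Subtype.ext (by simp)
      map_mul' := fun a b => by rw [← map_mul]; congr 1; exact Subtype.ext (by simp [mul_assoc]) }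
  let L : ↥C → P →* P := fun x => f.liftOfSurjective hf ⟨cj x, fun n hn => hk x n hn⟩
  have hL : ∀ x n, L x (f n) = f ⟨x * n * (x : G)⁻¹, hN x x.2 n n.2⟩ := fun x n =>
    MonoidHom.liftOfRightInverse_comp_apply ..
  have hcomp : ∀ x y p, L x (L y p) = L (x * y) p := fun x y p => by
    obtain ⟨n, rfl⟩ := hf p
    rw [hL, hL, hL]
    congr 1
    exact Subtype.ext (by simp [mul_assoc])
  have hone : ∀ p, L 1 p = p := fun p => by
    obtain ⟨n, rfl⟩ := hf p
    rw [hL]
    congr 1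
    exact Subtype.ext (by simp)
  let A : ↥C → MulAut P := fun x =>
    { toFun := L x
      invFun := L x⁻¹
      left_inv := fun p => by rw [hcomp, inv_mul_cancel, hone]
      right_inv := fun p => by rw [hcomp, mul_inv_cancel, hone]
      map_mul' := map_mul (L x) }
  exact ⟨MonoidHom.mk' A fun x y => MulEquiv.ext fun p => (hcomp x y p).symm, hL⟩

theorem aut_psu_card : Nat.card (MulAut (PSU 4 R4 2)) = 51840 := by
  have : Fact (Nat.Prime 2) := ⟨Nat.prime_two⟩
  have hK : Fintype.card R4 = 2 ^ 2 := by rw [card_r4]; norm_num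
  rw [Cfsg.Agent.S0815.result 2 1 le_rfl (q := 2) (by norm_num) hK 4 (by norm_num) (by norm_num),
    Cfsg.Lib.Fischer.Relations.TwoPair.psu_four_card hK]
  rfl

variable {G : Type u} [Group G] [Finite G] {z : G} {Q : Subgroup (Subgroup.centralizer ({z} : Set G))} [Q.Normal]
  (D : Coord z (Q.map (Subgroup.centralizer ({z} : Set G)).subtype))

include D in
theorem noncentral_statement {g₀ : G} (hg₀ : g₀ * z * g₀⁻¹ ∈ Q.map (Subgroup.centralizer ({z} : Set G)).subtype)
    (hne₀ : g₀ * z * g₀⁻¹ ≠ z) (t : Subgroup.centralizer ({z} : Set G)) (htQ : t ∈ Q) (ht2 : orderOf t = 2)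
    (ht : ¬ IsConj z (t : G)) (S : Subgroup (Subgroup.centralizer ({z} : Set G)))
    (hS : ∀ h : Subgroup.centralizer ({z} : Set G),
      h ∈ S ↔ (h * t * h⁻¹ = t ∨ ((h * t * h⁻¹ : Subgroup.centralizer ({z} : Set G)) : G) = t * z)) :
    Nonempty (↥(S.map (QuotientGroup.mk' Q)) ≃* MulAut (PSU 4 R4 2)) := by
  classical
  have ht' : (t : G) ∈ Q.map (Subgroup.centralizer ({z} : Set G)).subtype := ⟨t, htQ, rfl⟩
  rw [← Subgroup.orderOf_coe] at ht2
  have htz : (t : G) ≠ z := fun e => ht (by rw [e])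
  have hpt : D.Pt (t : G) :=
    ⟨ht', by rw [← pow_two, ← ht2, pow_orderOf_eq_one], fun e => by rw [e, orderOf_one] at ht2; norm_num at ht2, htz⟩
  have htA : D.cl (t : G) ∈ D.A := by
    refine ((D.pt_iff ht').1 hpt).resolve_right fun hB => ht ?_
    obtain ⟨m, -, e⟩ := D.conj_in_M (D.pt_of_conj rfl hg₀ hne₀) ht'
      (D.orb.transB _ (D.conj_in_B rfl hg₀ hne₀) _ hB)
    exact isConj_iff.2 ⟨m * g₀, by rw [← e]; group⟩
  have htA' : D.cl (t : G) ∈ (orbA D.c).set := D.A_eq ▸ htA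
  obtain ⟨eP⟩ := sb_equiv D.c_lt htA'
  have : Finite G6 := finite_G6
  have hPc : Nat.card ↥(Sb D.c (D.cl (t : G))) = 25920 := by
    rw [Nat.card_congr eP.toEquiv, Cfsg.Lib.Fischer.Relations.TwoPair.psu_four_card (by rw [card_r4]; norm_num)]
  set C := Subgroup.centralizer ({z} : Set G) ⊓ Subgroup.centralizer ({(t : G)} : Set G) with hC
  set N := D.M ⊓ Subgroup.centralizer ({(t : G)} : Set G) with hN
  obtain ⟨f, hf, hfk, hfπ⟩ := D.exists_stab_hom hpt
  have hNC : ∀ x ∈ C, ∀ n ∈ N, x * n * x⁻¹ ∈ N := fun x hx n hn =>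
    ⟨D.M_normal x hx.1 n hn.1, (Subgroup.centralizer _).mul_mem (mul_mem hx.2 hn.2) (inv_mem hx.2)⟩
  obtain ⟨Θ, hΘ⟩ := exists_induced C N hNC f hf fun x n h =>
    (hfk _).2 (conj_mem D.ctx (commute_of_mem_cent x.2.1) ((hfk n).1 h))
  let incl : ↥C →* ↥(Subgroup.centralizer ({z} : Set G)) := Subgroup.inclusion inf_le_left
  let ρ := (QuotientGroup.mk' Q).comp incl
  have hρ : ∀ x : ↥C, ρ x = 1 ↔ (x : G) ∈ Q.map (Subgroup.centralizer ({z} : Set G)).subtype := fun x =>
    (QuotientGroup.eq_one_iff _).trans (mem_map_iff_coe (x := incl x)).symm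
  have hX : ρ.range = S.map (QuotientGroup.mk' Q) := by
    ext y
    constructor
    · rintro ⟨x, rfl⟩
      refine ⟨incl x, (hS _).2 (Or.inl (Subtype.ext ?_)), rfl⟩
      show (x : G) * t * (x : G)⁻¹ = t
      rw [(commute_of_mem_cent x.2.2).eq, mul_inv_cancel_right]
    · rintro ⟨h, hh, rfl⟩
      rcases (hS h).1 hh with e | e
      · exact ⟨⟨h, h.2, mem_cent_of_commute (mul_inv_eq_iff_eq_mul.1 (congrArg Subtype.val e))⟩, rfl⟩
      · obtain ⟨_, ⟨y, hy, rfl⟩, hyt⟩ := D.ctx.exists_move hpt.1 hpt.2.2.1 htz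
        have e' : (h : G) * t * (h : G)⁻¹ = t * z := e
        have hyt' : (y : G) * t * (y : G)⁻¹ = z * t := hyt
        have hfix : (y : G) * h * t * ((y : G) * h)⁻¹ = t := by
          rw [show (y : G) * h * t * ((y : G) * h)⁻¹ = y * (h * t * (h : G)⁻¹) * (y : G)⁻¹ by group, e',
            show (y : G) * (t * z) * (y : G)⁻¹ = y * t * (y : G)⁻¹ * (y * z * (y : G)⁻¹) by group, hyt',
            (commute_of_mem_cent y.2).eq, mul_inv_cancel_right, ← (commute_of_mem_cent t.2).eq, mul_assoc,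
            D.ctx.sq_z, mul_one]
        refine ⟨⟨y * h, mul_mem y.2 h.2, mem_cent_of_commute (mul_inv_eq_iff_eq_mul.1 hfix)⟩, ?_⟩
        show QuotientGroup.mk' Q (y * h) = QuotientGroup.mk' Q h
        rw [map_mul, QuotientGroup.mk'_apply, QuotientGroup.mk'_apply, (QuotientGroup.eq_one_iff (N := Q) y).2 hy,
          one_mul]
  have hker : Θ.ker = ρ.ker := by
    ext x
    rw [MonoidHom.mem_ker, MonoidHom.mem_ker, hρ]
    have hxz := commute_of_mem_cent x.2.1
    constructor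
    · intro h
      have hcomm : ∀ n : ↥N, f ⟨x * n * (x : G)⁻¹, hNC x x.2 n n.2⟩ = f n := fun n => by rw [← hΘ, h]; rfl
      by_cases hxM : (x : G) ∈ D.M
      · refine (hfk ⟨x, hxM, x.2.2⟩).1 ?_
        have : IsSimpleGroup (PSU 4 R4 2) := Cfsg.Lib.Linear.Herm.psu_simple (by rw [card_r4]; norm_num) le_rfl
        have hz : eP (f ⟨x, hxM, x.2.2⟩) ∈ Subgroup.center (PSU 4 R4 2) := Subgroup.mem_center_iff.2 fun q => by
          obtain ⟨p, rfl⟩ := eP.surjective q
          obtain ⟨n, rfl⟩ := hf p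
          rw [← map_mul eP, ← map_mul eP]
          refine congrArg eP ?_
          have h1 := hcomm n
          rw [show (⟨x * n * (x : G)⁻¹, hNC x x.2 n n.2⟩ : ↥N) = ⟨x, hxM, x.2.2⟩ * n * (⟨x, hxM, x.2.2⟩)⁻¹ from rfl,
            map_mul, map_mul, map_inv, mul_inv_eq_iff_eq_mul] at h1
          exact h1.symm
        have hzb : Subgroup.center (PSU 4 R4 2) = ⊥ := by
          refine ((inferInstance : (Subgroup.center (PSU 4 R4 2)).Normal).eq_bot_or_eq_top).resolve_right fun htop => ?_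
          have hcomm' : ∀ a b : PSU 4 R4 2, a * b = b * a := fun a b =>
            (Subgroup.mem_center_iff.1 (htop ▸ Subgroup.mem_top a) b).symm
          have h2 : Nat.card ↥(Sb D.c (D.cl (t : G))) = 25920 := hPc
          let : CommGroup (PSU 4 R4 2) := { (inferInstance : Group (PSU 4 R4 2)) with mul_comm := hcomm' }
          have h3 := IsSimpleGroup.prime_card (α := PSU 4 R4 2)
          rw [← Nat.card_congr eP.toEquiv, h2] at h3
          norm_num at h3
        rw [hzb, Subgroup.mem_bot] at hz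
        exact eP.injective (hz.trans (map_one eP).symm)
      · exfalso
        obtain ⟨k, hk, hkv⟩ := (orbit_facts D.c_lt).2.2.2.2.2.2.2.1 _ htA'
        obtain ⟨hs, hb, -⟩ := stabA_ok D.c D.c_lt
        have hfixv : D.sg x (D.cl (t : G)) = D.cl (t : G) := by
          rw [← D.cl_conj hxz ht', (commute_of_mem_cent x.2.2).eq, mul_inv_cancel_right]
        have h := rigid_moved D.c_lt hs (rigA_ok D.c D.c_lt) hk (D.sg x) (D.sg_add hxz)
          (D.outer_twist rfl hg₀ hne₀ hxz hxM) (by rw [hb, hkv]; exact hfixv)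
          (by rw [← D.A_eq]; exact fun v hv => D.sg_A hxz hv) (by
            rw [hb, hkv]
            intro p hp v
            obtain ⟨n, hn⟩ := hf ⟨p, hp⟩
            have e1 := hfπ n ⟨n, n.2.1⟩ rfl
            have e2 := hfπ ⟨x * n * (x : G)⁻¹, hNC x x.2 n n.2⟩ ⟨x * n * (x : G)⁻¹, (hNC x x.2 n n.2).1⟩ rfl
            rw [hcomm, e1] at e2
            rw [← show D.π ⟨n, n.2.1⟩ = p by rw [← e1, hn], D.sg_conj hxz ⟨n, n.2.1⟩, e2])
        exact Bool.noConfusion h.1
    · intro h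
      refine MulEquiv.ext fun p => ?_
      obtain ⟨n, rfl⟩ := hf p
      rw [hΘ, MulAut.one_apply]
      have hxN : (x : G) ∈ N := ⟨D.Q_le h, x.2.2⟩
      rw [show (⟨x * n * (x : G)⁻¹, hNC x x.2 n n.2⟩ : ↥N) = ⟨x, hxN⟩ * n * (⟨x, hxN⟩)⁻¹ from rfl, map_mul, map_mul,
        map_inv, (hfk ⟨x, hxN⟩).2 h, one_mul, inv_one, mul_one]
  have hk4 : Nat.card ↥ρ.ker = 4096 := by
    have h2 := D.card_centQ hpt
    have e : Nat.card ↥ρ.ker = Nat.card ↥(Q.map (Subgroup.centralizer ({z} : Set G)).subtype ⊓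
        Subgroup.centralizer ({(t : G)} : Set G)) := Nat.card_congr
      { toFun := fun x => ⟨((x : ↥C) : G), (hρ _).1 x.2, (x : ↥C).2.2⟩
        invFun := fun a => ⟨⟨a, D.M_le (D.Q_le a.2.1), a.2.2⟩, (hρ _).2 a.2.1⟩
        left_inv := fun _ => rfl
        right_inv := fun _ => rfl }
    rw [e]
    rw [show (2 : ℕ) ^ 13 = 2 * 4096 by norm_num] at h2
    exact Nat.eq_of_mul_eq_mul_left two_pos h2
  have hcard : Nat.card ↥Θ.range = Nat.card (MulAut ↥(Sb D.c (D.cl (t : G)))) := by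
    have h := Θ.ker.card_mul_index
    rw [Subgroup.index_ker, D.card_stab hpt, hPc] at h
    rw [hker, hk4] at h
    rw [Nat.card_congr (MulAut.congr eP).toEquiv, aut_psu_card]
    omega
  have : Finite (MulAut ↥(Sb D.c (D.cl (t : G)))) := Nat.finite_of_card_ne_zero (by
    rw [Nat.card_congr (MulAut.congr eP).toEquiv, aut_psu_card]; norm_num)
  have htop : Θ.range = ⊤ := Subgroup.eq_top_of_card_eq _ hcard
  exact ⟨((MulEquiv.subgroupCongr hX.symm).trans (((QuotientGroup.quotientKerEquivRange ρ).symm.trans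
    (QuotientGroup.quotientMulEquivOfEq hker.symm)).trans
      (QuotientGroup.quotientKerEquivOfSurjective Θ (MonoidHom.range_eq_top.1 htop)))).trans (MulAut.congr eP)⟩

end Cfsg.Lib.FischerLarge
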