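import Cfsg.Agent.Lib.FischerLarge.CheckPoints
import Cfsg.Agent.Lib.FischerLarge.LagGroup

/-!
# Six lines in the fixed space and the group of rank four labelled by their pairs
-/

set_option autoImplicit false

namespace Cfsg.Lib.FischerLarge

open Cfsg Cfsg.Lib.SUSixU43 Cfsg.Lib.PermAut

/-- The lines, the labels, and their properties. -/
structure PtFacts (c : ℕ) where
  /-- The lines. -/
  L : Fin 6 → V6
  /-- The labelled elements. -/
  U : Fin 6 → Fin 6 → G6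
  L_fix : ∀ i, L i ∈ fixSet c
  L_small : ∀ i (a : R4), a ≠ 0 → a • L i ∈ (orbA c).set
  cover : ∀ x ∈ fixSet c, x = 0 ∨ x ∈ (orbBig c).set ∨ ∃ i a, a ≠ (0 : R4) ∧ x = a • L i
  countB : {x : V6 | x ∈ fixSet c ∧ x ∈ (orbBig c).set}.ncard = 45
  indep : ∀ i j k, i ≠ j → i ≠ k → j ≠ k → ∀ a b d : R4, a • L i + b • L j + d • L k = 0 → a = 0 ∧ b = 0 ∧ d = 0
  span : ∀ x ∈ fixSet c, ∃ a b d : R4, x = a • L 0 + b • L 1 + d • L 2
  U_mem : ∀ i j, i ≠ j → U i j ∈ fourSet c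
  U_ne : ∀ i j, i ≠ j → U i j ≠ 1
  U_symm : ∀ i j, i ≠ j → U i j = U j i
  U_surj : ∀ g ∈ fourSet c, g ≠ 1 → ∃ i j, i ≠ j ∧ U i j = g
  U_inj : ∀ i j k l, i ≠ j → k ≠ l → U i j = U k l → (i = k ∧ j = l) ∨ (i = l ∧ j = k)
  U_tri : ∀ i j k, i ≠ j → i ≠ k → j ≠ k → U i j * U i k = U j k
  U_syn : ∀ i j k l m n : Fin 6, [i, j, k, l, m, n].Nodup → U i j * U k l = U m n
  U_pre : ∀ i j, i ≠ j → ∃ y : V6, U i j • y + y = L i ∧ hermForm 6 R4 2 (L i) y = 1 ∧
    hermForm 6 R4 2 (L j) y = 0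
  /-- The permutations of the lines. -/
  sig : Fin 2 → Fin 6 → Fin 6
  sig_inj : ∀ k, Function.Injective (sig k)
  nrm : ∀ k, ∃ g ∈ KM c, (∀ x ∈ fixSet c, g • x ∈ fixSet c) ∧
    ∀ i j, i ≠ j → g * U i j = U (sig k i) (sig k j) * g
  trans : ∀ P : Fin 6 → Fin 6 → Fin 6 → Prop, P 0 1 2 →
    (∀ k i j l, P i j l → P (sig k i) (sig k j) (sig k l)) → ∀ i j l, i ≠ j → i ≠ l → j ≠ l → P i j l

theorem r4_code : ∀ a : R4, a = 0 ∨ code a ≠ 0 := by decide +kernel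

theorem pack_lt_pow : ∀ (n : ℕ) (f : ℕ → ℕ), pack n f < 4 ^ n
  | 0, _ => by simp [pack]
  | n + 1, f => by
    have h := pack_lt_pow n fun k => f (k + 1)
    rw [pack, pow_succ]
    omega

theorem foldl_mem {P : ℕ → Prop} : ∀ (new acc : List ℕ), (∀ t ∈ new, P t) → (∀ t ∈ acc, P t) →
    ∀ t ∈ new.foldl (fun acc t => if acc.contains t then acc else t :: acc) acc, P t
  | [], _, _, ha => ha
  | t :: new, acc, hn, ha => by
    refine foldl_mem new _ (fun u hu => hn u (List.mem_cons_of_mem _ hu)) ?_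
    show ∀ u ∈ (if acc.contains t then acc else t :: acc), P u
    split
    · exact ha
    · rintro u hu
      rcases List.mem_cons.1 hu with rfl | hu
      exacts [hn u (List.mem_cons_self ..), ha u hu]

theorem ptReach_ind {c : ℕ} {P : ℕ → Prop} (h0 : P (0 + 8 * 1 + 64 * 2))
    (hs : ∀ k < 2, ∀ t, P t → P (ptSig c k (t % 8) + 8 * ptSig c k (t / 8 % 8) + 64 * ptSig c k (t / 64))) :
    ∀ n, ∀ t ∈ ptReach c n, P t
  | 0, t, ht => by
    rw [List.mem_singleton.1 ht]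
    exact h0
  | n + 1, t, ht => by
    refine foldl_mem _ _ (fun u hu => ?_) (ptReach_ind h0 hs n) t ht
    obtain ⟨k, hk, hu⟩ := List.mem_flatMap.1 hu
    obtain ⟨v, hv, rfl⟩ := List.mem_map.1 hu
    exact hs k (by rcases List.mem_cons.1 hk with rfl | hk <;> simp_all) v (ptReach_ind h0 hs n v hv)

theorem fourEl_ptU (c i j : ℕ) : fourEl c (ptIdx c i j) = sy c (ptU c i j) := by rw [fourEl, ptU]

theorem g6_prod {a b p : G6} {a' b' p' : G6} (ha : a = a') (hb : b = b') (hp : p = p') (e : a' * b' = p') :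
    a * b = p := by
  rw [ha, hb, hp, e]

theorem sy_tab_eq {c i j k : ℕ} (hc : c < 3) (hi : i < 128) (hj : j < 128) (e : (syl c).tab i j = k) :
    sy c i * sy c j = sy c k := by
  rw [(sy_mul hc hi hj).2, e]

theorem g6_pre {g g' : G6} {m y l : ℕ} (hg : g = g') (hm : mm g' = mat m) (e : addC (appM m y) y = l) :
    g • vec y + vec y = vec l := by
  rw [hg, ← vec_appM_smul hm, ← vec_addC, e]

theorem g6_comm {a b a' b' g : G6} (ha : a = a') (hb : b = b') (e : g * a' = b' * g) : g * a = b * g := by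
  rw [ha, hb, e]

/-- The representative of a line. -/
def ptLv (c : ℕ) (i : Fin 6) : V6 := vec (ptL c i)

/-- The element of a pair of lines. -/
noncomputable def ptUv (c : ℕ) (i j : Fin 6) : G6 := fourEl c (ptIdx c i j)

theorem pt_lines {c : ℕ} (hc : c < 3) :
    (∀ i, ptLv c i ∈ fixSet c) ∧ (∀ i (a : R4), a ≠ 0 → a • ptLv c i ∈ (orbA c).set) ∧
    (∀ x ∈ fixSet c, x = 0 ∨ x ∈ (orbBig c).set ∨ ∃ i a, a ≠ (0 : R4) ∧ x = a • ptLv c i) ∧
    {x : V6 | x ∈ fixSet c ∧ x ∈ (orbBig c).set}.ncard = 45 := by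
  classical
  have hcv := ptCover_ok c hc
  simp only [ptCoverB, Bool.and_eq_true, allBelowB_iff, List.all_eq_true, Bool.or_eq_true, Nat.beq_eq,
    List.any_eq_true, List.mem_range, Bool.not_eq_true', List.contains_iff_mem] at hcv
  obtain ⟨⟨⟨⟨hL, hcover⟩, h45⟩, h64⟩, hnd⟩ := hcv
  have hbeq : ∀ {a b : ℕ}, Nat.beq a b = false → a ≠ b := fun {a b} h e => by
    rw [e, Nat.beq_refl] at h
    exact Bool.noConfusion h
  have hof := orbFacts hc
  have hdA : distB (orbA c) = true := by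
    have := orb_ok c hc
    simp only [orbB, Bool.and_eq_true] at this
    tauto
  have hdB : distB (orbBig c) = true := by
    have := orb_ok c hc
    simp only [orbB, Bool.and_eq_true] at this
    tauto
  have hlagF := lagFacts hc
  have hfix4096 : ∀ v ∈ (syl c).fix, v < 4096 := by
    have hf := sylFix_ok c hc
    simp only [fixB, Bool.and_eq_true, List.all_eq_true, Nat.beq_eq, Nat.blt, Nat.ble_eq, fN_eq] at hf
    intro v hv
    obtain ⟨⟨-, h⟩, -⟩ := hf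
    exact (h v hv).1
  have hLfix : ∀ i, ptLv c i ∈ fixSet c := fun i => ⟨_, (hL i i.2).1, rfl⟩
  have hLA : ∀ i, ptLv c i ∈ (orbA c).set := fun i => (has_iff hdA (hfix4096 _ (hL i i.2).1)).1 (hL i i.2).2
  refine ⟨hLfix, fun i a ha => ?_, fun x hx => ?_, ?_⟩
  · have hZ : Zc • ptLv c i = om • ptLv c i := Zc_smul _
    have h1 : om • ptLv c i ∈ (orbA c).set := hZ ▸ hof.invA _ (Zc_mem c) _ (hLA i)
    have h2 : (om + 1) • ptLv c i ∈ (orbA c).set := by
      have := hof.invA _ (Zc_mem c) _ h1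
      rw [Zc_smul, smul_smul, ← sq, tau_om.2.1] at this
      exact this
    rcases r4_cases a with rfl | rfl | rfl | rfl
    exacts [absurd rfl ha, by rw [one_smul]; exact hLA i, h1, h2]
  · obtain ⟨v, hv, rfl⟩ := hx
    rcases hcover v hv with (h | h) | ⟨i, hi, a, ha, hane, e⟩
    · exact Or.inl (by rw [h, vec_zero])
    · exact Or.inr (Or.inl ((has_iff hdB (hfix4096 v hv)).1 h))
    · refine Or.inr (Or.inr ⟨⟨i, hi⟩, el a, fun h => hbeq hane ?_, by rw [e, vec_scaleC, ptLv]⟩)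
      rw [el_eq_zero] at h
      omega
  · have e : {x : V6 | x ∈ fixSet c ∧ x ∈ (orbBig c).set} =
        ↑((((syl c).fix.filter fun v => (orbBig c).has v).toFinset).image vec) := by
      ext x
      simp only [Finset.coe_image, Set.mem_image, List.coe_toFinset, Set.mem_ofPred_eq, List.mem_filter]
      constructor
      · rintro ⟨⟨v, hv, rfl⟩, hB⟩
        exact ⟨v, ⟨hv, (has_iff hdB (hfix4096 v hv)).2 hB⟩, rfl⟩
      · rintro ⟨v, ⟨hv, hB⟩, rfl⟩
        exact ⟨⟨v, hv, rfl⟩, (has_iff hdB (hfix4096 v hv)).1 hB⟩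
    have hnd' : (syl c).fix.Nodup := by
      rw [List.nodup_iff_injective_get]
      rintro ⟨s, hs⟩ ⟨t, ht⟩ hst
      simp only [List.get_eq_getElem] at hst
      refine Fin.ext ?_
      show s = t
      by_contra hne
      rcases Nat.lt_or_gt_of_ne hne with h | h
      · refine hbeq (hnd t (by omega) s h) ?_
        rw [List.getD_eq_getElem _ _ ht, List.getD_eq_getElem _ _ hs, hst]
      · refine hbeq (hnd s (by omega) t h) ?_
        rw [List.getD_eq_getElem _ _ ht, List.getD_eq_getElem _ _ hs, hst]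
    rw [e, Set.ncard_coe_finset, Finset.card_image_of_injOn, List.toFinset_card_of_nodup (hnd'.filter _), h45]
    intro u hu v hv huv
    simp only [List.coe_toFinset, Set.mem_ofPred_eq, List.mem_filter] at hu hv
    exact vec_inj (hfix4096 u hu.1) (hfix4096 v hv.1) huv

theorem pt_indep {c : ℕ} (hc : c < 3) : ∀ i j k : Fin 6, i ≠ j → i ≠ k → j ≠ k → ∀ a b d : R4,
    a • ptLv c i + b • ptLv c j + d • ptLv c k = 0 → a = 0 ∧ b = 0 ∧ d = 0 := by
  classical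
  have hbeq : ∀ {a b : ℕ}, Nat.beq a b = false → a ≠ b := fun {a b} h e => by
    rw [e, Nat.beq_refl] at h
    exact Bool.noConfusion h
  have hi := ptIndep_ok c hc
  simp only [ptIndepB, allBelowB_iff, Bool.or_eq_true, Nat.beq_eq, Bool.not_eq_true'] at hi
  have key : ∀ i j k : Fin 6, k < j → j < i → ∀ a b d : R4,
      a • ptLv c i + b • ptLv c j + d • ptLv c k = 0 → a = 0 ∧ b = 0 ∧ d = 0 := by
    intro i j k hkj hji a b d e
    obtain ⟨ha, ha'⟩ := code_el a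
    obtain ⟨hb, hb'⟩ := code_el b
    obtain ⟨hd, hd'⟩ := code_el d
    set t := code a + 4 * code b + 16 * code d with ht
    rcases hi i i.2 j hji k hkj t (by omega) with h | h
    · refine ⟨(r4_code a).resolve_right (fun h' => h' (by omega)),
        (r4_code b).resolve_right (fun h' => h' (by omega)), (r4_code d).resolve_right (fun h' => h' (by omega))⟩
    · exfalso
      rw [show t % 4 = code a by omega, show t / 4 % 4 = code b by omega, show t / 16 = code d by omega] at h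
      refine hbeq h (vec_inj ?_ (by norm_num) ?_)
      · exact pack_lt_pow 6 _
      · rw [vec_addC, vec_addC, vec_scaleC, vec_scaleC, vec_scaleC, ha', hb', hd', vec_zero]
        exact e
  intro i j k hij hik hjk a b d e
  rcases lt_or_gt_of_ne hij with h1 | h1 <;> rcases lt_or_gt_of_ne hik with h2 | h2 <;>
    rcases lt_or_gt_of_ne hjk with h3 | h3
  · have := key k j i h1 h3 d b a (by rw [← e]; abel); tauto
  · have := key j k i h2 h3 b d a (by rw [← e]; abel); tauto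
  · omega
  · have := key j i k h2 h1 b a d (by rw [← e]; abel); tauto
  · have := key k i j h1 h2 d a b (by rw [← e]; abel); tauto
  · omega
  · have := key i k j h3 h2 a d b (by rw [← e]; abel); tauto
  · exact key i j k h3 h1 a b d e

theorem pt_span {c : ℕ} (hc : c < 3) : ∀ x ∈ fixSet c, ∃ a b d : R4,
    x = a • ptLv c 0 + b • ptLv c 1 + d • ptLv c 2 := by
  classical
  intro x hx
  have hlagF := lagFacts hc
  have hLfix := (pt_lines hc).1
  have hindep := pt_indep hc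
  let f : R4 × R4 × R4 → V6 := fun p => p.1 • ptLv c 0 + p.2.1 • ptLv c 1 + p.2.2 • ptLv c 2
  have hmem : ∀ p, f p ∈ fixSet c := fun p => hlagF.add _ (hlagF.add _ (hlagF.scal _ _ (hLfix 0)) _
    (hlagF.scal _ _ (hLfix 1))) _ (hlagF.scal _ _ (hLfix 2))
  have hinj : Function.Injective f := by
    rintro ⟨a, b, d⟩ ⟨a', b', d'⟩ e
    have h := hindep 0 1 2 (by decide) (by decide) (by decide) (a + a') (b + b') (d + d') (by
      simp only [f] at e
      rw [add_smul, add_smul, add_smul]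
      calc _ = (a • ptLv c 0 + b • ptLv c 1 + d • ptLv c 2) + (a' • ptLv c 0 + b' • ptLv c 1 + d' • ptLv c 2) := by abel
        _ = 0 := by rw [e, v6_add_self])
    have hz : ∀ s t : R4, s + t = 0 → s = t := fun s t h =>
      calc s = s + (t + t) := by rw [r4_self, add_zero]
        _ = s + t + t := (add_assoc _ _ _).symm
        _ = t := by rw [h, zero_add]
    rw [hz _ _ h.1, hz _ _ h.2.1, hz _ _ h.2.2]
  have heq : Set.range f = fixSet c := Set.eq_of_subset_of_ncard_le (by rintro _ ⟨p, rfl⟩; exact hmem p)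
    (le_of_eq (by
      rw [Set.ncard_range_of_injective hinj, hlagF.card, Nat.card_eq_fintype_card, Fintype.card_prod,
        Fintype.card_prod, card_r4])) (Set.toFinite _)
  rw [← heq] at hx
  obtain ⟨⟨a, b, d⟩, rfl⟩ := hx
  exact ⟨a, b, d, rfl⟩

theorem pt_herm {c : ℕ} {i : Fin 6} {y v a : ℕ} (h : hermC (ptL c i) y = v) (e : el v = el a) :
    hermForm 6 R4 2 (ptLv c i) (vec y) = el a := by
  rw [ptLv, herm_vec, h, e]

theorem el_one_zero : el 1 = 1 ∧ el 0 = 0 := by decide +kernel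

theorem g6_exists {g : G6} {y : V6} {a b : V6} {p q : R4} (h1 : g • y + y = a) (h2 : hermForm 6 R4 2 a y = p)
    (h3 : hermForm 6 R4 2 b y = q) :
    ∃ y : V6, g • y + y = a ∧ hermForm 6 R4 2 a y = p ∧ hermForm 6 R4 2 b y = q := ⟨y, h1, h2, h3⟩

theorem pt_pre {c : ℕ} (hc : c < 3) {i j : Fin 6} (hij : i ≠ j) (h128 : ptU c i j < 128) :
    ∃ y : V6, ptUv c i j • y + y = ptLv c i ∧ hermForm 6 R4 2 (ptLv c i) y = 1 ∧
      hermForm 6 R4 2 (ptLv c j) y = 0 := by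
  have hp := ptPre_ok c hc
  simp only [ptPreB, allBelowB_iff, Bool.or_eq_true, Bool.and_eq_true, Nat.beq_eq, fN_eq] at hp
  obtain ⟨⟨h1, h2⟩, h3⟩ := (hp i i.2 j j.2).resolve_left (fun e => hij (Fin.ext e))
  exact g6_exists (g6_pre (fourEl_ptU c i j) (sy_spec hc h128).2 h1)
    ((pt_herm h2 rfl).trans el_one_zero.1) ((pt_herm h3 rfl).trans el_one_zero.2)

theorem g6_nrm {K : Subgroup G6} {S : Set V6} {P : G6 → Prop} {g : G6} (hg : g ∈ K)
    (hS : ∀ x ∈ S, g • x ∈ S) (hP : P g) : ∃ g ∈ K, (∀ x ∈ S, g • x ∈ S) ∧ P g := ⟨g, hg, hS, hP⟩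

theorem g6_comm_idx {c : ℕ} {g : G6} {i j : Fin 6} {t : ℕ} {a b : Fin 6}
    (ht : (syl c).four.getD t 0 = ptU c a b)
    (hct : g * sy c ((syl c).four.getD (ptIdx c i j) 0) = sy c ((syl c).four.getD t 0) * g) :
    g * ptUv c i j = ptUv c a b * g := by
  have e : ptU c i j = (syl c).four.getD (ptIdx c i j) 0 := by rw [ptU]
  rw [ht, ← e] at hct
  exact g6_comm (fourEl_ptU c i j) (fourEl_ptU c a b) hct

theorem pt_nrm {c : ℕ} (hc : c < 3) (k : Fin 2) (hidx : ∀ i j : Fin 6, i ≠ j → ptIdx c i j < 16) :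
    ∃ g ∈ KM c, (∀ x ∈ fixSet c, g • x ∈ fixSet c) ∧ ∀ i j : Fin 6, i ≠ j →
      ∃ (h : ptSig c k i < 6) (h' : ptSig c k j < 6), g * ptUv c i j = ptUv c ⟨_, h⟩ ⟨_, h'⟩ * g := by
  have hs := ptSig_ok c hc
  simp only [ptSigB, allBelowB_iff, Bool.and_eq_true, Bool.or_eq_true, Nat.beq_eq, Nat.blt, Nat.ble_eq] at hs
  obtain ⟨g, hg, hgfix, hperm⟩ := (nrm_facts hc).1 k k.2
  refine g6_nrm hg hgfix fun i j hij => ⟨(hs k k.2).1.1 i i.2, (hs k k.2).1.1 j j.2, ?_⟩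
  obtain ⟨t, ht, hte, hct⟩ := hperm _ (hidx i j hij)
  have e := ((hs k k.2).2 i i.2 j j.2).resolve_left fun e => hij (Fin.ext e)
  exact g6_comm_idx (t := t) (by rw [ptU, ← e, hte]) hct

theorem pt_labels {c : ℕ} (hc : c < 3) :
    (∀ i j, i ≠ j → ptUv c i j ∈ fourSet c) ∧ (∀ i j, i ≠ j → ptUv c i j ≠ 1) ∧
    (∀ i j, i ≠ j → ptUv c i j = ptUv c j i) ∧
    (∀ g ∈ fourSet c, g ≠ 1 → ∃ i j, i ≠ j ∧ ptUv c i j = g) ∧
    (∀ i j k l, i ≠ j → k ≠ l → ptUv c i j = ptUv c k l → (i = k ∧ j = l) ∨ (i = l ∧ j = k)) ∧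
    (∀ i j k, i ≠ j → i ≠ k → j ≠ k → ptUv c i j * ptUv c i k = ptUv c j k) ∧
    (∀ i j k l m n : Fin 6, [i, j, k, l, m, n].Nodup → ptUv c i j * ptUv c k l = ptUv c m n) ∧
    (∀ i j, i ≠ j → ∃ y : V6, ptUv c i j • y + y = ptLv c i ∧ hermForm 6 R4 2 (ptLv c i) y = 1 ∧
      hermForm 6 R4 2 (ptLv c j) y = 0) ∧
    ∀ k : Fin 2, ∃ g ∈ KM c, (∀ x ∈ fixSet c, g • x ∈ fixSet c) ∧
      ∀ i j : Fin 6, i ≠ j → ∃ (h : ptSig c k i < 6) (h' : ptSig c k j < 6),
        g * ptUv c i j = ptUv c ⟨_, h⟩ ⟨_, h'⟩ * g := by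
  classical
  have hbeq : ∀ {a b : ℕ}, Nat.beq a b = false → a ≠ b := fun {a b} h e => by
    rw [e, Nat.beq_refl] at h
    exact Bool.noConfusion h
  have hl := ptLabel_ok c hc
  simp only [ptLabelB, Bool.and_eq_true, allBelowB_iff, Bool.or_eq_true, Nat.beq_eq, Bool.not_eq_true',
    List.any_eq_true, List.mem_range, Nat.blt, Nat.ble_eq] at hl
  obtain ⟨⟨hlab, hsurj⟩, hprod⟩ := hl
  have hfne : ∀ i j : Fin 6, i ≠ j → (i : ℕ) ≠ j := fun i j h e => h (Fin.ext e)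
  have hlab' : ∀ i j : Fin 6, i ≠ j → 0 < ptIdx c i j ∧ ptIdx c i j < 16 ∧ ptIdx c i j = ptIdx c j i ∧
      ∀ k l : Fin 6, k ≠ l → ptIdx c i j = ptIdx c k l → (i = k ∧ j = l) ∨ (i = l ∧ j = k) := by
    intro i j hij
    obtain ⟨⟨⟨h0, h16⟩, hs⟩, hi⟩ := (hlab i i.2 j j.2).resolve_left (hfne _ _ hij)
    refine ⟨h0, h16, hs, fun k l hkl e => ?_⟩
    rcases (hi k k.2 l l.2) with ((h | h) | h) | h
    · exact absurd h (hfne _ _ hkl)
    · exact absurd e (hbeq h)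
    · exact Or.inl ⟨Fin.ext h.1, Fin.ext h.2⟩
    · exact Or.inr ⟨Fin.ext h.1, Fin.ext h.2⟩
  obtain ⟨hf0, hfmem, hfsurj⟩ := fourEl_facts hc
  have hfour128 : ∀ t < 16, (syl c).four.getD t 0 < 128 := by
    have hf := sylFix_ok c hc
    simp only [fixB, Bool.and_eq_true, List.all_eq_true, Nat.beq_eq, Nat.blt, Nat.ble_eq, fN_eq] at hf
    obtain ⟨⟨⟨⟨⟨⟨⟨⟨⟨hf16, -⟩, -⟩, -⟩, -⟩, -⟩, hfour⟩, -⟩, -⟩, -⟩ := hf
    exact fun t ht => (hfour _ (getD_mem 0 (by omega))).1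
  have hinj16 : ∀ s < 16, ∀ t < 16, fourEl c s = fourEl c t → s = t := by
    intro s hs t ht e
    rw [fourEl, fourEl] at e
    have e' := sy_inj hc (hfour128 s hs) (hfour128 t ht) e
    have h := lag_ok c hc
    simp only [lagB, Bool.and_eq_true, Nat.beq_eq, allBelowB_iff, Bool.not_eq_true'] at h
    obtain ⟨-, hnd4⟩ := h
    have h16 : (syl c).four.length = 16 := by
      have hf := sylFix_ok c hc
      simp only [fixB, Bool.and_eq_true, Nat.beq_eq] at hf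
      obtain ⟨⟨⟨⟨⟨⟨⟨⟨⟨hf16, -⟩, -⟩, -⟩, -⟩, -⟩, -⟩, -⟩, -⟩, -⟩ := hf
      exact hf16
    by_contra hne
    rcases Nat.lt_or_gt_of_ne hne with h | h
    · exact hbeq (hnd4 t (by omega) s h) e'.symm
    · exact hbeq (hnd4 s (by omega) t h) e'
  have hU : ∀ i j, i ≠ j → ptUv c i j ∈ fourSet c := fun i j h => hfmem _ (hlab' i j h).2.1
  have hUtab : ∀ i j k l m n : Fin 6, i ≠ j → k ≠ l → m ≠ n →
      (syl c).tab (ptU c i j) (ptU c k l) = ptU c m n → ptUv c i j * ptUv c k l = ptUv c m n := by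
    intro i j k l m n hij hkl hmn e
    have h1 := hfour128 _ (hlab' i j hij).2.1
    have h2 := hfour128 _ (hlab' k l hkl).2.1
    exact g6_prod (fourEl_ptU c i j) (fourEl_ptU c k l) (fourEl_ptU c m n) (sy_tab_eq hc h1 h2 e)
  refine ⟨hU, fun i j h e => ?_, fun i j h => ?_, fun g hg hne => ?_, fun i j k l hij hkl e => ?_,
    fun i j k hij hik hjk => ?_, fun i j k l m n hnd6 => ?_, fun i j hij => ?_, fun k => ?_⟩
  · have := hinj16 _ (hlab' i j h).2.1 0 (by norm_num) (e.trans hf0.symm)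
    have := (hlab' i j h).1
    omega
  · exact congrArg (fourEl c) (hlab' i j h).2.2.1
  · obtain ⟨t, ht, ht0, rfl⟩ := hfsurj g hg hne
    rcases hsurj t ht with h | ⟨i, hi, j, hj, hij, e⟩
    · exact absurd h ht0
    · exact ⟨⟨i, hi⟩, ⟨j, hj⟩, fun h => hbeq hij (congrArg Fin.val h), congrArg (fourEl c) e⟩
  · exact (hlab' i j hij).2.2.2 k l hkl (hinj16 _ (hlab' i j hij).2.1 _ (hlab' k l hkl).2.1 e)
  · refine hUtab i j i k j k hij hik hjk ?_
    exact ((hprod i i.2 j j.2 k k.2).resolve_left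
      (by rintro ((h | h) | h) <;> exact hfne _ _ ‹_› h)).1
  · simp only [List.nodup_cons, List.mem_cons, List.not_mem_nil, or_false, List.nodup_nil, and_true, not_or] at hnd6
    obtain ⟨⟨hij, hik, hil, him, hin⟩, ⟨hjk, hjl, hjm, hjn⟩, ⟨hkl, hkm, hkn⟩, ⟨hlm, hln⟩, hmn⟩ := hnd6
    refine hUtab i j k l m n hij hkl hmn.1 ?_
    have h := ((hprod i i.2 j j.2 k k.2).resolve_left
      (by rintro ((h | h) | h) <;> exact hfne _ _ ‹_› h)).2 l l.2
    have h' := (h.resolve_left (by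
      rintro ((h | h) | h)
      exacts [hfne _ _ hil h.symm, hfne _ _ hjl h.symm, hfne _ _ hkl h.symm])) m m.2
    have h'' := (h'.resolve_left (by
      rintro (((h | h) | h) | h)
      exacts [hfne _ _ him h.symm, hfne _ _ hjm h.symm, hfne _ _ hkm h.symm, hfne _ _ hlm h.symm])) n n.2
    exact h''.resolve_left (by
      rintro ((((h | h) | h) | h) | h)
      exacts [hfne _ _ hin h.symm, hfne _ _ hjn h.symm, hfne _ _ hkn h.symm, hfne _ _ hln h.symm,
        hfne _ _ hmn.1 h.symm])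
  · exact pt_pre hc hij (hfour128 _ (hlab' i j hij).2.1)
  · exact pt_nrm hc k fun i j hij => (hlab' i j hij).2.1

theorem pt_sig {c : ℕ} (hc : c < 3) : (∀ (k : Fin 2) (i : Fin 6), ptSig c k i < 6) ∧
    ∀ (k : Fin 2) (i j : Fin 6), ptSig c k i = ptSig c k j → i = j := by
  have hs := ptSig_ok c hc
  simp only [ptSigB, allBelowB_iff, Bool.and_eq_true, Nat.blt, Nat.ble_eq, Bool.not_eq_true'] at hs
  refine ⟨fun k i => (hs k k.2).1.1 i i.2, fun k i j e => ?_⟩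
  by_contra hne
  rcases lt_or_gt_of_ne hne with h | h
  · have h' := (hs k k.2).1.2 j j.2 i h
    rw [e, Nat.beq_refl] at h'
    exact Bool.noConfusion h'
  · have h' := (hs k k.2).1.2 i i.2 j h
    rw [e, Nat.beq_refl] at h'
    exact Bool.noConfusion h'

theorem pt_trans {c : ℕ} (hc : c < 3) (P : Fin 6 → Fin 6 → Fin 6 → Prop) (h0 : P 0 1 2)
    (hstep : ∀ (k : Fin 2) (i j l : Fin 6), P i j l →
      P ⟨ptSig c k i, (pt_sig hc).1 k i⟩ ⟨ptSig c k j, (pt_sig hc).1 k j⟩ ⟨ptSig c k l, (pt_sig hc).1 k l⟩)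
    (i j l : Fin 6) (hij : i ≠ j) (hil : i ≠ l) (hjl : j ≠ l) : P i j l := by
  have hfne : ∀ i j : Fin 6, i ≠ j → (i : ℕ) ≠ j := fun i j h e => h (Fin.ext e)
  have hr := ptTrans_ok c hc
  simp only [ptTransB, allBelowB_iff, Bool.or_eq_true, Nat.beq_eq, List.contains_iff_mem] at hr
  have hm := (hr i i.2 j j.2 l l.2).resolve_left
    (by rintro ((h | h) | h) <;> exact hfne _ _ ‹_› h)
  have hs := ptSig_ok c hc
  simp only [ptSigB, allBelowB_iff, Bool.and_eq_true, Nat.blt, Nat.ble_eq] at hs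
  have key := ptReach_ind (c := c) (P := fun t => ∃ a b d : Fin 6, t = a + 8 * b + 64 * d ∧ P a b d)
    ⟨0, 1, 2, rfl, h0⟩ (fun k hk t ⟨a, b, d, e, hP⟩ => ?_) 24 _ hm
  · obtain ⟨a, b, d, e, hP⟩ := key
    have ha := a.2; have hb := b.2; have hd := d.2
    have hi := i.2; have hj := j.2; have hl := l.2
    rwa [show i = a from Fin.ext (by omega), show j = b from Fin.ext (by omega), show l = d from Fin.ext (by omega)]
  · have ha := a.2; have hb := b.2; have hd := d.2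
    rw [show t % 8 = a by omega, show t / 8 % 8 = b by omega, show t / 64 = d by omega]
    exact ⟨⟨_, (hs k hk).1.1 a a.2⟩, ⟨_, (hs k hk).1.1 b b.2⟩, ⟨_, (hs k hk).1.1 d d.2⟩, rfl,
      hstep ⟨k, hk⟩ a b d hP⟩

theorem pt_exists_U {c : ℕ} (hc : c < 3) : ∃ U : Fin 6 → Fin 6 → G6,
    (∀ i j, i ≠ j → U i j ∈ fourSet c) ∧ (∀ i j, i ≠ j → U i j ≠ 1) ∧ (∀ i j, i ≠ j → U i j = U j i) ∧
    (∀ g ∈ fourSet c, g ≠ 1 → ∃ i j, i ≠ j ∧ U i j = g) ∧
    (∀ i j k l, i ≠ j → k ≠ l → U i j = U k l → (i = k ∧ j = l) ∨ (i = l ∧ j = k)) ∧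
    (∀ i j k, i ≠ j → i ≠ k → j ≠ k → U i j * U i k = U j k) ∧
    (∀ i j k l m n : Fin 6, [i, j, k, l, m, n].Nodup → U i j * U k l = U m n) ∧
    (∀ i j, i ≠ j → ∃ y : V6, U i j • y + y = ptLv c i ∧ hermForm 6 R4 2 (ptLv c i) y = 1 ∧
      hermForm 6 R4 2 (ptLv c j) y = 0) ∧
    ∀ k : Fin 2, ∃ g ∈ KM c, (∀ x ∈ fixSet c, g • x ∈ fixSet c) ∧
      ∀ i j : Fin 6, i ≠ j → ∃ (h : ptSig c k i < 6) (h' : ptSig c k j < 6),
        g * U i j = U ⟨_, h⟩ ⟨_, h'⟩ * g :=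
  ⟨ptUv c, pt_labels hc⟩

theorem exists_ptFacts {c : ℕ} (hc : c < 3) : Nonempty (PtFacts c) := by
  obtain ⟨l1, l2, l3, l4⟩ := pt_lines hc
  obtain ⟨U, u1, u2, u3, u4, u5, u6, u7, u8, u9⟩ := pt_exists_U hc
  refine ⟨⟨ptLv c, U, l1, l2, l3, l4, pt_indep hc, pt_span hc, u1, u2, u3, u4, u5, u6, u7, u8,
    fun k i => ⟨ptSig c k i, (pt_sig hc).1 k i⟩, fun k i j e => (pt_sig hc).2 k i j (congrArg Fin.val e),
    fun k => ?_, fun P h0 hs => pt_trans hc P h0 hs⟩⟩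
  obtain ⟨g, hg, hfix, h⟩ := u9 k
  exact ⟨g, hg, hfix, fun i j hij => (h i j hij).2.2⟩

end Cfsg.Lib.FischerLarge
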