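import Cfsg.Agent.Lib.FischerLarge.Points
import Cfsg.Agent.Lib.FischerLarge.MaxElem

/-!
# The classes in the group of order `2 ^ 11` and its normaliser
-/

set_option autoImplicit false

namespace Cfsg.Lib.FischerLarge

open Cfsg Cfsg.Lib.SUSixU43 Cfsg.Lib.Extra

universe u

variable {G : Type u} [Group G] [Finite G] {z : G} {Q : Subgroup G} (D : Coord z Q) (F : PtFacts D.c)

/-- A conjugate of the central involution in the extraspecial group other than it. -/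
def Coord.Wit (_D : Coord z Q) (g₀ s : G) : Prop := g₀ * z * g₀⁻¹ = s ∧ s ∈ Q ∧ s ≠ z

/-- The normaliser. -/
noncomputable def Coord.nA : Subgroup G := Subgroup.normalizer (D.lagC : Set G)

/-- The conjugates of the central involution in the group. -/
def Coord.Xs : Set G := {a | a ∈ D.lagC ∧ IsConj z a}

/-- The other involutions of the group. -/
def Coord.Ts : Set G := {a | a ∈ D.lagC ∧ a ≠ 1 ∧ ¬ IsConj z a}

/-- The part over a pair of lines. -/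
def Coord.Cst (i j : Fin 6) : Set G := {a | ∃ h : a ∈ D.lagC, D.π ⟨a, h.1⟩ = F.U i j}

theorem Coord.lag_le : D.lagC ≤ Subgroup.centralizer ({z} : Set G) := fun _ hx => D.M_le hx.1

theorem Coord.lag_comm {a b : G} (ha : a ∈ D.lagC) (hb : b ∈ D.lagC) : Commute a b :=
  commute_of_sq (D.lagC_elem a ha) (D.lagC_elem b hb) (D.lagC_elem _ (mul_mem ha hb))

theorem Coord.z_lagC : z ∈ D.lagC := D.lagW_le_C D.z_lagW

theorem Coord.mem_nA {n : G} : n ∈ D.nA ↔ ∀ a, a ∈ D.lagC ↔ n * a * n⁻¹ ∈ D.lagC :=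
  Subgroup.mem_normalizer_iff

theorem Coord.nA_conj {n a : G} (hn : n ∈ D.nA) (ha : a ∈ D.lagC) : n * a * n⁻¹ ∈ D.lagC := (D.mem_nA.1 hn a).1 ha

theorem Coord.nA_of_conj {n : G} (h : ∀ a ∈ D.lagC, n * a * n⁻¹ ∈ D.lagC) : n ∈ D.nA := by
  refine D.mem_nA.2 fun a => ⟨h a, fun ha => ?_⟩
  have hinj : Function.Injective fun b : ↥D.lagC => (⟨n * b * n⁻¹, h b b.2⟩ : ↥D.lagC) :=
    fun b b' e => Subtype.ext (mul_left_cancel (mul_right_cancel (congrArg Subtype.val e)))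
  obtain ⟨b, hb⟩ := Finite.surjective_of_injective hinj ⟨_, ha⟩
  have e : n * b * n⁻¹ = n * a * n⁻¹ := congrArg Subtype.val hb
  exact mul_left_cancel (mul_right_cancel e) ▸ b.2

theorem isConj_conj_iff {G : Type*} [Group G] {z a n : G} : IsConj z (n * a * n⁻¹) ↔ IsConj z a :=
  ⟨fun h => h.trans (isConj_iff.2 ⟨n⁻¹, by group⟩), fun h => h.trans (isConj_iff.2 ⟨n, rfl⟩)⟩

theorem Coord.nA_Xs {n a : G} (hn : n ∈ D.nA) (ha : a ∈ D.Xs) : n * a * n⁻¹ ∈ D.Xs :=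
  ⟨D.nA_conj hn ha.1, isConj_conj_iff.2 ha.2⟩

theorem Coord.nA_Ts {n a : G} (hn : n ∈ D.nA) (ha : a ∈ D.Ts) : n * a * n⁻¹ ∈ D.Ts :=
  ⟨D.nA_conj hn ha.1, fun e => ha.2.1 (conj_eq_one_iff.1 e), fun h => ha.2.2 (isConj_conj_iff.1 h)⟩

theorem Coord.mem_nA_of_fix {m : ↥D.M} (hm : ∀ x ∈ fixSet D.c, D.π m • x ∈ fixSet D.c) : (m : G) ∈ D.nA :=
  D.nA_of_conj (D.lag_norm hm).2

theorem Coord.Q_le_nA : Q ≤ D.nA := fun q hq => by
  have h1 : D.π ⟨q, D.Q_le hq⟩ = 1 := (D.π_ker _).2 hq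
  exact D.mem_nA_of_fix (m := ⟨q, D.Q_le hq⟩) fun x hx => by rw [h1, one_smul]; exact hx

theorem Coord.lag_le_nA : D.lagC ≤ D.nA := fun _ hx => Subgroup.le_normalizer hx

/-- The group is its own centralizer. -/
theorem Coord.cent_lag {g₀ s : G} (hw : D.Wit g₀ s) (F : PtFacts D.c) {x : G}
    (hx : ∀ a ∈ D.lagC, Commute x a) : x ∈ D.lagC := by
  have hxz := hx z D.z_lagC
  by_cases hM : x ∈ D.M
  · exact ⟨hM, Subgroup.mem_centralizer_iff.2 fun a ha => (hx a (D.lagW_le_C ha)).eq.symm⟩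
  · exfalso
    have hfix : ∀ v ∈ fixSet D.c, D.sg x v = v := by
      intro v hv
      obtain ⟨a, ha, rfl⟩ := D.cl_surj v
      rw [← D.cl_conj hxz ha, (hx a (D.lagW_le_C ⟨ha, hv⟩)).eq, mul_inv_cancel_right]
    have h := D.outer_twist hw.1 hw.2.1 hw.2.2 hxz hM om (F.L 0)
    rw [hfix _ ((lagFacts D.c_lt).scal om _ (F.L_fix 0)), hfix _ (F.L_fix 0), tau_om.1, add_smul, one_smul] at h
    have h2 := left_eq_add.1 h
    have h3 := F.L_small 0 1 one_ne_zero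
    rw [one_smul, h2] at h3
    exact (D.orb.sing 0 (Or.inl (D.A_eq ▸ h3))).1 rfl

/-- Conjugates of the central involution in the group are conjugate in the normaliser. -/
theorem Coord.conj_max {g₀ s : G} (hw : D.Wit g₀ s) {a : G} (ha : a ∈ D.Xs) : ∃ n ∈ D.nA, n * z * n⁻¹ = a := by
  obtain ⟨g, rfl⟩ := isConj_iff.1 ha.2
  set B := D.lagC.map (MulAut.conj g⁻¹).toMonoidHom with hB
  have hBmem : ∀ b ∈ B, g * b * g⁻¹ ∈ D.lagC := by
    rintro _ ⟨b, hb, rfl⟩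
    show g * (g⁻¹ * b * g⁻¹⁻¹) * g⁻¹ ∈ D.lagC
    rw [show g * (g⁻¹ * b * g⁻¹⁻¹) * g⁻¹ = b by group]
    exact hb
  obtain ⟨m, hm⟩ := D.eq_conj_lagC hw.1 hw.2.1 hw.2.2 (T := B) (D.lagC_two.map _)
  have key := hm B le_rfl
    (fun b hb => mem_cent_of_commute ((Commute.conj_iff g).1 (D.lag_comm (hBmem b hb) ha.1)))
    (fun b hb b' hb' => (Commute.conj_iff g).1 (D.lag_comm (hBmem b hb) (hBmem b' hb')))
    (fun b hb => by
      have := D.lagC_elem _ (hBmem b hb)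
      rw [show g * b * g⁻¹ * (g * b * g⁻¹) = g * (b * b) * g⁻¹ by group, conj_eq_one_iff] at this
      exact this)
    (by rw [hB, Subgroup.card_map_of_injective (MulAut.conj g⁻¹).injective, D.lagC_image.1])
  refine ⟨g * (m : G)⁻¹, D.nA_of_conj fun x hx => ?_, ?_⟩
  · have h : (m : G)⁻¹ * x * (m : G)⁻¹⁻¹ ∈ B := key ▸ Subgroup.mem_map_of_mem (MulAut.conj (m : G)⁻¹).toMonoidHom hx
    have h' := hBmem _ h
    rwa [show g * (m : G)⁻¹ * x * (g * (m : G)⁻¹)⁻¹ = g * ((m : G)⁻¹ * x * (m : G)⁻¹⁻¹) * g⁻¹ by group]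
  · rw [show g * (m : G)⁻¹ * z * (g * (m : G)⁻¹)⁻¹ = g * ((m : G)⁻¹ * z * m) * g⁻¹ by group,
      (D.m_comm m).inv_left.eq, inv_mul_cancel_right]

theorem Coord.class_B {g₀ s : G} (hw : D.Wit g₀ s) {a : G} (ha : a ∈ Q) (hB : D.cl a ∈ D.B) : IsConj z a := by
  obtain ⟨hg, hs, hne⟩ := hw
  obtain ⟨m, -, e⟩ := D.conj_in_M (D.pt_of_conj hg hs hne) ha
    (D.orb.transB _ (D.conj_in_B hg hs hne) _ hB)
  exact (isConj_iff.2 ⟨g₀, hg⟩).trans (isConj_iff.2 ⟨m, e⟩)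

theorem Coord.B_of_class {a : G} (ha : a ∈ Q) (hne : a ≠ z) (h : IsConj z a) : D.cl a ∈ D.B := by
  obtain ⟨g, hg⟩ := isConj_iff.1 h
  exact D.conj_in_B hg ha hne

/-- The classes in the small part. -/
theorem Coord.W_Xs {g₀ s : G} (hw : D.Wit g₀ s) :
    {a : G | a ∈ D.Xs ∧ a ∈ Q} = insert z {a | a ∈ D.lagW ∧ D.cl a ∈ D.B} := by
  ext a
  simp only [Set.mem_ofPred_eq, Set.mem_insert_iff]
  constructor
  · rintro ⟨⟨hA, hc⟩, hQ⟩
    by_cases e : a = z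
    · exact Or.inl e
    · exact Or.inr ⟨D.lagC_Q ▸ ⟨hA, hQ⟩, D.B_of_class hQ e hc⟩
  · rintro (rfl | ⟨hW, hB⟩)
    · exact ⟨⟨D.z_lagC, IsConj.refl _⟩, D.ctx.mem⟩
    · exact ⟨⟨D.lagW_le_C hW, D.class_B hw hW.1 hB⟩, hW.1⟩

include F in
theorem Coord.card_W_Xs {g₀ s : G} (hw : D.Wit g₀ s) : {a : G | a ∈ D.Xs ∧ a ∈ Q}.ncard = 91 := by
  classical
  have := Fintype.ofFinite G
  rw [D.W_Xs hw, Set.ncard_insert_of_notMem _ (Set.toFinite _)]
  · set S : Finset G := Finset.univ.filter fun a => a ∈ D.lagW ∧ D.cl a ∈ D.B with hS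
    rw [show {a | a ∈ D.lagW ∧ D.cl a ∈ D.B} = (↑S : Set G) by ext; simp [hS], Set.ncard_coe_finset]
    suffices S.card = 90 by omega
    set T : Finset V6 := (Set.toFinite {x : V6 | x ∈ fixSet D.c ∧ x ∈ (orbBig D.c).set}).toFinset with hT
    have hTc : T.card = 45 := by rw [hT, ← Set.ncard_eq_toFinset_card, F.countB]
    rw [Finset.card_eq_sum_card_fiberwise (f := D.cl) (t := T) fun a ha => by
      simp only [hS, Finset.coe_filter, Finset.mem_univ, true_and, Set.mem_ofPred_eq] at ha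
      simp only [hT, Set.Finite.coe_toFinset, Set.mem_ofPred_eq]
      exact ⟨ha.1.2, D.B_eq ▸ ha.2⟩]
    rw [Finset.sum_const_nat (m := 2), hTc]
    intro x hx
    simp only [hT, Set.Finite.mem_toFinset, Set.mem_ofPred_eq] at hx
    obtain ⟨a, ha, rfl⟩ := D.cl_surj x
    have hne : a ≠ z * a := fun e => D.ctx.ne_one (mul_eq_right.1 e.symm)
    rw [show S.filter (fun b => D.cl b = D.cl a) = {a, z * a} by
      ext b
      simp only [hS, Finset.mem_filter, Finset.mem_univ, true_and, Finset.mem_insert, Finset.mem_singleton]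
      constructor
      · rintro ⟨⟨hb, -⟩, e⟩
        exact (D.cl_eq a ha b hb.1).1 e.symm
      · rintro (rfl | rfl)
        · exact ⟨⟨⟨ha, hx.1⟩, D.B_eq ▸ hx.2⟩, rfl⟩
        · have e := D.cl_z_mul ha
          exact ⟨⟨⟨mul_mem D.ctx.mem ha, by rw [e]; exact hx.1⟩, by rw [e]; exact D.B_eq ▸ hx.2⟩, e⟩,
      Finset.card_pair hne]
  · rintro ⟨-, h⟩
    have e : D.cl z = 0 := by
      have := D.cl_z_mul (one_mem Q)
      rwa [mul_one, D.cl_one] at this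
    exact (D.orb.sing _ (Or.inr h)).1 e

theorem Coord.notMem_Q {i j : Fin 6} (hij : i ≠ j) {a : G} (ha : a ∈ D.Cst F i j) : a ∉ Q := fun hq =>
  F.U_ne i j hij (ha.2.symm.trans ((D.π_ker _).2 hq))

theorem Coord.pair_cases {a : G} (ha : a ∈ D.lagC) : a ∈ Q ∨ ∃ i j, i ≠ j ∧ a ∈ D.Cst F i j := by
  by_cases h : D.π ⟨a, ha.1⟩ = 1
  · exact Or.inl ((D.π_ker _).1 h)
  · obtain ⟨i, j, hij, e⟩ := F.U_surj _ (D.lagC_image.2.2 ⟨a, ha.1⟩ ha) h
    exact Or.inr ⟨i, j, hij, ha, e.symm⟩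

theorem Coord.Cst_nonempty {i j : Fin 6} (hij : i ≠ j) : ∃ a, a ∈ D.Cst F i j := by
  obtain ⟨m, hm, e⟩ := D.lagC_image.2.1 _ (F.U_mem i j hij)
  exact ⟨m, hm, e⟩

theorem Coord.Cst_mul {i j : Fin 6} {a w : G} (ha : a ∈ D.Cst F i j) (hw : w ∈ D.lagW) :
    a * w ∈ D.Cst F i j := by
  obtain ⟨hA, e⟩ := ha
  refine ⟨mul_mem hA (D.lagW_le_C hw), ?_⟩
  rw [show (⟨a * w, (mul_mem hA (D.lagW_le_C hw)).1⟩ : ↥D.M) = ⟨a, hA.1⟩ * ⟨w, D.Q_le hw.1⟩ from rfl, map_mul,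
    e, (D.π_ker ⟨w, D.Q_le hw.1⟩).2 hw.1, mul_one]

theorem Coord.Cst_div {i j : Fin 6} {a b : G} (ha : a ∈ D.Cst F i j) (hb : b ∈ D.Cst F i j) :
    a⁻¹ * b ∈ D.lagW := by
  obtain ⟨hA, ea⟩ := ha
  obtain ⟨hB, eb⟩ := hb
  rw [← D.lagC_Q]
  have hm : a⁻¹ * b ∈ D.lagC := D.lagC.mul_mem (D.lagC.inv_mem hA) hB
  refine ⟨hm, (D.π_ker ⟨a⁻¹ * b, hm.1⟩).1 ?_⟩
  rw [show (⟨a⁻¹ * b, hm.1⟩ : ↥D.M) = ⟨a, hA.1⟩⁻¹ * ⟨b, hB.1⟩ from rfl, map_mul,
    map_inv, ea, eb, inv_mul_cancel]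

theorem Coord.card_Cst {i j : Fin 6} (hij : i ≠ j) : (D.Cst F i j).ncard = 128 := by
  obtain ⟨a, ha⟩ := D.Cst_nonempty F hij
  have e : D.Cst F i j = (fun w => a * w) '' (D.lagW : Set G) := by
    ext b
    exact ⟨fun hb => ⟨_, D.Cst_div F ha hb, mul_inv_cancel_left a b⟩,
      by rintro ⟨w, hw, rfl⟩; exact D.Cst_mul F ha hw⟩
  rw [e, Set.ncard_image_of_injective _ (mul_right_injective a), ← Nat.card_coe_set_eq]
  exact D.card_lagW

/-- Conjugation by elements of the unitary part permuting the lines permutes the parts. -/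
theorem Coord.conj_Cst {i j i' j' : Fin 6} {m : ↥D.M} (hn : (m : G) ∈ D.nA)
    (hg : D.π m * F.U i j = F.U i' j' * D.π m) {a : G} (ha : a ∈ D.Cst F i j) :
    (m : G) * a * (m : G)⁻¹ ∈ D.Cst F i' j' := by
  obtain ⟨hA, e⟩ := ha
  have h := D.nA_conj hn hA
  refine ⟨h, ?_⟩
  rw [show (⟨(m : G) * a * (m : G)⁻¹, h.1⟩ : ↥D.M) = m * ⟨a, hA.1⟩ * m⁻¹ from rfl, map_mul, map_mul, map_inv, e,
    hg, mul_inv_cancel_right]

theorem Coord.Q_Cst {i j : Fin 6} {q a : G} (hq : q ∈ Q) (ha : a ∈ D.Cst F i j) :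
    q * a * q⁻¹ ∈ D.Cst F i j := by
  refine D.conj_Cst F (m := ⟨q, D.Q_le hq⟩) (D.Q_le_nA hq) ?_ ha
  rw [(D.π_ker ⟨q, D.Q_le hq⟩).2 hq, one_mul, mul_one]

/-- The sets over the pairs of an invariant set have equal sizes. -/
theorem Coord.card_pairs (S : Set G) (hS : ∀ n ∈ D.nA, ∀ a ∈ S, n * a * n⁻¹ ∈ S) {i j : Fin 6} (hij : i ≠ j) :
    (S ∩ D.Cst F i j).ncard = (S ∩ D.Cst F 0 1).ncard := by
  obtain ⟨l, hil, hjl⟩ : ∃ l : Fin 6, i ≠ l ∧ j ≠ l := by revert i j; decide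
  refine F.trans (fun i j _ => i ≠ j → (S ∩ D.Cst F i j).ncard = (S ∩ D.Cst F 0 1).ncard)
    (fun _ => rfl) (fun k i j _ h hne => ?_) i j l hij hil hjl hij
  obtain ⟨g, hg, hfix, hcomm⟩ := F.nrm k
  obtain ⟨m, rfl⟩ := D.exists_pre hg
  have hn := D.mem_nA_of_fix hfix
  have hne' : i ≠ j := fun e => hne (by rw [e])
  rw [← h hne']
  have e : S ∩ D.Cst F (F.sig k i) (F.sig k j) = (fun a => (m : G) * a * (m : G)⁻¹) '' (S ∩ D.Cst F i j) := by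
    ext b
    constructor
    · rintro ⟨hbS, hb⟩
      refine ⟨(m : G)⁻¹ * b * m, ⟨?_, ?_⟩, by group⟩
      · simpa using hS _ (inv_mem hn) b hbS
      · have := D.conj_Cst F (m := m⁻¹) (i := F.sig k i) (j := F.sig k j) (i' := i) (j' := j)
          (by simpa using inv_mem hn) (by
            have h1 := hcomm i j hne'
            rw [map_inv, inv_mul_eq_iff_eq_mul, ← mul_assoc, h1, mul_inv_cancel_right]) hb
        simpa using this
    · rintro ⟨a, ⟨haS, ha⟩, rfl⟩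
      exact ⟨hS _ hn a haS, D.conj_Cst F hn (hcomm i j hne') ha⟩
  rw [e, Set.ncard_image_of_injective _ fun a b e => mul_left_cancel (mul_right_cancel e)]

end Cfsg.Lib.FischerLarge
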