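import Cfsg.Agent.Lib.FischerLarge.PointsBase

/-!
# The numbers of the two classes in the group of order `2 ^ 11`
-/

set_option autoImplicit false

namespace Cfsg.Lib.FischerLarge

open Cfsg Cfsg.Lib.SUSixU43 Cfsg.Lib.Extra

universe u

variable {G : Type u} [Group G] [Finite G] {z : G} {Q : Subgroup G} (D : Coord z Q) (F : PtFacts D.c)

theorem dvd_orbits {H X : Type*} [Group H] [Finite X] [MulAction H X] {n : ℕ}
    (h : ∀ x : X, n ∣ Nat.card (MulAction.orbit H x)) : n ∣ Nat.card X := by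
  classical
  have := Fintype.ofFinite X
  rw [Nat.card_congr (MulAction.selfEquivSigmaOrbits H X), Nat.card_sigma]
  refine Finset.dvd_sum fun ω _ => ?_
  obtain ⟨x, rfl⟩ := Quotient.exists_rep ω
  have e : MulAction.orbit H (Quotient.out (Quotient.mk (MulAction.orbitRel H X) x)) = MulAction.orbit H x :=
    MulAction.orbit_eq_iff.2 (Quotient.mk_out (s := MulAction.orbitRel H X) x)
  rw [e]
  exact h x

theorem fourSet_syl {c : ℕ} (hc : c < 3) {g : G6} (hg : g ∈ fourSet c) : g ∈ sylSub hc := by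
  obtain ⟨i, hi, rfl⟩ := hg
  have hf := sylFix_ok c hc
  simp only [fixB, Bool.and_eq_true, List.all_eq_true, Nat.beq_eq, Nat.blt, Nat.ble_eq, fN_eq] at hf
  obtain ⟨⟨⟨⟨⟨⟨⟨⟨⟨-, -⟩, -⟩, -⟩, -⟩, -⟩, hfour⟩, -⟩, -⟩, -⟩ := hf
  exact ⟨i, (hfour i hi).1, rfl⟩

/-- The centralizer in the extraspecial group of an element outside it is small. -/
theorem Coord.card_cent_Cst {i j : Fin 6} (hij : i ≠ j) {e : G} (he : e ∈ D.Cst F i j) :
    Nat.card ↥(Q ⊓ Subgroup.centralizer ({e} : Set G)) ≤ 512 ∧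
      ∀ q ∈ Q ⊓ Subgroup.centralizer ({e} : Set G), F.U i j • D.cl q = D.cl q := by
  obtain ⟨hA, hπ⟩ := he
  have hfix : ∀ q ∈ Q ⊓ Subgroup.centralizer ({e} : Set G), F.U i j • D.cl q = D.cl q := by
    intro q hq
    rw [← hπ, ← D.π_cl ⟨e, hA.1⟩ q hq.1]
    show D.cl (e * q * e⁻¹) = _
    rw [← (commute_of_mem_cent hq.2).eq, mul_inv_cancel_right]
  refine ⟨?_, hfix⟩
  have h1 := (D.card_le_image (A := Q ⊓ Subgroup.centralizer ({e} : Set G)) inf_le_left).1
  have hU := F.U_mem i j hij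
  have h2 := invol_fix D.c_lt (fourSet_syl D.c_lt hU) (F.U_ne i j hij)
    (fixer_sq D.c_lt ((lagFacts D.c_lt).four_fix _ hU))
  have h3 : (D.cl '' ((Q ⊓ Subgroup.centralizer ({e} : Set G) : Subgroup G) : Set G)).ncard ≤
      {x : V6 | F.U i j • x = x}.ncard :=
    Set.ncard_le_ncard (by rintro _ ⟨q, hq, rfl⟩; exact hfix q hq) (Set.toFinite _)
  omega

/-- An invariant subset of a part has size divisible by sixteen. -/
theorem Coord.sixteen_dvd {S : Set G} (hS : ∀ q ∈ Q, ∀ a ∈ S, q * a * q⁻¹ ∈ S) {i j : Fin 6} (hij : i ≠ j)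
    (hsub : S ⊆ D.Cst F i j) : 16 ∣ S.ncard := by
  let _ : MulAction ↥Q ↥S :=
    { smul := fun q a => ⟨(q : G) * a * (q : G)⁻¹, hS q q.2 a a.2⟩
      one_smul := fun a => Subtype.ext (by show (1 : G) * a * (1 : G)⁻¹ = a; group)
      mul_smul := fun p q a => Subtype.ext (by
        show (p : G) * q * a * ((p : G) * q)⁻¹ = p * (q * a * (q : G)⁻¹) * (p : G)⁻¹
        group) }
  rw [← Nat.card_coe_set_eq]
  refine dvd_orbits (H := ↥Q) fun a => ?_
  rw [Nat.card_coe_set_eq, ← MulAction.index_stabilizer]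
  have hle : Nat.card ↥(MulAction.stabilizer ↥Q a) ≤ 512 := by
    refine le_trans (Nat.card_le_card_of_injective
      (fun q => (⟨((q : ↥Q) : G), (q : ↥Q).2, mem_cent_of_commute (mul_inv_eq_iff_eq_mul.1
        (congrArg Subtype.val (MulAction.mem_stabilizer_iff.1 q.2)))⟩ :
        ↥(Q ⊓ Subgroup.centralizer ({(a : G)} : Set G)))) ?_) (D.card_cent_Cst F hij (hsub a.2)).1
    intro p q e
    have e' : ((p : ↥Q) : G) = ((q : ↥Q) : G) := congrArg (fun x : ↥(Q ⊓ _) => (x : G)) e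
    exact Subtype.ext (Subtype.ext e')
  have h := (MulAction.stabilizer ↥Q a).card_mul_index
  rw [D.cardQ] at h
  have hd : (MulAction.stabilizer ↥Q a).index ∣ 2 ^ 13 := Dvd.intro_left _ h
  obtain ⟨t, ht, e⟩ := (Nat.dvd_prime_pow Nat.prime_two).1 hd
  rw [e] at h ⊢
  have h4 : 4 ≤ t := by
    by_contra hlt
    have : 2 ^ t ≤ 8 := by
      calc 2 ^ t ≤ 2 ^ 3 := Nat.pow_le_pow_right (by norm_num) (by omega)
        _ = 8 := by norm_num
    have := Nat.mul_le_mul hle this
    omega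
  exact Dvd.dvd.trans (by norm_num) (pow_dvd_pow 2 h4)

/-- An element of odd prime order in the normaliser outside the group moves it fixed point freely up to a factor. -/
theorem Coord.prime_fixed {g₀ s : G} (hw : D.Wit g₀ s) (F : PtFacts D.c) {p : ℕ} [Fact p.Prime] (hp : p ≠ 2)
    {m : G} (hm : m ∈ D.nA) (hord : orderOf m = p) :
    ∃ f < 11, p ∣ 2 ^ (11 - f) - 1 ∧ Nat.card ↥(D.lagC ⊓ Subgroup.centralizer ({m} : Set G)) = 2 ^ f := by
  set C := D.lagC ⊓ Subgroup.centralizer ({m} : Set G) with hC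
  have hdvd : Nat.card ↥C ∣ 2 ^ 11 := D.lagC_image.1 ▸ Subgroup.card_dvd_of_le inf_le_left
  obtain ⟨f, hf, ef⟩ := (Nat.dvd_prime_pow Nat.prime_two).1 hdvd
  have hne : f ≠ 11 := by
    rintro rfl
    have e : C = D.lagC := Subgroup.eq_of_le_of_card_ge inf_le_left (by rw [ef, D.lagC_image.1])
    have hmA : m ∈ D.lagC := D.cent_lag hw F fun a ha => by
      have : a ∈ C := e.symm ▸ ha
      exact (commute_of_mem_cent this.2).symm
    have h2 : m ^ 2 = 1 := by rw [pow_two]; exact D.lagC_elem m hmA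
    have h3 := orderOf_dvd_of_pow_eq_one h2
    rw [hord] at h3
    exact hp ((Nat.prime_dvd_prime_iff_eq Fact.out Nat.prime_two).1 h3)
  let _ : MulAction ↥(Subgroup.zpowers m) ↥D.lagC :=
    { smul := fun q a => ⟨(q : G) * a * (q : G)⁻¹, D.nA_conj ((Subgroup.zpowers_le.2 hm) q.2) a.2⟩
      one_smul := fun a => Subtype.ext (by show (1 : G) * a * (1 : G)⁻¹ = a; group)
      mul_smul := fun p q a => Subtype.ext (by
        show (p : G) * q * a * ((p : G) * q)⁻¹ = p * (q * a * (q : G)⁻¹) * (p : G)⁻¹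
        group) }
  have hpG : IsPGroup p ↥(Subgroup.zpowers m) :=
    IsPGroup.of_card (n := 1) (by rw [Nat.card_zpowers, hord, pow_one])
  have hmod := hpG.card_modEq_card_fixedPoints ↥D.lagC
  have hfp : Nat.card (MulAction.fixedPoints ↥(Subgroup.zpowers m) ↥D.lagC) = Nat.card ↥C := Nat.card_congr
    { toFun := fun a => ⟨((a : ↥D.lagC) : G), (a : ↥D.lagC).2, mem_cent_of_commute (Commute.symm
        (mul_inv_eq_iff_eq_mul.1 (congrArg Subtype.val (a.2 ⟨m, Subgroup.mem_zpowers m⟩))))⟩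
      invFun := fun a => ⟨⟨a, a.2.1⟩, fun q => Subtype.ext (by
        obtain ⟨k, hk⟩ := Subgroup.mem_zpowers_iff.1 q.2
        show (q : G) * a * (q : G)⁻¹ = a
        rw [← hk, ((commute_of_mem_cent a.2.2).symm.zpow_left k).eq, mul_inv_cancel_right])⟩
      left_inv := fun _ => rfl
      right_inv := fun _ => rfl }
  rw [hfp, ef, D.lagC_image.1] at hmod
  refine ⟨f, by omega, ?_, ef⟩
  have h1 : p ∣ 2 ^ 11 - 2 ^ f := (Nat.modEq_iff_dvd' (Nat.pow_le_pow_right (by norm_num) hf)).1 hmod.symm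
  have e : 2 ^ 11 - 2 ^ f = 2 ^ f * (2 ^ (11 - f) - 1) := by
    rw [Nat.mul_sub, mul_one, ← pow_add, show f + (11 - f) = 11 by omega]
  rw [e] at h1
  have hco : Nat.Coprime p (2 ^ f) :=
    Nat.Coprime.pow_right f ((Nat.coprime_primes Fact.out Nat.prime_two).2 hp)
  exact hco.dvd_of_dvd_mul_left h1

/-- The number of conjugates of the central involution in the group divides the order of the normaliser. -/
theorem Coord.card_Xs_mul {g₀ s : G} (hw : D.Wit g₀ s) :
    D.Xs.ncard * Nat.card ↥(D.nA ⊓ Subgroup.centralizer ({z} : Set G)) = Nat.card ↥D.nA := by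
  let H := ConjAct.toConjAct '' (D.nA : Set G)
  let _ : MulAction ↥D.nA G :=
    { smul := fun n a => (n : G) * a * (n : G)⁻¹
      one_smul := fun a => by show (1 : G) * a * (1 : G)⁻¹ = a; group
      mul_smul := fun p q a => by
        show (p : G) * q * a * ((p : G) * q)⁻¹ = p * (q * a * (q : G)⁻¹) * (p : G)⁻¹
        group }
  have horb : MulAction.orbit ↥D.nA z = D.Xs := by
    ext a
    constructor
    · rintro ⟨n, rfl⟩
      exact D.nA_Xs n.2 ⟨D.z_lagC, IsConj.refl z⟩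
    · intro ha
      obtain ⟨n, hn, e⟩ := D.conj_max hw ha
      exact ⟨⟨n, hn⟩, e⟩
  have h := (MulAction.stabilizer ↥D.nA z).card_mul_index
  rw [MulAction.index_stabilizer, horb] at h
  rw [← h, mul_comm]
  congr 1
  refine (Nat.card_congr
    { toFun := fun n => ⟨((n : ↥D.nA) : G), (n : ↥D.nA).2, mem_cent_of_commute
        (mul_inv_eq_iff_eq_mul.1 (MulAction.mem_stabilizer_iff.1 n.2))⟩
      invFun := fun n => ⟨⟨n, n.2.1⟩, MulAction.mem_stabilizer_iff.2 (by
        show (n : G) * z * (n : G)⁻¹ = z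
        rw [(commute_of_mem_cent n.2.2).eq, mul_inv_cancel_right])⟩
      left_inv := fun _ => rfl
      right_inv := fun _ => rfl }).symm

theorem mersenne_none : ∀ p ∈ [13, 331, 571, 811, 1051, 1291, 1531, 2011], ∀ f < 11, ¬ p ∣ 2 ^ (11 - f) - 1 := by
  decide +kernel

theorem mersenne_23 : ∀ f < 11, 23 ∣ 2 ^ (11 - f) - 1 → f = 0 := by decide +kernel

include F in
/-- The sizes of the two classes. -/
theorem Coord.class_sizes {g₀ s : G} (hw : D.Wit g₀ s) :
    D.Xs.ncard = 1771 ∧ D.Ts.ncard = 276 ∧ (D.Ts ∩ D.lagW).ncard = 36 ∧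
      ∀ i j, i ≠ j → (D.Ts ∩ D.Cst F i j).ncard = 16 := by
  classical
  have := Fintype.ofFinite G
  set k := (D.Xs ∩ D.Cst F 0 1).ncard with hk
  have hkc : ∀ i j, i ≠ j → (D.Xs ∩ D.Cst F i j).ncard = k := fun i j hij =>
    D.card_pairs F D.Xs (fun n hn a ha => D.nA_Xs hn ha) hij
  have hcount : ∀ S : Set G, S ⊆ (D.lagC : Set G) →
      S.ncard = (S ∩ Q).ncard + ∑ u ∈ (Finset.univ : Finset (Fin 6 × Fin 6)).filter (fun u => u.1 < u.2),
        (S ∩ D.Cst F u.1 u.2).ncard := by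
    intro S hS
    set P := (Finset.univ : Finset (Fin 6 × Fin 6)).filter (fun u => u.1 < u.2) with hP
    have hd : (↑P : Set (Fin 6 × Fin 6)).PairwiseDisjoint fun u => (S ∩ D.Cst F u.1 u.2).toFinset := by
      intro u hu v hv huv
      simp only [hP, Finset.coe_filter, Finset.mem_univ, true_and, Set.mem_ofPred_eq] at hu hv
      rw [Function.onFun, Finset.disjoint_left]
      intro a ha ha'
      simp only [Set.mem_toFinset] at ha ha'
      rcases F.U_inj u.1 u.2 v.1 v.2 hu.ne hv.ne (ha.2.2.symm.trans ha'.2.2) with ⟨e1, e2⟩ | ⟨e1, e2⟩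
      · exact huv (Prod.ext e1 e2)
      · rw [e1, e2] at hu
        exact lt_asymm hu hv
    have hu : S.toFinset = (S ∩ Q).toFinset ∪ P.biUnion fun u => (S ∩ D.Cst F u.1 u.2).toFinset := by
      ext a
      simp only [Set.mem_toFinset, Finset.mem_union, Finset.mem_biUnion, Set.mem_inter_iff, SetLike.mem_coe]
      constructor
      · intro ha
        rcases D.pair_cases F (hS ha) with h | ⟨i, j, hij, h⟩
        · exact Or.inl ⟨ha, h⟩
        · refine Or.inr ?_
          rcases lt_or_gt_of_ne hij with hlt | hlt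
          · exact ⟨(i, j), by simp [hP, hlt], ha, h⟩
          · obtain ⟨hA, e⟩ := h
            exact ⟨(j, i), by simp [hP, hlt], ha, hA, e.trans (F.U_symm i j hij)⟩
      · rintro (h | ⟨u, -, h⟩) <;> exact h.1
    rw [Set.ncard_eq_toFinset_card' S, hu, Finset.card_union_of_disjoint, Finset.card_biUnion hd]
    · refine congrArg₂ (· + ·) (Set.ncard_eq_toFinset_card' (S ∩ Q)).symm ?_
      exact Finset.sum_congr rfl fun u _ => (Set.ncard_eq_toFinset_card' _).symm
    · rw [Finset.disjoint_left]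
      intro a ha ha'
      simp only [Finset.mem_biUnion, Set.mem_toFinset, hP, Finset.mem_filter, Finset.mem_univ, true_and] at ha ha'
      obtain ⟨u, hu, hu'⟩ := ha'
      exact D.notMem_Q F hu.ne hu'.2 ha.2
  have hPc : ((Finset.univ : Finset (Fin 6 × Fin 6)).filter (fun u => u.1 < u.2)).card = 15 := by decide
  have hX : D.Xs.ncard = 91 + 15 * k := by
    rw [hcount _ fun a ha => ha.1, Finset.sum_const_nat (m := k) fun u hu => hkc _ _ ?_, hPc]
    · rw [show D.Xs ∩ ↑Q = {a : G | a ∈ D.Xs ∧ a ∈ Q} from rfl, D.card_W_Xs F hw]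
    · simp only [Finset.mem_filter, Finset.mem_univ, true_and] at hu
      exact hu.ne
  have h16 : 16 ∣ k := D.sixteen_dvd F (S := D.Xs ∩ D.Cst F 0 1)
    (fun q hq a ha => ⟨D.nA_Xs (D.Q_le_nA hq) ha.1, D.Q_Cst F hq ha.2⟩) (by decide) fun a ha => ha.2
  have hk128 : k ≤ 128 := by
    rw [← D.card_Cst F (i := 0) (j := 1) (by decide)]
    exact Set.ncard_le_ncard Set.inter_subset_right (Set.toFinite _)
  have hdvd : ∀ p : ℕ, p.Prime → p ∣ D.Xs.ncard → p ≠ 2 → ∃ f < 11, p ∣ 2 ^ (11 - f) - 1 := by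
    intro p hp hd h2
    have := Fact.mk hp
    obtain ⟨⟨m, hm⟩, ho⟩ := exists_prime_orderOf_dvd_card' (G := ↥D.nA) p (hd.trans (Dvd.intro _ (D.card_Xs_mul hw)))
    rw [Subgroup.orderOf_mk] at ho
    obtain ⟨f, hf, h, -⟩ := D.prime_fixed hw F h2 hm ho
    exact ⟨f, hf, h⟩
  have hk112 : k = 112 := by
    obtain ⟨t, ht⟩ := h16
    have ht8 : t ≤ 8 := by omega
    have key : ∀ p, p.Prime → p ∈ [13, 331, 571, 811, 1051, 1291, 1531, 2011] → ¬ p ∣ 91 + 15 * k := by
      intro p hp hmem hd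
      obtain ⟨f, hf, h⟩ := hdvd p hp (hX ▸ hd) (by rintro rfl; simp at hmem)
      exact mersenne_none p hmem f hf h
    interval_cases t <;> rw [ht] at key ⊢
    · exact absurd ⟨7, by norm_num⟩ (key 13 (by norm_num) (by simp))
    · exact absurd ⟨1, by norm_num⟩ (key 331 (by norm_num) (by simp))
    · exact absurd ⟨1, by norm_num⟩ (key 571 (by norm_num) (by simp))
    · exact absurd ⟨1, by norm_num⟩ (key 811 (by norm_num) (by simp))
    · exact absurd ⟨1, by norm_num⟩ (key 1051 (by norm_num) (by simp))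
    · exact absurd ⟨1, by norm_num⟩ (key 1291 (by norm_num) (by simp))
    · exact absurd ⟨1, by norm_num⟩ (key 1531 (by norm_num) (by simp))
    · exact absurd ⟨1, by norm_num⟩ (key 2011 (by norm_num) (by simp))
  have hX' : D.Xs.ncard = 1771 := by rw [hX, hk112]
  have hT16 : ∀ i j, i ≠ j → (D.Ts ∩ D.Cst F i j).ncard = 16 := by
    intro i j hij
    have h1 : D.Cst F i j = (D.Xs ∩ D.Cst F i j) ∪ (D.Ts ∩ D.Cst F i j) := by
      ext a
      constructor
      · intro ha
        by_cases hc : IsConj z a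
        · exact Or.inl ⟨⟨ha.1, hc⟩, ha⟩
        · exact Or.inr ⟨⟨ha.1, fun e => D.notMem_Q F hij ha (e ▸ one_mem Q), hc⟩, ha⟩
      · rintro (h | h) <;> exact h.2
    have h2 := congrArg Set.ncard h1
    rw [Set.ncard_union_eq (Set.disjoint_left.2 fun a ha ha' => ha'.1.2.2 ha.1.2) (Set.toFinite _) (Set.toFinite _),
      D.card_Cst F hij, hkc i j hij, hk112] at h2
    omega
  have hA : (D.lagC : Set G) = insert 1 (D.Xs ∪ D.Ts) := by
    ext a
    constructor
    · intro ha
      by_cases e : a = 1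
      · exact Or.inl e
      · by_cases hc : IsConj z a
        · exact Or.inr (Or.inl ⟨ha, hc⟩)
        · exact Or.inr (Or.inr ⟨ha, e, hc⟩)
    · rintro (rfl | h | h)
      exacts [one_mem _, h.1, h.1]
  have h3 := congrArg Set.ncard hA
  rw [Set.ncard_insert_of_notMem _ (Set.toFinite _),
    Set.ncard_union_eq (Set.disjoint_left.2 fun a ha ha' => ha'.2.2 ha.2) (Set.toFinite _) (Set.toFinite _), hX',
    show (D.lagC : Set G).ncard = 2 ^ 11 from (Nat.card_coe_set_eq _).symm.trans D.lagC_image.1] at h3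
  · have hT : D.Ts.ncard = 276 := by omega
    refine ⟨hX', hT, ?_, hT16⟩
    have h4 := hcount D.Ts fun a ha => ha.1
    rw [Finset.sum_const_nat (m := 16) fun u hu => hT16 _ _ (by
      simp only [Finset.mem_filter, Finset.mem_univ, true_and] at hu; exact hu.ne), hPc, hT] at h4
    have e : D.Ts ∩ ↑D.lagW = D.Ts ∩ ↑Q := by
      ext a
      exact ⟨fun h => ⟨h.1, h.2.1⟩, fun h => ⟨h.1, D.lagC_Q ▸ ⟨h.1.1, h.2⟩⟩⟩
    rw [e]
    omega
  · rintro (h | h)
    · exact D.ctx.ne_one (isConj_one_left.1 h.2)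
    · exact h.2.1 rfl

end Cfsg.Lib.FischerLarge
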