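import Cfsg.Agent.Lib.FischerLarge.PointsFuse

/-!
# Twenty-four points whose pairs are the other involutions
-/

set_option autoImplicit false

namespace Cfsg.Lib.FischerLarge

open Cfsg Cfsg.Lib.SUSixU43 Cfsg.Lib.Extra

universe u

theorem r4_norm : ∀ t : R4, t ^ 2 = t → t = 0 ∨ t = 1 := by decide +kernel

theorem r4_trace : ∀ a b : R4, a ≠ 0 → b ≠ 0 → a ≠ b → a * b ^ 2 + b * a ^ 2 = 1 := by decide +kernel

theorem herm_conj (x y : V6) : hermForm 6 R4 2 y x = hermForm 6 R4 2 x y ^ 2 := by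
  show ∑ i, y i * x i ^ 2 = (∑ i, x i * y i ^ 2) ^ 2
  rw [show (∑ i, x i * y i ^ 2) ^ 2 = frob (∑ i, x i * y i ^ 2) from rfl, map_sum]
  refine Finset.sum_congr rfl fun i _ => ?_
  show _ = (x i * y i ^ 2) ^ 2
  rw [mul_pow, sq_sq, mul_comm]

theorem herm_expand (x y : V6) : hermForm 6 R4 2 (x + y) (x + y) =
    hermForm 6 R4 2 x x + hermForm 6 R4 2 y y + (hermForm 6 R4 2 x y + hermForm 6 R4 2 y x) := by
  simp only [hermForm, Pi.add_apply, add_sq, ← Finset.sum_add_distrib]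
  exact Finset.sum_congr rfl fun i _ => by ring

theorem herm_smul_smul (a b : R4) (x y : V6) :
    hermForm 6 R4 2 (a • x) (b • y) = a * b ^ 2 * hermForm 6 R4 2 x y := by
  simp only [hermForm, Pi.smul_apply, smul_eq_mul, Finset.mul_sum, mul_pow]
  exact Finset.sum_congr rfl fun i _ => by ring

variable {G : Type u} [Group G] [Finite G] {z : G} {Q : Subgroup G} (D : Coord z Q) (F : PtFacts D.c)

/-- Commuting with an element of the fixed space in coordinates. -/
theorem Coord.commute_iff {w x : G} (hw : w ∈ D.lagW) (hx : x ∈ Q) :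
    (Commute w x ↔ hermForm 6 R4 2 (D.cl w) (D.cl x) + hermForm 6 R4 2 (D.cl x) (D.cl w) = 0) := by
  set t := hermForm 6 R4 2 (D.cl w) (D.cl x) + hermForm 6 R4 2 (D.cl x) (D.cl w) with ht
  have hww : hermForm 6 R4 2 (D.cl w) (D.cl w) = 0 := (D.cl_sq w hw.1).1 (D.lagW_sq hw)
  have hmul : hermForm 6 R4 2 (D.cl (w * x)) (D.cl (w * x)) = hermForm 6 R4 2 (D.cl x) (D.cl x) + t := by
    rw [D.cl_mul w hw.1 x hx, herm_expand, hww, zero_add]
  have hn : ∀ v : V6, hermForm 6 R4 2 v v = 0 ∨ hermForm 6 R4 2 v v = 1 := fun v =>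
    r4_norm _ (herm_conj v v).symm
  have hzero : (w * x * (w * x) = 1 ↔ x * x = 1) ↔ t = 0 := by
    rw [D.cl_sq _ (mul_mem hw.1 hx), D.cl_sq x hx, hmul]
    constructor
    · intro h
      rcases hn (D.cl (w * x)) with e | e <;> rw [hmul] at e <;> rcases hn (D.cl x) with e' | e' <;> rw [e'] at e h
      · rwa [zero_add] at e
      · exact absurd (h.1 e) (by decide)
      · rw [zero_add] at e
        exact absurd (by rw [zero_add, e] at h; exact h.2 rfl) (by decide)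
      · calc t = (1 + 1) + t := by rw [r4_self, zero_add]
          _ = 1 + (1 + t) := add_assoc _ _ _
          _ = 0 := by rw [e, r4_self]
    · intro h
      rw [h, add_zero]
  have hc : Commute w x ↔ (w * x * (w * x) = 1 ↔ x * x = 1) := by
    have hkey : Commute w x ↔ w * x * (w * x) = x * x := by
      constructor
      · intro h
        rw [mul_assoc w x, ← mul_assoc x w x, ← h.eq, ← mul_assoc w (w * x), ← mul_assoc w w, D.lagW_sq hw, one_mul]
      · intro h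
        have h' : w * x * w = x := mul_right_cancel (b := x) (by rw [mul_assoc (w * x)]; exact h)
        calc w * x = w * x * (w * w) := by rw [D.lagW_sq hw, mul_one]
          _ = w * x * w * w := by rw [mul_assoc (w * x) w w]
          _ = x * w := by rw [h']
    rw [hkey]
    constructor
    · intro h
      rw [h]
    · intro h
      rcases D.ctx.sq _ (mul_mem hw.1 hx) with e | e <;> rcases D.ctx.sq _ hx with e' | e' <;> rw [e, e'] at h ⊢
      · exact absurd (h.1 rfl) D.ctx.ne_one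
      · exact absurd (h.2 rfl) D.ctx.ne_one
  exact hc.trans hzero

/-- An element of order three acting as a scalar. -/
def Coord.IsSigma (n : ↥D.M) : Prop := D.π n = Zc ∧ (n : G) * n * n = 1

theorem Coord.sigma_nA {n : ↥D.M} (hn : D.IsSigma n) : (n : G) ∈ D.nA :=
  D.mem_nA_of_fix fun x hx => by rw [hn.1, Zc_smul]; exact (lagFacts D.c_lt).scal _ x hx

theorem Coord.sigma_Cst {n : ↥D.M} (hn : D.IsSigma n) {i j : Fin 6} {a : G} (ha : a ∈ D.Cst F i j) :
    (n : G) * a * (n : G)⁻¹ ∈ D.Cst F i j :=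
  D.conj_Cst F (D.sigma_nA hn) (by rw [hn.1]; exact Zc_comm _) ha

/-- A fixed element of the small part is central. -/
theorem Coord.sigma_W {n : ↥D.M} (hn : D.IsSigma n) {w : G} (hw : w ∈ D.lagW)
    (he : (n : G) * w * (n : G)⁻¹ = w) : w = 1 ∨ w = z := by
  have h := D.π_cl n w hw.1
  rw [he, hn.1, Zc_smul] at h
  have h2 : (om + 1) • D.cl w = 0 := by rw [add_smul, one_smul, ← h, v6_add_self]
  have h0 := (smul_eq_zero.1 h2).resolve_left tau_om.2.2.1
  rcases (D.cl_eq 1 (one_mem _) w hw.1).1 (by rw [D.cl_one, h0]) with e | e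
  · exact Or.inl e
  · exact Or.inr (e.trans (mul_one z))

include F in
/-- Every part has exactly one fixed element in the class. -/
theorem Coord.exists_base {g₀ s : G} (hw : D.Wit g₀ s) {n : ↥D.M} (hn : D.IsSigma n) {i j : Fin 6}
    (hij : i ≠ j) : ∃ e, (e ∈ D.Ts ∩ D.Cst F i j ∧ (n : G) * e * (n : G)⁻¹ = e) ∧
      ∀ e', e' ∈ D.Ts ∩ D.Cst F i j ∧ (n : G) * e' * (n : G)⁻¹ = e' → e' = e := by
  have : Fact (Nat.Prime 3) := ⟨Nat.prime_three⟩
  have hne : (n : G) ≠ 1 := fun e => Zc_ne (by rw [← hn.1, show n = 1 from Subtype.ext e, map_one])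
  have hord : orderOf (n : G) = 3 := orderOf_eq_prime (by rw [pow_three', hn.2]) hne
  obtain ⟨e, he, hfix⟩ := exists_fixed_of_not_dvd hord (S := D.Ts ∩ D.Cst F i j)
    (fun a ha => ⟨D.nA_Ts (D.sigma_nA hn) ha.1, D.sigma_Cst F hn ha.2⟩)
    (by rw [(D.class_sizes F hw).2.2.2 i j hij]; norm_num)
  refine ⟨e, ⟨he, hfix⟩, fun e' ⟨he', hfix'⟩ => ?_⟩
  have hW := D.Cst_div F he.2 he'.2
  rcases D.sigma_W hn hW (by
    rw [show (n : G) * (e⁻¹ * e') * (n : G)⁻¹ = ((n : G) * e * (n : G)⁻¹)⁻¹ * ((n : G) * e' * (n : G)⁻¹) by group,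
      hfix, hfix']) with h | h
  · exact (inv_mul_eq_one.1 h).symm
  · exfalso
    refine D.Ts_zmul F hw hij he ?_
    have e2 : z * e = e' := by
      rw [(D.lag_comm D.z_lagC he.1.1).eq]
      calc e * z = e * (e⁻¹ * e') := congrArg (e * ·) h.symm
        _ = e' := mul_inv_cancel_left e e'
    exact e2 ▸ he'.1

/-- Conjugation by an element of the extraspecial group changes an element of a part by the small part. -/
theorem Coord.Q_shift {i j : Fin 6} {d x : G} (hd : d ∈ D.Cst F i j) (hx : x ∈ Q) :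
    ∃ w ∈ D.lagW, x * d * x⁻¹ = d * w ∧ D.cl w = F.U i j • D.cl x + D.cl x := by
  obtain ⟨hA, hπ⟩ := hd
  refine ⟨d⁻¹ * (x * d * x⁻¹), D.Cst_div F ⟨hA, hπ⟩ (D.Q_Cst F hx ⟨hA, hπ⟩), (mul_inv_cancel_left _ _).symm, ?_⟩
  have hdd : d⁻¹ = d := inv_eq_of_mul_eq_one_right (D.lagC_elem d hA)
  have h1 : d * x * d⁻¹ ∈ Q := conj_mem D.ctx (commute_of_mem_cent (D.lag_le hA)) hx
  rw [show d⁻¹ * (x * d * x⁻¹) = d⁻¹ * x * d * x⁻¹ by group,
    show d⁻¹ * x * d * x⁻¹ = d * x * d⁻¹ * x⁻¹ by rw [hdd],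
    D.cl_mul _ h1 _ (inv_mem hx), D.cl_inv hx, show d * x * d⁻¹ = ((⟨d, hA.1⟩ : ↥D.M) : G) * x * ((⟨d, hA.1⟩ : ↥D.M) : G)⁻¹ from rfl,
    D.π_cl _ x hx, hπ]

/-- The chosen lift of a point of a line. -/
def Coord.Sel (n : ↥D.M) (i : Fin 6) (a : R4) (w : G) : Prop :=
  w ∈ D.lagW ∧ D.cl w = a • F.L i ∧
    if a = 0 then w = 1 else
      w * ((n : G) * w * (n : G)⁻¹) * ((n : G) * ((n : G) * w * (n : G)⁻¹) * (n : G)⁻¹) = z

include F in
theorem Coord.Sel_unique {n : ↥D.M} {i : Fin 6} {a : R4} {w w' : G} (h : D.Sel F n i a w) (h' : D.Sel F n i a w') :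
    w = w' := by
  obtain ⟨hw, hc, hs⟩ := h
  obtain ⟨hw', hc', hs'⟩ := h'
  split_ifs at hs hs' with ha
  · rw [hs, hs']
  · rcases (D.cl_eq w hw.1 w' hw'.1).1 (hc.trans hc'.symm) with e | e
    · exact e.symm
    · exfalso
      subst e
      have hnz : (n : G) * z * (n : G)⁻¹ = z := by rw [(D.m_comm n).eq, mul_inv_cancel_right]
      set u := (n : G) * w * (n : G)⁻¹ with hu
      set v := (n : G) * u * (n : G)⁻¹ with hv
      have hzu : (n : G) * (z * w) * (n : G)⁻¹ = z * u := by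
        rw [show (n : G) * (z * w) * (n : G)⁻¹ = (n : G) * z * (n : G)⁻¹ * u by rw [hu]; group, hnz]
      have hzv : (n : G) * (z * u) * (n : G)⁻¹ = z * v := by
        rw [show (n : G) * (z * u) * (n : G)⁻¹ = (n : G) * z * (n : G)⁻¹ * v by rw [hv]; group, hnz]
      rw [hzu, hzv] at hs'
      have huQ : u ∈ Q := conj_mem D.ctx (D.m_comm n) hw.1
      have cu : Commute z u := D.ctx.central u huQ
      have cw : Commute z w := D.ctx.central w hw.1
      have e1 : z * w * (z * u) * (z * v) = z * (w * u * v) := by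
        rw [show z * w * (z * u) = (w * u) by
          rw [cw.eq, mul_assoc w z, ← mul_assoc z z, D.ctx.sq_z, one_mul]]
        rw [show w * u * (z * v) = w * u * z * v from (mul_assoc _ _ _).symm,
          ← (cw.mul_right cu).eq, mul_assoc]
      rw [e1, hs] at hs'
      exact D.ctx.ne_one (mul_eq_left.1 hs')

include F in
/-- The lifts make the base elements into elements of the class. -/
theorem Coord.exists_Sel {g₀ s : G} (hw : D.Wit g₀ s) {n : ↥D.M} (hn : D.IsSigma n) {i j : Fin 6} (hij : i ≠ j)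
    {e : G} (he : e ∈ D.Ts ∩ D.Cst F i j) (hfix : (n : G) * e * (n : G)⁻¹ = e) (a : R4) :
    ∃ w, D.Sel F n i a w ∧ e * w ∈ D.Ts := by
  classical
  obtain ⟨y0, hy0, hh1, hh0⟩ := F.U_pre i j hij
  have hcomm : ∀ b : R4, ∃ x ∈ Q, ∃ w ∈ D.lagW, D.cl x = b • y0 ∧ x * e * x⁻¹ = e * w ∧ D.cl w = b • F.L i ∧
      e * w ∈ D.Ts := by
    intro b
    obtain ⟨x, hx, hxc⟩ := D.cl_surj (b • y0)
    obtain ⟨w, hw', hew, hwc⟩ := D.Q_shift F he.2 hx
    refine ⟨x, hx, w, hw', hxc, hew, ?_, hew ▸ D.nA_Ts (D.Q_le_nA hx) he.1⟩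
    rw [hwc, hxc, g6_scalar, ← smul_add, hy0]
  choose x hxQ w hwW hxc hew hwc hwT using hcomm
  have huniq : ∀ b : R4, ∀ w' ∈ D.lagW, D.cl w' = b • F.L i → e * w' ∈ D.Ts → w' = w b := by
    intro b w' hw' hc hT
    rcases (D.cl_eq (w b) (hwW b).1 w' hw'.1).1 ((hwc b).trans hc.symm) with h | h
    · exact h
    · exfalso
      rw [h, ← mul_assoc, ← (D.lag_comm D.z_lagC he.1.1).eq, mul_assoc] at hT
      exact D.Ts_zmul F hw hij ⟨hwT b, D.Cst_mul F he.2 (hwW b)⟩ hT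
  have hw0 : w 0 = 1 := (huniq 0 1 (one_mem _) (by rw [D.cl_one, zero_smul]) (by rw [mul_one]; exact he.1)).symm
  refine ⟨w a, ⟨hwW a, hwc a, ?_⟩, hwT a⟩
  split_ifs with ha
  · rw [ha, hw0]
  have hσ : ∀ b, (n : G) * w b * (n : G)⁻¹ = w (om * b) := by
    intro b
    refine huniq _ _ ((D.lag_norm (fun x hx => by rw [hn.1, Zc_smul]; exact (lagFacts D.c_lt).scal _ x hx)).1 _ (hwW b))
      ?_ ?_
    · rw [D.π_cl n _ (hwW b).1, hn.1, Zc_smul, hwc, smul_smul]
    · have := D.nA_Ts (D.sigma_nA hn) (hwT b)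
      rwa [show (n : G) * (e * w b) * (n : G)⁻¹ = (n : G) * e * (n : G)⁻¹ * ((n : G) * w b * (n : G)⁻¹) by group,
        hfix] at this
  have hadd : ∀ b b' : R4, b ≠ 0 → b' ≠ 0 → b ≠ b' → w (b + b') = w b * w b' * z := by
    intro b b' hb hb' hne
    have hnc : ¬ Commute (w b) (x b') := by
      intro hc
      have h := (D.commute_iff (hwW b) (hxQ b')).1 hc
      rw [hwc, hxc, herm_smul_smul, herm_smul_smul, hh1, herm_conj (F.L i) y0, hh1, one_pow, mul_one, mul_one,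
        r4_trace b b' hb hb' hne] at h
      exact one_ne_zero h
    have hzc : x b' * w b * (x b')⁻¹ = z * w b := by
      rcases D.ctx.comm (x b') (hxQ b') (w b) (hwW b).1 with h | h
      · exact absurd (Commute.symm (mul_inv_eq_iff_eq_mul.1 (mul_inv_eq_one.1 h))) hnc
      · exact eq_mul_of_mul_inv_eq h
    have hW : w b * w b' * z ∈ D.lagW := mul_mem (mul_mem (hwW b) (hwW b')) D.z_lagW
    refine (huniq _ _ hW ?_ ?_).symm
    · rw [← (D.ctx.central _ (mul_mem (hwW b).1 (hwW b').1)).eq, D.cl_z_mul (mul_mem (hwW b).1 (hwW b').1),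
        D.cl_mul _ (hwW b).1 _ (hwW b').1, hwc, hwc, add_smul]
    · have hT := D.nA_Ts (D.Q_le_nA (hxQ b')) (hwT b)
      rw [show x b' * (e * w b) * (x b')⁻¹ = x b' * e * (x b')⁻¹ * (x b' * w b * (x b')⁻¹) by group, hew, hzc] at hT
      rwa [show e * (w b * w b' * z) = e * w b' * (z * w b) by
        rw [(D.lagW_comm (hwW b) (hwW b')).eq, (D.ctx.central _ (hwW b).1).eq]; group]
  rw [hσ, hσ]
  have hom : ∀ a : R4, a ≠ 0 → om * a ≠ 0 ∧ a ≠ om * a ∧ om * (om * a) = a + om * a := by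
    show ∀ a : R4, a ≠ 0 → elE 1 * a ≠ 0 ∧ a ≠ elE 1 * a ∧ elE 1 * (elE 1 * a) = a + elE 1 * a
    decide +kernel
  obtain ⟨h1, h2, h3⟩ := hom a ha
  rw [h3, hadd a _ ha h1 h2, ← mul_assoc, D.lagW_sq (mul_mem (hwW a) (hwW _)), one_mul]

/-- The twenty-four points. -/
abbrev Pt24 : Type := Fin 6 × R4

/-- A map of the points whose products over the pairs are the class. -/
structure Frame where
  /-- The map. -/
  f : Pt24 → G
  mem : ∀ p, f p ∈ D.lagC
  pair : ∀ p q, p ≠ q → f p * f q ∈ D.Ts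
  surj : ∀ d ∈ D.Ts, ∃ p q, p ≠ q ∧ f p * f q = d
  gen : D.lagC ≤ Subgroup.closure D.Ts

end Cfsg.Lib.FischerLarge
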