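import Cfsg.Agent.Lib.FischerLarge.PointsCount

/-!
# One class of the other involutions in the normaliser, and the number of their sums in the class
-/

set_option autoImplicit false

namespace Cfsg.Lib.FischerLarge

open Cfsg Cfsg.Lib.SUSixU43 Cfsg.Lib.Extra

universe u

/-- Orbits of conjugation. -/
theorem conj_orbit_card {G : Type*} [Group G] [Finite G] (H : Subgroup G) (a : G) :
    Nat.card ↥(H ⊓ Subgroup.centralizer ({a} : Set G)) * {b | ∃ h ∈ H, h * a * h⁻¹ = b}.ncard = Nat.card ↥H := by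
  let _ : MulAction ↥H G :=
    { smul := fun n a => (n : G) * a * (n : G)⁻¹
      one_smul := fun a => by show (1 : G) * a * (1 : G)⁻¹ = a; group
      mul_smul := fun p q a => by
        show (p : G) * q * a * ((p : G) * q)⁻¹ = p * (q * a * (q : G)⁻¹) * (p : G)⁻¹
        group }
  have horb : MulAction.orbit ↥H a = {b | ∃ h ∈ H, h * a * h⁻¹ = b} := by
    ext b
    exact ⟨fun ⟨n, e⟩ => ⟨n, n.2, e⟩, fun ⟨n, hn, e⟩ => ⟨⟨n, hn⟩, e⟩⟩
  have h := (MulAction.stabilizer ↥H a).card_mul_index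
  rw [MulAction.index_stabilizer, horb] at h
  rw [← h]
  congr 1
  exact (Nat.card_congr
    { toFun := fun n => ⟨((n : ↥H) : G), (n : ↥H).2, mem_cent_of_commute
        (mul_inv_eq_iff_eq_mul.1 (MulAction.mem_stabilizer_iff.1 n.2))⟩
      invFun := fun n => ⟨⟨n, n.2.1⟩, MulAction.mem_stabilizer_iff.2 (by
        show (n : G) * a * (n : G)⁻¹ = a
        rw [(commute_of_mem_cent n.2.2).eq, mul_inv_cancel_right])⟩
      left_inv := fun _ => rfl
      right_inv := fun _ => rfl }).symm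

/-- Fixed points of an element of prime order acting by conjugation on a set. -/
theorem exists_fixed_of_not_dvd {G : Type*} [Group G] [Finite G] {p : ℕ} [Fact p.Prime] {m : G} (hord : orderOf m = p)
    {S : Set G} (hS : ∀ a ∈ S, m * a * m⁻¹ ∈ S) (hne : ¬ p ∣ S.ncard) : ∃ a ∈ S, m * a * m⁻¹ = a := by
  have hk : ∀ (k : ℕ), ∀ a ∈ S, m ^ k * a * (m ^ k)⁻¹ ∈ S := by
    intro k
    induction k with
    | zero => intro a ha; simpa using ha
    | succ k ih =>
      intro a ha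
      rw [show m ^ (k + 1) * a * (m ^ (k + 1))⁻¹ = m ^ k * (m * a * m⁻¹) * (m ^ k)⁻¹ by rw [pow_succ]; group]
      exact ih _ (hS a ha)
  have hmem : ∀ q : ↥(Subgroup.zpowers m), ∀ a ∈ S, (q : G) * a * (q : G)⁻¹ ∈ S := by
    intro q a ha
    obtain ⟨k, hk'⟩ := (isOfFinOrder_of_finite m).mem_powers_iff_mem_zpowers.2 q.2
    rw [← hk']
    exact hk k a ha
  let _ : MulAction ↥(Subgroup.zpowers m) ↥S :=
    { smul := fun q a => ⟨(q : G) * a * (q : G)⁻¹, hmem q a a.2⟩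
      one_smul := fun a => Subtype.ext (by show (1 : G) * a * (1 : G)⁻¹ = a; group)
      mul_smul := fun p q a => Subtype.ext (by
        show (p : G) * q * a * ((p : G) * q)⁻¹ = p * (q * a * (q : G)⁻¹) * (p : G)⁻¹
        group) }
  have hpG : IsPGroup p ↥(Subgroup.zpowers m) :=
    IsPGroup.of_card (n := 1) (by rw [Nat.card_zpowers, hord, pow_one])
  obtain ⟨⟨a, ha⟩, hfix⟩ :=
    hpG.nonempty_fixed_point_of_prime_not_dvd_card ↥S (by rwa [Nat.card_coe_set_eq])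
  exact ⟨a, ha, congrArg Subtype.val (hfix ⟨m, Subgroup.mem_zpowers m⟩)⟩

/-- A set closed under a fixed point free involution has even size. -/
theorem even_of_invol {α : Type*} [Finite α] {S : Set α} (σ : α → α) (hmem : ∀ a ∈ S, σ a ∈ S)
    (hinv : ∀ a, σ (σ a) = a) (hne : ∀ a, σ a ≠ a) : Even S.ncard := by
  classical
  have := Fintype.ofFinite α
  rw [Set.ncard_eq_toFinset_card' S, even_iff_two_dvd, ← ZMod.natCast_eq_zero_iff]
  have h : ∑ _a ∈ S.toFinset, (1 : ZMod 2) = 0 :=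
    Finset.sum_involution (fun a _ => σ a) (fun _ _ => rfl) (fun a _ _ => hne a)
      (fun a ha => by simpa using hmem a (by simpa using ha)) fun a _ => hinv a
  rw [Finset.sum_const, nsmul_eq_mul, mul_one] at h
  exact h

theorem conj_invol {G : Type*} [Group G] {x : G} : ∀ a b : G, x * a * x⁻¹ = x * b * x⁻¹ → a = b :=
  fun _ _ e => mul_left_cancel (mul_right_cancel e)

variable {G : Type u} [Group G] [Finite G] {z : G} {Q : Subgroup G} (D : Coord z Q) (F : PtFacts D.c)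

theorem Coord.cl_inv {a : G} (ha : a ∈ Q) : D.cl a⁻¹ = D.cl a := by
  have h := D.cl_mul a ha _ (inv_mem ha)
  rw [mul_inv_cancel, D.cl_one] at h
  calc D.cl a⁻¹ = D.cl a + D.cl a + D.cl a⁻¹ := by rw [v6_add_self, zero_add]
    _ = D.cl a + (D.cl a + D.cl a⁻¹) := add_assoc _ _ _
    _ = D.cl a := by rw [← h, add_zero]

theorem Coord.small_not_conj {a : G} (ha : a ∈ Q) (hA : D.cl a ∈ D.A) : ¬ IsConj z a := fun h => by
  have hne : a ≠ z := fun e => (D.orb.sing _ (Or.inl hA)).1 (by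
    have := D.cl_z_mul (one_mem Q)
    rw [mul_one, D.cl_one] at this
    rw [e, this])
  exact D.orb.disj _ hA (D.B_of_class ha hne h)

omit [Finite G] in
theorem Coord.line_small {i : Fin 6} {a : R4} (ha : a ≠ 0) : a • F.L i ∈ D.A := D.A_eq ▸ F.L_small i a ha

theorem Coord.line_Ts {i : Fin 6} {a : R4} (ha : a ≠ 0) {w : G} (hw : w ∈ D.lagW) (e : D.cl w = a • F.L i) :
    w ∈ D.Ts := by
  refine ⟨D.lagW_le_C hw, fun h => ?_, D.small_not_conj hw.1 (e ▸ D.line_small F ha)⟩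
  have := D.line_small F (i := i) ha
  rw [← e, h, D.cl_one] at this
  exact (D.orb.sing _ (Or.inl this)).1 rfl

theorem Coord.W_Ts_line {g₀ s : G} (hw : D.Wit g₀ s) {d : G} (hd : d ∈ D.Ts) (hdQ : d ∈ Q) :
    d ∈ D.lagW ∧ ∃ i, ∃ a : R4, a ≠ 0 ∧ D.cl d = a • F.L i := by
  have hdW : d ∈ D.lagW := D.lagC_Q ▸ ⟨hd.1, hdQ⟩
  refine ⟨hdW, ?_⟩
  rcases F.cover _ hdW.2 with h | h | ⟨i, a, ha, e⟩
  · rcases (D.cl_eq 1 (one_mem _) d hdQ).1 (by rw [D.cl_one, h]) with e | e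
    · exact absurd e hd.2.1
    · rw [mul_one] at e
      exact absurd (e ▸ IsConj.refl z) hd.2.2
  · exact absurd (D.class_B hw hdQ (D.B_eq ▸ h)) hd.2.2
  · exact ⟨i, a, ha, e⟩

include F in
/-- The part over a pair is one orbit. -/
theorem Coord.Ts_orbit {g₀ s : G} (hw : D.Wit g₀ s) {i j : Fin 6} (hij : i ≠ j) {d : G}
    (hd : d ∈ D.Ts ∩ D.Cst F i j) : {b | ∃ q ∈ Q, q * d * q⁻¹ = b} = D.Ts ∩ D.Cst F i j := by
  have hsub : {b | ∃ q ∈ Q, q * d * q⁻¹ = b} ⊆ D.Ts ∩ D.Cst F i j := by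
    rintro _ ⟨q, hq, rfl⟩
    exact ⟨D.nA_Ts (D.Q_le_nA hq) hd.1, D.Q_Cst F hq hd.2⟩
  refine Set.eq_of_subset_of_ncard_le hsub ?_ (Set.toFinite _)
  rw [(D.class_sizes F hw).2.2.2 i j hij]
  refine Nat.le_of_dvd ((Set.ncard_pos (Set.toFinite _)).2 ⟨d, 1, one_mem _, by group⟩)
    (D.sixteen_dvd F ?_ hij fun b hb => (hsub hb).2)
  rintro q hq _ ⟨p, hp, rfl⟩
  exact ⟨q * p, mul_mem hq hp, by group⟩

/-- The elements of the extraspecial group fixed modulo the centre. -/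
noncomputable def Coord.fixQ (g : G6) : Subgroup G where
  carrier := {q | q ∈ Q ∧ g • D.cl q = D.cl q}
  one_mem' := ⟨one_mem _, by
    rw [D.cl_one]
    have := g6_add g 0 0
    rw [add_zero] at this
    exact left_eq_add.1 this⟩
  mul_mem' := fun {a b} ha hb => ⟨mul_mem ha.1 hb.1, by rw [D.cl_mul a ha.1 b hb.1, g6_add, ha.2, hb.2]⟩
  inv_mem' := fun {a} ha => ⟨inv_mem ha.1, by rw [D.cl_inv ha.1]; exact ha.2⟩

include F in
/-- The centre moves the class to the other class outside the extraspecial group. -/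
theorem Coord.Ts_zmul {g₀ s : G} (hw : D.Wit g₀ s) {i j : Fin 6} (hij : i ≠ j) {d : G}
    (hd : d ∈ D.Ts ∩ D.Cst F i j) : z * d ∉ D.Ts := by
  intro hzd
  have hdz : z * d ∈ D.Ts ∩ D.Cst F i j := by
    refine ⟨hzd, ?_⟩
    have := D.Cst_mul F hd.2 D.z_lagW
    rwa [← (D.lag_comm D.z_lagC hd.1.1).eq] at this
  obtain ⟨q, hq, e⟩ : z * d ∈ {b | ∃ q ∈ Q, q * d * q⁻¹ = b} := (D.Ts_orbit F hw hij hd).symm ▸ hdz
  have hcard := conj_orbit_card Q d
  rw [D.Ts_orbit F hw hij hd, (D.class_sizes F hw).2.2.2 i j hij, D.cardQ] at hcard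
  obtain ⟨hA, hπ⟩ := hd.2
  have hK : ∀ x ∈ Q, D.cl (d * x * d⁻¹) = D.cl x → x ∈ D.fixQ (F.U i j) := fun x hx h =>
    ⟨hx, by rw [← hπ, ← D.π_cl ⟨d, hA.1⟩ x hx]; exact h⟩
  have hCK : Q ⊓ Subgroup.centralizer ({d} : Set G) ≤ D.fixQ (F.U i j) := fun x hx =>
    hK x hx.1 (by rw [← (commute_of_mem_cent hx.2).eq, mul_inv_cancel_right])
  have h2 : Nat.card ↥(D.fixQ (F.U i j)) ≤ 512 := by
    have h1 := (D.card_le_image (A := D.fixQ (F.U i j)) fun x hx => hx.1).1
    have hU := F.U_mem i j hij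
    have h2 := invol_fix D.c_lt (fourSet_syl D.c_lt hU) (F.U_ne i j hij)
      (fixer_sq D.c_lt ((lagFacts D.c_lt).four_fix _ hU))
    have h3 : (D.cl '' (D.fixQ (F.U i j) : Set G)).ncard ≤ {x : V6 | F.U i j • x = x}.ncard :=
      Set.ncard_le_ncard (by rintro _ ⟨x, hx, rfl⟩; exact hx.2) (Set.toFinite _)
    omega
  have heq : Q ⊓ Subgroup.centralizer ({d} : Set G) = D.fixQ (F.U i j) :=
    Subgroup.eq_of_le_of_card_ge hCK (by omega)
  have hdd : d⁻¹ = d := inv_eq_of_mul_eq_one_right (D.lagC_elem d hA)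
  have hqd : d * q * d⁻¹ = z * q := by
    have h' : q * d = z * d * q := by rw [← e]; group
    rw [hdd, mul_assoc d q d, h', ← mul_assoc, ← mul_assoc, ← (D.lag_comm D.z_lagC hA).eq, mul_assoc z d d,
      D.lagC_elem d hA, mul_one]
  have hqc : q ∈ Q ⊓ Subgroup.centralizer ({d} : Set G) :=
    heq.symm ▸ hK q hq (by rw [hqd, D.cl_z_mul hq])
  rw [(commute_of_mem_cent hqc.2).eq, mul_inv_cancel_right] at e
  exact D.ctx.ne_one (mul_eq_right.1 e.symm)

include F in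
/-- The other involutions form one class in the normaliser. -/
theorem Coord.Ts_trans {g₀ s : G} (hw : D.Wit g₀ s) {d d' : G} (hd : d ∈ D.Ts) (hd' : d' ∈ D.Ts) :
    ∃ n ∈ D.nA, n * d * n⁻¹ = d' := by
  classical
  set O : Set G := {b | ∃ n ∈ D.nA, n * d * n⁻¹ = b} with hO
  have hOT : O ⊆ D.Ts := by rintro _ ⟨n, hn, rfl⟩; exact D.nA_Ts hn hd
  have hOinv : ∀ n ∈ D.nA, ∀ a ∈ O, n * a * n⁻¹ ∈ O := by
    rintro n hn _ ⟨m, hm, rfl⟩
    exact ⟨n * m, mul_mem hn hm, by group⟩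
  obtain ⟨hX, hT, hW, hC⟩ := D.class_sizes F hw
  have : Fact (Nat.Prime 23) := ⟨by norm_num⟩
  obtain ⟨⟨m, hm⟩, ho⟩ := exists_prime_orderOf_dvd_card' (G := ↥D.nA) 23
    ((show 23 ∣ D.Xs.ncard by rw [hX]; norm_num).trans (Dvd.intro _ (D.card_Xs_mul hw)))
  rw [Subgroup.orderOf_mk] at ho
  obtain ⟨f, hf, h23, hcard⟩ := D.prime_fixed hw F (p := 23) (by norm_num) hm ho
  rw [mersenne_23 f hf h23, pow_zero] at hcard
  have hdvd : 23 ∣ O.ncard := by
    by_contra hne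
    obtain ⟨a, haO, ha⟩ := exists_fixed_of_not_dvd ho (hOinv m hm) hne
    have : a ∈ D.lagC ⊓ Subgroup.centralizer ({m} : Set G) :=
      ⟨(hOT haO).1, mem_cent_of_commute (Commute.symm (mul_inv_eq_iff_eq_mul.1 ha))⟩
    rw [Subgroup.eq_bot_of_card_eq _ hcard] at this
    exact (hOT haO).2.1 this
  have heven : Even (O ∩ Q).ncard := by
    refine even_of_invol (fun a => z * a) (fun a ha => ⟨?_, mul_mem D.ctx.mem ha.2⟩)
      (fun a => by rw [← mul_assoc, D.ctx.sq_z, one_mul]) fun a e => D.ctx.ne_one (mul_eq_right.1 e)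
    have hT' := hOT ha.1
    have hne1 : a ≠ z := fun e => hT'.2.2 (e ▸ IsConj.refl z)
    obtain ⟨q, hq, hqa⟩ : ∃ q ∈ Q, ¬ Commute a q := by
      by_contra hall
      push Not at hall
      rcases D.ctx.cent a hall with e | e
      exacts [hT'.2.1 e, hne1 e]
    have e : q * a * q⁻¹ = z * a := by
      rcases D.ctx.comm q hq a ha.2 with h | h
      · exact absurd (Commute.symm (mul_inv_eq_iff_eq_mul.1 (mul_inv_eq_one.1 h))) hqa
      · exact eq_mul_of_mul_inv_eq h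
    show z * a ∈ O
    rw [← e]
    exact hOinv q (D.Q_le_nA hq) a ha.1
  have hsplit := Set.ncard_inter_add_ncard_sdiff_eq_ncard O (Q : Set G) (Set.toFinite _)
  have hTsplit := Set.ncard_inter_add_ncard_sdiff_eq_ncard D.Ts (Q : Set G) (Set.toFinite _)
  have eW : D.Ts ∩ ↑D.lagW = D.Ts ∩ ↑Q := by
    ext a
    exact ⟨fun h => ⟨h.1, h.2.1⟩, fun h => ⟨h.1, D.lagC_Q ▸ ⟨h.1.1, h.2⟩⟩⟩
  rw [eW] at hW
  suffices hall : O = D.Ts by exact hall ▸ hd' |> fun h => (h : d' ∈ O)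
  by_cases hmeet : ∃ a ∈ O, a ∉ Q
  · obtain ⟨a, haO, haQ⟩ := hmeet
    obtain ⟨i, j, hij, hai⟩ := (D.pair_cases F (hOT haO).1).resolve_left haQ
    have hfull : ∀ k l, k ≠ l → D.Ts ∩ D.Cst F k l ⊆ O := by
      intro k l hkl b hb
      have e1 := D.card_pairs F O hOinv hkl
      have e2 := D.card_pairs F O hOinv hij
      have hpos : 0 < (O ∩ D.Cst F k l).ncard := by
        rw [e1, ← e2]
        exact (Set.ncard_pos (Set.toFinite _)).2 ⟨a, haO, hai⟩
      obtain ⟨c, hcO, hcC⟩ := (Set.ncard_pos (Set.toFinite _)).1 hpos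
      rw [← D.Ts_orbit F hw hkl ⟨hOT hcO, hcC⟩] at hb
      obtain ⟨q, hq, rfl⟩ := hb
      exact hOinv q (D.Q_le_nA hq) c hcO
    have hdiff : D.Ts \ ↑Q = O \ ↑Q := by
      refine Set.Subset.antisymm (fun b hb => ⟨?_, hb.2⟩) fun b hb => ⟨hOT hb.1, hb.2⟩
      obtain ⟨k, l, hkl, hbk⟩ := (D.pair_cases F hb.1.1).resolve_left hb.2
      exact hfull k l hkl ⟨hb.1, hbk⟩
    have hle : (O ∩ ↑Q).ncard ≤ 36 := by
      rw [← hW]
      exact Set.ncard_le_ncard (fun b hb => ⟨hOT hb.1, hb.2⟩) (Set.toFinite _)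
    rw [hdiff] at hTsplit
    obtain ⟨t, ht⟩ := heven
    exact Set.eq_of_subset_of_ncard_le hOT (by omega) (Set.toFinite _)
  · exfalso
    push Not at hmeet
    have h0 : O \ ↑Q = ∅ := Set.sdiff_eq_empty.2 hmeet
    have hle : (O ∩ ↑Q).ncard ≤ 36 := by
      rw [← hW]
      exact Set.ncard_le_ncard (fun b hb => ⟨hOT hb.1, hb.2⟩) (Set.toFinite _)
    have hpos : 0 < O.ncard := (Set.ncard_pos (Set.toFinite _)).2 ⟨d, 1, one_mem _, by group⟩
    rw [h0, Set.ncard_empty] at hsplit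
    obtain ⟨t, ht⟩ := heven
    omega

/-- The members with product in the class. -/
def Coord.nbrs (d : G) : Set G := {d' | d' ∈ D.Ts ∧ d * d' ∈ D.Ts}

include F in
/-- Each of the other involutions has forty-four neighbours. -/
theorem Coord.card_nbrs {g₀ s : G} (hw : D.Wit g₀ s) {d : G} (hd : d ∈ D.Ts) : (D.nbrs d).ncard = 44 := by
  classical
  have := Fintype.ofFinite G
  obtain ⟨hX, hT, hW, hC⟩ := D.class_sizes F hw
  have hz36 : {a | a ∈ D.Ts ∧ z * a ∈ D.Ts}.ncard = 36 := by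
    rw [← hW]
    congr 1
    ext a
    refine ⟨fun ⟨ha, hza⟩ => ⟨ha, ?_⟩, fun ⟨ha, haW⟩ => ⟨ha, ?_⟩⟩
    · rcases D.pair_cases F ha.1 with h | ⟨i, j, hij, h⟩
      · exact D.lagC_Q ▸ ⟨ha.1, h⟩
      · exact absurd hza (D.Ts_zmul F hw hij ⟨ha, h⟩)
    · obtain ⟨-, i, a', ha', e⟩ := D.W_Ts_line F hw ha haW.1
      exact D.line_Ts F ha' (mul_mem D.z_lagW haW) (by rw [D.cl_z_mul haW.1, e])
  have hx36 : ∀ x ∈ D.Xs, {a | a ∈ D.Ts ∧ x * a ∈ D.Ts}.ncard = 36 := by
    intro x hx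
    obtain ⟨n, hn, rfl⟩ := D.conj_max hw hx
    rw [← hz36, ← Set.ncard_image_of_injective {a | a ∈ D.Ts ∧ z * a ∈ D.Ts}
      (f := fun a => n * a * n⁻¹) fun a b e => conj_invol a b e]
    congr 1
    ext b
    constructor
    · rintro ⟨hb, hxb⟩
      refine ⟨n⁻¹ * b * n, ⟨?_, ?_⟩, by group⟩
      · simpa using D.nA_Ts (inv_mem hn) hb
      · have := D.nA_Ts (inv_mem hn) hxb
        rwa [show n⁻¹ * (n * z * n⁻¹ * b) * n⁻¹⁻¹ = z * (n⁻¹ * b * n) by group] at this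
    · rintro ⟨a, ⟨ha, hza⟩, rfl⟩
      refine ⟨D.nA_Ts hn ha, ?_⟩
      rw [show n * z * n⁻¹ * (n * a * n⁻¹) = n * (z * a) * n⁻¹ by group]
      exact D.nA_Ts hn hza
  let K : G → Finset G := fun a => Finset.univ.filter fun b => b ∈ D.Ts ∧ a * b ∈ D.Xs
  have hKc : ∀ a ∈ D.Ts, ∀ b ∈ D.Ts, (K a).card = (K b).card := by
    intro a ha b hb
    obtain ⟨n, hn, rfl⟩ := D.Ts_trans F hw ha hb
    refine Finset.card_bij (fun c _ => n * c * n⁻¹) (fun c hc => ?_) (fun c _ c' _ e => conj_invol c c' e)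
      fun c hc => ⟨n⁻¹ * c * n, ?_, by group⟩
    · simp only [K, Finset.mem_filter, Finset.mem_univ, true_and] at hc ⊢
      refine ⟨D.nA_Ts hn hc.1, ?_⟩
      rw [show n * a * n⁻¹ * (n * c * n⁻¹) = n * (a * c) * n⁻¹ by group]
      exact D.nA_Xs hn hc.2
    · simp only [K, Finset.mem_filter, Finset.mem_univ, true_and] at hc ⊢
      refine ⟨by simpa using D.nA_Ts (inv_mem hn) hc.1, ?_⟩
      have := D.nA_Xs (inv_mem hn) hc.2
      rwa [show n⁻¹ * (n * a * n⁻¹ * c) * n⁻¹⁻¹ = a * (n⁻¹ * c * n) by group] at this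
  have hsum : ∑ a ∈ D.Ts.toFinset, (K a).card = 1771 * 36 := by
    rw [← Finset.card_sigma]
    refine Eq.trans ?_ (show (D.Xs.toFinset.sigma fun x => ({a | a ∈ D.Ts ∧ x * a ∈ D.Ts} : Set G).toFinset).card
      = 1771 * 36 from ?_)
    · refine Finset.card_bij (fun p _ => ⟨p.1 * p.2, p.1⟩) (fun p hp => ?_) (fun p hp q hq e => ?_)
        fun p hp => ⟨⟨p.2, p.2 * p.1⟩, ?_, ?_⟩
      · simp only [K, Finset.mem_sigma, Set.mem_toFinset, Finset.mem_filter, Finset.mem_univ, true_and,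
          Set.mem_ofPred_eq] at hp ⊢
        refine ⟨hp.2.2, hp.1, ?_⟩
        rw [(D.lag_comm hp.1.1 hp.2.1.1).eq, mul_assoc, D.lagC_elem _ hp.1.1, mul_one]
        exact hp.2.1
      · obtain ⟨a, b⟩ := p
        obtain ⟨a', b'⟩ := q
        simp only [Sigma.mk.injEq, heq_eq_eq] at e
        obtain ⟨e1, rfl⟩ := e
        simp only [mul_right_inj] at e1
        rw [e1]
      · simp only [K, Finset.mem_sigma, Set.mem_toFinset, Finset.mem_filter, Finset.mem_univ, true_and,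
          Set.mem_ofPred_eq] at hp ⊢
        refine ⟨hp.2.1, ?_, ?_⟩
        · rw [(D.lag_comm hp.2.1.1 hp.1.1).eq]
          exact hp.2.2
        · rw [← mul_assoc, D.lagC_elem _ hp.2.1.1, one_mul]
          exact hp.1
      · obtain ⟨x, a⟩ := p
        simp only [Finset.mem_sigma, Set.mem_toFinset, Set.mem_ofPred_eq] at hp
        simp only [Sigma.mk.injEq, heq_eq_eq, and_true]
        rw [← mul_assoc, D.lagC_elem _ hp.2.1.1, one_mul]
    · rw [Finset.card_sigma, Finset.sum_const_nat (m := 36) fun x hx => ?_, ← Set.ncard_eq_toFinset_card', hX]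
      rw [← Set.ncard_eq_toFinset_card']
      exact hx36 x (by simpa using hx)
  rw [Finset.sum_const_nat (m := (K d).card) fun a ha => hKc a (by simpa using ha) d hd,
    ← Set.ncard_eq_toFinset_card', hT] at hsum
  have hpart : D.Ts.toFinset = insert d ((K d) ∪ (D.nbrs d).toFinset) := by
    ext b
    simp only [K, Set.mem_toFinset, Finset.mem_insert, Finset.mem_union, Finset.mem_filter, Finset.mem_univ,
      true_and]
    constructor
    · intro hb
      by_cases e : b = d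
      · exact Or.inl e
      · refine Or.inr ?_
        have hA : d * b ∈ D.lagC := mul_mem hd.1 hb.1
        have h1 : d * b ≠ 1 := fun h => e (mul_left_cancel (h.trans (D.lagC_elem d hd.1).symm))
        by_cases hc : IsConj z (d * b)
        · exact Or.inl ⟨hb, hA, hc⟩
        · exact Or.inr ⟨hb, hA, h1, hc⟩
    · rintro (rfl | h | h)
      exacts [hd, h.1, h.1]
  have h := congrArg Finset.card hpart
  rw [Finset.card_insert_of_notMem, Finset.card_union_of_disjoint, ← Set.ncard_eq_toFinset_card',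
    ← Set.ncard_eq_toFinset_card', hT] at h
  · omega
  · rw [Finset.disjoint_left]
    intro a ha ha'
    simp only [K, Finset.mem_filter, Finset.mem_univ, true_and, Set.mem_toFinset] at ha ha'
    exact ha'.2.2.2 ha.2.2
  · simp only [K, Finset.mem_union, Finset.mem_filter, Finset.mem_univ, true_and, Set.mem_toFinset]
    rintro (h | h)
    · exact D.ctx.ne_one (isConj_one_left.1 (D.lagC_elem d hd.1 ▸ h.2.2))
    · exact h.2.2.1 (D.lagC_elem d hd.1)

end Cfsg.Lib.FischerLarge
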