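import Cfsg.Agent.Lib.FischerLarge.PointsFrame

/-!
# The products of the base elements along triangles and the frame of twenty-four points
-/

set_option autoImplicit false

namespace Cfsg.Lib.FischerLarge

open Cfsg Cfsg.Lib.SUSixU43 Cfsg.Lib.Extra

universe u

theorem six_rest : ∀ k l : Fin 6, k ≠ l → k ≠ 0 → k ≠ 1 → l ≠ 0 → l ≠ 1 → ∃ m n, [0, 1, k, l, m, n].Nodup := by
  decide

theorem six_pair : ∀ k l : Fin 6, k < l → (k = 0 ∧ l = 1) ∨ (k = 0 ∧ 1 < l) ∨ (k = 1 ∧ 1 < l) ∨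
    (k, l) ∈ ({(2, 3), (2, 4), (2, 5), (3, 4), (3, 5), (4, 5)} : Finset (Fin 6 × Fin 6)) := by decide

theorem six_third : ∀ i j : Fin 6, ∃ k, i ≠ k ∧ j ≠ k := by decide

theorem r4_eq_of_add_plus {a b : R4} (h : a + b = 0) : a = b :=
  calc a = a + (b + b) := by rw [r4_self, add_zero]
    _ = a + b + b := (add_assoc _ _ _).symm
    _ = b := by rw [h, zero_add]

theorem v6_eq_of_add_plus {x y : V6} (h : x + y = 0) : x = y :=
  calc x = x + (y + y) := by rw [v6_add_self, add_zero]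
    _ = x + y + y := (add_assoc _ _ _).symm
    _ = y := by rw [h, zero_add]

variable {G : Type u} [Group G] [Finite G] {z : G} {Q : Subgroup G} (D : Coord z Q) (F : PtFacts D.c)

/-- Base elements and lifts. -/
structure Base (n : ↥D.M) where
  /-- The base element of a pair. -/
  e : Fin 6 → Fin 6 → G
  /-- The lift of a point. -/
  w : Fin 6 → R4 → G
  e_mem : ∀ i j, i ≠ j → e i j ∈ D.Ts ∩ D.Cst F i j
  e_fix : ∀ i j, i ≠ j → (n : G) * e i j * (n : G)⁻¹ = e i j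
  e_uniq : ∀ i j, i ≠ j → ∀ x ∈ D.Ts ∩ D.Cst F i j, (n : G) * x * (n : G)⁻¹ = x → x = e i j
  w_sel : ∀ i a, D.Sel F n i a (w i a)
  ew : ∀ i j, i ≠ j → ∀ a, e i j * w i a ∈ D.Ts

variable {g₀ s : G} (hw : D.Wit g₀ s) {n : ↥D.M} (hn : D.IsSigma n)
include hw hn

theorem Coord.exists_Base : Nonempty (Base D F n) := by
  classical
  have hb := fun i j (h : i ≠ j) => D.exists_base F hw hn h
  choose e he huniq using hb
  have hj : ∀ i : Fin 6, ∃ j, i ≠ j := fun i => ⟨(six_third i i).choose, (six_third i i).choose_spec.1⟩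
  choose oth hoth using hj
  have hsel := fun i a => D.exists_Sel F hw hn (hoth i) (he i _ (hoth i)).1 (he i _ (hoth i)).2 a
  choose w hwsel hwT using hsel
  refine ⟨⟨fun i j => if h : i ≠ j then e i j h else 1, w, fun i j h => by rw [dif_pos h]; exact (he i j h).1,
    fun i j h => by rw [dif_pos h]; exact (he i j h).2, fun i j h x hx hfx => by
      rw [dif_pos h]; exact huniq i j h x ⟨hx, hfx⟩, hwsel, fun i j h a => ?_⟩⟩
  rw [dif_pos h]
  obtain ⟨w', hw', hT⟩ := D.exists_Sel F hw hn h (he i j h).1 (he i j h).2 a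
  rwa [D.Sel_unique F (hwsel i a) hw']

variable (B : Base D F n)

omit hn in
theorem Base.lift_unique {i j : Fin 6} (hij : i ≠ j) {d : G} (hd : d ∈ D.Ts ∩ D.Cst F i j) {u u' : G}
    (hu : u ∈ D.lagW) (hu' : u' ∈ D.lagW) (hc : D.cl u = D.cl u') (hT : d * u ∈ D.Ts) (hT' : d * u' ∈ D.Ts) :
    u = u' := by
  rcases (D.cl_eq u hu.1 u' hu'.1).1 hc with h | h
  · exact h.symm
  · exfalso
    rw [h, ← mul_assoc, ← (D.lag_comm D.z_lagC hd.1.1).eq, mul_assoc] at hT'
    exact D.Ts_zmul F hw hij ⟨hT, D.Cst_mul F hd.2 hu⟩ hT'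

omit hw hn in
theorem Base.wW (i : Fin 6) (a : R4) : B.w i a ∈ D.lagW := (B.w_sel i a).1

omit hw hn in
theorem Base.wA (i : Fin 6) (a : R4) : B.w i a ∈ D.lagC := D.lagW_le_C (B.wW D F i a)

omit hw hn in
theorem Base.wcl (i : Fin 6) (a : R4) : D.cl (B.w i a) = a • F.L i := (B.w_sel i a).2.1

omit hw hn in
theorem Base.w_zero (i : Fin 6) : B.w i 0 = 1 := by
  have h := (B.w_sel i 0).2.2
  rwa [if_pos rfl] at h

omit hw hn in
theorem Base.eA {i j : Fin 6} (hij : i ≠ j) : B.e i j ∈ D.lagC := (B.e_mem i j hij).1.1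

omit hw hn in
theorem Base.e_symm {i j : Fin 6} (hij : i ≠ j) : B.e i j = B.e j i := by
  obtain ⟨hT, hA, hπ⟩ := B.e_mem i j hij
  exact B.e_uniq j i hij.symm _ ⟨hT, hA, hπ.trans (F.U_symm i j hij)⟩ (B.e_fix i j hij)

omit hw in
theorem Base.sigma_w (i : Fin 6) (a : R4) : (n : G) * B.w i a * (n : G)⁻¹ = B.w i (om * a) := by
  have hnW := (D.lag_norm (m := n) fun x hx => by rw [hn.1, Zc_smul]; exact (lagFacts D.c_lt).scal _ x hx).1
  obtain ⟨hW, hc, hs⟩ := B.w_sel i a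
  refine D.Sel_unique F ⟨hnW _ hW, by rw [D.π_cl n _ hW.1, hn.1, Zc_smul, hc, smul_smul], ?_⟩ (B.w_sel i _)
  have hom : om * a = 0 ↔ a = 0 := by
    constructor
    · intro h
      exact (mul_eq_zero.1 h).resolve_left tau_om.2.2.2
    · rintro rfl
      exact mul_zero _
  by_cases ha : a = 0
  · rw [if_pos (hom.2 ha)]
    rw [if_pos ha] at hs
    rw [hs, mul_one, mul_inv_cancel]
  · rw [if_neg (fun h => ha (hom.1 h))]
    rw [if_neg ha] at hs
    set u := (n : G) * B.w i a * (n : G)⁻¹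
    set v := (n : G) * u * (n : G)⁻¹
    have hv3 : (n : G) * v * (n : G)⁻¹ = B.w i a := by
      rw [show (n : G) * v * (n : G)⁻¹ = (n : G) * n * n * B.w i a * ((n : G) * n * n)⁻¹ by
          simp only [v, u, mul_assoc, mul_inv_rev], hn.2, one_mul, inv_one, mul_one]
    rw [hv3]
    refine Eq.trans ?_ hs
    rw [mul_assoc (B.w i a), (D.lagW_comm hW (mul_mem (hnW _ hW) (hnW _ (hnW _ hW)))).eq]

theorem Base.cross {i j : Fin 6} (hij : i ≠ j) (a b : R4) : B.e i j * B.w i a * B.w j b ∈ D.Ts := by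
  obtain ⟨y0, hy0, -, hh0⟩ := F.U_pre j i hij.symm
  obtain ⟨x, hx, hxc⟩ := D.cl_surj (b • y0)
  obtain ⟨w', hw', hew, hwc⟩ := D.Q_shift F (B.e_mem i j hij).2 hx
  rw [hxc, g6_scalar, ← smul_add, F.U_symm i j hij, hy0] at hwc
  have hT : B.e i j * w' ∈ D.Ts := hew ▸ D.nA_Ts (D.Q_le_nA hx) (B.e_mem i j hij).1
  have hTj : B.e i j * B.w j b ∈ D.Ts := by
    rw [B.e_symm D F hij]
    exact B.ew j i hij.symm b
  have hwj : w' = B.w j b :=
    Base.lift_unique D F hw hij (B.e_mem i j hij) hw' (B.wW D F j b) (hwc.trans (B.wcl D F j b).symm) hT hTj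
  have hc : Commute (B.w i a) x := (D.commute_iff (B.wW D F i a) hx).2 (by
    rw [B.wcl, hxc, herm_smul_smul, herm_smul_smul, herm_conj (F.L i) y0, hh0, zero_pow two_ne_zero, mul_zero,
      mul_zero, add_zero])
  have h := D.nA_Ts (D.Q_le_nA hx) (B.ew i j hij a)
  rw [show x * (B.e i j * B.w i a) * x⁻¹ = x * B.e i j * x⁻¹ * (x * B.w i a * x⁻¹) by group, hew, hwj, ← hc.eq,
    mul_inv_cancel_right] at h
  rwa [mul_assoc, (D.lagW_comm (B.wW D F i a) (B.wW D F j b)).eq, ← mul_assoc]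

omit hn in
theorem Base.inner {i : Fin 6} {a b : R4} (h : a ≠ b) : B.w i a * B.w i b ∈ D.Ts :=
  D.line_Ts F (i := i) (a := a + b) (fun e => h (r4_eq_of_add_plus e)) (mul_mem (B.wW D F i a) (B.wW D F i b))
    (by rw [D.cl_mul _ (B.wW D F i a).1 _ (B.wW D F i b).1, B.wcl, B.wcl, add_smul])

omit hw hn in
theorem Base.cl2 (i j : Fin 6) (a b : R4) : D.cl (B.w i a * B.w j b) = a • F.L i + b • F.L j := by
  rw [D.cl_mul _ (B.wW D F i a).1 _ (B.wW D F j b).1, B.wcl, B.wcl]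

omit hw hn in
theorem Base.indep2 {i j : Fin 6} (hij : i ≠ j) {a b : R4} (h : a • F.L i + b • F.L j = 0) : a = 0 ∧ b = 0 := by
  obtain ⟨k, hik, hjk⟩ := six_third i j
  have := F.indep i j k hij hik hjk a b 0 (by rw [zero_smul, add_zero]; exact h)
  exact ⟨this.1, this.2.1⟩

/-- The class over a pair. -/
theorem Base.list {i j : Fin 6} (hij : i ≠ j) {d : G} (hd : d ∈ D.Ts ∩ D.Cst F i j) :
    ∃ a b, d = B.e i j * (B.w i a * B.w j b) := by
  classical
  let f : R4 × R4 → G := fun p => B.e i j * (B.w i p.1 * B.w j p.2)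
  have hsub : Set.range f ⊆ D.Ts ∩ D.Cst F i j := by
    rintro _ ⟨⟨a, b⟩, rfl⟩
    refine ⟨?_, D.Cst_mul F (B.e_mem i j hij).2 (mul_mem (B.wW D F i a) (B.wW D F j b))⟩
    show B.e i j * (B.w i a * B.w j b) ∈ D.Ts
    rw [← mul_assoc]
    exact B.cross D F hw hn hij a b
  have hinj : Function.Injective f := by
    rintro ⟨a, b⟩ ⟨a', b'⟩ e
    have e' := congrArg D.cl (mul_left_cancel e)
    rw [B.cl2, B.cl2] at e'
    have h := Base.indep2 D F hij (a := a + a') (b := b + b') (by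
      rw [add_smul, add_smul]
      calc _ = (a • F.L i + b • F.L j) + (a' • F.L i + b' • F.L j) := by abel
        _ = 0 := by rw [e', v6_add_self])
    rw [r4_eq_of_add_plus h.1, r4_eq_of_add_plus h.2]
  have heq : Set.range f = D.Ts ∩ D.Cst F i j := Set.eq_of_subset_of_ncard_le hsub (le_of_eq (by
    rw [(D.class_sizes F hw).2.2.2 i j hij, Set.ncard_range_of_injective hinj, Nat.card_eq_fintype_card,
      Fintype.card_prod, card_r4])) (Set.toFinite _)
  rw [← heq] at hd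
  obtain ⟨⟨a, b⟩, rfl⟩ := hd
  exact ⟨a, b, rfl⟩

omit hw in
theorem Base.tri {i j k : Fin 6} (hij : i ≠ j) (hik : i ≠ k) (hjk : j ≠ k) :
    ∃ ε, (ε = 1 ∨ ε = z) ∧ B.e i j * B.e i k = B.e j k * ε := by
  obtain ⟨-, hA, hπ⟩ := B.e_mem i j hij
  obtain ⟨-, hA', hπ'⟩ := B.e_mem i k hik
  have hp : B.e i j * B.e i k ∈ D.Cst F j k := by
    refine ⟨mul_mem hA hA', ?_⟩
    rw [show (⟨B.e i j * B.e i k, (mul_mem hA hA').1⟩ : ↥D.M) = ⟨_, hA.1⟩ * ⟨_, hA'.1⟩ from rfl, map_mul, hπ, hπ',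
      F.U_tri i j k hij hik hjk]
  refine ⟨(B.e j k)⁻¹ * (B.e i j * B.e i k), D.sigma_W hn (D.Cst_div F (B.e_mem j k hjk).2 hp) ?_,
    (mul_inv_cancel_left _ _).symm⟩
  rw [show (n : G) * ((B.e j k)⁻¹ * (B.e i j * B.e i k)) * (n : G)⁻¹ = ((n : G) * B.e j k * (n : G)⁻¹)⁻¹ *
    (((n : G) * B.e i j * (n : G)⁻¹) * ((n : G) * B.e i k * (n : G)⁻¹)) by group, B.e_fix i j hij, B.e_fix i k hik,
    B.e_fix j k hjk]

omit hw hn in
theorem lag_swap {a b c d : G} (hb : b ∈ D.lagC) (hc : c ∈ D.lagC) : a * b * (c * d) = a * c * (b * d) := by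
  rw [mul_assoc a b, ← mul_assoc b c, (D.lag_comm hb hc).eq, mul_assoc c b, ← mul_assoc]

/-- Members over two pairs with a common line whose product is in the class. -/
theorem Base.key {i j k : Fin 6} (hij : i ≠ j) (hik : i ≠ k) (hjk : j ≠ k) {a b a' c : R4}
    (hT : B.e i j * (B.w i a * B.w j b) * (B.e i k * (B.w i a' * B.w k c)) ∈ D.Ts) :
    a = a' ∧ B.e i j * B.e i k = B.e j k := by
  obtain ⟨ε, hε, he⟩ := B.tri D F hn hij hik hjk
  have hεW : ε ∈ D.lagW := by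
    rcases hε with rfl | rfl
    exacts [one_mem _, D.z_lagW]
  have hwW := B.wW D F
  have hu : B.w i a * B.w j b * (B.w i a' * B.w k c) ∈ D.lagW := mul_mem (mul_mem (hwW i a) (hwW j b))
    (mul_mem (hwW i a') (hwW k c))
  rw [lag_swap D (D.lagW_le_C (mul_mem (hwW i a) (hwW j b))) (B.eA D F hik), he, mul_assoc] at hT
  set u := ε * (B.w i a * B.w j b * (B.w i a' * B.w k c))
  obtain ⟨f, g, e⟩ := B.list D F hw hn hjk ⟨hT, D.Cst_mul F (B.e_mem j k hjk).2 (mul_mem hεW hu)⟩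
  have e1 := mul_left_cancel e
  have hεcl : D.cl ε = 0 := by
    rcases hε with rfl | rfl
    · exact D.cl_one
    · have := D.cl_z_mul (one_mem Q)
      rwa [mul_one, D.cl_one] at this
  have e2 := congrArg D.cl e1
  rw [D.cl_mul _ hεW.1 _ hu.1, hεcl, zero_add, D.cl_mul _ (mul_mem (hwW i a) (hwW j b)).1 _
    (mul_mem (hwW i a') (hwW k c)).1, B.cl2, B.cl2, B.cl2] at e2
  obtain ⟨h1, h2, h3⟩ := F.indep i j k hij hik hjk (a + a') (b + f) (c + g) (by
    rw [add_smul, add_smul, add_smul]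
    calc _ = (a • F.L i + b • F.L j + (a' • F.L i + c • F.L k)) + (f • F.L j + g • F.L k) := by abel
      _ = 0 := by rw [e2, v6_add_self])
  obtain rfl := r4_eq_of_add_plus h1
  obtain rfl := r4_eq_of_add_plus h2
  obtain rfl := r4_eq_of_add_plus h3
  refine ⟨rfl, ?_⟩
  have e3 : B.w i a * B.w j b * (B.w i a * B.w k c) = B.w j b * B.w k c := by
    rw [lag_swap D (B.wA D F j b) (B.wA D F i a), D.lagW_sq (hwW i a), one_mul]
  have e4 : ε = 1 := by
    refine (mul_eq_right (a := ε) (b := B.w j b * B.w k c)).1 ?_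
    conv_lhs => rw [← e3]
    exact e1
  rw [he, e4, mul_one]

/-- Transport of a triangle by the normaliser. -/
theorem Base.plus_step (k : Fin 2) {i j l : Fin 6} (hij : i ≠ j) (hil : i ≠ l) (hjl : j ≠ l)
    (h : B.e i j * B.e i l = B.e j l) :
    B.e (F.sig k i) (F.sig k j) * B.e (F.sig k i) (F.sig k l) = B.e (F.sig k j) (F.sig k l) := by
  obtain ⟨g, hg, hfix, hcomm⟩ := F.nrm k
  obtain ⟨m, rfl⟩ := D.exists_pre hg
  have hm := D.mem_nA_of_fix hfix
  have si := (F.sig_inj k).ne hij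
  have sl := (F.sig_inj k).ne hil
  have sjl := (F.sig_inj k).ne hjl
  obtain ⟨a, b, e1⟩ := B.list D F hw hn si
    ⟨D.nA_Ts hm (B.e_mem i j hij).1, D.conj_Cst F hm (hcomm i j hij) (B.e_mem i j hij).2⟩
  obtain ⟨a', c, e2⟩ := B.list D F hw hn sl
    ⟨D.nA_Ts hm (B.e_mem i l hil).1, D.conj_Cst F hm (hcomm i l hil) (B.e_mem i l hil).2⟩
  refine (B.key D F hw hn si sl sjl (a := a) (b := b) (a' := a') (c := c) ?_).2
  rw [← e1, ← e2, show (m : G) * B.e i j * (m : G)⁻¹ * ((m : G) * B.e i l * (m : G)⁻¹) =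
    (m : G) * (B.e i j * B.e i l) * (m : G)⁻¹ by group, h]
  exact D.nA_Ts hm (B.e_mem j l hjl).1

/-- Some triangle is straight. -/
theorem Base.exists_plus : ∃ i j l : Fin 6, i ≠ j ∧ i ≠ l ∧ j ≠ l ∧ B.e i j * B.e i l = B.e j l := by
  classical
  by_contra hall
  push Not at hall
  have := Fintype.ofFinite G
  set d := B.e 0 1
  have h01 : (0 : Fin 6) ≠ 1 := by decide
  have hd := B.e_mem 0 1 h01
  have hcard := D.card_nbrs F hw hd.1
  set nz : Finset R4 := Finset.univ.filter fun a => a ≠ 0 with hnz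
  set T1 : Finset G := nz.image (B.w 0) ∪ nz.image (B.w 1) with hT1
  have hT1c : T1.card ≤ 6 := by
    refine (Finset.card_union_le _ _).trans ?_
    have h3 : nz.card = 3 := by
      rw [hnz, Finset.filter_ne', Finset.card_erase_of_mem (Finset.mem_univ _), Finset.card_univ, card_r4]
    have h1 := (Finset.card_image_le (s := nz) (f := B.w 0))
    have h2 := (Finset.card_image_le (s := nz) (f := B.w 1))
    omega
  have hinner : ∀ a b : R4, B.w 0 a * B.w 1 b ∈ D.Ts → B.w 0 a * B.w 1 b ∈ T1 := by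
    intro a b h
    obtain ⟨-, i, c, hc, e⟩ := D.W_Ts_line F hw h (mul_mem (B.wW D F 0 a).1 (B.wW D F 1 b).1)
    rw [B.cl2] at e
    by_cases ha : a = 0
    · subst ha
      rw [B.w_zero, one_mul] at h ⊢
      refine Finset.mem_union_right _ (Finset.mem_image.2 ⟨b, ?_, rfl⟩)
      simp only [hnz, Finset.mem_filter, Finset.mem_univ, true_and]
      intro hb
      rw [hb, B.w_zero] at h
      exact h.2.1 rfl
    by_cases hb : b = 0
    · subst hb
      rw [B.w_zero, mul_one] at h ⊢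
      exact Finset.mem_union_left _ (Finset.mem_image.2 ⟨a, by simp [hnz, ha], rfl⟩)
    exfalso
    by_cases h0 : i = 0
    · subst h0
      exact hb (Base.indep2 D F h01 (a := a + c) (b := b) (by
        rw [add_smul]
        calc _ = (a • F.L 0 + b • F.L 1) + c • F.L 0 := by abel
          _ = 0 := by rw [e, v6_add_self])).2
    by_cases h1 : i = 1
    · subst h1
      exact ha (Base.indep2 D F h01 (a := a) (b := b + c) (by
        rw [add_smul]
        calc _ = (a • F.L 0 + b • F.L 1) + c • F.L 1 := by abel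
          _ = 0 := by rw [e, v6_add_self])).1
    exact ha (F.indep 0 1 i h01 (Ne.symm h0) (Ne.symm h1) a b c (by rw [e, v6_add_self])).1
  set P6 : Finset (Fin 6 × Fin 6) := {(2, 3), (2, 4), (2, 5), (3, 4), (3, 5), (4, 5)} with hP6
  have hcover : D.nbrs d ⊆
      ↑(T1 ∪ T1.image (fun t => d * t) ∪ P6.biUnion fun u => (D.nbrs d ∩ D.Cst F u.1 u.2).toFinset) := by
    intro b hb
    simp only [Finset.coe_union, Set.mem_union, Finset.mem_coe, Finset.mem_biUnion, Set.mem_toFinset]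
    rcases D.pair_cases F hb.1.1 with hq | ⟨k, l, hkl, hbk⟩
    · refine Or.inl (Or.inl ?_)
      have hbW : b ∈ D.lagW := D.lagC_Q ▸ ⟨hb.1.1, hq⟩
      obtain ⟨a, c, e⟩ := B.list D F hw hn h01 ⟨hb.2, D.Cst_mul F hd.2 hbW⟩
      obtain rfl := mul_left_cancel e
      exact hinner a c hb.1
    · obtain ⟨k, l, hkl, hbk⟩ : ∃ k l, k < l ∧ b ∈ D.Cst F k l := by
        rcases lt_or_gt_of_ne hkl with h | h
        · exact ⟨k, l, h, hbk⟩
        · obtain ⟨hA, e⟩ := hbk
          exact ⟨l, k, h, hA, e.trans (F.U_symm k l hkl)⟩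
      rcases six_pair k l hkl with ⟨rfl, rfl⟩ | ⟨rfl, hl⟩ | ⟨rfl, hl⟩ | h
      · refine Or.inl (Or.inr ?_)
        obtain ⟨a, c, e⟩ := B.list D F hw hn h01 ⟨hb.1, hbk⟩
        have hT := hb.2
        rw [e, ← mul_assoc, D.lagC_elem _ hd.1.1, one_mul] at hT
        exact Finset.mem_image.2 ⟨_, hinner a c hT, e.symm⟩
      · exfalso
        obtain ⟨a, c, e⟩ := B.list D F hw hn hkl.ne ⟨hb.1, hbk⟩
        have hT := hb.2
        rw [e, show d = B.e 0 1 * (B.w 0 0 * B.w 1 0) by rw [B.w_zero, B.w_zero, one_mul, mul_one]] at hT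
        exact hall 0 1 l h01 hkl.ne hl.ne (B.key D F hw hn h01 hkl.ne hl.ne hT).2
      · exfalso
        obtain ⟨a, c, e⟩ := B.list D F hw hn hkl.ne ⟨hb.1, hbk⟩
        have hT := hb.2
        rw [e, show d = B.e 1 0 * (B.w 1 0 * B.w 0 0) by
          rw [B.w_zero, B.w_zero, one_mul, mul_one, ← B.e_symm D F h01]] at hT
        have h0l : (0 : Fin 6) ≠ l := (lt_trans (by decide) hl).ne
        exact hall 1 0 l h01.symm hkl.ne h0l (B.key D F hw hn h01.symm hkl.ne h0l hT).2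
      · exact Or.inr ⟨(k, l), h, hb, hbk⟩
  have h6 : ∀ u ∈ P6, (D.nbrs d ∩ D.Cst F u.1 u.2).toFinset.card ≤ 4 := by
    intro u hu
    have hu' : u.1 ≠ u.2 ∧ u.1 ≠ 0 ∧ u.1 ≠ 1 ∧ u.2 ≠ 0 ∧ u.2 ≠ 1 := by
      rw [hP6] at hu
      revert hu; revert u; decide
    obtain ⟨hkl, hk0, hk1, hl0, hl1⟩ := hu'
    obtain ⟨m, m', hnd⟩ := six_rest _ _ hkl hk0 hk1 hl0 hl1
    have hsyn := F.U_syn _ _ _ _ _ _ hnd
    have hrep : ∀ b ∈ (D.nbrs d ∩ D.Cst F u.1 u.2), ∃ c f g h : R4,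
        b = B.e u.1 u.2 * (B.w u.1 c * B.w u.2 f) ∧ d * b = B.e m m' * (B.w m g * B.w m' h) := by
      rintro b ⟨hb, hbk⟩
      obtain ⟨c, f, e⟩ := B.list D F hw hn hkl ⟨hb.1, hbk⟩
      have hmm : m ≠ m' := by
        intro e
        simp [e] at hnd
      obtain ⟨hA, hπ⟩ := hbk
      obtain ⟨g, h, e'⟩ := B.list D F hw hn hmm ⟨hb.2, mul_mem hd.1.1 hA, by
        rw [show (⟨d * b, (mul_mem hd.1.1 hA).1⟩ : ↥D.M) = ⟨d, hd.2.1.1⟩ * ⟨b, hA.1⟩ from rfl, map_mul,
          hd.2.2, hπ, hsyn]⟩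
      exact ⟨c, f, g, h, e, e'⟩
    choose! c f g h e1 e2 using hrep
    rw [← card_r4]
    refine Finset.card_le_card_of_injOn c (fun b _ => Finset.mem_univ _) ?_
    intro b hb b' hb' ec
    simp only [Set.coe_toFinset] at hb hb'
    have hbb : b * b' = B.w u.2 (f b) * B.w u.2 (f b') := by
      conv_lhs => rw [e1 b hb, e1 b' hb', ec]
      rw [lag_swap D (D.lagW_le_C (mul_mem (B.wW D F _ _) (B.wW D F _ _))) (B.eA D F hkl),
        D.lagC_elem _ (B.eA D F hkl), one_mul, lag_swap D (B.wA D F _ _) (B.wA D F _ _),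
        D.lagW_sq (B.wW D F _ _), one_mul]
    have hmm : m ≠ m' := by
      intro e
      simp [e] at hnd
    have hbb' : b * b' = B.w m (g b) * B.w m (g b') * (B.w m' (h b) * B.w m' (h b')) := by
      have : b * b' = d * b * (d * b') := by
        rw [lag_swap D hb.1.1.1 hd.1.1, D.lagC_elem _ hd.1.1, one_mul]
      rw [this, e2 b hb, e2 b' hb', lag_swap D (D.lagW_le_C (mul_mem (B.wW D F _ _) (B.wW D F _ _))) (B.eA D F hmm),
        D.lagC_elem _ (B.eA D F hmm), one_mul, lag_swap D (B.wA D F _ _) (B.wA D F _ _)]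
    have e3 := congrArg D.cl (hbb.symm.trans hbb')
    rw [B.cl2, D.cl_mul _ (mul_mem (B.wW D F _ _) (B.wW D F _ _)).1 _ (mul_mem (B.wW D F _ _) (B.wW D F _ _)).1,
      B.cl2, B.cl2] at e3
    have hnd' : u.2 ≠ m ∧ u.2 ≠ m' := by
      simp only [List.nodup_cons, List.mem_cons, List.not_mem_nil, or_false, List.nodup_nil, and_true, not_or] at hnd
      exact hnd.2.2.2.1
    have := (F.indep u.2 m m' hnd'.1 hnd'.2 hmm (f b + f b') (g b + g b') (h b + h b') (by
      rw [add_smul, add_smul, add_smul, e3, add_assoc, v6_add_self])).1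
    rw [e1 b hb, e1 b' hb', ec, r4_eq_of_add_plus this]
  have h := Set.ncard_le_ncard hcover (Set.toFinite _)
  rw [hcard, Set.ncard_coe_finset] at h
  have h1 := Finset.card_union_le (T1 ∪ T1.image fun t => d * t)
    (P6.biUnion fun u => (D.nbrs d ∩ D.Cst F u.1 u.2).toFinset)
  have h2 := Finset.card_union_le T1 (T1.image fun t => d * t)
  have h3 := Finset.card_image_le (s := T1) (f := fun t => d * t)
  have h4 := Finset.card_biUnion_le_card_mul P6 (fun u => (D.nbrs d ∩ D.Cst F u.1 u.2).toFinset) 4 h6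
  have h5 : P6.card = 6 := by rw [hP6]; decide
  omega

theorem Base.plus {i j l : Fin 6} (hij : i ≠ j) (hil : i ≠ l) (hjl : j ≠ l) :
    B.e i j * B.e i l = B.e j l := by
  classical
  obtain ⟨a, b, c, hab, hac, hbc, h0⟩ := B.exists_plus D F hw hn
  let S : Finset (Fin 6 × Fin 6 × Fin 6) := Finset.univ.filter fun t =>
    t.1 ≠ t.2.1 ∧ t.1 ≠ t.2.2 ∧ t.2.1 ≠ t.2.2 ∧ B.e t.1 t.2.1 * B.e t.1 t.2.2 = B.e t.2.1 t.2.2
  let σ : Fin 2 → Fin 6 × Fin 6 × Fin 6 → Fin 6 × Fin 6 × Fin 6 := fun k t =>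
    (F.sig k t.1, F.sig k t.2.1, F.sig k t.2.2)
  have hσ : ∀ k, Function.Injective (σ k) := by
    intro k t t' e
    simp only [σ, Prod.mk.injEq] at e
    exact Prod.ext (F.sig_inj k e.1) (Prod.ext (F.sig_inj k e.2.1) (F.sig_inj k e.2.2))
  have himg : ∀ k, S.image (σ k) = S := by
    intro k
    refine Finset.eq_of_subset_of_card_le ?_ (le_of_eq (Finset.card_image_of_injective _ (hσ k)).symm)
    intro t ht
    obtain ⟨t', ht', rfl⟩ := Finset.mem_image.1 ht
    simp only [S, Finset.mem_filter, Finset.mem_univ, true_and] at ht' ⊢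
    obtain ⟨h1, h2, h3, h4⟩ := ht'
    exact ⟨(F.sig_inj k).ne h1, (F.sig_inj k).ne h2, (F.sig_inj k).ne h3, B.plus_step D F hw hn k h1 h2 h3 h4⟩
  have hfwd : ∀ k i j l, (i, j, l) ∈ S → σ k (i, j, l) ∈ S := fun k i j l h => by
    rw [← himg k]
    exact Finset.mem_image_of_mem _ h
  have hbwd : ∀ k i j l, σ k (i, j, l) ∈ S → (i, j, l) ∈ S := fun k i j l h => by
    rw [← himg k] at h
    obtain ⟨t, ht, e⟩ := Finset.mem_image.1 h
    exact hσ k e ▸ ht
  have hiff : ∀ p q r, p ≠ q → p ≠ r → q ≠ r → ((p, q, r) ∈ S ↔ ((0 : Fin 6), (1 : Fin 6), (2 : Fin 6)) ∈ S) :=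
    F.trans (fun p q r => (p, q, r) ∈ S ↔ ((0 : Fin 6), (1 : Fin 6), (2 : Fin 6)) ∈ S) Iff.rfl
      fun k i j l h => ⟨fun h' => h.1 (hbwd k i j l h'), fun h' => hfwd k i j l (h.2 h')⟩
  have habc : (a, b, c) ∈ S := by simp [S, hab, hac, hbc, h0]
  have h := (hiff i j l hij hil hjl).2 ((hiff a b c hab hac hbc).1 habc)
  simp only [S, Finset.mem_filter, Finset.mem_univ, true_and] at h
  exact h.2.2.2

omit hw in
theorem Base.z_lift (i : Fin 6) {c : R4} (hc : c ≠ 0) :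
    z * B.w i c = B.w i (om * c) * B.w i (om * (om * c)) := by
  have h := (B.w_sel i c).2.2
  rw [if_neg hc, B.sigma_w D F hn, B.sigma_w D F hn] at h
  have hwA := B.wA D F i
  rw [mul_assoc] at h
  calc z * B.w i c = B.w i c * z := (D.lag_comm D.z_lagC (hwA c)).eq
    _ = B.w i c * (B.w i c * (B.w i (om * c) * B.w i (om * (om * c)))) := by rw [h]
    _ = B.w i (om * c) * B.w i (om * (om * c)) := by rw [← mul_assoc, D.lagW_sq (B.wW D F i c), one_mul]

include B in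
/-- The frame exists. -/
theorem Base.exists_frame : Nonempty (Frame D) := by
  classical
  let g : Fin 6 → G := fun i => if i = 0 then 1 else B.e 0 i
  have hgA : ∀ i, g i ∈ D.lagC := fun i => by
    by_cases h : i = 0
    · simp only [g, if_pos h]
      exact one_mem _
    · simp only [g, if_neg h]
      exact B.eA D F (Ne.symm h)
  have hgg : ∀ i j, i ≠ j → g i * g j = B.e i j := by
    intro i j hij
    by_cases hi : i = 0
    · subst hi
      simp only [g, if_pos rfl, if_neg hij.symm, one_mul]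
    · by_cases hj : j = 0
      · subst hj
        simp only [g, if_pos rfl, if_neg hi, mul_one]
        exact B.e_symm D F (Ne.symm hi)
      · simp only [g, if_neg hi, if_neg hj]
        exact B.plus D F hw hn (Ne.symm hi) (Ne.symm hj) hij
  let f : Pt24 → G := fun p => g p.1 * B.w p.1 p.2
  have hprod : ∀ i j a b, f (i, a) * f (j, b) = g i * g j * (B.w i a * B.w j b) := fun i j a b =>
    lag_swap D (B.wA D F i a) (hgA j)
  have hprod' : ∀ i a b, f (i, a) * f (i, b) = B.w i a * B.w i b := fun i a b => by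
    rw [hprod, D.lagC_elem _ (hgA i), one_mul]
  have hpair : ∀ p q : Pt24, p ≠ q → f p * f q ∈ D.Ts := by
    rintro ⟨i, a⟩ ⟨j, b⟩ hne
    by_cases hij : i = j
    · subst hij
      rw [hprod']
      exact B.inner D F hw (fun e => hne (by rw [e]))
    · rw [hprod, hgg i j hij, ← mul_assoc]
      exact B.cross D F hw hn hij a b
  have hom : ∀ a : R4, a ≠ 0 → om * a ≠ om * (om * a) := by
    show ∀ a : R4, a ≠ 0 → elE 1 * a ≠ elE 1 * (elE 1 * a)
    decide +kernel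
  have hsurj : ∀ d ∈ D.Ts, ∃ p q : Pt24, p ≠ q ∧ f p * f q = d := by
    intro d hd
    rcases D.pair_cases F hd.1 with hq | ⟨i, j, hij, hdc⟩
    · obtain ⟨hdW, i, c, hc, e⟩ := D.W_Ts_line F hw hd hq
      rcases (D.cl_eq _ (B.wW D F i c).1 d hq).1 ((B.wcl D F i c).trans e.symm) with h | h
      · exact ⟨(i, 0), (i, c), fun e => hc (congrArg Prod.snd e).symm, by rw [hprod', B.w_zero, one_mul, h]⟩
      · exact ⟨(i, om * c), (i, om * (om * c)), fun e => hom c hc (congrArg Prod.snd e),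
          by rw [hprod', h, B.z_lift D F hn i hc]⟩
    · obtain ⟨a, b, e⟩ := B.list D F hw hn hij ⟨hd, hdc⟩
      exact ⟨(i, a), (j, b), fun e => hij (congrArg Prod.fst e), by rw [hprod, hgg i j hij, e]⟩
  have hTgen : ∀ i a, B.w i a ∈ Subgroup.closure D.Ts := by
    intro i a
    by_cases ha : a = 0
    · rw [ha, B.w_zero]
      exact one_mem _
    · refine Subgroup.subset_closure (D.line_Ts F ha (B.wW D F i a) (B.wcl D F i a))
  have hz : z ∈ Subgroup.closure D.Ts := by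
    have h1 : B.w 0 1 ∈ Subgroup.closure D.Ts := hTgen 0 1
    have h2 : z * B.w 0 1 ∈ Subgroup.closure D.Ts := by
      rw [B.z_lift D F hn 0 one_ne_zero]
      exact mul_mem (hTgen _ _) (hTgen _ _)
    simpa using mul_mem h2 (inv_mem h1)
  have hW : ∀ u ∈ D.lagW, u ∈ Subgroup.closure D.Ts := by
    intro u hu
    obtain ⟨a, b, c, e⟩ := F.span _ hu.2
    have hm : B.w 0 a * B.w 1 b * B.w 2 c ∈ Subgroup.closure D.Ts :=
      mul_mem (mul_mem (hTgen _ _) (hTgen _ _)) (hTgen _ _)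
    have hmQ : B.w 0 a * B.w 1 b * B.w 2 c ∈ Q :=
      mul_mem (mul_mem (B.wW D F _ _).1 (B.wW D F _ _).1) (B.wW D F _ _).1
    have hcl : D.cl (B.w 0 a * B.w 1 b * B.w 2 c) = D.cl u := by
      rw [D.cl_mul _ (mul_mem (B.wW D F _ _).1 (B.wW D F _ _).1) _ (B.wW D F _ _).1, B.cl2, B.wcl, e]
    rcases (D.cl_eq _ hmQ u hu.1).1 hcl with h | h <;> rw [h]
    exacts [hm, mul_mem hz hm]
  refine ⟨⟨f, fun p => mul_mem (hgA p.1) (B.wA D F _ _), hpair, hsurj, fun x hx => ?_⟩⟩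
  rcases D.pair_cases F hx with hq | ⟨i, j, hij, hxc⟩
  · exact hW x (D.lagC_Q ▸ ⟨hx, hq⟩)
  · have h := hW _ (D.Cst_div F (B.e_mem i j hij).2 hxc)
    simpa using mul_mem (Subgroup.subset_closure (B.e_mem i j hij).1) h

omit hw hn in
theorem Coord.exists_frame' {g₀ s : G} (hw : D.Wit g₀ s) : Nonempty (Frame D) := by
  obtain ⟨F⟩ := exists_ptFacts D.c_lt
  obtain ⟨n, hn⟩ := D.exists_three
  obtain ⟨B⟩ := D.exists_Base F hw (n := n) hn
  exact B.exists_frame D F hw hn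

end Cfsg.Lib.FischerLarge
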