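import Cfsg.Agent.Lib.FischerLarge.Defs

/-!
# Tests for the rigidity of semilinear maps commuting with a stabiliser
-/

set_option autoImplicit false

namespace Cfsg.Lib.FischerLarge

open Cfsg.Lib.SUSixU43 Cfsg.Lib.PermAut

/-- A vector, six words in two elements, and the inverse of the basis they give. -/
structure RigT where
  w : ℕ
  words : List (List ℕ)
  Pi : ℕ

/-- The image of a vector under a word in the first two nodes. -/
def evW (mats : List ℕ) : List ℕ → ℕ → ℕ
  | [], v => v
  | k :: l, v => appM (mats.getD k 0) (evW mats l v)

/-- The matrix with the images of a vector as columns. -/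
noncomputable def colsW (mats : List ℕ) (R : RigT) (y : ℕ) : ℕ :=
  fN y fun y => ofF fun i j => vdig (evW mats (R.words.getD j []) y) i

/-- The twist of a vector. -/
def twV (tw : Bool) (v : ℕ) : ℕ := bif tw then pack 6 (fun i => cjC (vdig v i)) else v

/-- The twist of a matrix. -/
noncomputable def twM (tw : Bool) (m : ℕ) : ℕ := fN m fun m => bif tw then ofF (fun i j => cjC (mget m i j)) else m

/-- The words give a basis, and the image of the vector determines the map to be the identity, or shows there is none. -/
noncomputable def rigB (A : OrbT) (S : StabT) (R : RigT) (tw : Bool) : Bool :=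
  Nat.beq R.words.length 6 && (R.words.all fun w => w.all fun k => Nat.blt k 2) &&
    sameM (mulM (colsW S.mats R R.w) R.Pi) oneM && A.has R.w && Nat.blt R.w 4096 &&
    allBelowB A.len fun i => fN (mulM (colsW S.mats R (A.get i)) (twM tw R.Pi)) fun T =>
      bif !Nat.beq (appM T (twV tw S.base)) S.base then true
      else bif !sameM (mulM T (twM tw (S.mats.getD 0 0))) (mulM (S.mats.getD 0 0) T) then true
      else bif !sameM (mulM T (twM tw (S.mats.getD 1 0))) (mulM (S.mats.getD 1 0) T) then true
      else bif tw then false else sameM T oneM

end Cfsg.Lib.FischerLarge
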