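import Cfsg.Agent.Lib.FischerLarge.Block
import Cfsg.Agent.Lib.FischerLarge.Module

/-!
# An element of order three spanning a normal subgroup has no fixed vectors
-/

set_option autoImplicit false

namespace Cfsg.Lib.FischerLarge

open Cfsg Cfsg.Lib.SUSixU43

universe u v

theorem end_two {V : Type*} [AddCommGroup V] [Module (ZMod 2) V] (f : Module.End (ZMod 2) V) : f + f = 0 := by
  rw [← two_smul (ZMod 2) f, show (2 : ZMod 2) = 0 from rfl, zero_smul]

/-- The ring map of the field of four elements given by a root of `x² + x + 1`. -/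
noncomputable def omegaHom {V : Type*} [AddCommGroup V] [Module (ZMod 2) V] (T : Module.End (ZMod 2) V)
    (hT : T * T + T + 1 = 0) : R4 →+* Module.End (ZMod 2) V :=
  (QuadraticAlgebra.lift ⟨T, by
    rw [one_smul, one_smul]
    refine (neg_eq_of_add_eq_zero_right (a := (1 : Module.End (ZMod 2) V) + T) ?_).symm.trans
      (neg_eq_of_add_eq_zero_right (end_two _))
    rw [← hT]
    abel⟩).toRingHom

theorem omegaHom_apply {V : Type*} [AddCommGroup V] [Module (ZMod 2) V] (T : Module.End (ZMod 2) V)
    (hT : T * T + T + 1 = 0) (r : R4) (x : V) : omegaHom T hT r x = r.re • x + r.im • T x := rfl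

theorem card_gl_small {F : Type} [Field F] [Fintype F] (k : ℕ) :
    Nat.card (GL (Fin k) F) = ∏ i : Fin k, (Fintype.card F ^ k - Fintype.card F ^ (i : ℕ)) :=
  Matrix.card_GL_field k

/-- A finite group of automorphisms has order dividing that of the general linear group. -/
theorem card_dvd_gl {F : Type} [Field F] [Fintype F] {W : Type*} [AddCommGroup W] [Module F W]
    [Module.Finite F W] {L : Type*} [Group L] (f : L →* Module.End F W) (hf : Function.Injective f) :
    Nat.card L ∣ ∏ i : Fin (Module.finrank F W),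
      (Fintype.card F ^ Module.finrank F W - Fintype.card F ^ (i : ℕ)) := by
  let b := Module.finBasis F W
  let g : L →* GL (Fin (Module.finrank F W)) F :=
    MonoidHom.toHomUnits ((LinearMap.toMatrixAlgEquiv b).toMonoidHom.comp f)
  have hg : Function.Injective g := fun x y h => hf ((LinearMap.toMatrixAlgEquiv b).injective
    (congrArg (fun u : GL (Fin (Module.finrank F W)) F =>
      (u : Matrix (Fin (Module.finrank F W)) (Fin (Module.finrank F W)) F)) h))
  rw [← card_gl_small (F := F)]
  exact Subgroup.card_dvd_of_injective g hg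

/-- No fixed vectors. -/
theorem quad_eq_zero {M : Type u} [Group M] [Finite M] {V : Type v} [AddCommGroup V] [Module (ZMod 2) V]
    [Finite V] (hV : Nat.card V = 4096) (ρ : M →* Module.End (ZMod 2) V) (Q' N' : Subgroup M) [N'.Normal]
    (hker : ∀ m, ρ m = 1 ↔ m ∈ Q') (hQN : Q' ≤ N') (hN : Nat.card ↥N' = 3 * Nat.card ↥Q')
    (e : M ⧸ N' ≃* ↥Q112) {n : M} (hn : n ∈ N') (hnQ : n ∉ Q') (hn3 : n ^ 3 ∈ Q')
    (hcomm : ∀ m, Commute (ρ m) (ρ n)) : ρ n * ρ n + ρ n + 1 = 0 := by
  classical
  haveI : Module.Finite (ZMod 2) V := Module.Finite.of_finite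
  set T := ρ n with hTdef
  set pC := T * T + T + 1 with hpC
  have hT3 : T * T * T = 1 := by
    rw [hTdef, ← map_mul, ← map_mul, show n * n * n = n ^ 3 by rw [pow_three, mul_assoc]]
    exact (hker _).2 hn3
  have hpCT : pC * (T * T + T) = 0 := by
    rw [hpC]
    have : (T * T + T + 1) * (T * T + T) = T * T * T * T + (T * T * T + T * T * T) + (T * T + T * T) + T := by
      noncomm_ring
    rw [this, end_two, end_two, hT3, one_mul, add_zero, add_zero, end_two]
  have hTC : T * pC = pC := by
    rw [hpC, mul_add, mul_add, mul_one, ← mul_assoc, hT3]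
    abel
  have hcp : ∀ m, Commute (ρ m) pC := fun m =>
    ((((hcomm m).mul_right (hcomm m)).add_right (hcomm m)).add_right (Commute.one_right _))
  set W := LinearMap.ker pC with hWdef
  have hTW : ∀ w ∈ W, T w ∈ W := fun w hw => by
    rw [hWdef, LinearMap.mem_ker] at hw ⊢
    rw [← Module.End.mul_apply, ← (hcp n).eq, Module.End.mul_apply, hw, map_zero]
  let TW : Module.End (ZMod 2) ↥W := LinearMap.restrict T hTW
  have hTW0 : TW * TW + TW + 1 = 0 := by
    refine LinearMap.ext fun w => Subtype.ext ?_
    exact LinearMap.mem_ker.1 w.2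
  letI : Module R4 ↥W := Module.compHom ↥W (omegaHom TW hTW0)
  have hsmul : ∀ (r : R4) (w : ↥W), r • w = r.re • w + r.im • TW w := fun r w => rfl
  haveI : Module.Finite R4 ↥W := Module.Finite.of_finite
  set k := Module.finrank R4 ↥W with hk
  have hcardW : Nat.card ↥W = 4 ^ k := by
    rw [Module.natCard_eq_pow_finrank (K := R4), Nat.card_eq_fintype_card, card_r4]
  have hcardW2 : Nat.card ↥W = 2 ^ Module.finrank (ZMod 2) ↥W := by
    rw [Module.natCard_eq_pow_finrank (K := ZMod 2), Nat.card_zmod]
  have h12 : Module.finrank (ZMod 2) V = 12 := by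
    refine Nat.pow_right_injective le_rfl (show 2 ^ Module.finrank (ZMod 2) V = 2 ^ 12 from ?_)
    rw [show 2 ^ 12 = Nat.card V by rw [hV]; norm_num, Module.natCard_eq_pow_finrank (K := ZMod 2), Nat.card_zmod]
  have hk2 : Module.finrank (ZMod 2) ↥W = 2 * k := by
    refine Nat.pow_right_injective le_rfl (show 2 ^ Module.finrank (ZMod 2) ↥W = 2 ^ (2 * k) from ?_)
    rw [← hcardW2, hcardW, pow_mul]
    norm_num
  have hrn : Module.finrank (ZMod 2) ↥(LinearMap.range pC) + Module.finrank (ZMod 2) ↥W = 12 :=
    h12 ▸ LinearMap.finrank_range_add_finrank_ker pC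
  have hrW : ∀ m, ∀ w ∈ W, ρ m w ∈ W := fun m w hw => by
    rw [hWdef, LinearMap.mem_ker] at hw ⊢
    rw [← Module.End.mul_apply, ← (hcp m).eq, Module.End.mul_apply, hw, map_zero]
  have hrC : ∀ m, ∀ x ∈ LinearMap.range pC, ρ m x ∈ LinearMap.range pC := by
    rintro m _ ⟨y, rfl⟩
    exact ⟨ρ m y, by rw [← Module.End.mul_apply, ← (hcp m).eq, Module.End.mul_apply]⟩
  let ρW : M →* Module.End R4 ↥W :=
    { toFun := fun m =>
        { toFun := fun w => ⟨ρ m w, hrW m w w.2⟩
          map_add' := fun a b => Subtype.ext (map_add (ρ m) (a : V) (b : V))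
          map_smul' := fun r w => Subtype.ext (by
            show ρ m (r.re • (w : V) + r.im • T (w : V)) = r.re • ρ m (w : V) + r.im • T (ρ m (w : V))
            rw [map_add, map_smul, map_smul, ← Module.End.mul_apply, (hcomm m).eq, Module.End.mul_apply]) }
      map_one' := LinearMap.ext fun w => Subtype.ext (by
        show ρ 1 (w : V) = _
        rw [map_one]; rfl)
      map_mul' := fun a b => LinearMap.ext fun w => Subtype.ext (by
        show ρ (a * b) (w : V) = ρ a (ρ b (w : V))
        rw [map_mul]; rfl) }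
  set K := ρW.ker with hK
  have hQK : Q' ≤ K := fun m hm => LinearMap.ext fun w => Subtype.ext (by
    show ρ m (w : V) = _
    rw [(hker m).2 hm]; rfl)
  have hsplit : ∀ v : V, v = pC v + (T * T + T) v := fun v => by
    rw [← LinearMap.add_apply, hpC, add_comm (T * T + T) 1, add_assoc, end_two, add_zero, Module.End.one_apply]
  have hnK : n ∉ K := fun h => by
    refine hnQ ((hker n).1 (LinearMap.ext fun v => ?_))
    have hw : (T * T + T) v ∈ W := by
      rw [hWdef, LinearMap.mem_ker, ← Module.End.mul_apply, hpCT, LinearMap.zero_apply]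
    have h1 : T ((T * T + T) v) = (T * T + T) v :=
      congrArg (fun f : Module.End R4 ↥W => ((f ⟨_, hw⟩ : ↥W) : V)) (MonoidHom.mem_ker.1 h)
    have h2 : T (pC v) = pC v := by rw [← Module.End.mul_apply, hTC]
    conv_lhs => rw [hsplit v]
    rw [map_add, h1, h2, ← hsplit v, Module.End.one_apply]
  have hinf : K ⊓ N' = Q' := by
    refine (Subgroup.eq_of_le_of_card_ge (le_inf hQK hQN) ?_).symm
    obtain ⟨a, ha⟩ := Subgroup.card_dvd_of_le (le_inf hQK hQN)
    obtain ⟨b, hb⟩ := Subgroup.card_dvd_of_le (inf_le_right : K ⊓ N' ≤ N')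
    rw [hN, ha, mul_assoc, mul_comm 3] at hb
    have h3 : a * b = 3 := (Nat.eq_of_mul_eq_mul_left Nat.card_pos hb).symm
    have hb1 : b ≠ 1 := fun h => by
      have hfull : K ⊓ N' = N' := Subgroup.eq_of_le_of_card_ge inf_le_right (by
        rw [hN, ha, show a = 3 by rw [h, mul_one] at h3; exact h3, mul_comm])
      exact hnK (show n ∈ K ⊓ N' by rw [hfull]; exact hn).1
    have : a = 1 := by
      rcases (Nat.dvd_prime Nat.prime_three).1 (Dvd.intro b h3) with h | h
      · exact h
      · rw [h] at h3
        omega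
    rw [ha, this, mul_one]
  have hcardM : Nat.card M = 3 * 3265920 * Nat.card ↥Q' := by
    rw [← N'.card_mul_index, Subgroup.index, Nat.card_congr e.toEquiv, card_Q112, hN]
    ring
  haveI hsimple : IsSimpleGroup (M ⧸ N') := by
    obtain ⟨f⟩ := psu_equiv_Q112
    haveI := simple_psu
    haveI : IsSimpleGroup ↥Q112 := f.symm.isSimpleGroup
    exact e.isSimpleGroup
  rcases Subgroup.Normal.eq_bot_or_eq_top
      ((MonoidHom.normal_ker ρW).map (QuotientGroup.mk' N') (QuotientGroup.mk'_surjective N')) with hb | ht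
  · -- faithful on the moved part
    have hKQ : K = Q' := by
      rw [← hinf, eq_comm, inf_eq_left]
      rw [Subgroup.map_eq_bot_iff, QuotientGroup.ker_mk'] at hb
      exact hb
    have hku : ρW.toHomUnits.ker = K := by
      ext m
      rw [hK, MonoidHom.mem_ker, MonoidHom.mem_ker, Units.ext_iff]
      rfl
    have hd := card_dvd_gl ((Units.coeHom _).comp (QuotientGroup.kerLift ρW.toHomUnits))
      (Units.val_injective.comp (QuotientGroup.kerLift_injective ρW.toHomUnits))
    have hcq : Nat.card (M ⧸ ρW.toHomUnits.ker) = 9797760 := by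
      refine Nat.eq_of_mul_eq_mul_right (Nat.card_pos (α := ↥Q')) ?_
      rw [show 9797760 * Nat.card ↥Q' = Nat.card M by rw [hcardM]]
      rw [Subgroup.card_eq_card_quotient_mul_card_subgroup ρW.toHomUnits.ker,
        show Nat.card ↥ρW.toHomUnits.ker = Nat.card ↥Q' by rw [hku, hKQ]]
    rw [hcq, card_r4, ← hk] at hd
    have h6 : k = 6 := by
      have hk6 : k ≤ 6 := by omega
      by_contra hne
      interval_cases k <;> first | exact absurd rfl hne | norm_num [Fin.prod_univ_succ] at hd
    have hW : W = ⊤ := Submodule.eq_top_of_finrank_eq (by rw [h12, hk2, h6])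
    exact LinearMap.ext fun v => LinearMap.mem_ker.1 (show v ∈ W by rw [hW]; trivial)
  · -- faithful on the fixed part
    exfalso
    let ρC0 : ↥K →* Module.End (ZMod 2) ↥(LinearMap.range pC) :=
      { toFun := fun m => LinearMap.restrict (ρ (m : M)) (hrC m)
        map_one' := LinearMap.ext fun x => Subtype.ext (by
          show ρ ((1 : ↥K) : M) (x : V) = _
          rw [Subgroup.coe_one, map_one]; rfl)
        map_mul' := fun a b => LinearMap.ext fun x => Subtype.ext (by
          show ρ ((a * b : ↥K) : M) (x : V) = ρ (a : M) (ρ (b : M) (x : V))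
          rw [Subgroup.coe_mul, map_mul]; rfl) }
    let ρC := ρC0.toHomUnits
    have hkerC : ρC.ker = N'.subgroupOf K := by
      ext m
      rw [MonoidHom.mem_ker, Units.ext_iff, Subgroup.mem_subgroupOf]
      show ρC0 m = 1 ↔ _
      constructor
      · intro h
        refine hQN ((hker _).1 (LinearMap.ext fun v => ?_))
        have hw : (T * T + T) v ∈ W := by
          rw [hWdef, LinearMap.mem_ker, ← Module.End.mul_apply, hpCT, LinearMap.zero_apply]
        have h1 : ρ m ((T * T + T) v) = (T * T + T) v :=
          congrArg (fun f : Module.End R4 ↥W => ((f ⟨_, hw⟩ : ↥W) : V)) (MonoidHom.mem_ker.1 m.2)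
        have h2 : ρ m (pC v) = pC v :=
          congrArg (fun f : Module.End (ZMod 2) ↥(LinearMap.range pC) => ((f ⟨_, v, rfl⟩ : ↥(LinearMap.range pC)) : V)) h
        conv_lhs => rw [hsplit v]
        rw [map_add, h1, h2, ← hsplit v, Module.End.one_apply]
      · intro h
        have hmQ : (m : M) ∈ Q' := by rw [← hinf]; exact ⟨m.2, h⟩
        exact LinearMap.ext fun x => Subtype.ext (by
          show ρ (m : M) (x : V) = _
          rw [(hker _).2 hmQ]; rfl)
    let π : ↥K →* M ⧸ N' := (QuotientGroup.mk' N').comp K.subtype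
    have hπ : Function.Surjective π := fun y => by
      have hy : y ∈ K.map (QuotientGroup.mk' N') := by rw [ht]; trivial
      obtain ⟨m, hm, rfl⟩ := hy
      exact ⟨⟨m, hm⟩, rfl⟩
    have hπk : π.ker = ρC.ker := by
      rw [hkerC]
      ext m
      rw [MonoidHom.mem_ker, Subgroup.mem_subgroupOf]
      exact QuotientGroup.eq_one_iff _
    let f0 : ↥Q112 →* (Module.End (ZMod 2) ↥(LinearMap.range pC))ˣ :=
      ((QuotientGroup.kerLift ρC).comp ((QuotientGroup.quotientMulEquivOfEq hπk).toMonoidHom.comp
        (QuotientGroup.quotientKerEquivOfSurjective π hπ).symm.toMonoidHom)).comp e.symm.toMonoidHom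
    let f := (Units.coeHom _).comp f0
    have hf : Function.Injective f := Units.val_injective.comp <|
      ((QuotientGroup.kerLift_injective ρC).comp ((QuotientGroup.quotientMulEquivOfEq hπk).injective.comp
        (QuotientGroup.quotientKerEquivOfSurjective π hπ).symm.injective)).comp e.symm.injective
    have hk1 : 1 ≤ k := by
      by_contra h0
      refine hnK (LinearMap.ext fun w => ?_)
      haveI : Subsingleton ↥W := (Nat.card_eq_one_iff_unique.1 (by rw [hcardW, show k = 0 by omega]; rfl)).1
      exact Subsingleton.elim _ _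
    have hd := card_dvd_gl f hf
    rw [card_Q112, ZMod.card] at hd
    have hkle : k ≤ 6 := by omega
    rcases eq_or_ne k 1 with h1 | h1
    · exact no_embedding_ten (by omega) f hf
    · rw [show Module.finrank (ZMod 2) ↥(LinearMap.range pC) = 12 - 2 * k by omega] at hd
      interval_cases k <;> first | exact absurd rfl h1 | norm_num [Fin.prod_univ_succ] at hd

end Cfsg.Lib.FischerLarge
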