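import Cfsg.Agent.Lib.FischerLarge.SplitMain
import Cfsg.Prelude.Def_CaseTheorems

/-!
# The centralizer of the element of order three is a six-fold cover of the unitary group
-/

set_option autoImplicit false
set_option maxRecDepth 4000
set_option maxHeartbeats 800000

namespace Cfsg.Lib.FischerLarge

open Cfsg Cfsg.Lib.SUSixU43 Cfsg.Lib.Extra

attribute [local irreducible] KM Zc gen mat mulM prodM lettM stabBig spMats spWord spOps spCore spDiff spTrees phi

universe u v

variable {G : Type u} [Group G] [Finite G] {z : G} {Q : Subgroup G} (D : Coord z Q)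
variable {x : G} (hxM : x ∈ D.M) (hπx : D.π ⟨x, hxM⟩ = Zc) (hx3 : x ^ 3 = 1)
include hπx hx3

omit hπx hx3 in
theorem eps_of_cube (x r : G) (h : (r * x) ^ 3 = 1) (hx : x ^ 3 = 1) : eps x r = 1 := by
  have : (r * x) ^ 3 = eps x r * x ^ 3 := by
    simp only [eps, pow_succ, pow_zero, one_mul]
    group
  rwa [h, hx, mul_one, eq_comm] at this

/-- Every element of the model is realised by an element centralizing the element of order three. -/
theorem Coord.exists_cent_pre {a : G6} (ha : a ∈ KM D.c) :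
    ∃ m : ↥D.M, D.π m = a ∧ Commute (m : G) x := by
  obtain ⟨m, rfl⟩ := D.exists_pre ha
  have hxz : Commute x z := D.m_comm ⟨x, hxM⟩
  set r := (m : G) * x * (m : G)⁻¹ * x⁻¹ with hr
  have hrQ : r ∈ Q := by
    refine (D.π_ker (m * ⟨x, hxM⟩ * m⁻¹ * ⟨x, hxM⟩⁻¹)).1 ?_
    rw [map_mul, map_mul, map_mul, map_inv, map_inv, hπx, ← Zc_comm]
    group
  have hre : eps x r = 1 := eps_of_cube x r (by rw [hr, inv_mul_cancel_right, conj_pow, hx3]; group) hx3
  obtain ⟨hq, hqc⟩ := D.lift_spec (om • D.cl r)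
  set q := D.lift (om • D.cl r)
  have hq' : q⁻¹ ∈ Q := inv_mem hq
  set r' := q * x * q⁻¹ * x⁻¹ with hr'
  have e1 : r' = q * (x * q⁻¹ * x⁻¹) := by rw [hr']; group
  have hr'Q : r' ∈ Q := e1 ▸ mul_mem hq (conj_mem D.ctx hxz hq')
  have hr'c : D.cl r = D.cl r' := by
    rw [e1, D.cl_mul _ hq _ (conj_mem D.ctx hxz hq'), D.cl_conj_x hxM hπx hq', D.cl_inv_split hq, hqc]
    exact v6_eq_of_add (om_orbit _)
  have hr'e : eps x r' = 1 := eps_of_cube x r' (by rw [hr', inv_mul_cancel_right, conj_pow, hx3]; group) hx3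
  have hrr : r' = r := by
    rcases (D.cl_eq r hrQ r' hr'Q).1 hr'c with e | e
    · exact e
    · rw [e, D.eps_z_mul hrQ hxz, hre, mul_one] at hr'e
      exact absurd hr'e D.ctx.ne_one
  refine ⟨⟨q⁻¹, D.Q_le hq'⟩ * m, by rw [map_mul, (D.π_ker ⟨q⁻¹, _⟩).2 hq', one_mul], ?_⟩
  refine mul_inv_eq_iff_eq_mul.1 ?_
  show q⁻¹ * (m : G) * x * (q⁻¹ * (m : G))⁻¹ = x
  rw [show q⁻¹ * (m : G) * x * (q⁻¹ * (m : G))⁻¹ = q⁻¹ * (r * x) * q by rw [hr]; group, ← hrr, hr']
  group

/-- The centralizer of the element of order three. -/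
theorem Coord.cent_facts {L : Type v} [Group L] [Finite L] {g₁ : G} (hg₁ : g₁ * z * g₁⁻¹ ∈ Q)
    (hne₁ : g₁ * z * g₁⁻¹ ≠ z) (ι : L →* G) (hι : Function.Injective ι)
    (hL : ∀ g, g ∈ ι.range ↔ Commute g z ∧ Commute g x) :
    IsQuasisimple L ∧ IsCyclic ↥(Subgroup.center L) ∧ Nat.card ↥(Subgroup.center L) = 6 ∧
      Nonempty (L ⧸ Subgroup.center L ≃* ↥Q112) := by
  classical
  haveI := finite_G6
  have hc := D.c_lt
  have hxz : Commute x z := D.m_comm ⟨x, hxM⟩
  have hι' : ∀ l, Commute (ι l) z ∧ Commute (ι l) x := fun l => (hL _).1 ⟨l, rfl⟩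
  -- everything lies in the unitary part
  have hM : ∀ l, ι l ∈ D.M := by
    intro l
    by_contra h
    obtain ⟨hlz, hlx⟩ := hι' l
    obtain ⟨hvB, -⟩ := D.orb.sing vB (Or.inr (by rw [D.B_eq]; exact (sb_vB hc).2.2))
    have h1 := D.sg_conj hlz ⟨x, hxM⟩ (D.sg (ι l)⁻¹ vB)
    have e : (⟨ι l * x * (ι l)⁻¹, D.M_normal _ (mem_cent_of_commute hlz) x hxM⟩ : ↥D.M) = ⟨x, hxM⟩ :=
      Subtype.ext (show ι l * x * (ι l)⁻¹ = x by rw [hlx.eq, mul_inv_cancel_right])
    rw [e, hπx, Zc_smul, Zc_smul, D.outer_twist rfl hg₁ hne₁ hlz h, D.sg_inv hlz, tau_om.1, add_smul,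
      one_smul] at h1
    exact hvB (add_left_cancel (h1.trans (add_zero _).symm))
  -- the map to the model
  let f : L →* ↥(KM D.c) := (D.π.comp (ι.codRestrict D.M hM)).codRestrict (KM D.c) fun l => D.π_mem _
  have hfs : Function.Surjective f := by
    rintro ⟨a, ha⟩
    obtain ⟨m, hm, hmx⟩ := D.exists_cent_pre hxM hπx hx3 ha
    obtain ⟨l, hl⟩ := (hL m).2 ⟨D.m_comm m, hmx⟩
    refine ⟨l, Subtype.ext ?_⟩
    show D.π ⟨ι l, hM l⟩ = a
    rw [← hm]
    exact congrArg D.π (Subtype.ext hl)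
  obtain ⟨zL, hzL⟩ := (hL z).2 ⟨Commute.refl z, hxz.symm⟩
  obtain ⟨xL, hxL⟩ := (hL x).2 ⟨hxz, Commute.refl x⟩
  have hzc : ∀ l, l * zL = zL * l := fun l => hι (by rw [map_mul, map_mul, hzL]; exact (hι' l).1)
  have hxc : ∀ l, l * xL = xL * l := fun l => hι (by rw [map_mul, map_mul, hxL]; exact (hι' l).2)
  have hzz : zL * zL = 1 := hι (by rw [map_mul, hzL, D.ctx.sq_z, map_one])
  have hx3' : xL ^ 3 = 1 := hι (by rw [map_pow, hxL, hx3, map_one])
  have hzo : orderOf zL = 2 := orderOf_eq_prime (by rw [pow_two, hzz]) fun e =>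
    D.ctx.ne_one (by rw [← hzL, e, map_one])
  have hfker : ∀ l, f l = 1 ↔ l = 1 ∨ l = zL := by
    intro l
    constructor
    · intro h
      have hQ : ι l ∈ Q := (D.π_ker ⟨ι l, hM l⟩).1 (congrArg Subtype.val h)
      rcases D.fixed_x hxM hπx hQ (hι' l).2 with e | e
      · exact Or.inl (hι (by rw [e, map_one]))
      · exact Or.inr (hι (by rw [e, hzL]))
    · rintro (rfl | rfl)
      · exact map_one f
      · refine Subtype.ext ?_
        show D.π ⟨ι l, hM l⟩ = 1
        exact (D.π_ker _).2 (show ι l ∈ Q by rw [hzL]; exact D.ctx.mem)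
  have hfx : f xL = ⟨Zc, Zc_mem D.c⟩ := Subtype.ext (by
    show D.π ⟨ι xL, hM xL⟩ = Zc
    rw [← hπx]
    exact congrArg D.π (Subtype.ext hxL))
  -- the map to the simple group
  let p : L →* ↥Q112 := ((phi hc).comp f).codRestrict Q112 fun l => by
    have h : phi hc (f l) ∈ (phi hc).range := ⟨_, rfl⟩
    rwa [phi_range hc] at h
  have hps : Function.Surjective p := by
    rintro ⟨q, hq⟩
    obtain ⟨a, ha⟩ : q ∈ (phi hc).range := by rw [phi_range hc]; exact hq
    obtain ⟨l, rfl⟩ := hfs a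
    exact ⟨l, Subtype.ext ha⟩
  have hpker : ∀ l, p l = 1 ↔ (f l : G6) ∈ C6 := fun l =>
    ⟨fun h => ker_phi hc (congrArg Subtype.val h), fun h => Subtype.ext (phi_C6 hc h)⟩
  have hker_dec : ∀ l ∈ p.ker, ∃ i : ℕ, l = xL ^ i ∨ l = zL * xL ^ i := by
    intro l hl
    obtain ⟨i, hi⟩ : ∃ i : ℕ, f l = f (xL ^ i) := by
      rcases C6_cases ((hpker l).1 (MonoidHom.mem_ker.1 hl)) with e | e | e
      · exact ⟨0, by rw [pow_zero, map_one]; exact Subtype.ext e⟩
      · exact ⟨1, by rw [pow_one, hfx]; exact Subtype.ext e⟩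
      · exact ⟨2, by rw [map_pow, hfx, pow_two]; exact Subtype.ext e⟩
    have h1 : f (l * (xL ^ i)⁻¹) = 1 := by rw [map_mul, map_inv, hi, mul_inv_cancel]
    rcases (hfker _).1 h1 with e | e
    · exact ⟨i, Or.inl (mul_inv_eq_one.1 e)⟩
    · exact ⟨i, Or.inr (mul_inv_eq_iff_eq_mul.1 e)⟩
  have hzcen : zL ∈ Subgroup.center L := Subgroup.mem_center_iff.2 hzc
  have hxcen : xL ∈ Subgroup.center L := Subgroup.mem_center_iff.2 hxc
  have hcen : Subgroup.center L = p.ker := by
    refine le_antisymm (fun l hl => ?_) fun l hl => ?_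
    · have : p l ∈ Subgroup.center ↥Q112 := Subgroup.mem_center_iff.2 fun q => by
        obtain ⟨k, rfl⟩ := hps q
        rw [← map_mul, ← map_mul, Subgroup.mem_center_iff.1 hl k]
      rw [center_Q112] at this
      exact Subgroup.mem_bot.1 this
    · obtain ⟨i, rfl | rfl⟩ := hker_dec l hl
      · exact pow_mem hxcen i
      · exact mul_mem hzcen (pow_mem hxcen i)
  have hfkc : Nat.card ↥f.ker = 2 := by
    rw [show f.ker = Subgroup.zpowers zL from ?_, Nat.card_zpowers, hzo]
    refine le_antisymm (fun l hl => ?_) (Subgroup.zpowers_le.2 ((hfker zL).2 (Or.inr rfl)))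
    rcases (hfker l).1 hl with rfl | rfl
    · exact one_mem _
    · exact Subgroup.mem_zpowers _
  have hcard6 : Nat.card ↥(Subgroup.center L) = 6 := by
    have h1 := f.ker.card_mul_index
    rw [Subgroup.index_ker, MonoidHom.range_eq_top.2 hfs, Subgroup.card_top, card_KM hc, hfkc] at h1
    have h2 := p.ker.card_mul_index
    rw [Subgroup.index_ker, MonoidHom.range_eq_top.2 hps, Subgroup.card_top, card_Q112, ← hcen] at h2
    omega
  have hcyc : IsCyclic ↥(Subgroup.center L) := by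
    refine isCyclic_of_orderOf_eq_card ⟨zL * xL, mul_mem hzcen hxcen⟩ ?_
    rw [Subgroup.orderOf_mk, hcard6]
    have hxo : orderOf xL = 3 := by
      haveI : Fact (Nat.Prime 3) := ⟨Nat.prime_three⟩
      refine orderOf_eq_prime hx3' fun e => Zc_ne ?_
      rw [e, map_one] at hfx
      exact (congrArg Subtype.val hfx).symm
    rw [(show Commute zL xL from (hzc xL).symm).orderOf_mul_eq_mul_orderOf_of_coprime (by rw [hzo, hxo]; decide),
      hzo, hxo]
  haveI hsimple : IsSimpleGroup ↥Q112 := by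
    obtain ⟨e⟩ := psu_equiv_Q112
    haveI := simple_psu
    exact e.symm.isSimpleGroup
  -- perfection
  have hperf : commutator L = ⊤ := by
    set C' := commutator L with hC'
    have hmap : C'.map f = commutator ↥(KM D.c) := by
      rw [hC', map_commutator_eq, MonoidHom.range_eq_top.2 hfs, commutator_def]
    obtain ⟨l, hl, hlf⟩ : ⟨Zc, Zc_mem D.c⟩ ∈ C'.map f := hmap ▸ Zc_commutator hc
    have hxC : xL ∈ C' := by
      have h1 : f (l * xL⁻¹) = 1 := by rw [map_mul, map_inv, hlf, hfx, mul_inv_cancel]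
      rcases (hfker _).1 h1 with e | e
      · rw [← mul_inv_eq_one.1 e]
        exact hl
      · have h4 : xL = l ^ 4 := by
          rw [mul_inv_eq_iff_eq_mul.1 e, (show Commute zL xL from (hzc xL).symm).mul_pow, show zL ^ 4 = 1 by
            rw [show (4 : ℕ) = 2 * 2 by norm_num, pow_mul, pow_two zL, hzz, one_pow], one_mul, pow_succ, hx3', one_mul]
        rw [h4]
        exact pow_mem hl 4
    have hpC : C'.map p = ⊤ := by
      haveI : C'.Normal := inferInstanceAs (commutator L).Normal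
      refine ((inferInstance : C'.Normal).map p hps).eq_bot_or_eq_top.resolve_left fun h => ?_
      rw [hC', map_commutator_eq, MonoidHom.range_eq_top.2 hps] at h
      have h0 : Subgroup.center ↥Q112 = ⊤ := eq_top_iff.2 fun a _ => Subgroup.mem_center_iff.2 fun b => by
        have := Subgroup.commutator_mem_commutator (Subgroup.mem_top b) (Subgroup.mem_top a)
        rw [h, Subgroup.mem_bot, commutatorElement_eq_one_iff_mul_comm] at this
        exact this
      · have h' := center_Q112.symm.trans h0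
        have hc1 : Nat.card ↥(⊥ : Subgroup ↥Q112) = Nat.card ↥(⊤ : Subgroup ↥Q112) := by rw [h']
        rw [Subgroup.card_bot, Subgroup.card_top, card_Q112] at hc1
        omega
    have hall : ∀ l, l ∈ C' ∨ zL * l ∈ C' := by
      intro l
      obtain ⟨k, hk, hkl⟩ : p l ∈ C'.map p := hpC ▸ Subgroup.mem_top _
      obtain ⟨i, e | e⟩ := hker_dec (k⁻¹ * l) (by rw [MonoidHom.mem_ker, map_mul, map_inv, hkl, inv_mul_cancel])
      · refine Or.inl ?_
        rw [show l = k * xL ^ i by rw [← e]; group]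
        exact mul_mem hk (pow_mem hxC i)
      · refine Or.inr ?_
        rw [show l = k * (zL * xL ^ i) by rw [← e]; group, ← mul_assoc, ← hzc k, mul_assoc, ← mul_assoc zL, hzz,
          one_mul]
        exact mul_mem hk (pow_mem hxC i)
    by_contra htop
    have hzn : zL ∉ C' := fun h => htop (eq_top_iff.2 fun l _ => by
      rcases hall l with e | e
      · exact e
      · have := mul_mem h e
        rwa [← mul_assoc, hzz, one_mul] at this)
    let fC : ↥C' →* ↥(KM D.c) := f.comp C'.subtype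
    have hfC : Function.Bijective fC := by
      refine ⟨(injective_iff_map_eq_one fC).2 fun l hl => Subtype.ext ?_, fun a => ?_⟩
      · rcases (hfker (l : L)).1 hl with e | e
        · exact e
        · exact absurd (e ▸ l.2) hzn
      · obtain ⟨l, rfl⟩ := hfs a
        rcases hall l with e | e
        · exact ⟨⟨l, e⟩, rfl⟩
        · refine ⟨⟨_, e⟩, ?_⟩
          show f (zL * l) = f l
          rw [map_mul, (hfker zL).2 (Or.inr rfl), one_mul]
    let eC := MulEquiv.ofBijective fC hfC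
    refine D.not_split hxM hπx hg₁ hne₁ ((ι.comp C'.subtype).comp eC.symm.toMonoidHom) (fun a => hM _) (fun a => ?_)
      fun a => (hι' _).2
    have := congrArg Subtype.val (eC.apply_symm_apply a)
    exact this
  let e : L ⧸ Subgroup.center L ≃* ↥Q112 :=
    (QuotientGroup.quotientMulEquivOfEq hcen).trans (QuotientGroup.quotientKerEquivOfSurjective p hps)
  exact ⟨⟨⟨hperf⟩, e.isSimpleGroup⟩, hcyc, hcard6, ⟨e⟩⟩

end Cfsg.Lib.FischerLarge
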