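import Cfsg.Agent.Lib.FischerLarge.Check
import Cfsg.Agent.Lib.FischerLarge.SplitData0
import Cfsg.Agent.Lib.FischerLarge.SplitData1
import Cfsg.Agent.Lib.FischerLarge.SplitData2

/-! The certificates on the point stabiliser pass. -/

set_option autoImplicit false
set_option maxRecDepth 200000
set_option maxHeartbeats 2000000

namespace Cfsg.Lib.FischerLarge

open Cfsg.Lib.SUSixU43 Cfsg.Lib.PermAut

/-- The derived elements. -/
def spMats (c : ℕ) : List ℕ := [spMats0, spMats1, spMats2].getD c spMats0

/-- Their derivations. -/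
def spOps (c : ℕ) : List (ℕ × ℕ × ℕ) := [spOps0, spOps1, spOps2].getD c spOps0

/-- The core lists. -/
def spCore (c : ℕ) : List (List ℕ) := [spCore0, spCore1, spCore2].getD c spCore0

/-- The differences. -/
def spDiff (c : ℕ) : List (ℕ × ℕ) := [spDiff0, spDiff1, spDiff2].getD c spDiff0

/-- The balanced word. -/
def spWord (c : ℕ) : List ℕ := [spWord0, spWord1, spWord2].getD c spWord0

/-- The suborbits. -/
def spTrees (c : ℕ) : List OrbT := [spTrees0, spTrees1, spTrees2].getD c spTrees0

/-- An entry of the core lists. -/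
def spAt (c l i : ℕ) : ℕ := ((spCore c).getD l []).getD i 0

/-- The matrix at a place. -/
noncomputable def spM (c i : ℕ) : ℕ := (spMats c).getD i 0

/-- The matrix of a member of the core. -/
noncomputable def spE (c i : ℕ) : ℕ := spM c (spAt c 0 i)

/-- The derivations follow, and start at the stabiliser. -/
noncomputable def spOpsB (c : ℕ) : Bool :=
  Nat.beq (spMats c).length ((spOps c).length + 2) && opsB (spMats c) (spOps c) 2 &&
    allBelowB 2 fun k => sameM (spM c k) ((stabBig c).mats.getD k 0)

/-- The core is a normal subgroup. -/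
noncomputable def spGroupB (c : ℕ) : Bool :=
  sameM (spE c 0) oneM &&
    (allBelowB 16 fun i => Nat.blt (spAt c 0 i) (spMats c).length && allBelowB i fun j => !sameM (spE c i) (spE c j)) &&
    (allBelowB 256 fun n => Nat.blt (spAt c 3 n) 16 &&
      sameM (mulM (spE c (n / 16)) (spE c (n % 16))) (spE c (spAt c 3 n))) &&
    (allBelowB 32 fun n => Nat.blt (spAt c 4 n) 16 &&
      sameM (mulM (spM c (n / 16)) (spE c (n % 16))) (mulM (spE c (spAt c 4 n)) (spM c (n / 16))))

/-- The nontrivial members are conjugate, and separated by the centralizer of the first. -/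
noncomputable def spFixB (c : ℕ) : Bool :=
  (allBelowB 15 fun i => Nat.blt (spAt c 1 (i + 1)) (spMats c).length &&
      sameM (mulM (spM c (spAt c 1 (i + 1))) (spE c 1)) (mulM (spE c (i + 1)) (spM c (spAt c 1 (i + 1))))) &&
    allBelowB 14 fun i => Nat.blt (spAt c 2 (i + 2)) (spMats c).length &&
      sameM (mulM (spM c (spAt c 2 (i + 2))) (spE c 1)) (mulM (spE c 1) (spM c (spAt c 2 (i + 2)))) &&
      !sameM (mulM (spM c (spAt c 2 (i + 2))) (spE c (i + 2))) (mulM (spE c (i + 2)) (spM c (spAt c 2 (i + 2))))

/-- A difference. -/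
noncomputable def spD (c k : ℕ) : ℕ :=
  fN ((spDiff c).getD k (0, 0)).2 fun v => Nat.xor (appM (spE c ((spDiff c).getD k (0, 0)).1) v) v

/-- A sum of differences. -/
noncomputable def spSum (c m : ℕ) : ℕ :=
  List.rec 0 (fun k _ r => bif Nat.testBit m k then Nat.xor (spD c k) r else r) (List.range 8)

/-- The differences are independent. -/
noncomputable def spDiffB (c : ℕ) : Bool :=
  (allBelowB 8 fun k => Nat.blt ((spDiff c).getD k (0, 0)).1 16 && Nat.blt ((spDiff c).getD k (0, 0)).2 4096) &&
    allBelowB 256 fun m => allBelowB m fun m' => !Nat.beq (spSum c m) (spSum c m')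

/-- The balanced word. -/
noncomputable def spWordB (c : ℕ) : Bool :=
  (spWord c).all (fun k => Nat.beq k 0 || Nat.beq k 1 || Nat.beq k 3 || Nat.beq k 4) &&
    Nat.beq ((spWord c).count 0) ((spWord c).count 3) && Nat.beq ((spWord c).count 1) ((spWord c).count 4) &&
    sameM (prodM ((spWord c).map (lettM c))) zMat

/-- The suborbits cover and are large. -/
noncomputable def spTreeB (c : ℕ) : Bool :=
  (spTrees c).all (fun O => distB O && Nat.ble 65 O.len &&
      treeB 2 (imB [spM c 0, spM c 1]) O.get O.par 0) &&
    allBelowB 4096 fun v => !Nat.beq (hermC v 85) 1 || (spTrees c).any fun O => O.has v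

theorem spOps_ok : ∀ c < 3, spOpsB c = true := by decide +kernel

theorem spGroup_ok : ∀ c < 3, spGroupB c = true := by decide +kernel

theorem spFix_ok : ∀ c < 3, spFixB c = true := by decide +kernel

theorem spDiff_ok : ∀ c < 3, spDiffB c = true := by decide +kernel

theorem spWord_ok : ∀ c < 3, spWordB c = true := by decide +kernel

theorem spTree_ok : ∀ c < 3, spTreeB c = true := by decide +kernel

end Cfsg.Lib.FischerLarge
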