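import Cfsg.Agent.Lib.FischerLarge.Orbits
import Cfsg.Agent.Lib.FischerLarge.SplitCheck

/-!
# The stabiliser of a vector of the large orbit: its normal subgroup of order sixteen and its suborbits
-/

set_option autoImplicit false

namespace Cfsg.Lib.FischerLarge

open Cfsg Cfsg.Lib.SUSixU43 Cfsg.Lib.PermAut
open scoped Pointwise

attribute [local irreducible] KM Zc gen mat mulM prodM lettM stabBig spMats spWord spOps spCore spDiff spTrees

/-- The base vector of the large orbit. -/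
noncomputable def vB : V6 := vec 85

theorem sb_vB {c : ℕ} (hc : c < 3) :
    stab0 c (stabBig c) = Sb c vB ∧ Nat.card ↥(Sb c vB) = 5760 ∧ vB ∈ (orbBig c).set := by
  obtain ⟨-, hB, -, -, -, -, hiB, -, htB, -, hmB⟩ := orbit_facts hc
  obtain ⟨hsb, hbb, hzb⟩ := stabBig_ok c hc
  obtain ⟨heB, hcB⟩ := Sb_eq hc hsb (by omega) (by rw [hzb, hB]) (hbb.symm ▸ hmB)
    (fun g hg y hy => (hiB g hg).subset ⟨y, hy, rfl⟩) (hbb.symm ▸ htB)
  rw [hbb] at heB hcB
  rw [hzb] at hcB
  exact ⟨heB, hcB, hmB⟩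

theorem sp_elems {c : ℕ} (hc : c < 3) :
    ∀ j < (spMats c).length, ∃ g ∈ Sb c vB, mm g = mat (spM c j) := by
  intro j hj
  rw [← (sb_vB hc).1]
  have h := spOps_ok c hc
  simp only [spOpsB, Bool.and_eq_true, allBelowB_iff, Nat.beq_eq, sameM_iff] at h
  obtain ⟨⟨hlen, hops⟩, hk⟩ := h
  have hb := (stabBig_ok c hc).1
  simp only [stabB, Bool.and_eq_true, allBelowB_iff, List.all_eq_true, Nat.beq_eq, sameM_iff, Nat.blt,
    Nat.ble_eq] at hb
  obtain ⟨⟨⟨⟨⟨⟨⟨⟨⟨⟨-, hw⟩, -⟩, hletters⟩, hbk⟩, -⟩, -⟩, -⟩, -⟩, -⟩, -⟩ := hb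
  exact ops_sound (spOps c) 2 hops (fun k hk2 => ⟨word2 c (stabBig c) k,
    Subgroup.subset_closure (by interval_cases k <;> simp),
    ((word_spec hc _ fun i hi => hletters _ (getD_mem [] (by omega)) i hi).2.trans (hbk k hk2).1.symm).trans
      (hk k hk2).symm⟩) j (by omega)

/-- The elements of the core. -/
def IsCore (c : ℕ) (E : ℕ → G6) : Prop := ∀ i < 16, E i ∈ Sb c vB ∧ mm (E i) = mat (spE c i)

theorem exists_core_elems {c : ℕ} (hc : c < 3) : ∃ E, IsCore c E := by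
  have hg := spGroup_ok c hc
  rw [spGroupB, Bool.and_eq_true, Bool.and_eq_true, Bool.and_eq_true, allBelowB_iff] at hg
  have h : ∀ i, ∃ g : G6, i < 16 → g ∈ Sb c vB ∧ mm g = mat (spE c i) := fun i => by
    by_cases hi : i < 16
    · have h2 := hg.1.1.2 i hi
      rw [Bool.and_eq_true, Nat.blt, Nat.ble_eq] at h2
      obtain ⟨g, hg1, hg2⟩ := sp_elems hc _ (show spAt c 0 i < (spMats c).length from h2.1)
      exact ⟨g, fun _ => ⟨hg1, by rw [hg2, spE]⟩⟩
    · exact ⟨1, fun h => absurd h hi⟩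
  choose E hE using h
  exact ⟨E, hE⟩

theorem closed_finite {H : Type*} [Group H] [Finite H] {S : Set H} (h1 : (1 : H) ∈ S)
    (hmul : ∀ a ∈ S, ∀ b ∈ S, a * b ∈ S) : ((Subgroup.closure S : Subgroup H) : Set H) = S := by
  refine Set.Subset.antisymm (fun x hx => ?_) Subgroup.subset_closure
  have hpow : ∀ a ∈ S, ∀ n : ℕ, a ^ n ∈ S := fun a ha n => by
    induction n with
    | zero => rwa [pow_zero]
    | succ n ih => rw [pow_succ]; exact hmul _ ih _ ha
  induction hx using Subgroup.closure_induction with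
  | mem y hy => exact hy
  | one => exact h1
  | mul a b _ _ ha hb => exact hmul _ ha _ hb
  | inv a _ ha =>
    have e : a⁻¹ = a ^ (orderOf a - 1) := inv_eq_of_mul_eq_one_right (by
      rw [← pow_succ', Nat.sub_add_cancel (orderOf_pos a), pow_orderOf_eq_one])
    rw [e]
    exact hpow a ha _

/-- The normal subgroup of order sixteen of the stabiliser. -/
theorem core_facts {c : ℕ} (hc : c < 3) :
    ∃ R : Subgroup G6, R ≤ Sb c vB ∧ Nat.card ↥R = 16 ∧ (∀ a ∈ R, a * a = 1) ∧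
      (∀ g ∈ Sb c vB, ∀ a ∈ R, g * a * g⁻¹ ∈ R) ∧
      (∀ a ∈ R, a ≠ 1 → ∀ b ∈ R, b ≠ 1 → ∃ g ∈ Sb c vB, g * a * g⁻¹ = b) ∧
      (∀ a ∈ R, a ≠ 1 → ∀ b ∈ R, (∀ g ∈ Sb c vB, g * a = a * g → g * b = b * g) → b = 1 ∨ b = a) ∧
      (∀ H : AddSubgroup V6, (∀ a ∈ R, ∀ v : V6, a • v + v ∈ H) → 256 ≤ Nat.card ↥H) := by
  classical
  haveI := finite_G6
  obtain ⟨E, hE⟩ := exists_core_elems hc
  have eqE : ∀ {g h : G6} {a b : ℕ}, mm g = mat a → mm h = mat b → sameM a b = true → g = h :=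
    fun hg hh e => mm_injective (by rw [hg, hh, (sameM_iff _ _).1 e])
  have neE : ∀ {g h : G6} {a b : ℕ}, mm g = mat a → mm h = mat b → sameM a b = false → g ≠ h :=
    fun {g h a b} hg hh e he => Bool.false_ne_true (e.symm.trans ((sameM_iff a b).2 (by rw [← hg, ← hh, he])))
  have hg := spGroup_ok c hc
  simp only [spGroupB, Bool.and_eq_true, allBelowB_iff, Nat.blt, Nat.ble_eq, Bool.not_eq_true'] at hg
  obtain ⟨⟨⟨h0, hdist⟩, hprod⟩, hconj⟩ := hg
  have hf := spFix_ok c hc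
  simp only [spFixB, Bool.and_eq_true, allBelowB_iff, Nat.blt, Nat.ble_eq, Bool.not_eq_true'] at hf
  obtain ⟨hmov, hsep⟩ := hf
  have hlt : ∀ {n b : ℕ}, n + 1 ≤ b → n < b := fun h => h
  have hmul : ∀ {g h : G6} {a b : ℕ}, mm g = mat a → mm h = mat b → mm (g * h) = mat (mulM a b) :=
    fun hg hh => by rw [map_mul, hg, hh, mat_mulM]
  have E0 : E 0 = 1 := eqE (hE 0 (by norm_num)).2 ((map_one mm).trans mat_oneM.symm) h0
  have hinj : ∀ i < 16, ∀ j < 16, E i = E j → i = j := fun i hi j hj e => by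
    rcases Nat.lt_trichotomy i j with h | h | h
    · exact absurd e.symm (neE (hE j hj).2 (hE i hi).2 ((hdist j hj).2 i h))
    · exact h
    · exact absurd e (neE (hE i hi).2 (hE j hj).2 ((hdist i hi).2 j h))
  have hEE : ∀ i < 16, ∀ j < 16, E i * E j = E (spAt c 3 (16 * i + j)) := fun i hi j hj => by
    obtain ⟨hb, he⟩ := hprod (16 * i + j) (by omega)
    rw [show (16 * i + j) / 16 = i by omega, show (16 * i + j) % 16 = j by omega] at he
    exact eqE (hmul (hE i hi).2 (hE j hj).2) (hE _ hb).2 he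
  have hsq : ∀ i < 16, E i * E i = 1 := fun i hi => by
    have h : ∀ c < 3, ∀ i < 16, spAt c 3 (16 * i + i) = 0 := by decide +kernel
    rw [hEE i hi i hi, h c hc i hi, E0]
  set S : Set G6 := {x | ∃ i < 16, E i = x} with hS
  have hclosed : ((Subgroup.closure S : Subgroup G6) : Set G6) = S := closed_finite ⟨0, by norm_num, E0⟩ (by
    rintro _ ⟨i, hi, rfl⟩ _ ⟨j, hj, rfl⟩
    exact ⟨_, (hprod (16 * i + j) (by omega)).1, (hEE i hi j hj).symm⟩)
  have hmem : ∀ {x}, x ∈ Subgroup.closure S ↔ ∃ i < 16, E i = x := fun {x} => Set.ext_iff.1 hclosed x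
  have hgen : ∀ k < 2, ∀ g : G6, mm g = mat (spM c k) → ∀ x ∈ S, g * x * g⁻¹ ∈ S := by
    rintro k hk g hg _ ⟨i, hi, rfl⟩
    obtain ⟨hb, he⟩ := hconj (16 * k + i) (by omega)
    rw [show (16 * k + i) / 16 = k by omega, show (16 * k + i) % 16 = i by omega] at he
    have hb' : spAt c 4 (16 * k + i) < 16 := hb
    have e : g * E i = E (spAt c 4 (16 * k + i)) * g :=
      eqE (hmul hg (hE i hi).2) (hmul (hE _ hb').2 hg) he
    refine ⟨spAt c 4 (16 * k + i), hb', ?_⟩
    rw [e, mul_inv_cancel_right]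
  have hnorm : ∀ g ∈ Sb c vB, ∀ x ∈ S, g * x * g⁻¹ ∈ S := by
    intro g hg
    rw [← (sb_vB hc).1] at hg
    let T : Set G6 := {g | ∀ x ∈ S, g * x * g⁻¹ ∈ S}
    have hT : ((Subgroup.closure T : Subgroup G6) : Set G6) = T := closed_finite (fun x hx => by simpa using hx)
      fun a ha b hb x hx => by
        rw [show a * b * x * (a * b)⁻¹ = a * (b * x * b⁻¹) * a⁻¹ by group]
        exact ha _ (hb x hx)
    have hsub : ({word2 c (stabBig c) 0, word2 c (stabBig c) 1} : Set G6) ⊆ T := by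
      have hb := (stabBig_ok c hc).1
      simp only [stabB, Bool.and_eq_true, allBelowB_iff, List.all_eq_true, Nat.beq_eq, sameM_iff, Nat.blt,
        Nat.ble_eq] at hb
      obtain ⟨⟨⟨⟨⟨⟨⟨⟨⟨⟨-, hw⟩, -⟩, hletters⟩, hbk⟩, -⟩, -⟩, -⟩, -⟩, -⟩, -⟩ := hb
      have ho := spOps_ok c hc
      simp only [spOpsB, Bool.and_eq_true, allBelowB_iff, Nat.beq_eq, sameM_iff] at ho
      have key : ∀ k < 2, word2 c (stabBig c) k ∈ T := fun k hk => hgen k hk _
        (((word_spec hc _ fun i hi => hletters _ (getD_mem [] (by omega)) i hi).2.trans (hbk k hk).1.symm).trans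
          (ho.2 k hk).symm)
      rintro x (rfl | rfl)
      exacts [key 0 (by norm_num), key 1 (by norm_num)]
    exact (Set.ext_iff.1 hT g).1 (Subgroup.closure_mono hsub hg)
  have hne1 : ∀ i < 16, E i ≠ 1 → 1 ≤ i := fun i _ h => by
    rcases i with - | i
    exacts [absurd E0 h, Nat.le_add_left 1 i]
  have htr : ∀ i < 16, E i ≠ 1 → ∃ g ∈ Sb c vB, g * E 1 * g⁻¹ = E i := fun i hi h => by
    obtain ⟨i, rfl⟩ : ∃ j, i = j + 1 := ⟨i - 1, by have := hne1 i hi h; omega⟩
    obtain ⟨hb, he⟩ := hmov i (by omega)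
    obtain ⟨g, hg, hge⟩ := sp_elems hc _ (hlt hb)
    have e : g * E 1 = E (i + 1) * g :=
      eqE (hmul hge (hE 1 (by norm_num)).2) (hmul (hE (i + 1) hi).2 hge) he
    refine ⟨g, hg, ?_⟩
    rw [e, mul_inv_cancel_right]
  refine ⟨Subgroup.closure S, (Subgroup.closure_le _).2 (by rintro _ ⟨i, hi, rfl⟩; exact (hE i hi).1), ?_,
    fun a ha => ?_, fun g hg a ha => hmem.2 (hnorm g hg a (hmem.1 ha)), fun a ha ha1 b hb hb1 => ?_,
    fun a ha ha1 b hb hab => ?_, fun H hH => ?_⟩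
  · rw [show Nat.card ↥(Subgroup.closure S) = ((Subgroup.closure S : Subgroup G6) : Set G6).ncard from rfl,
      hclosed, show S = (fun i => E i) '' ↑(Finset.range 16) from Set.ext fun x => by simp [hS],
      Set.ncard_image_of_injOn (fun i hi j hj => hinj i (by simpa using hi) j (by simpa using hj)),
      Set.ncard_coe_finset, Finset.card_range]
  · obtain ⟨i, hi, rfl⟩ := hmem.1 ha
    exact hsq i hi
  · obtain ⟨i, hi, rfl⟩ := hmem.1 ha
    obtain ⟨j, hj, rfl⟩ := hmem.1 hb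
    obtain ⟨g, hg, e⟩ := htr i hi ha1
    obtain ⟨k, hk, e'⟩ := htr j hj hb1
    refine ⟨k * g⁻¹, mul_mem hk (inv_mem hg), ?_⟩
    rw [← e, ← e']
    group
  · obtain ⟨i, hi, rfl⟩ := hmem.1 ha
    obtain ⟨g, hg, e⟩ := htr i hi ha1
    obtain ⟨j, hj, hje⟩ := hnorm g⁻¹ (inv_mem hg) b (hmem.1 hb)
    have hbj : b = g * E j * g⁻¹ := by rw [hje]; group
    by_contra hne
    push Not at hne
    have hj2 : 2 ≤ j := by
      rcases j with - | - | j
      · exact absurd (by rw [hbj, E0, mul_one, mul_inv_cancel]) hne.1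
      · exact absurd (hbj.trans e) hne.2
      · omega
    obtain ⟨j, rfl⟩ : ∃ k, j = k + 2 := ⟨j - 2, by omega⟩
    obtain ⟨⟨hbw, he1⟩, he2⟩ := hsep j (by omega)
    obtain ⟨w, hw, hwe⟩ := sp_elems hc _ (hlt hbw)
    have c1 : w * E 1 = E 1 * w := eqE (hmul hwe (hE 1 (by norm_num)).2) (hmul (hE 1 (by norm_num)).2 hwe) he1
    have h2 := hab (g * w * g⁻¹) (mul_mem (mul_mem hg hw) (inv_mem hg)) (by
      rw [← e, show g * w * g⁻¹ * (g * E 1 * g⁻¹) = g * (w * E 1) * g⁻¹ by group, c1]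
      group)
    rw [hbj, show g * w * g⁻¹ * (g * E (j + 2) * g⁻¹) = g * (w * E (j + 2)) * g⁻¹ by group,
      show g * E (j + 2) * g⁻¹ * (g * w * g⁻¹) = g * (E (j + 2) * w) * g⁻¹ by group] at h2
    exact neE (hmul hwe (hE _ hj).2) (hmul (hE _ hj).2 hwe) he2 (mul_left_cancel (mul_right_cancel h2))
  · have hd := spDiff_ok c hc
    simp only [spDiffB, Bool.and_eq_true, allBelowB_iff, Nat.blt, Nat.ble_eq, Bool.not_eq_true'] at hd
    obtain ⟨hb, hdd⟩ := hd
    have hx : ∀ a b : ℕ, vec (Nat.xor a b) = vec a + vec b := fun a b => funext fun i => by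
      show el (vdig (Nat.xor a b) i) = el (vdig a i) + el (vdig b i)
      rw [← el_ad]
      congr 1
      show (a ^^^ b) / 4 ^ (i : ℕ) % 4 = (a / 4 ^ (i : ℕ) % 4 % 4) ^^^ (b / 4 ^ (i : ℕ) % 4 % 4)
      rw [Nat.mod_mod, Nat.mod_mod, show (4 : ℕ) ^ (i : ℕ) = 2 ^ (2 * (i : ℕ)) by rw [pow_mul]; norm_num,
        ← Nat.shiftRight_eq_div_pow, Nat.shiftRight_xor_distrib, Nat.shiftRight_eq_div_pow,
        Nat.shiftRight_eq_div_pow, show (4 : ℕ) = 2 ^ 2 by norm_num, Nat.xor_mod_two_pow]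
    have hD : ∀ k < 8, vec (spD c k) ∈ H ∧ spD c k < 4096 := fun k hk => by
      obtain ⟨h1, h2⟩ := hb k hk
      set v := ((spDiff c).getD k (0, 0)).2
      set i := ((spDiff c).getD k (0, 0)).1
      rw [spD, fN_eq]
      refine ⟨?_, Nat.xor_lt_two_pow (n := 12) (by simp only [appM, pack]; omega) (show v < 4096 from hlt h2)⟩
      rw [hx, vec_appM_smul (hE i (hlt h1)).2]
      exact hH _ (hmem.2 ⟨i, hlt h1, rfl⟩) _
    have hsum : ∀ (m : ℕ) (l : List ℕ), (∀ k ∈ l, k < 8) →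
        vec (List.rec 0 (fun k _ r => bif Nat.testBit m k then Nat.xor (spD c k) r else r) l : ℕ) ∈ H ∧
          (List.rec 0 (fun k _ r => bif Nat.testBit m k then Nat.xor (spD c k) r else r) l : ℕ) < 4096 := by
      intro m l
      induction l with
      | nil => exact fun _ => ⟨by rw [show vec 0 = 0 from vec_zero]; exact zero_mem H, by norm_num⟩
      | cons k l ih =>
        intro h
        obtain ⟨h1, h2⟩ := ih fun j hj => h j (List.mem_cons_of_mem _ hj)
        obtain ⟨h3, h4⟩ := hD k (h k (List.mem_cons_self ..))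
        cases ht : Nat.testBit m k <;> simp only [ht, cond_true, cond_false]
        · exact ⟨h1, h2⟩
        · exact ⟨by rw [hx]; exact add_mem h3 h1, Nat.xor_lt_two_pow (n := 12) h4 h2⟩
    have hS' : ∀ m, vec (spSum c m) ∈ H ∧ spSum c m < 4096 := fun m =>
      hsum m (List.range 8) fun k hk => List.mem_range.1 hk
    haveI : Finite ↥H := Finite.of_injective (fun x : ↥H => (x : V6)) Subtype.val_injective
    refine (Nat.card_fin 256).symm.le.trans (Nat.card_le_card_of_injective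
      (fun m : Fin 256 => (⟨_, (hS' m).1⟩ : ↥H)) fun m m' e => Fin.ext ?_)
    have e' := vec_inj (hS' m).2 (hS' m').2 (congrArg Subtype.val e)
    rcases Nat.lt_trichotomy (m : ℕ) m' with h | h | h
    · have := hdd m' m'.isLt m h
      rw [e', Nat.beq_refl] at this
      exact Bool.noConfusion this
    · exact h
    · have := hdd m m.isLt m' h
      rw [e', Nat.beq_refl] at this
      exact Bool.noConfusion this

/-- Every vector with product one with the base vector has a suborbit of length at least 65. -/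
theorem suborbit_large {c : ℕ} (hc : c < 3) {v : V6} (hv : hermForm 6 R4 2 v vB = 1) :
    ∃ t : Fin 65 → G6, (∀ i, t i ∈ Sb c vB) ∧ Function.Injective fun i => t i • v := by
  obtain ⟨a, ha, rfl⟩ := exists_code v
  have h := spTree_ok c hc
  simp only [spTreeB, Bool.and_eq_true, allBelowB_iff, List.all_eq_true, List.any_eq_true, Nat.ble_eq,
    Bool.or_eq_true, Bool.not_eq_true'] at h
  obtain ⟨htree, hcov⟩ := h
  have h1 : hermC a 85 = 1 := by
    rw [vB, herm_vec, show (1 : R4) = el 1 by decide] at hv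
    exact el_injOn (hermC_lt a 85) (by norm_num) hv
  rcases hcov a ha with h | ⟨O, hO, hhas⟩
  · rw [h1, Nat.beq_refl] at h
    exact Bool.noConfusion h
  obtain ⟨⟨hd, hlen⟩, ht⟩ := htree O hO
  have hreach : ∀ j < O.len, ∃ g ∈ Sb c vB, g • vec (O.get 0) = vec (O.get j) := by
    refine tree_root (P := fun u => ∃ g ∈ Sb c vB, g • vec (O.get 0) = vec u) ht (fun k hk u hu => ?_)
      ⟨1, one_mem _, one_smul _ _⟩
    obtain ⟨g, hg, hgu⟩ := hu
    have ho := spOps_ok c hc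
    simp only [spOpsB, Bool.and_eq_true, Nat.beq_eq] at ho
    obtain ⟨w, hw, hwe⟩ := sp_elems hc k (by omega)
    refine ⟨w * g, mul_mem hw hg, ?_⟩
    rw [mul_smul, hgu]
    interval_cases k <;> exact (vec_appM_smul hwe u).symm
  choose g hg hge using hreach
  obtain ⟨i, hi, hia⟩ := (has_iff hd ha).1 hhas
  refine ⟨fun j => g j (lt_of_lt_of_le j.isLt hlen) * (g i hi)⁻¹, fun j => mul_mem (hg _ _) (inv_mem (hg _ _)),
    fun j k e => ?_⟩
  have key : ∀ j : Fin 65, (g j (lt_of_lt_of_le j.isLt hlen) * (g i hi)⁻¹) • vec a = vec (O.get j) := fun j => by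
    rw [mul_smul, ← hia, inv_smul_eq_iff.2 (hge i hi).symm, hge]
  have e' : vec (O.get j) = vec (O.get k) := by rw [← key, ← key]; exact e
  have hjk := vec_inj (get_lt hd (lt_of_lt_of_le j.isLt hlen)) (get_lt hd (lt_of_lt_of_le k.isLt hlen)) e'
  simp only [distB, allBelowB_iff, Bool.and_eq_true, Nat.beq_eq] at hd
  exact Fin.ext (by rw [← (hd j (lt_of_lt_of_le j.isLt hlen)).2, hjk, (hd k (lt_of_lt_of_le k.isLt hlen)).2])

theorem balanced_prod {A : Type*} [CommGroup A] (f : ℕ → A) (h3 : f 3 = (f 0)⁻¹) (h4 : f 4 = (f 1)⁻¹) :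
    ∀ l : List ℕ, (∀ k ∈ l, k = 0 ∨ k = 1 ∨ k = 3 ∨ k = 4) →
      (l.map f).prod = f 0 ^ ((l.count 0 : ℤ) - l.count 3) * f 1 ^ ((l.count 1 : ℤ) - l.count 4)
  | [], _ => by simp
  | k :: l, h => by
    rw [List.map_cons, List.prod_cons, balanced_prod f h3 h4 l fun j hj => h j (List.mem_cons_of_mem _ hj)]
    rcases h k (List.mem_cons_self ..) with rfl | rfl | rfl | rfl <;>
      simp [List.count_cons, h3, h4, zpow_sub, zpow_add, add_sub_right_comm, sub_add_eq_sub_sub, mul_comm,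
        mul_left_comm, mul_assoc]

theorem balanced_commutator {c : ℕ} (hc : c < 3) (w : List ℕ) (hl : ∀ k ∈ w, k = 0 ∨ k = 1 ∨ k = 3 ∨ k = 4)
    (h03 : w.count 0 = w.count 3) (h14 : w.count 1 = w.count 4) (x : ↥(KM c))
    (hx : mat (prodM (w.map (lettM c))) = mm (x : G6)) : x ∈ commutator ↥(KM c) := by
  have hex : ∀ k, ∃ y : ↥(KM c), k < 6 → (y : G6) = lett c k := fun k => by
    by_cases h : k < 6
    · exact ⟨⟨lett c k, (lett_spec hc h).1⟩, fun _ => rfl⟩
    · exact ⟨1, fun h' => absurd h' h⟩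
  choose L hL using hex
  have hw : ∀ k ∈ w, k < 6 := fun k hk => by rcases hl k hk with h | h | h | h <;> omega
  have e : (w.map L).prod = x := Subtype.ext (mm_injective (by
    rw [SubmonoidClass.coe_list_prod, List.map_map,
      List.map_congr_left (f := Subtype.val ∘ L) (g := lett c) fun k hk => hL k (hw k hk),
      (word_spec hc w hw).2, hx]))
  have l3 : lett c 3 = (lett c 0)⁻¹ := by
    rw [lett, lett, if_neg (by norm_num), if_pos (by norm_num)]
  have l4 : lett c 4 = (lett c 1)⁻¹ := by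
    rw [lett, lett, if_neg (by norm_num), if_pos (by norm_num)]
  have h3 : L 3 = (L 0)⁻¹ := Subtype.ext (by
    rw [Subgroup.coe_inv, hL 3 (by norm_num), hL 0 (by norm_num), l3])
  have h4 : L 4 = (L 1)⁻¹ := Subtype.ext (by
    rw [Subgroup.coe_inv, hL 4 (by norm_num), hL 1 (by norm_num), l4])
  rw [← e, ← Abelianization.ker_of, MonoidHom.mem_ker, map_list_prod, List.map_map,
    balanced_prod _ (by simp [h3]) (by simp [h4]) _ hl, h03, h14]
  simp

/-- The scalar is in the commutator subgroup of the model. -/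
theorem Zc_commutator {c : ℕ} (hc : c < 3) :
    (⟨Zc, Zc_mem c⟩ : ↥(KM c)) ∈ commutator ↥(KM c) := by
  have h := spWord_ok c hc
  rw [spWordB, Bool.and_eq_true, Bool.and_eq_true, Bool.and_eq_true, List.all_eq_true, Nat.beq_eq, Nat.beq_eq,
    sameM_iff] at h
  refine balanced_commutator hc (spWord c) (fun k hk => ?_) h.1.1.2 h.1.2 _ (h.2.trans mm_Zc.symm)
  have := h.1.1.1 k hk
  rw [Bool.or_eq_true, Bool.or_eq_true, Bool.or_eq_true, Nat.beq_eq, Nat.beq_eq, Nat.beq_eq, Nat.beq_eq] at this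
  omega

end Cfsg.Lib.FischerLarge
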