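import Cfsg.Agent.Lib.FischerLarge.SplitForm
import Cfsg.Agent.Lib.FischerLarge.Abelian

/-!
# A complement over the stabiliser whose normal subgroup lies in a conjugate extraspecial subgroup does not exist
-/

set_option autoImplicit false
set_option maxRecDepth 4000
set_option maxHeartbeats 800000

namespace Cfsg.Lib.FischerLarge

open Cfsg Cfsg.Lib.SUSixU43 Cfsg.Lib.Extra

attribute [local irreducible] KM Zc gen mat mulM prodM lettM stabBig spMats spWord spOps spCore spDiff spTrees

universe u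

/-- The properties of the normal subgroup of order sixteen of the stabiliser. -/
structure IsR (c : ℕ) (R : Subgroup ↥(Sb c vB)) : Prop where
  card : Nat.card ↥R = 16
  sq : ∀ a ∈ R, a * a = 1
  normal : R.Normal
  trans : ∀ a ∈ R, a ≠ 1 → ∀ b ∈ R, b ≠ 1 → ∃ g, g * a * g⁻¹ = b
  cent : ∀ a ∈ R, a ≠ 1 → ∀ b ∈ R, (∀ g, g * a = a * g → g * b = b * g) → b = 1 ∨ b = a
  span : ∀ H : AddSubgroup V6, (∀ a ∈ R, ∀ v : V6, (a : G6) • v + v ∈ H) → 256 ≤ Nat.card ↥H
  quot : ∃ ψ : ↥(Sb c vB) →* alternatingGroup (Fin 6), Function.Surjective ψ ∧ ψ.ker = R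
  largest : ∀ N : Subgroup ↥(Sb c vB), N.Normal → IsPGroup 2 ↥N → N ≤ R

theorem exists_isR {c : ℕ} (hc : c < 3) : ∃ R, IsR c R := by
  haveI := finite_G6
  obtain ⟨R, hle, hcard, hsq, hn, htr, hcent, hspan⟩ := core_facts hc
  have hcard' : Nat.card ↥(R.subgroupOf (Sb c vB)) = 16 := by
    rw [Nat.card_congr (Subgroup.subgroupOfEquivOfLe hle).toEquiv, hcard]
  have hnorm : (R.subgroupOf (Sb c vB)).Normal := ⟨fun a ha g => hn g g.2 a ha⟩
  obtain ⟨ψ, hψ, hk, hmax⟩ := (orbFacts hc).coreB vB (sb_vB hc).2.2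
  have h2 : IsPGroup 2 ↥(R.subgroupOf (Sb c vB)) := IsPGroup.of_card (n := 4) (by rw [hcard']; norm_num)
  have heq : R.subgroupOf (Sb c vB) = ψ.ker :=
    Subgroup.eq_of_le_of_card_ge (hmax _ hnorm h2) (by rw [hk, hcard'])
  refine ⟨R.subgroupOf (Sb c vB), hcard', fun a ha => Subtype.ext (hsq _ ha), hnorm, fun a ha ha1 b hb hb1 => ?_,
    fun a ha ha1 b hb h => ?_, fun H hH => hspan H fun a ha v => hH ⟨a, hle ha⟩ ha v, ⟨ψ, hψ, heq.symm⟩,
    fun N hN h => heq.symm ▸ hmax N hN h⟩
  · obtain ⟨g, hg, e⟩ := htr a ha (fun e => ha1 (Subtype.ext e)) b hb (fun e => hb1 (Subtype.ext e))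
    exact ⟨⟨g, hg⟩, Subtype.ext e⟩
  · rcases hcent a ha (fun e => ha1 (Subtype.ext e)) b hb fun g hg e =>
      congrArg Subtype.val (h ⟨g, hg⟩ (Subtype.ext e)) with e | e
    · exact Or.inl (Subtype.ext e)
    · exact Or.inr (Subtype.ext e)

/-- The values used for involutions. -/
def IsBit (a : R4) : Prop := a = 0 ∨ a = 1

theorem bit_of_fixed : ∀ a : R4, a = a ^ 2 → a = 0 ∨ a = 1 := by decide +kernel

theorem bit_combine : ∀ e f : R4, (e = 0 ∨ e = 1) → (f = 0 ∨ f = 1) → e + elE 1 * f = 0 → e = 0 ∧ f = 0 := by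
  decide +kernel

/-- A suborbit times a point stabiliser is bounded by the group. -/
theorem card_suborbit {H₀ X : Type*} [Group H₀] [Finite H₀] [MulAction H₀ X] {H L : Subgroup H₀} {v : X} {n : ℕ}
    (hL : L ≤ H) (t : Fin n → H₀) (ht : ∀ i, t i ∈ H) (hinj : Function.Injective fun i => t i • v) :
    n * Nat.card ↥(MulAction.stabilizer ↥L v) ≤ Nat.card ↥H := by
  rw [show n * Nat.card ↥(MulAction.stabilizer ↥L v) = Nat.card (Fin n × ↥(MulAction.stabilizer ↥L v)) by
    rw [Nat.card_prod, Nat.card_fin]]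
  refine Nat.card_le_card_of_injective
    (fun w => (⟨t w.1 * ((w.2 : ↥L) : H₀), H.mul_mem (ht w.1) (hL (w.2 : ↥L).2)⟩ : ↥H)) fun w w' e => ?_
  have e' : t w.1 * ((w.2 : ↥L) : H₀) = t w'.1 * ((w'.2 : ↥L) : H₀) := congrArg Subtype.val e
  have hfix : ∀ r : ↥(MulAction.stabilizer ↥L v), ((r : ↥L) : H₀) • v = v :=
    fun r => MulAction.mem_stabilizer_iff.1 r.2
  have hi : w.1 = w'.1 := hinj (by
    show t w.1 • v = t w'.1 • v
    calc t w.1 • v = (t w.1 * ((w.2 : ↥L) : H₀)) • v := by rw [mul_smul, hfix]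
      _ = _ := by rw [e', mul_smul, hfix])
  rw [hi] at e'
  exact Prod.ext hi (Subtype.ext (Subtype.ext (mul_left_cancel e')))

variable {G : Type u} [Group G] [Finite G] {z : G} {Q : Subgroup G} (D : Coord z Q)

/-- Commuting involutions have product zero or one. -/
theorem Coord.bit_of_commute {a b : G} (ha : a ∈ Q) (hb : b ∈ Q) (ha2 : a * a = 1) (hb2 : b * b = 1)
    (hab : Commute a b) : IsBit (hermForm 6 R4 2 (D.cl a) (D.cl b)) := by
  have h2 : a * b * (a * b) = 1 := by
    rw [show a * b * (a * b) = a * (b * a) * b by group, ← hab.eq, ← mul_assoc, ha2, one_mul, hb2]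
  have h := (D.cl_sq _ (mul_mem ha hb)).1 h2
  rw [D.cl_mul a ha b hb, herm_add_left, herm_add_right, herm_add_right, (D.cl_sq a ha).1 ha2,
    (D.cl_sq b hb).1 hb2, zero_add, add_zero, herm_conj_split (D.cl a) (D.cl b)] at h
  refine bit_of_fixed _ ?_
  have := congrArg (· + hermForm 6 R4 2 (D.cl a) (D.cl b) ^ 2) h
  simp only [add_assoc, zero_add] at this
  rwa [show ∀ x : R4, x + x = 0 by decide +kernel, add_zero] at this

theorem Coord.commute_of_herm {a b : G} (ha : a ∈ Q) (hb : b ∈ Q) (ha0 : hermForm 6 R4 2 (D.cl a) (D.cl a) = 0)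
    (hb0 : hermForm 6 R4 2 (D.cl b) (D.cl b) = 0) (hab : hermForm 6 R4 2 (D.cl a) (D.cl b) = 0) : Commute a b := by
  have ha2 := (D.cl_sq a ha).2 ha0
  have hb2 := (D.cl_sq b hb).2 hb0
  have h2 : a * b * (a * b) = 1 := (D.cl_sq _ (mul_mem ha hb)).2 (by
    rw [D.cl_mul a ha b hb, herm_add_left, herm_add_right, herm_add_right, ha0, hb0, hab, herm_conj_split (D.cl a) (D.cl b),
      hab]
    simp)
  calc a * b = (a * b)⁻¹ := (inv_eq_of_mul_eq_one_left h2).symm
    _ = b * a := by rw [_root_.mul_inv_rev, inv_eq_of_mul_eq_one_left ha2, inv_eq_of_mul_eq_one_left hb2]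

include D in
/-- Totally isotropic additive subgroups are small. -/
theorem Coord.card_isotropic (W : AddSubgroup V6) (hW : ∀ x ∈ W, ∀ y ∈ W, hermForm 6 R4 2 x y = 0) :
    Nat.card ↥W ≤ 64 := by
  classical
  have hv6 : ∀ x : V6, -x = x := fun x => neg_eq_of_add_eq_zero_left (v6_add_self x)
  have hone : D.cl 1 = 0 := D.cl_one
  let A : Subgroup G :=
    { carrier := {a | a ∈ Q ∧ D.cl a ∈ W}
      one_mem' := ⟨one_mem _, by rw [hone]; exact W.zero_mem⟩
      mul_mem' := fun {a b} ha hb => ⟨mul_mem ha.1 hb.1, by rw [D.cl_mul a ha.1 b hb.1]; exact W.add_mem ha.2 hb.2⟩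
      inv_mem' := fun {a} ha => ⟨inv_mem ha.1, by
        have h := D.cl_mul a ha.1 a⁻¹ (inv_mem ha.1)
        rw [mul_inv_cancel, hone] at h
        rw [← v6_eq_of_add h.symm]
        exact ha.2⟩ }
  have hA := card_abelian_le D.ctx D.cardQ (A := A) (fun a ha => ha.1) fun a ha b hb =>
    D.commute_of_herm ha.1 hb.1 (hW _ ha.2 _ ha.2) (hW _ hb.2 _ hb.2) (hW _ ha.2 _ hb.2)
  let F : ↥W × Bool → ↥A := fun w => ⟨(if w.2 then z else 1) * D.lift w.1,
    mul_mem (by split <;> [exact D.ctx.mem; exact one_mem _]) (D.lift_spec _).1, by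
      cases w.2
      · simp [(D.lift_spec (w.1 : V6)).2]
      · simp [D.cl_z_mul (D.lift_spec (w.1 : V6)).1, (D.lift_spec (w.1 : V6)).2]⟩
  have hF : Function.Injective F := by
    rintro ⟨w, i⟩ ⟨w', i'⟩ e
    have e' : (if i then z else 1) * D.lift (w : V6) = (if i' then z else 1) * D.lift (w' : V6) :=
      congrArg (Subtype.val (p := fun a => a ∈ A)) e
    have hw : (w : V6) = w' := by
      have := congrArg D.cl e'
      cases i <;> cases i' <;>
        simpa [D.cl_z_mul (D.lift_spec (w : V6)).1, D.cl_z_mul (D.lift_spec (w' : V6)).1, (D.lift_spec (w : V6)).2,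
          (D.lift_spec (w' : V6)).2] using this
    obtain rfl : w = w' := Subtype.ext hw
    have h2 := mul_right_cancel e'
    cases i <;> cases i' <;> first | rfl | (simp at h2; exact absurd h2 (by first | exact D.ctx.ne_one | exact D.ctx.ne_one.symm))
  haveI : Finite ↥W := Subtype.finite
  have h := Nat.card_le_card_of_injective F hF
  rw [Nat.card_prod, Nat.card_eq_fintype_card (α := Bool), Fintype.card_bool] at h
  omega

/-- No complement has its normal subgroup of order sixteen in the far part. -/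
theorem Coord.no_far {g s : G} (hg : g * z * g⁻¹ = s) (hs : s ∈ Q) (hne : s ≠ z) {R : Subgroup ↥(Sb D.c vB)}
    (hR : IsR D.c R) (ν : ↥(Sb D.c vB) →* G) (hνz : ∀ a, Commute (ν a) z) (hνs : ∀ a, Commute (ν a) s)
    (hνQ : ∀ a, ν a ∈ Q → a = 1) (hνR : ∀ a ∈ R, ν a ∈ farPart D g) : False := by
  classical
  haveI := finite_G6
  obtain ⟨ψ, hψ, hψR⟩ := hR.quot
  haveI := hR.normal
  haveI : Fact (Nat.Prime 2) := ⟨Nat.prime_two⟩
  set Q' := Q.map (MulAut.conj g).toMonoidHom with hQ'
  let D' := D.conjBy hg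
  have hzQ : z ∈ Q' := D.ctx.mem_symm (hg ▸ hs)
  have hνinj : ∀ a b, ν a = ν b → a = b := fun a b e =>
    mul_inv_eq_one.1 (hνQ _ (by rw [map_mul, map_inv, e, mul_inv_cancel]; exact one_mem _))
  -- the vector of the central involution
  set p := D'.cl z with hp
  have hpB : p ∈ (orbBig D.c).set := by
    rw [← D.B_eq]
    exact D'.conj_in_B (g := g⁻¹) (s := z) (by rw [← hg]; group) hzQ hne.symm
  obtain ⟨hp0, hpp⟩ := D.orb.sing p (Or.inr (by rw [D.B_eq]; exact hpB))
  obtain ⟨k, hk, hkp⟩ := (orbit_facts D.c_lt).2.2.2.2.2.2.2.2.1 _ hpB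
  change k • vB = p at hkp
  -- everything lies in the unitary part
  have hM : ∀ a, ν a ∈ D'.M := by
    let K : Subgroup ↥(Sb D.c vB) := D'.M.comap ν
    haveI hK : K.Normal := ⟨fun m hm a => by
      show ν (a * m * a⁻¹) ∈ D'.M
      rw [map_mul, map_mul, map_inv]
      exact D'.M_normal _ (mem_cent_of_commute (hνs a)) _ hm⟩
    have hRK : R ≤ K := fun a ha => D'.Q_le (hνR a ha).1
    have hsq : ∀ a, a * a ∈ K := fun a => by
      show ν (a * a) ∈ D'.M
      rw [map_mul]
      by_cases h : ν a ∈ D'.M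
      · exact mul_mem h h
      · exact D'.mul_mem_M (hνs a) (hνs a) h h
    haveI := alternatingGroup.isSimpleGroup (α := Fin 6) (by rw [Nat.card_fin]; norm_num)
    rcases (hK.map ψ hψ).eq_bot_or_eq_top with h | h
    · rw [Subgroup.map_eq_bot_iff] at h
      obtain ⟨a, ha⟩ := hψ ⟨Equiv.swap 0 1 * Equiv.swap 1 2, Equiv.Perm.mem_alternatingGroup.2 (by decide +kernel)⟩
      have hb : ψ a * ψ a = 1 := by rw [← map_mul]; exact h (hsq a)
      rw [ha] at hb
      exact absurd (congrArg Subtype.val hb) (by decide +kernel)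
    · intro a
      obtain ⟨b, hb, e⟩ : ψ a ∈ K.map ψ := h ▸ Subgroup.mem_top _
      have hab : a * b⁻¹ ∈ K := hRK (hψR ▸ (by rw [MonoidHom.mem_ker, map_mul, map_inv, e, mul_inv_cancel]))
      have := K.mul_mem hab hb
      rwa [inv_mul_cancel_right] at this
  let τ : ↥(Sb D.c vB) →* G6 := D'.π.comp (ν.codRestrict D'.M hM)
  have hτcl : ∀ a x, x ∈ Q' → D'.cl (ν a * x * (ν a)⁻¹) = τ a • D'.cl x := fun a x hx =>
    D'.π_cl ⟨ν a, hM a⟩ x hx
  have hτp : ∀ a, τ a ∈ Sb D.c p := fun a => ⟨D'.π_mem _, MulAction.mem_stabilizer_iff.2 (by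
    rw [hp, ← hτcl a z hzQ, (hνz a).eq, mul_inv_cancel_right])⟩
  have hτker : τ.ker = R := by
    have h1 : ∀ a, a ∈ τ.ker ↔ ν a ∈ Q' := fun a => D'.π_ker ⟨ν a, hM a⟩
    refine le_antisymm (hR.largest _ inferInstance ?_) fun a ha => (h1 a).2 (hνR a ha).1
    intro a
    obtain ⟨n, hn⟩ := D'.ctx.two ⟨ν a, (h1 a).1 a.2⟩
    refine ⟨n, Subtype.ext (hνinj _ _ ?_)⟩
    rw [SubgroupClass.coe_pow, map_pow, OneMemClass.coe_one, map_one]
    exact congrArg Subtype.val hn
  have hRcard : Nat.card ↥τ.range = 360 := by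
    have h := τ.ker.card_mul_index
    rw [Subgroup.index_ker, hτker, hR.card, (sb_vB D.c_lt).2.1] at h
    omega
  -- the coordinates of the normal subgroup
  let u : ↥R → V6 := fun a => D'.cl (ν a)
  have huQ : ∀ a : ↥R, ν a ∈ Q' := fun a => (hνR a a.2).1
  have u_mul : ∀ a b : ↥R, u (a * b) = u a + u b := fun a b => by
    show D'.cl (ν (a * b : ↥(Sb D.c vB))) = _
    rw [map_mul, D'.cl_mul _ (huQ a) _ (huQ b)]
  have u_one : u 1 = 0 := by
    show D'.cl (ν (1 : ↥(Sb D.c vB))) = 0
    rw [map_one, D'.cl_one]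
  have u_inj : Function.Injective u := fun a b e => by
    rcases (D'.cl_eq _ (huQ a) _ (huQ b)).1 e with h | h
    · exact (Subtype.ext (hνinj _ _ h)).symm
    · have hb : ν ((b : ↥(Sb D.c vB)) * (a : ↥(Sb D.c vB))⁻¹) ∈ Q := by
        rwa [map_mul, map_inv, h, mul_inv_cancel_right]
      exact (Subtype.ext (mul_inv_eq_one.1 (hνQ _ hb))).symm
  let cj : ↥(Sb D.c vB) → ↥R → ↥R := fun t a => ⟨t * a * t⁻¹, hR.normal.conj_mem _ a.2 t⟩
  have cj_val : ∀ t a, ((cj t a : ↥R) : ↥(Sb D.c vB)) = t * a * t⁻¹ := fun _ _ => rfl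
  have u_conj : ∀ t a, u (cj t a) = τ t • u a := fun t a => by
    show D'.cl (ν (t * (a : ↥(Sb D.c vB)) * t⁻¹)) = _
    rw [map_mul, map_mul, map_inv, hτcl t _ (huQ a)]
  have cj_inv : ∀ t a, cj t (cj t⁻¹ a) = a := fun t a => Subtype.ext (by
    show t * (t⁻¹ * (a : ↥(Sb D.c vB)) * t⁻¹⁻¹) * t⁻¹ = _
    group)
  have u_sq : ∀ a : ↥R, ν a * ν a = 1 := fun a => by rw [← map_mul, hR.sq a a.2, map_one]
  have u_iso : ∀ a, hermForm 6 R4 2 (u a) (u a) = 0 := fun a => (D'.cl_sq _ (huQ a)).1 (u_sq a)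
  have hRcomm : ∀ a b : ↥R, (a : ↥(Sb D.c vB)) * b = b * a := fun a b => by
    have e1 := hR.sq _ (mul_mem a.2 b.2)
    calc (a : ↥(Sb D.c vB)) * b = ((a : ↥(Sb D.c vB)) * b)⁻¹ := (inv_eq_of_mul_eq_one_left e1).symm
      _ = _ := by rw [_root_.mul_inv_rev, inv_eq_of_mul_eq_one_left (hR.sq _ a.2), inv_eq_of_mul_eq_one_left (hR.sq _ b.2)]
  have u_bit : ∀ a b, IsBit (hermForm 6 R4 2 (u a) (u b)) := fun a b =>
    D'.bit_of_commute (huQ a) (huQ b) (u_sq a) (u_sq b) (by
      show ν a * ν b = ν b * ν a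
      rw [← map_mul, hRcomm, map_mul])
  have u_bitp : ∀ a, IsBit (hermForm 6 R4 2 (u a) p) := fun a =>
    D'.bit_of_commute (huQ a) hzQ (u_sq a) D.ctx.sq_z (hνz a)
  have htrans : ∀ a b : ↥R, a ≠ 1 → b ≠ 1 → ∃ t, cj t a = b := fun a b ha hb => by
    obtain ⟨t, ht⟩ := hR.trans a a.2 (fun e => ha (Subtype.ext e)) b b.2 fun e => hb (Subtype.ext e)
    exact ⟨t, Subtype.ext ht⟩
  -- orthogonal to the central vector
  have u_p : ∀ a, hermForm 6 R4 2 (u a) p = 0 := by
    obtain ⟨a₀, ha₀, ha₀p⟩ : ∃ a₀ : ↥R, a₀ ≠ 1 ∧ hermForm 6 R4 2 (u a₀) p = 0 := by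
      by_contra hno
      push Not at hno
      have h1 : ∀ a : ↥R, a ≠ 1 → hermForm 6 R4 2 (u a) p = 1 := fun a ha => (u_bitp a).resolve_left (hno a ha)
      have hsub : ∀ a b : ↥R, a ≠ 1 → b ≠ 1 → a = b := fun a b ha hb => by
        by_contra hab
        have hne1 : a * b ≠ 1 := fun e => hab (by
          have e' : (a : ↥(Sb D.c vB)) * b = 1 := congrArg Subtype.val e
          exact Subtype.ext ((inv_eq_of_mul_eq_one_left e').symm.trans (inv_eq_of_mul_eq_one_left (hR.sq _ b.2))))
        refine hno _ hne1 ?_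
        rw [u_mul, herm_add_left, h1 a ha, h1 b hb]
        exact r4_self 1
      have : Nat.card ↥R ≤ 2 := by
        refine le_trans (Nat.card_le_card_of_injective (fun a : ↥R => decide (a = 1)) fun a b e => ?_)
          (le_of_eq (by rw [Nat.card_eq_fintype_card, Fintype.card_bool]))
        simp only [decide_eq_decide] at e
        by_cases ha : a = 1
        · rw [ha, e.1 ha]
        · exact hsub a b ha fun hb => ha (e.2 hb)
      rw [hR.card] at this
      omega
    intro a
    rcases eq_or_ne a 1 with rfl | ha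
    · rw [u_one, herm_zero_left]
    · obtain ⟨t, rfl⟩ := htrans a₀ a ha₀ ha
      rw [u_conj, ← MulAction.mem_stabilizer_iff.1 (hτp t).2, herm_smul, ha₀p]
  -- independent of the central vector
  have u_indep : ∀ (a : ↥R) (c : R4), u a = c • p → a = 1 := by
    intro a c e
    by_contra ha
    have hall : ∀ b : ↥R, b ≠ 1 → b = a := fun b hb => u_inj (by
      obtain ⟨t, rfl⟩ := htrans a b ha hb
      rw [u_conj, e, g6_scalar, MulAction.mem_stabilizer_iff.1 (hτp t).2])
    have : Nat.card ↥R ≤ 2 := by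
      refine le_trans (Nat.card_le_card_of_injective (fun a : ↥R => decide (a = 1)) fun x y e => ?_)
        (le_of_eq (by rw [Nat.card_eq_fintype_card, Fintype.card_bool]))
      simp only [decide_eq_decide] at e
      by_cases hx : x = 1
      · rw [hx, e.1 hx]
      · rw [hall x hx, hall y fun hy => hx (e.2 hy)]
    rw [hR.card] at this
    omega
  have hp_u : ∀ a, hermForm 6 R4 2 p (u a) = 0 := fun a => by rw [herm_conj_split (u a) p, u_p, zero_pow two_ne_zero]
  by_cases hrad : ∃ a : ↥R, a ≠ 1 ∧ ∀ b, hermForm 6 R4 2 (u a) (u b) = 0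
  · -- totally isotropic
    obtain ⟨a₀, ha₀, ha₀r⟩ := hrad
    have hT : ∀ a b, hermForm 6 R4 2 (u a) (u b) = 0 := fun a b => by
      rcases eq_or_ne a 1 with rfl | ha
      · rw [u_one, herm_zero_left]
      · obtain ⟨t, rfl⟩ := htrans a₀ a ha₀ ha
        rw [← cj_inv t b, u_conj, u_conj, herm_smul, ha₀r]
    let S : Set V6 := {x | ∃ (a : ↥R) (c : R4), x = u a + c • p} ∪ {x | ∃ a : ↥R, x = om • u a}
    have hiso : ∀ x ∈ AddSubgroup.closure S, ∀ y ∈ AddSubgroup.closure S, hermForm 6 R4 2 x y = 0 := by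
      have hSS : ∀ x ∈ S, ∀ y ∈ S, hermForm 6 R4 2 x y = 0 := by
        rintro x (⟨a, c, rfl⟩ | ⟨a, rfl⟩) y (⟨b, d, rfl⟩ | ⟨b, rfl⟩) <;>
          simp [herm_add_left, herm_add_right, herm_scalar_left, herm_scalar_right, hT, u_p, hp_u, hpp]
      intro x hx
      induction hx using AddSubgroup.closure_induction with
      | mem x hx =>
        intro y hy
        induction hy using AddSubgroup.closure_induction with
        | mem y hy => exact hSS x hx y hy
        | zero => exact herm_zero_right x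
        | add a b _ _ ha hb => rw [herm_add_right, ha, hb, add_zero]
        | neg a _ ha => rw [neg_eq_of_add_eq_zero_left (v6_add_self a), ha]
      | zero => exact fun y _ => herm_zero_left y
      | add a b _ _ ha hb => exact fun y hy => by rw [herm_add_left, ha y hy, hb y hy, add_zero]
      | neg a _ ha => exact fun y hy => by rw [neg_eq_of_add_eq_zero_left (v6_add_self a), ha y hy]
    have h64 := D'.card_isotropic _ hiso
    let Φ : ↥R × R4 → ↥(AddSubgroup.closure S) := fun w =>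
      ⟨u w.1 + w.2 • p, AddSubgroup.subset_closure (Or.inl ⟨w.1, w.2, rfl⟩)⟩
    have hΦ : Function.Injective Φ := by
      rintro ⟨a, c⟩ ⟨b, d⟩ e
      have e' : u a + c • p = u b + d • p := congrArg Subtype.val e
      have e2 : u (a * b) = (c + d) • p := by
        rw [u_mul, add_smul]
        refine v6_eq_of_add ?_
        calc u a + u b + (c • p + d • p) = (u a + c • p) + (u b + d • p) := by abel
          _ = 0 := by rw [e', v6_add_self]
      have hab : a = b := by
        have e3 : (a : ↥(Sb D.c vB)) * b = 1 := congrArg Subtype.val (u_indep _ _ e2)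
        exact Subtype.ext ((inv_eq_of_mul_eq_one_left e3).symm.trans (inv_eq_of_mul_eq_one_left (hR.sq _ b.2)))
      subst hab
      exact Prod.ext rfl (smul_left_injective R4 hp0 (add_left_cancel e'))
    haveI : Finite ↥(AddSubgroup.closure S) := Subtype.finite
    have hbij : Function.Bijective Φ := (Nat.bijective_iff_injective_and_card Φ).2 ⟨hΦ, le_antisymm
      (Nat.card_le_card_of_injective Φ hΦ) (by
        rw [Nat.card_prod, hR.card, Nat.card_eq_fintype_card (α := R4), card_r4]; exact h64)⟩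
    obtain ⟨⟨a₁, c⟩, e⟩ := hbij.2 ⟨om • u a₀, AddSubgroup.subset_closure (Or.inr ⟨a₀, rfl⟩)⟩
    have e' : u a₁ + c • p = om • u a₀ := congrArg Subtype.val e
    have hcase : a₁ = 1 ∨ a₁ = a₀ := by
      have hct : ∀ t : ↥(Sb D.c vB), t * a₀ = a₀ * t → t * a₁ = a₁ * t := fun t ht => by
        have h0 : cj t a₀ = a₀ := by
          refine Subtype.ext ?_
          rw [cj_val]
          rw [ht, mul_inv_cancel_right]
        have h1 : u (cj t a₁) + c • p = u a₁ + c • p := by
          rw [e', ← h0, u_conj t a₀, ← g6_scalar, ← e', g6_add, g6_scalar, u_conj,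
            MulAction.mem_stabilizer_iff.1 (hτp t).2]
        have h3 : cj t a₁ = a₁ := u_inj (add_right_cancel h1)
        have h2 : t * (a₁ : ↥(Sb D.c vB)) * t⁻¹ = a₁ := by rw [← cj_val, h3]
        calc t * (a₁ : ↥(Sb D.c vB)) = t * (a₁ : ↥(Sb D.c vB)) * t⁻¹ * t := (inv_mul_cancel_right _ _).symm
          _ = _ := by rw [h2]
      rcases hR.cent a₀ a₀.2 (fun h => ha₀ (Subtype.ext h)) a₁ a₁.2 hct with h | h
      · exact Or.inl (Subtype.ext h)
      · exact Or.inr (Subtype.ext h)
    rcases hcase with rfl | rfl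
    · rw [u_one, zero_add] at e'
      exact ha₀ (u_indep a₀ (om⁻¹ * c) (by rw [mul_smul, e', inv_smul_smul₀ tau_om.2.2.2]))
    · refine ha₀ (u_indep _ ((om + 1)⁻¹ * c) ?_)
      have e2 : (om + 1) • u a₁ = c • p := by
        rw [add_smul, one_smul, ← e', add_comm (u a₁) (c • p), add_assoc, v6_add_self, add_zero]
      rw [mul_smul, ← e2, inv_smul_smul₀ tau_om.2.2.1]
  · -- the pairing is nondegenerate
    push Not at hrad
    have hnd : ∀ a, (∀ b, hermForm 6 R4 2 (u a) (u b) = 0) → a = 1 := fun a h => by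
      by_contra ha
      obtain ⟨b, hb⟩ := hrad a ha
      exact hb (h b)
    let sv : ↥R × ↥R → V6 := fun w => u w.1 + om • u w.2
    have sv_zero : ∀ w, (∀ e, hermForm 6 R4 2 (sv w) (u e) = 0) → w = (1, 1) := by
      rintro ⟨a, b⟩ h
      have h' : ∀ e, hermForm 6 R4 2 (u a) (u e) = 0 ∧ hermForm 6 R4 2 (u b) (u e) = 0 := fun e => by
        have := h e
        simp only [sv, herm_add_left, herm_scalar_left] at this
        exact bit_combine _ _ (u_bit a e) (u_bit b e) this
      exact Prod.ext (hnd a fun e => (h' e).1) (hnd b fun e => (h' e).2)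
    have sv_add : ∀ a b a' b' : ↥R, sv (a, b) + sv (a', b') = sv (a * a', b * b') := fun a b a' b' => by
      simp only [sv, u_mul, smul_add]
      abel
    have eq_of_mul : ∀ a b : ↥R, a * b = 1 → a = b := fun a b e => by
      have e3 : (a : ↥(Sb D.c vB)) * b = 1 := congrArg Subtype.val e
      exact Subtype.ext ((inv_eq_of_mul_eq_one_left e3).symm.trans (inv_eq_of_mul_eq_one_left (hR.sq _ b.2)))
    have sv_inj : ∀ (w w' : ↥R × ↥R) (x : ↥R → R4), (∀ e, hermForm 6 R4 2 (sv w + sv w') (u e) = x e) → (∀ e, x e = 0) → w = w' := by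
      rintro ⟨a, b⟩ ⟨a', b'⟩ x h hx
      have := sv_zero (a * a', b * b') fun e => by rw [← sv_add, h, hx]
      exact Prod.ext (eq_of_mul _ _ (Prod.ext_iff.1 this).1) (eq_of_mul _ _ (Prod.ext_iff.1 this).2)
    obtain ⟨gen4, hgen4⟩ := exists_four_gens (H := ↥R) hR.card.le
    let E : V6 → Fin 4 → R4 := fun x i => hermForm 6 R4 2 x (u (gen4 i))
    have hE : ∀ x, (∀ i, E x i = 0) → ∀ e, hermForm 6 R4 2 x (u e) = 0 := by
      intro x hx e
      have he : e ∈ Subgroup.closure (Set.range gen4) := hgen4 ▸ Subgroup.mem_top e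
      induction he using Subgroup.closure_induction with
      | mem y hy => obtain ⟨i, rfl⟩ := hy; exact hx i
      | one => rw [u_one, herm_zero_right]
      | mul a b _ _ ha hb => rw [u_mul, herm_add_right, ha, hb, add_zero]
      | inv a _ ha => rwa [inv_eq_of_mul_eq_one_left (show a * a = 1 from Subtype.ext (hR.sq _ a.2))]
    have hEadd : ∀ x y i, E (x + y) i = E x i + E y i := fun x y i => herm_add_left _ _ _
    have hEbij : Function.Bijective fun w => E (sv w) := by
      refine (Nat.bijective_iff_injective_and_card _).2 ⟨fun w w' e => ?_, ?_⟩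
      · refine sv_inj w w' (fun e => hermForm 6 R4 2 (sv w + sv w') (u e)) (fun _ => rfl) (hE _ fun i => ?_)
        rw [hEadd, congrFun (show E (sv w) = E (sv w') from e) i]
        exact r4_self _
      · rw [Nat.card_prod, hR.card, Nat.card_fun, Nat.card_eq_fintype_card (α := R4), card_r4, Nat.card_fin]
        norm_num
    obtain ⟨i, hi⟩ : ∃ i, p i ≠ 0 := by
      by_contra h
      push Not at h
      exact hp0 (funext h)
    obtain ⟨w, hw⟩ := hEbij.2 (E (Pi.single i (p i)))
    set v := Pi.single i (p i) + sv w with hv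
    have hvu : ∀ e, hermForm 6 R4 2 v (u e) = 0 := hE v fun j => by
      rw [hv, hEadd, show E (sv w) = E (Pi.single i (p i)) from hw]
      exact r4_self _
    have hvp : hermForm 6 R4 2 v p = 1 := by
      rw [hv, herm_add_left, herm_single, (r4_frob (p i) 0).2.2 hi]
      simp only [sv, herm_add_left, herm_scalar_left, u_p, mul_zero, add_zero]
    let F : Set V6 := {x | (∀ e, hermForm 6 R4 2 x (u e) = 0) ∧ hermForm 6 R4 2 x p = 1}
    have hF : Nat.card ↥F ≤ 4 := by
      let Θ : (↥R × ↥R) × R4 × ↥F → V6 := fun w => sv w.1 + w.2.1 • v + (w.2.2 : V6)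
      have hΘ : Function.Injective Θ := by
        rintro ⟨w, c, x, hx⟩ ⟨w', c', x', hx'⟩ e
        have hpair : ∀ y, hermForm 6 R4 2 (sv w + c • v + x) y = hermForm 6 R4 2 (sv w' + c' • v + x') y :=
          fun y => congrArg (fun t => hermForm 6 R4 2 t y) e
        obtain rfl : w = w' := sv_inj w w' (fun _ => 0) (fun e' => by
          have := hpair (u e')
          simp only [herm_add_left, herm_scalar_left, hvu, hx.1, hx'.1, mul_zero, add_zero] at this
          rw [herm_add_left, this]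
          exact r4_self _) fun _ => rfl
        obtain rfl : c = c' := by
          have := hpair p
          simp only [herm_add_left, herm_scalar_left, hvp, hx.2, hx'.2, mul_one] at this
          exact add_left_cancel (add_right_cancel this)
        obtain rfl : x = x' := add_left_cancel e
        rfl
      have h := Nat.card_le_card_of_injective Θ hΘ
      rw [Nat.card_prod, Nat.card_prod, Nat.card_prod, hR.card, Nat.card_eq_fintype_card (α := R4), card_r4,
        show Nat.card V6 = 4096 by rw [Nat.card_fun, Nat.card_eq_fintype_card (α := R4), card_r4, Nat.card_fin]; norm_num] at h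
      omega
    have horb : MulAction.orbit ↥τ.range v ⊆ F := by
      rintro _ ⟨⟨_, t, rfl⟩, rfl⟩
      refine ⟨fun e => ?_, ?_⟩
      · show hermForm 6 R4 2 (τ t • v) (u e) = 0
        rw [← cj_inv t e, u_conj, herm_smul, hvu]
      · show hermForm 6 R4 2 (τ t • v) p = 1
        rw [← MulAction.mem_stabilizer_iff.1 (hτp t).2, herm_smul, hvp]
    have h90 : 90 ≤ Nat.card ↥(MulAction.stabilizer ↥τ.range v) := by
      have h := (MulAction.stabilizer ↥τ.range v).card_mul_index
      rw [MulAction.index_stabilizer, hRcard] at h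
      have h1 := (Set.ncard_le_ncard horb (Set.toFinite F)).trans
        (le_of_eq_of_le (Nat.card_coe_set_eq F).symm hF)
      have := Nat.mul_le_mul (le_refl (Nat.card ↥(MulAction.stabilizer ↥τ.range v))) h1
      omega
    obtain ⟨t, ht, htinj⟩ := suborbit_large D.c_lt (v := k⁻¹ • v) (by
      rw [← herm_smul (g := k), smul_inv_smul, hkp, hvp])
    have h := card_suborbit (H := Sb D.c p) (L := τ.range) (v := v) (by rintro _ ⟨a, rfl⟩; exact hτp a)
      (fun i => k * t i * k⁻¹) (fun i => ⟨(KM D.c).mul_mem ((KM D.c).mul_mem hk (ht i).1) ((KM D.c).inv_mem hk), by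
        refine MulAction.mem_stabilizer_iff.2 ?_
        rw [← hkp, ← mul_smul, inv_mul_cancel_right, mul_smul, MulAction.mem_stabilizer_iff.1 (ht i).2]⟩)
      fun i j e => htinj (by
        simp only [mul_smul] at e
        exact smul_left_cancel k e)
    obtain ⟨e⟩ := exists_equiv_Sb hk (vB)
    rw [hkp] at e
    rw [← Nat.card_congr e.toEquiv, (sb_vB D.c_lt).2.1] at h
    omega

end Cfsg.Lib.FischerLarge
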