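import Cfsg.Agent.Lib.FischerLarge.Semi
import Cfsg.Agent.Lib.FischerLarge.SplitFacts

/-!
# Conjugate coordinates, and elementary facts on the hermitian form and on small groups of exponent two
-/

set_option autoImplicit false

namespace Cfsg.Lib.FischerLarge

open Cfsg Cfsg.Lib.SUSixU43 Cfsg.Lib.Extra

attribute [local irreducible] KM Zc gen mat mulM prodM lettM stabBig spMats spWord spOps spCore spDiff spTrees

universe u

theorem r4_frob : ∀ a b : R4, (a + b) ^ 2 = a ^ 2 + b ^ 2 ∧ (a ^ 2) ^ 2 = a ∧ (a ≠ 0 → a * a ^ 2 = 1) := by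
  decide +kernel

theorem herm_add_left (x x' y : V6) :
    hermForm 6 R4 2 (x + x') y = hermForm 6 R4 2 x y + hermForm 6 R4 2 x' y := by
  simp only [hermForm, Pi.add_apply, add_mul, Finset.sum_add_distrib]

theorem herm_scalar_left (a : R4) (x y : V6) : hermForm 6 R4 2 (a • x) y = a * hermForm 6 R4 2 x y := by
  simp only [hermForm, Pi.smul_apply, smul_eq_mul, Finset.mul_sum, mul_assoc]

theorem herm_conj_split (x y : V6) : hermForm 6 R4 2 y x = hermForm 6 R4 2 x y ^ 2 := by
  simp only [hermForm, Fin.sum_univ_six, (r4_frob _ _).1, mul_pow, (r4_frob _ 0).2.1]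
  ring

theorem herm_add_right (x y y' : V6) :
    hermForm 6 R4 2 x (y + y') = hermForm 6 R4 2 x y + hermForm 6 R4 2 x y' := by
  simp only [hermForm, Pi.add_apply, (r4_frob _ _).1, mul_add, Finset.sum_add_distrib]

theorem herm_scalar_right (a : R4) (x y : V6) : hermForm 6 R4 2 x (a • y) = a ^ 2 * hermForm 6 R4 2 x y := by
  simp only [hermForm, Pi.smul_apply, smul_eq_mul, Finset.mul_sum, mul_pow]
  exact Finset.sum_congr rfl fun i _ => mul_left_comm _ _ _

theorem herm_zero_left (y : V6) : hermForm 6 R4 2 0 y = 0 := by simp [hermForm]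

theorem herm_zero_right (x : V6) : hermForm 6 R4 2 x 0 = 0 := by simp [hermForm]

theorem herm_single (i : Fin 6) (a : R4) (y : V6) : hermForm 6 R4 2 (Pi.single i a) y = a * y i ^ 2 := by
  rw [hermForm, Finset.sum_eq_single i (fun j _ hj => by rw [Pi.single_eq_of_ne hj, zero_mul])
    (fun h => absurd (Finset.mem_univ i) h), Pi.single_eq_same]

theorem v6_eq_of_add {x y : V6} (h : x + y = 0) : x = y := by
  have := congrArg (· + y) h
  rwa [zero_add, add_assoc, v6_add_self, add_zero] at this

/-- A group of exponent two and order at most sixteen is generated by four elements. -/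
theorem exists_four_gens {H : Type*} [Group H] [Finite H] (hH : Nat.card H ≤ 16) :
    ∃ f : Fin 4 → H, Subgroup.closure (Set.range f) = ⊤ := by
  have key : ∀ n, ∃ f : Fin n → H, Subgroup.closure (Set.range f) = ⊤ ∨
      2 ^ n ≤ Nat.card ↥(Subgroup.closure (Set.range f)) := by
    intro n
    induction n with
    | zero => exact ⟨Fin.elim0, Or.inr Nat.card_pos⟩
    | succ n ih =>
      obtain ⟨f, hf⟩ := ih
      set K := Subgroup.closure (Set.range f) with hK
      by_cases htop : K = ⊤
      · refine ⟨Fin.snoc f 1, Or.inl (top_le_iff.1 (htop ▸ Subgroup.closure_mono ?_))⟩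
        rintro _ ⟨i, rfl⟩
        exact ⟨i.castSucc, Fin.snoc_castSucc (α := fun _ => H) 1 f i⟩
      obtain ⟨x, hx⟩ : ∃ x, x ∉ K := by
        by_contra h
        push Not at h
        exact htop (eq_top_iff.2 fun x _ => h x)
      refine ⟨Fin.snoc f x, Or.inr ?_⟩
      set L := Subgroup.closure (Set.range (Fin.snoc f x : Fin (n + 1) → H)) with hL
      have hle : K ≤ L := Subgroup.closure_mono (by
        rintro _ ⟨i, rfl⟩
        exact ⟨i.castSucc, Fin.snoc_castSucc (α := fun _ => H) x f i⟩)
      have hxL : x ∈ L := Subgroup.subset_closure ⟨Fin.last n, Fin.snoc_last (α := fun _ => H) x f⟩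
      obtain ⟨m, hm⟩ := Subgroup.card_dvd_of_le hle
      have hn := hf.resolve_left htop
      have hm2 : 2 ≤ m := by
        by_contra h
        have h1 : Nat.card ↥L ≤ Nat.card ↥K := by
          rw [hm]
          calc Nat.card ↥K * m ≤ Nat.card ↥K * 1 := Nat.mul_le_mul le_rfl (by omega)
            _ = _ := mul_one _
        exact hx (Subgroup.eq_of_le_of_card_ge hle h1 ▸ hxL)
      rw [hm, pow_succ]
      exact Nat.mul_le_mul hn hm2
  obtain ⟨f, hf | hf⟩ := key 4
  · exact ⟨f, hf⟩
  · exact ⟨f, Subgroup.eq_top_of_le_card _ (hH.trans hf)⟩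

variable {G : Type u} [Group G] [Finite G] {z : G} {Q : Subgroup G} (D : Coord z Q)

theorem map_cent {g s : G} (hg : g * z * g⁻¹ = s) :
    (Subgroup.centralizer ({z} : Set G)).map (MulAut.conj g).toMonoidHom = Subgroup.centralizer ({s} : Set G) := by
  ext x
  constructor
  · rintro ⟨a, ha, rfl⟩
    rw [← hg]
    exact mem_cent_of_commute ((Commute.conj_iff g).2 (commute_of_mem_cent ha))
  · intro hx
    refine ⟨g⁻¹ * x * g, mem_cent_of_commute ((Commute.conj_iff g).1 ?_), by
      show g * (g⁻¹ * x * g) * g⁻¹ = x; group⟩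
    rw [show g * (g⁻¹ * x * g) * g⁻¹ = x by group, hg]
    exact commute_of_mem_cent hx

theorem conj_back_mem {H : Subgroup G} {g a : G} (ha : a ∈ H.map (MulAut.conj g).toMonoidHom) : g⁻¹ * a * g ∈ H := by
  obtain ⟨b, hb, rfl⟩ := ha
  rwa [show g⁻¹ * (MulAut.conj g).toMonoidHom b * g = b by
    show g⁻¹ * (g * b * g⁻¹) * g = b; group]

theorem mem_conj_of_back {H : Subgroup G} {g a : G} (ha : g⁻¹ * a * g ∈ H) : a ∈ H.map (MulAut.conj g).toMonoidHom :=
  ⟨_, ha, by show g * (g⁻¹ * a * g) * g⁻¹ = a; group⟩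

/-- The coordinates moved by conjugation. -/
noncomputable def Coord.conjBy {g s : G} (hg : g * z * g⁻¹ = s) :
    Coord s (Q.map (MulAut.conj g).toMonoidHom) where
  c := D.c
  A := D.A
  B := D.B
  orb := D.orb
  c_lt := D.c_lt
  A_eq := D.A_eq
  B_eq := D.B_eq
  card_model := D.card_model
  ctx := D.ctx_far hg
  cardQ := by rw [Subgroup.card_map_of_injective (MulAut.conj g).injective, D.cardQ]
  cl a := D.cl (g⁻¹ * a * g)
  cl_mul a ha b hb := by
    rw [← D.cl_mul _ (conj_back_mem ha) _ (conj_back_mem hb)]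
    congr 1
    group
  cl_surj v := by
    obtain ⟨a, ha, hav⟩ := D.cl_surj v
    exact ⟨g * a * g⁻¹, ⟨a, ha, rfl⟩, by rw [show g⁻¹ * (g * a * g⁻¹) * g = a by group, hav]⟩
  cl_eq a ha b hb := by
    rw [D.cl_eq _ (conj_back_mem ha) _ (conj_back_mem hb),
      show z * (g⁻¹ * a * g) = g⁻¹ * (s * a) * g by rw [← hg]; group]
    simp only [mul_left_inj, mul_right_inj]
  cl_sq a ha := by
    rw [← D.cl_sq _ (conj_back_mem ha), show g⁻¹ * a * g * (g⁻¹ * a * g) = g⁻¹ * (a * a) * g by group]
    constructor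
    · intro h
      rw [h]
      group
    · intro h
      rw [show a * a = g * (g⁻¹ * (a * a) * g) * g⁻¹ by group, h]
      group
  M := D.M.map (MulAut.conj g).toMonoidHom
  M_le := map_cent hg ▸ Subgroup.map_mono D.M_le
  Q_le := Subgroup.map_mono D.Q_le
  M_normal h hh m hm := by
    rw [← map_cent hg] at hh
    have := D.M_normal _ (conj_back_mem hh) _ (conj_back_mem hm)
    refine mem_conj_of_back ?_
    convert this using 1
    group
  M_index := by
    rw [← map_cent hg, Subgroup.card_map_of_injective (MulAut.conj g).injective,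
      Subgroup.card_map_of_injective (MulAut.conj g).injective, D.M_index]
  π := D.π.comp (D.M.equivMapOfInjective (MulAut.conj g).toMonoidHom (MulAut.conj g).injective).symm.toMonoidHom
  π_range := by
    rw [← D.π_range]
    ext x
    constructor
    · rintro ⟨m, rfl⟩
      exact ⟨_, rfl⟩
    · rintro ⟨m, rfl⟩
      exact ⟨D.M.equivMapOfInjective (MulAut.conj g).toMonoidHom (MulAut.conj g).injective m,
        congrArg D.π (MulEquiv.symm_apply_apply _ m)⟩
  π_ker m := by
    obtain ⟨m, rfl⟩ := (D.M.equivMapOfInjective (MulAut.conj g).toMonoidHom (MulAut.conj g).injective).surjective m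
    simp only [MonoidHom.comp_apply, MulEquiv.coe_toMonoidHom, MulEquiv.symm_apply_apply, D.π_ker,
      Subgroup.coe_equivMapOfInjective_apply]
    exact ⟨fun h => ⟨_, h, rfl⟩, fun ⟨y, hy, e⟩ => (MulAut.conj g).injective e ▸ hy⟩
  π_cl m a ha := by
    obtain ⟨m, rfl⟩ := (D.M.equivMapOfInjective (MulAut.conj g).toMonoidHom (MulAut.conj g).injective).surjective m
    simp only [MonoidHom.comp_apply, MulEquiv.coe_toMonoidHom, MulEquiv.symm_apply_apply]
    rw [← D.π_cl m _ (conj_back_mem ha)]
    refine congrArg D.cl ?_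
    show g⁻¹ * (g * (m : G) * g⁻¹ * a * (g * (m : G) * g⁻¹)⁻¹) * g = _
    group

end Cfsg.Lib.FischerLarge
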