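import Cfsg.Agent.Lib.FischerLarge.SplitFar

/-!
# The centralizer of the element of order three does not split over the central involution
-/

set_option autoImplicit false
set_option maxRecDepth 4000
set_option maxHeartbeats 800000

namespace Cfsg.Lib.FischerLarge

open Cfsg Cfsg.Lib.SUSixU43 Cfsg.Lib.Extra

attribute [local irreducible] KM Zc gen mat mulM prodM lettM stabBig spMats spWord spOps spCore spDiff spTrees

universe u

theorem om_orbit (v : V6) : v + (om • v + om • om • v) = 0 := by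
  rw [smul_smul, ← pow_two, tau_om.2.1, add_smul, one_smul, ← add_assoc (om • v), v6_add_self, zero_add,
    v6_add_self]

/-- Three twisted products with an element of order three. -/
def eps {G : Type*} [Group G] (x s : G) : G := s * (x * s * x⁻¹) * (x * (x * s * x⁻¹) * x⁻¹)

theorem eps_zero {G : Type*} [Group G] (x : G) : eps x 1 = 1 := by simp [eps]

/-- A homomorphism whose kernel is trivial or everything. -/
theorem inj_or_trivial {H X : Type*} [Group H] [Group X] {R : Subgroup H}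
    (htr : ∀ a ∈ R, a ≠ 1 → ∀ b ∈ R, b ≠ 1 → ∃ g, g * a * g⁻¹ = b) (f : ↥R →* X) (c : H → X → X)
    (hc : ∀ g (a : ↥R) (h : g * (a : H) * g⁻¹ ∈ R), f ⟨g * a * g⁻¹, h⟩ = c g (f a)) (hc1 : ∀ g, c g 1 = 1) :
    Function.Injective f ∨ ∀ a, f a = 1 := by
  by_cases h : ∃ a : ↥R, a ≠ 1 ∧ f a = 1
  · obtain ⟨a, ha, hfa⟩ := h
    refine Or.inr fun b => ?_
    rcases eq_or_ne b 1 with rfl | hb
    · exact map_one f
    · obtain ⟨g, hg⟩ := htr a a.2 (fun e => ha (Subtype.ext e)) b b.2 fun e => hb (Subtype.ext e)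
      have := hc g a (hg ▸ b.2)
      rwa [hfa, hc1, show (⟨g * a * g⁻¹, hg ▸ b.2⟩ : ↥R) = b from Subtype.ext hg] at this
  · push Not at h
    exact Or.inl ((injective_iff_map_eq_one f).2 fun a ha => by_contra fun hne => h a hne ha)

variable {G : Type u} [Group G] [Finite G] {z : G} {Q : Subgroup G} (D : Coord z Q)

theorem Coord.cl_inv_split {a : G} (ha : a ∈ Q) : D.cl a⁻¹ = D.cl a := by
  have h := D.cl_mul a ha a⁻¹ (inv_mem ha)
  rw [mul_inv_cancel, D.cl_one] at h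
  exact (v6_eq_of_add h.symm).symm

variable {x : G} (hxM : x ∈ D.M) (hπx : D.π ⟨x, hxM⟩ = Zc)
include hπx

theorem Coord.cl_conj_x {a : G} (ha : a ∈ Q) : D.cl (x * a * x⁻¹) = om • D.cl a := by
  rw [D.π_cl ⟨x, hxM⟩ a ha, hπx, Zc_smul]

theorem Coord.fixed_x {a : G} (ha : a ∈ Q) (hc : Commute a x) : a = 1 ∨ a = z := by
  have h : om • D.cl a = D.cl a := by
    rw [← D.cl_conj_x hxM hπx ha, hc.symm.eq, mul_inv_cancel_right]
  have h2 : (om + 1) • D.cl a = 0 := by rw [add_smul, one_smul, h, v6_add_self]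
  have h0 : D.cl a = D.cl 1 := by rw [D.cl_one]; exact (smul_eq_zero.1 h2).resolve_left tau_om.2.2.1
  rcases (D.cl_eq a ha 1 (one_mem _)).1 h0 with e | e
  · exact Or.inl e.symm
  · exact Or.inr (by rw [← mul_one z, e, ← mul_assoc, D.ctx.sq_z, one_mul])

theorem Coord.eps_mem {a : G} (ha : a ∈ Q) : eps x a = 1 ∨ eps x a = z := by
  have hxz : Commute x z := D.m_comm ⟨x, hxM⟩
  have h1 := conj_mem D.ctx hxz ha
  have h2 := conj_mem D.ctx hxz h1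
  have h0 : D.cl (eps x a) = D.cl 1 := by
    rw [eps, D.cl_mul _ (mul_mem ha h1) _ h2, D.cl_mul _ ha _ h1, D.cl_conj_x hxM hπx h1, D.cl_conj_x hxM hπx ha,
      D.cl_one, add_assoc, om_orbit]
  rcases (D.cl_eq 1 (one_mem _) _ (mul_mem (mul_mem ha h1) h2)).1 h0.symm with e | e
  · exact Or.inl e
  · exact Or.inr (by rw [eps, e, mul_one])

omit hπx in
include D in
theorem Coord.eps_z_mul {a : G} (ha : a ∈ Q) (hxz : Commute x z) : eps x (z * a) = z * eps x a := by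
  have h1 := conj_mem D.ctx hxz ha
  have e1 : ∀ b, x * (z * b) * x⁻¹ = z * (x * b * x⁻¹) := fun b => by
    rw [← mul_assoc x z b, hxz.eq]
    group
  unfold eps
  rw [e1, e1]
  calc z * a * (z * (x * a * x⁻¹)) * (z * (x * (x * a * x⁻¹) * x⁻¹))
      = z * (a * z) * (x * a * x⁻¹ * z) * (x * (x * a * x⁻¹) * x⁻¹) := by group
    _ = z * (z * a) * (z * (x * a * x⁻¹)) * (x * (x * a * x⁻¹) * x⁻¹) := by
      rw [← (D.ctx.central a ha).eq, ← (D.ctx.central _ h1).eq]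
    _ = z * z * (a * z) * (x * a * x⁻¹) * (x * (x * a * x⁻¹) * x⁻¹) := by group
    _ = z * (a * (x * a * x⁻¹) * (x * (x * a * x⁻¹) * x⁻¹)) := by
      rw [← (D.ctx.central a ha).eq, D.ctx.sq_z, one_mul]; group

/-- There is no complement centralizing the element of order three. -/
theorem Coord.not_split {g₁ : G} (hg₁ : g₁ * z * g₁⁻¹ ∈ Q) (hne₁ : g₁ * z * g₁⁻¹ ≠ z)
    (lam : ↥(KM D.c) →* G) (hlamM : ∀ a, lam a ∈ D.M) (hlamπ : ∀ a, D.π ⟨lam a, hlamM a⟩ = (a : G6))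
    (hlamx : ∀ a, Commute (lam a) x) : False := by
  classical
  haveI := finite_G6
  have hc := D.c_lt
  have hxz : Commute x z := D.m_comm ⟨x, hxM⟩
  obtain ⟨hp1, hp2⟩ := D.orb.sing vB (Or.inr (by rw [D.B_eq]; exact (sb_vB hc).2.2))
  -- the preimage with trivial twisted product
  obtain ⟨s, hsQ, hscl, hseps⟩ : ∃ s ∈ Q, D.cl s = vB ∧ eps x s = 1 := by
    obtain ⟨hL, hLc⟩ := D.lift_spec vB
    rcases D.eps_mem hxM hπx hL with e | e
    · exact ⟨_, hL, hLc, e⟩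
    · exact ⟨z * D.lift vB, mul_mem D.ctx.mem hL, by rw [D.cl_z_mul hL, hLc],
        by rw [D.eps_z_mul hL hxz, e, D.ctx.sq_z]⟩
  have hs1 : s ≠ 1 := fun e => hp1 (by rw [← hscl, e, D.cl_one])
  have hz0 : D.cl z = 0 :=
    ((D.cl_eq 1 (one_mem _) z D.ctx.mem).2 (Or.inr (mul_one z).symm)).symm.trans D.cl_one
  have hne : s ≠ z := fun e => hp1 (hscl.symm.trans ((congrArg D.cl e).trans hz0))
  obtain ⟨g, hg⟩ : ∃ g, g * z * g⁻¹ = s := by
    obtain ⟨m, -, e⟩ := D.conj_in_M (D.pt_of_conj rfl hg₁ hne₁) hsQ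
      (D.orb.transB _ (D.conj_in_B rfl hg₁ hne₁) _ (by rw [hscl, D.B_eq]; exact (sb_vB hc).2.2))
    exact ⟨m * g₁, by rw [← e]; group⟩
  have hp := D.pt_of_conj hg hsQ hne
  -- the complement over the stabiliser
  let ν : ↥(Sb D.c vB) →* G := lam.comp (Subgroup.inclusion inf_le_left)
  have hνM : ∀ a, ν a ∈ D.M := fun a => hlamM _
  have hνπ : ∀ a, D.π ⟨ν a, hνM a⟩ = (a : G6) := fun a => hlamπ _
  have hνx : ∀ a, Commute (ν a) x := fun a => hlamx _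
  have hνz : ∀ a, Commute (ν a) z := fun a => D.m_comm ⟨ν a, hνM a⟩
  have hνQ : ∀ a, ν a ∈ Q → a = 1 := fun a h =>
    Subtype.ext (by rw [← hνπ a, (D.π_ker ⟨ν a, hνM a⟩).2 h]; rfl)
  have hνs : ∀ a, Commute (ν a) s := fun a => by
    have h1 : D.cl s = D.cl (ν a * s * (ν a)⁻¹) := by
      rw [D.π_cl ⟨ν a, hνM a⟩ s hsQ, hνπ, hscl]
      exact (MulAction.mem_stabilizer_iff.1 a.2.2).symm
    rcases (D.cl_eq s hsQ _ (conj_mem D.ctx (hνz a) hsQ)).1 h1 with e | e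
    · exact mul_inv_eq_iff_eq_mul.1 e
    · exfalso
      have key : ν a * eps x s * (ν a)⁻¹ = eps x (ν a * s * (ν a)⁻¹) := by
        have hA : ∀ b, x * (ν a * b * (ν a)⁻¹) * x⁻¹ = ν a * (x * b * x⁻¹) * (ν a)⁻¹ := fun b => by
          rw [show x * (ν a * b * (ν a)⁻¹) * x⁻¹ = (x * ν a) * b * (x * ν a)⁻¹ by group, ← (hνx a).eq]
          group
        unfold eps
        rw [hA, hA]
        group
      rw [hseps, mul_one, mul_inv_cancel, e, D.eps_z_mul hsQ hxz, hseps, mul_one] at key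
      exact D.ctx.ne_one key.symm
  obtain ⟨R, hR⟩ := exists_isR hc
  obtain ⟨ψ, hψ, hψR⟩ := hR.quot
  haveI := hR.normal
  -- the normal subgroup of the stabiliser comes from the far part
  obtain ⟨hA128, -, -, χ, hχ, hχk⟩ := D.far_structure hg hsQ hne
  let ν' : ↥(Sb D.c vB) →* ↥(D.M ⊓ Subgroup.centralizer ({s} : Set G)) :=
    ν.codRestrict _ fun a => ⟨hνM a, mem_cent_of_commute (hνs a)⟩
  have hχs : Function.Surjective (χ.comp ν') := by
    intro y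
    obtain ⟨m, rfl⟩ := hχ y
    have hfix : D.π ⟨m, m.2.1⟩ ∈ Sb D.c vB := ⟨D.π_mem _, MulAction.mem_stabilizer_iff.2 (by
      rw [← hscl, ← D.π_cl ⟨m, m.2.1⟩ s hsQ, (commute_of_mem_cent m.2.2).eq, mul_inv_cancel_right])⟩
    refine ⟨⟨_, hfix⟩, ?_⟩
    show χ (ν' ⟨_, hfix⟩) = χ m
    rw [← inv_mul_eq_one, ← map_inv, ← map_mul, hχk]
    refine ⟨1, one_mem _, ?_⟩
    rw [inv_one, one_mul]
    have h1 : D.π (⟨ν ⟨_, hfix⟩, hνM _⟩⁻¹ * ⟨m, m.2.1⟩) = 1 := by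
      rw [map_mul, map_inv, hνπ, inv_mul_cancel]
    exact (D.π_ker _).1 h1
  have hχR : (χ.comp ν').ker = R := by
    haveI := finite_G6
    have hk : Nat.card ↥(χ.comp ν').ker = 16 := by
      have h := (χ.comp ν').ker.card_mul_index
      have h' := ψ.ker.card_mul_index
      rw [Subgroup.index_ker, MonoidHom.range_eq_top.2 hχs, Subgroup.card_top] at h
      rw [Subgroup.index_ker, MonoidHom.range_eq_top.2 hψ, Subgroup.card_top, hψR, hR.card, ← h] at h'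
      exact (Nat.eq_of_mul_eq_mul_right Nat.card_pos h').symm
    exact Subgroup.eq_of_le_of_card_ge (hR.largest _ inferInstance (IsPGroup.of_card (n := 4) (by rw [hk]; norm_num)))
      (by rw [hk, hR.card])
  have hfar : ∀ a ∈ R, ∃ n ∈ farPart D g, n⁻¹ * ν a ∈ Q := fun a ha => by
    obtain ⟨n, hn, hq⟩ := (hχk (ν' a)).1 (MonoidHom.mem_ker.1 (hχR.symm ▸ ha : a ∈ (χ.comp ν').ker))
    exact ⟨n, hn.1, hq⟩
  -- the quotient of the double centralizer by the far part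
  set Hs := Subgroup.centralizer ({z} : Set G) ⊓ Subgroup.centralizer ({s} : Set G) with hHs
  set F := (farPart D g).subgroupOf Hs with hF
  haveI : F.Normal := ⟨fun a ha h => D.far_normal hg h.2 ha⟩
  let mk := QuotientGroup.mk' F
  have hmk : ∀ a b : ↥Hs, mk a = mk b ↔ ((a : G)⁻¹ * (b : G)) ∈ farPart D g := fun a b => QuotientGroup.eq
  have hmk1 : ∀ a : ↥Hs, mk a = 1 ↔ (a : G) ∈ farPart D g := fun a => QuotientGroup.eq_one_iff _
  set Qs := (Q ⊓ Subgroup.centralizer ({s} : Set G)).subgroupOf Hs with hQs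
  have hQsle : Q ⊓ Subgroup.centralizer ({s} : Set G) ≤ Hs := fun a ha =>
    ⟨mem_cent_of_commute (D.ctx.central a ha.1).symm, ha.2⟩
  haveI : Qs.Normal := ⟨fun a ha h => ⟨conj_mem D.ctx (commute_of_mem_cent h.2.1) ha.1,
    (Subgroup.centralizer _).mul_mem (mul_mem h.2.2 ha.2) (inv_mem h.2.2)⟩⟩
  set Qb := Qs.map mk with hQb
  have hQbn : Qb.Normal := Subgroup.Normal.map inferInstance _ (QuotientGroup.mk'_surjective F)
  have hQbc : Nat.card ↥Qb = 32 := by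
    let f : ↥Qs →* ↥Hs ⧸ F := mk.comp Qs.subtype
    have h := f.ker.card_mul_index
    rw [Subgroup.index_ker, show f.range = Qb by rw [MonoidHom.range_comp, Subgroup.range_subtype],
      Nat.card_congr (Subgroup.subgroupOfEquivOfLe hQsle).toEquiv] at h
    have hk : Nat.card ↥f.ker = Nat.card ↥(farPart D g ⊓ Q) := Nat.card_congr
      { toFun := fun a => ⟨((a : ↥Qs) : ↥Hs), (hmk1 _).1 a.2, (a : ↥Qs).2.1⟩
        invFun := fun a => ⟨⟨⟨a, D.far_le hg a.2.1⟩, a.2.2, (D.far_le hg a.2.1).2⟩, (hmk1 _).2 a.2.1⟩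
        left_inv := fun _ => rfl
        right_inv := fun _ => rfl }
    have h13 := D.card_centQ hp
    rw [hk, hA128] at h
    omega
  have hzfar : z ∈ farPart D g := ⟨D.ctx.mem_symm (hg ▸ hsQ), mem_cent_of_commute (Commute.refl z)⟩
  have hQbcomm : ∀ a ∈ Qb, ∀ b ∈ Qb, a * b = b * a := by
    rintro _ ⟨a, ha, rfl⟩ _ ⟨b, hb, rfl⟩
    rw [← map_mul, ← map_mul]
    refine (hmk _ _).2 ?_
    have e : ((a * b : ↥Hs) : G)⁻¹ * ((b * a : ↥Hs) : G) =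
        (b : G)⁻¹ * (a : G)⁻¹ * ((b : G)⁻¹)⁻¹ * ((a : G)⁻¹)⁻¹ := by
      simp [mul_assoc]
    rw [e]
    rcases D.ctx.comm _ (inv_mem hb.1) _ (inv_mem ha.1) with h | h
    exacts [(congrArg (fun w => w ∈ farPart D g) h).mpr (one_mem _),
      (congrArg (fun w => w ∈ farPart D g) h).mpr hzfar]
  -- the two maps
  obtain ⟨q₀, hq₀, hq₀s⟩ := D.ctx.exists_move hsQ hs1 hne
  have hν2s : ∀ a, Commute (q₀⁻¹ * ν a * q₀) s := fun a => by
    refine mul_inv_eq_iff_eq_mul.1 ?_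
    calc q₀⁻¹ * ν a * q₀ * s * (q₀⁻¹ * ν a * q₀)⁻¹ = q₀⁻¹ * (ν a * (q₀ * s * q₀⁻¹) * (ν a)⁻¹) * q₀ := by group
      _ = q₀⁻¹ * (ν a * (z * s) * (ν a)⁻¹) * q₀ := by rw [hq₀s]
      _ = q₀⁻¹ * (z * s) * q₀ := by
        rw [((hνz a).mul_right (hνs a)).eq, mul_inv_cancel_right]
      _ = s := by rw [← hq₀s]; group
  have hν2z : ∀ a, Commute (q₀⁻¹ * ν a * q₀) z := fun a =>
    (((D.ctx.central q₀ hq₀).symm.inv_left).mul_left (hνz a)).mul_left (D.ctx.central q₀ hq₀).symm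
  let νH : ↥(Sb D.c vB) →* ↥Hs :=
    ν.codRestrict Hs fun a => ⟨mem_cent_of_commute (hνz a), mem_cent_of_commute (hνs a)⟩
  let νH2 : ↥(Sb D.c vB) →* ↥Hs := ((MulAut.conj q₀⁻¹).toMonoidHom.comp ν).codRestrict Hs fun a => by
    show q₀⁻¹ * ν a * q₀⁻¹⁻¹ ∈ Hs
    rw [inv_inv]
    exact ⟨mem_cent_of_commute (hν2z a), mem_cent_of_commute (hν2s a)⟩
  have hνH2 : ∀ a, ((νH2 a : ↥Hs) : G) = q₀⁻¹ * ν a * q₀ := fun a => by
    show q₀⁻¹ * ν a * q₀⁻¹⁻¹ = _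
    rw [inv_inv]
  let Φ := mk.comp νH
  let Φ2 := mk.comp νH2
  have hW : ∀ t, Φ2 t * (Φ t)⁻¹ ∈ Qb := fun t => by
    refine ⟨νH2 t * (νH t)⁻¹, ⟨?_, ((νH2 t * (νH t)⁻¹).2).2⟩, by rw [map_mul, map_inv]; rfl⟩
    show (νH2 t : G) * (ν t)⁻¹ ∈ Q
    rw [hνH2, show q₀⁻¹ * ν t * q₀ * (ν t)⁻¹ = q₀⁻¹ * (ν t * q₀ * (ν t)⁻¹) by group]
    exact mul_mem (inv_mem hq₀) (conj_mem D.ctx (hνz t) hq₀)
  have hΦR : ∀ a ∈ R, Φ a ∈ Qb := fun a ha => by
    obtain ⟨n, hn, hq⟩ := hfar a ha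
    have hnH : n ∈ Hs := D.far_le hg hn
    refine ⟨(⟨n, hnH⟩ : ↥Hs)⁻¹ * νH a, ⟨hq, ((⟨n, hnH⟩ : ↥Hs)⁻¹ * νH a).2.2⟩, ?_⟩
    show mk _ = mk (νH a)
    rw [map_mul, map_inv, (hmk1 ⟨n, hnH⟩).2 hn, inv_one, one_mul]
  have hΦ2R : ∀ a ∈ R, Φ2 a ∈ Qb := fun a ha => by
    have := mul_mem (hW a) (hΦR a ha)
    rwa [inv_mul_cancel_right] at this
  have heq1 : ∀ t a (h : t * (a : ↥(Sb D.c vB)) * t⁻¹ ∈ R) , Φ (t * a * t⁻¹) = Φ t * Φ a * (Φ t)⁻¹ :=
    fun t a h => by rw [map_mul, map_mul, map_inv]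
  have heq2 : ∀ t, ∀ a ∈ R, Φ2 (t * a * t⁻¹) = Φ t * Φ2 a * (Φ t)⁻¹ := fun t a ha => by
    have h1 : Φ2 t = Φ2 t * (Φ t)⁻¹ * Φ t := (inv_mul_cancel_right _ _).symm
    have h2 := hQbcomm _ (hW t) _ (hQbn.conj_mem _ (hΦ2R a ha) (Φ t))
    rw [map_mul, map_mul, map_inv, h1]
    calc Φ2 t * (Φ t)⁻¹ * Φ t * Φ2 a * (Φ2 t * (Φ t)⁻¹ * Φ t)⁻¹
        = Φ2 t * (Φ t)⁻¹ * (Φ t * Φ2 a * (Φ t)⁻¹) * (Φ2 t * (Φ t)⁻¹)⁻¹ := by group
      _ = _ := by rw [h2, mul_inv_cancel_right]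
  -- the far part in both positions
  have hcase1 : (∀ a ∈ R, Φ a = 1) → False := fun h =>
    D.no_far hg hsQ hne hR ν hνz hνs hνQ fun a ha => (hmk1 _).1 (h a ha)
  have hcase2 : (∀ a ∈ R, Φ2 a = 1) → False := fun h => by
    refine D.no_far (g := q₀ * g) (s := z * s)
      (by rw [← hq₀s, ← hg]; group) (mul_mem D.ctx.mem hsQ) ?_ hR ν hνz
      (fun a => (hνz a).mul_right (hνs a)) hνQ fun a ha => ?_
    · intro e
      exact hs1 (mul_left_cancel (e.trans (mul_one z).symm))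
    · have h1 := (hmk1 _).1 (h a ha)
      rw [hνH2] at h1
      refine ⟨mem_conj_of_back ?_, mem_cent_of_commute (hνz a)⟩
      have := conj_back_mem h1.1
      convert this using 1
      group
  have hcase3 : (∀ a ∈ R, Φ2 a = Φ a) → False := fun h => by
    let H : AddSubgroup V6 :=
      { carrier := D.cl '' ((farPart D g ⊓ Q : Subgroup G) : Set G)
        zero_mem' := ⟨1, one_mem _, D.cl_one⟩
        add_mem' := by
          rintro _ _ ⟨a, ha, rfl⟩ ⟨b, hb, rfl⟩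
          exact ⟨a * b, mul_mem ha hb, D.cl_mul a ha.2 b hb.2⟩
        neg_mem' := by
          rintro _ ⟨a, ha, rfl⟩
          exact ⟨a, ha, (neg_eq_of_add_eq_zero_left (v6_add_self _)).symm⟩ }
    have hsmall : Nat.card ↥H ≤ 128 := by
      rw [← hA128]
      refine Nat.card_le_card_of_surjective (fun a : ↥(farPart D g ⊓ Q) => (⟨D.cl a, a, a.2, rfl⟩ : ↥H)) ?_
      rintro ⟨_, a, ha, rfl⟩
      exact ⟨⟨a, ha⟩, rfl⟩
    have hbig := hR.span H fun a ha v => by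
      have key : ∀ q ∈ Q, Commute q s → (a : G6) • D.cl q + D.cl q ∈ H := fun q hq hqs => by
        have hqH : q ∈ Hs := hQsle ⟨hq, mem_cent_of_commute hqs⟩
        have hf : ν a * q * (ν a)⁻¹ * q⁻¹ ∈ farPart D g := by
          refine (hmk1 (νH a * ⟨q, hqH⟩ * (νH a)⁻¹ * ⟨q, hqH⟩⁻¹)).1 ?_
          rw [map_mul, map_mul, map_mul, map_inv, map_inv]
          show Φ a * mk ⟨q, hqH⟩ * (Φ a)⁻¹ * (mk ⟨q, hqH⟩)⁻¹ = 1
          rw [hQbcomm _ (hΦR a ha) _ ⟨⟨q, hqH⟩, ⟨hq, mem_cent_of_commute hqs⟩, rfl⟩]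
          group
        have hi : q⁻¹ ∈ Q := inv_mem hq
        refine ⟨ν a * q * (ν a)⁻¹ * q⁻¹, Subgroup.mem_inf.2 ⟨hf, mul_mem (conj_mem D.ctx (hνz a) hq) hi⟩, ?_⟩
        rw [D.cl_mul _ (conj_mem D.ctx (hνz a) hq) _ hi, D.cl_inv_split hq, D.π_cl ⟨ν a, hνM a⟩ q hq, hνπ]
      obtain ⟨q, hq, rfl⟩ := D.cl_surj v
      by_cases hqs : Commute q s
      · exact key q hq hqs
      have hqs' : q * s * q⁻¹ = z * s := by
        rcases D.ctx.comm q hq s hsQ with e | e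
        · exact absurd (mul_inv_eq_iff_eq_mul.1 (mul_inv_eq_one.1 e)) hqs
        · exact mul_inv_eq_iff_eq_mul.1 e
      have h1 : Commute (q₀⁻¹ * q) s := mul_inv_eq_iff_eq_mul.1 (by
        rw [show q₀⁻¹ * q * s * (q₀⁻¹ * q)⁻¹ = q₀⁻¹ * (q * s * q⁻¹) * q₀ by group, hqs', ← hq₀s]
        group)
      have hi : q₀⁻¹ ∈ Q := inv_mem hq₀
      have h2 : (a : G6) • D.cl q₀ + D.cl q₀ ∈ H := by
        have e : q₀⁻¹ * ν a * q₀ * (ν a)⁻¹ = q₀⁻¹ * (ν a * q₀ * (ν a)⁻¹) := by group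
        have hf : q₀⁻¹ * ν a * q₀ * (ν a)⁻¹ ∈ farPart D g := by
          rw [← hνH2]
          refine (hmk1 (νH2 a * (νH a)⁻¹)).1 ?_
          rw [map_mul, map_inv]
          show Φ2 a * (Φ a)⁻¹ = 1
          rw [h a ha, mul_inv_cancel]
        refine ⟨q₀⁻¹ * (ν a * q₀ * (ν a)⁻¹), Subgroup.mem_inf.2
          ⟨e ▸ hf, mul_mem hi (conj_mem D.ctx (hνz a) hq₀)⟩, ?_⟩
        rw [D.cl_mul _ hi _ (conj_mem D.ctx (hνz a) hq₀), D.cl_inv_split hq₀, D.π_cl ⟨ν a, hνM a⟩ q₀ hq₀, hνπ, add_comm]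
      have h3 := key _ (mul_mem hi hq) h1
      rw [D.cl_mul _ hi _ hq, D.cl_inv_split hq₀, g6_add] at h3
      have e4 : ∀ A B C E : V6, A + B + (A + C + (B + E)) = C + E := fun A B C E => by
        calc A + B + (A + C + (B + E)) = (A + A) + (B + B) + (C + E) := by abel
          _ = _ := by rw [v6_add_self, v6_add_self, zero_add, zero_add]
      have h5 := H.add_mem h2 h3
      rwa [e4] at h5
    omega
  -- the homomorphisms on the normal subgroup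
  have hcomm1 : ∀ a b : ↥R, Φ2 a * Φ b = Φ b * Φ2 a := fun a b => hQbcomm _ (hΦ2R a a.2) _ (hΦR b b.2)
  let f1 : ↥R →* ↥Hs ⧸ F := Φ.comp R.subtype
  let f2 : ↥R →* ↥Hs ⧸ F := Φ2.comp R.subtype
  let f3 : ↥R →* ↥Hs ⧸ F :=
    { toFun := fun a => Φ2 a * (Φ a)⁻¹
      map_one' := by rw [OneMemClass.coe_one, map_one, map_one, inv_one, mul_one]
      map_mul' := fun a b => by
        rw [Subgroup.coe_mul, map_mul, map_mul, _root_.mul_inv_rev,
          show Φ2 (a : ↥(Sb D.c vB)) * Φ2 b * ((Φ b)⁻¹ * (Φ a)⁻¹) = Φ2 a * (Φ2 b * (Φ b)⁻¹ * (Φ a)⁻¹) by group,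
          hQbcomm _ (hW b) _ (inv_mem (hΦR a a.2))]
        group }
  let cnj : ↥(Sb D.c vB) → ↥Hs ⧸ F → ↥Hs ⧸ F := fun t y => Φ t * y * (Φ t)⁻¹
  have hc1 : ∀ t, cnj t 1 = 1 := fun t => by show Φ t * 1 * (Φ t)⁻¹ = 1; group
  rcases inj_or_trivial hR.trans f1 cnj (fun t a h => heq1 t a h) hc1 with i1 | i1
  swap
  · exact hcase1 fun a ha => i1 ⟨a, ha⟩
  rcases inj_or_trivial hR.trans f2 cnj (fun t a _ => heq2 t a a.2) hc1 with i2 | i2
  swap
  · exact hcase2 fun a ha => i2 ⟨a, ha⟩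
  rcases inj_or_trivial hR.trans f3 cnj (fun t a h => by
      show Φ2 (t * a * t⁻¹) * (Φ (t * a * t⁻¹))⁻¹ = Φ t * (Φ2 a * (Φ a)⁻¹) * (Φ t)⁻¹
      rw [heq1 t a h, heq2 t a a.2]
      group) hc1 with i3 | i3
  swap
  · exact hcase3 fun a ha => mul_inv_eq_one.1 (i3 ⟨a, ha⟩)
  -- two equal values
  let Θ : ↥R × ↥R → ↥Qb := fun w => ⟨f1 w.1 * f2 w.2, mul_mem (hΦR _ w.1.2) (hΦ2R _ w.2.2)⟩
  have hΘ : ¬ Function.Injective Θ := fun h => by
    have := Nat.card_le_card_of_injective Θ h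
    rw [Nat.card_prod, hR.card, hQbc] at this
    omega
  obtain ⟨⟨a, b⟩, ⟨a', b'⟩, e, hne2⟩ := Function.not_injective_iff.1 hΘ
  have e' : f1 a * f2 b = f1 a' * f2 b' := congrArg Subtype.val e
  have hAB : f1 (a'⁻¹ * a) = f2 (b' * b⁻¹) := by
    rw [map_mul, map_inv, map_mul, map_inv]
    calc (f1 a')⁻¹ * f1 a = (f1 a')⁻¹ * (f1 a * f2 b) * (f2 b)⁻¹ := by group
      _ = _ := by rw [e']; group
  set A := a'⁻¹ * a with hA
  set B := b' * b⁻¹ with hB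
  have hA1 : A ≠ 1 := fun h => by
    have hB1 : B = 1 := i2 (by rw [← hAB, h, map_one, map_one])
    exact hne2 (Prod.ext (inv_mul_eq_one.1 (hA ▸ h)).symm (mul_inv_eq_one.1 (hB ▸ hB1)).symm)
  have hct : ∀ t : ↥(Sb D.c vB), t * A = A * t → t * B = B * t := fun t ht => by
    have hmem : t * (B : ↥(Sb D.c vB)) * t⁻¹ ∈ R := hR.normal.conj_mem _ B.2 t
    have e2 : f2 ⟨_, hmem⟩ = f2 B := by
      show Φ2 (t * B * t⁻¹) = f2 B
      rw [heq2 t B B.2, show Φ2 (B : ↥(Sb D.c vB)) = Φ (A : ↥(Sb D.c vB)) from hAB.symm,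
        ← heq1 t A (by rw [ht, mul_inv_cancel_right]; exact A.2), ht, mul_inv_cancel_right]
      exact hAB
    have e4 := congrArg (fun x : ↥R => (x : ↥(Sb D.c vB))) (i2 e2)
    simp only at e4
    have e3 : t * (B : ↥(Sb D.c vB)) * t⁻¹ = B := e4
    exact mul_inv_eq_iff_eq_mul.1 e3
  rcases hR.cent A A.2 (fun h => hA1 (Subtype.ext h)) B B.2 hct with h | h
  · have hB1 : B = 1 := Subtype.ext h
    exact hA1 (i1 (by rw [hAB, hB1, map_one, map_one]))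
  · have hBA : B = A := Subtype.ext h
    rw [hBA] at hAB
    exact hA1 (i3 (by
      rw [map_one]
      show f2 A * (f1 A)⁻¹ = 1
      rw [← hAB, mul_inv_cancel]))

end Cfsg.Lib.FischerLarge
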