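import Cfsg.Agent.Lib.FischerLarge.Semi
import Cfsg.Agent.Lib.MinusSix.Main
import Cfsg.Agent.Lib.Linear.PSUSimple
import Cfsg.Agent.Lib.Fischer.Relations.TwoPair.Orth

/-!
# The stabiliser of a vector in the small orbit is `PSU(4, 2)`
-/

set_option autoImplicit false

namespace Cfsg.Lib.FischerLarge

open Cfsg Matrix Cfsg.Lib.SUSixU43 Cfsg.Lib.PermAut Equiv

/-- The base vector. -/
noncomputable def vA : V6 := vec 5

theorem vA_val : vA 0 = 1 ∧ vA 1 = 1 ∧ vA 2 = 0 ∧ vA 3 = 0 ∧ vA 4 = 0 ∧ vA 5 = 0 := by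
  simp only [vA]; decide +kernel

theorem herm_vA (x : V6) : hermForm 6 R4 2 x vA = x 0 + x 1 := by
  obtain ⟨h0, h1, h2, h3, h4, h5⟩ := vA_val
  simp [hermForm, Fin.sum_univ_six, h0, h1, h2, h3, h4, h5]

theorem r4_add_self (a : R4) : a + a = 0 := by
  rw [show a + a = (2 : R4) * a by ring, show (2 : R4) = 0 by decide +kernel, zero_mul]

theorem r4_eq_of_add {a b : R4} (h : a + b = 0) : a = b := by
  have := congrArg (· + b) h
  simpa [add_assoc, r4_add_self] using this

/-- The index of the lower block. -/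
def low (a : Fin 4) : Fin 6 := a.natAdd 2

/-- The lower block. -/
noncomputable def blk (g : G6) : Matrix (Fin 4) (Fin 4) R4 := (mm g).submatrix low low

/-- The lower part of a vector. -/
def lowV (x : V6) : Fin 4 → R4 := fun a => x (low a)

/-- A vector from its lower part. -/
def upV (u : Fin 4 → R4) : V6 := ![0, 0, u 0, u 1, u 2, u 3]

theorem upV_low (u : Fin 4 → R4) : lowV (upV u) = u := funext fun a => by fin_cases a <;> rfl

theorem herm_split (x y : V6) :
    hermForm 6 R4 2 x y = x 0 * y 0 ^ 2 + x 1 * y 1 ^ 2 + hermForm 4 R4 2 (lowV x) (lowV y) := by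
  simp only [hermForm, Fin.sum_univ_six, Fin.sum_univ_four, lowV, low]
  ring!

variable {g : G6} (hg : g • vA = vA)
include hg

theorem fix_sum (x : V6) : (g • x) 0 + (g • x) 1 = x 0 + x 1 := by
  rw [← herm_vA, ← herm_vA]
  conv_lhs => rw [← hg]
  exact herm_smul x vA

theorem blk_mulVec {x : V6} (hx : x 0 = x 1) : lowV (g • x) = blk g *ᵥ lowV x := by
  funext a
  obtain ⟨h0, h1, h2, h3, h4, h5⟩ := vA_val
  have hrow : mm g (low a) 0 = mm g (low a) 1 := by
    have h := congrFun hg (low a)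
    rw [smul_def] at h
    simp only [Matrix.mulVec, dotProduct, Fin.sum_univ_six, h0, h1, h2, h3, h4, h5, mul_one, mul_zero,
      add_zero] at h
    refine r4_eq_of_add (h.trans ?_)
    fin_cases a <;> assumption
  show (g • x) (low a) = _
  rw [smul_def]
  simp only [Matrix.mulVec, dotProduct, Fin.sum_univ_six, Fin.sum_univ_four, blk, lowV, Matrix.submatrix_apply,
    hrow, hx, r4_add_self, zero_add]
  rfl

theorem blk_unit (u w : Fin 4 → R4) :
    hermForm 4 R4 2 (blk g *ᵥ u) (blk g *ᵥ w) = hermForm 4 R4 2 u w := by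
  have e : ∀ u, (g • upV u) 0 = (g • upV u) 1 := fun u => r4_eq_of_add ((fix_sum hg (upV u)).trans (add_zero 0))
  have h1 := herm_smul (g := g) (upV u) (upV w)
  rw [herm_split, herm_split, blk_mulVec hg (x := upV u) rfl, blk_mulVec hg (x := upV w) rfl, upV_low, upV_low,
    ← e u, ← e w, r4_add_self, zero_add] at h1
  simpa [upV] using h1

theorem blk_mul {k : G6} (hk : k • vA = vA) : blk (g * k) = blk g * blk k := by
  refine Matrix.ext_of_mulVec_single fun j => ?_
  have hgk : (g * k) • vA = vA := by rw [mul_smul, hk, hg]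
  set u : Fin 4 → R4 := Pi.single j 1
  have e : (k • upV u) 0 = (k • upV u) 1 := r4_eq_of_add ((fix_sum hk (upV u)).trans (add_zero 0))
  rw [← Matrix.mulVec_mulVec, ← upV_low u, ← blk_mulVec hgk (x := upV u) rfl, ← blk_mulVec hk (x := upV u) rfl,
    ← blk_mulVec hg e, mul_smul]

theorem pow_four (hb : blk g = 1) : g ^ 4 = 1 := by
  have step : ∀ x : V6, x 0 = x 1 → ∃ b : R4, g • x = x + b • vA := fun x hx => by
    obtain ⟨h0, h1, h2, h3, h4, h5⟩ := vA_val
    refine ⟨(g • x) 0 + x 0, funext fun i => ?_⟩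
    have hl := blk_mulVec hg hx
    rw [hb, Matrix.one_mulVec] at hl
    have e : (g • x) 0 = (g • x) 1 := r4_eq_of_add ((fix_sum hg x).trans (by rw [hx, r4_add_self]))
    have l0 := congrFun hl 0
    have l1 := congrFun hl 1
    have l2 := congrFun hl 2
    have l3 := congrFun hl 3
    simp only [lowV, low] at l0 l1 l2 l3
    rw [Pi.add_apply, Pi.smul_apply, smul_eq_mul]
    fin_cases i
    · rw [show vA (⟨0, _⟩ : Fin 6) = 1 from h0, mul_one, add_left_comm]
      exact (by rw [show (x : V6) (⟨0, by norm_num⟩ : Fin 6) = x 0 from rfl, r4_add_self, add_zero]; rfl)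
    · rw [show vA (⟨1, _⟩ : Fin 6) = 1 from h1, mul_one, add_left_comm]
      exact (by rw [show (x : V6) (⟨1, by norm_num⟩ : Fin 6) = x 0 from hx.symm, r4_add_self, add_zero]; exact e.symm)
    · rw [show vA (⟨2, _⟩ : Fin 6) = 0 from h2, mul_zero, add_zero]; exact l0
    · rw [show vA (⟨3, _⟩ : Fin 6) = 0 from h3, mul_zero, add_zero]; exact l1
    · rw [show vA (⟨4, _⟩ : Fin 6) = 0 from h4, mul_zero, add_zero]; exact l2
    · rw [show vA (⟨5, _⟩ : Fin 6) = 0 from h5, mul_zero, add_zero]; exact l3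
  refine mm_injective (Matrix.ext_of_mulVec_single fun j => ?_)
  rw [map_one, Matrix.one_mulVec, ← smul_def]
  set y : V6 := Pi.single j 1
  set w := g • y + y with hw
  obtain ⟨b, hb'⟩ := step w (r4_eq_of_add (by
    rw [hw, Pi.add_apply, Pi.add_apply, add_add_add_comm, fix_sum hg, r4_add_self]))
  have h2 : (g * g) • y = y + b • vA := by
    have e : g • w = g • g • y + g • y := by rw [hw, g6_add]
    rw [mul_smul]
    calc g • g • y = g • w + g • y := by rw [e, add_assoc, v6_add_self, add_zero]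
      _ = w + g • y + b • vA := by rw [hb', add_right_comm]
      _ = y + b • vA := by rw [hw, add_assoc (g • y), add_comm y, ← add_assoc, v6_add_self, zero_add]
  have h3 : (g * g) • vA = vA := by rw [mul_smul, hg, hg]
  rw [show g ^ 4 = g * g * (g * g) by simp only [pow_succ, pow_zero, one_mul, mul_assoc], mul_smul, h2, g6_add, g6_scalar, h2, h3, add_assoc, v6_add_self,
    add_zero]

omit hg

theorem blk_det_gens : ∀ c < 3, ∀ k < 2,
    el (detC 4 fun i j => mget ((stabA c).mats.getD k 0) (i + 2) (j + 2)) = 1 := by decide +kernel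

theorem blk_one : blk 1 = 1 := by
  rw [blk, map_one]
  exact Matrix.submatrix_one _ (Fin.natAdd_injective _ _)

/-- No proper subgroup of index at most four. -/
theorem top_of_small_index {P : Type*} [Group P] [Finite P] [IsSimpleGroup P] (hP : 24 < Nat.card P)
    {H : Subgroup P} (hi : H.index ≤ 4) : H = ⊤ := by
  classical
  let φ := MulAction.toPermHom P (P ⧸ H)
  have hk : φ.ker = H.normalCore := (Subgroup.normalCore_eq_ker H).symm
  rcases (H.normalCore_normal).eq_bot_or_eq_top with h | h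
  · exfalso
    have hinj : Function.Injective φ := (MonoidHom.ker_eq_bot_iff _).1 (hk.trans h)
    have h1 := Nat.card_le_card_of_injective φ hinj
    rw [Nat.card_perm] at h1
    have h2 : Nat.factorial (Nat.card (P ⧸ H)) ≤ Nat.factorial 4 := Nat.factorial_le hi
    rw [show Nat.factorial 4 = 24 from rfl] at h2
    omega
  · exact top_le_iff.1 (h ▸ H.normalCore_le)

theorem su_four_card : Nat.card ↥(SU 4 R4 2) = 25920 := by
  have h := Cfsg.Lib.MinusSix.card_SU_four (K := R4) (q := 2) (by rw [card_r4]; norm_num)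
  norm_num at h
  exact_mod_cast h

theorem psu_mk_bijective : Function.Bijective (QuotientGroup.mk' (Subgroup.center ↥(SU 4 R4 2))) := by
  have : Finite ↥(SU 4 R4 2) := Nat.finite_of_card_ne_zero (by rw [su_four_card]; norm_num)
  refine (Nat.bijective_iff_surjective_and_card _).2 ⟨QuotientGroup.mk'_surjective _, ?_⟩
  rw [su_four_card]
  exact (Cfsg.Lib.Fischer.Relations.TwoPair.psu_four_card (K := R4) (by rw [card_r4]; norm_num)).symm

/-- The stabiliser of the base vector is the special unitary group of the block. -/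
theorem sb_base_equiv {c : ℕ} (hc : c < 3) : Nonempty (↥(Sb c vA) ≃* PSU 4 R4 2) := by
  classical
  have := finite_G6
  obtain ⟨hs, hb, hz⟩ := stabA_ok c hc
  obtain ⟨hA, -, -, -, -, hiA, -, htA, -, hmA, -⟩ := orbit_facts hc
  obtain ⟨heq, hcard⟩ := Sb_eq hc hs (by omega) (by rw [hz, hA]) (hb.symm ▸ hmA)
    (fun g hg y hy => (hiA g hg).subset ⟨y, hy, rfl⟩) (hb.symm ▸ htA)
  rw [hb] at heq hcard
  rw [hz] at hcard
  have hfix : ∀ g ∈ Sb c vA, g • vA = vA := fun g hg => hg.2
  let bm : ↥(Sb c vA) →* Matrix (Fin 4) (Fin 4) R4 :=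
    { toFun := fun g => blk g
      map_one' := blk_one
      map_mul' := fun a b => blk_mul (hfix _ a.2) (hfix _ b.2) }
  have hdet : ∀ g : ↥(Sb c vA), (bm g).det = 1 := by
    rintro ⟨g, hg⟩
    show (blk g).det = 1
    have hg' : g ∈ stab0 c (stabA c) := heq.symm ▸ hg
    clear hg
    have hsub : ∀ {y}, y ∈ stab0 c (stabA c) → y • vA = vA := fun hy => hfix _ (heq ▸ hy)
    induction hg' using Subgroup.closure_induction with
    | mem x hx =>
      obtain ⟨k, hk, rfl⟩ : ∃ k < 2, x = word2 c (stabA c) k := by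
        rcases hx with rfl | rfl
        exacts [⟨0, by norm_num, rfl⟩, ⟨1, by norm_num, rfl⟩]
      simp only [stabB, Bool.and_eq_true, allBelowB_iff, List.all_eq_true, Nat.beq_eq, sameM_iff, Nat.blt,
        Nat.ble_eq, Bool.not_eq_true'] at hs
      obtain ⟨⟨⟨⟨⟨⟨⟨⟨⟨⟨-, hwl⟩, -⟩, hl⟩, hk'⟩, -⟩, -⟩, -⟩, -⟩, -⟩, -⟩ := hs
      have hm : mm (word2 c (stabA c) k) = mat ((stabA c).mats.getD k 0) :=
        (word_spec hc ((stabA c).words.getD k []) fun j hj => hl _ (getD_mem [] (by omega)) j hj).2.trans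
          (hk' k hk).1.symm
      rw [blk, hm, ← blk_det_gens c hc k hk, el_detC]
      congr 1
      ext i j : 1
      simp only [Matrix.submatrix_apply, Matrix.of_apply, mat_apply, low, Fin.val_natAdd]
      rw [add_comm 2, add_comm 2]
    | one => rw [blk_one, Matrix.det_one]
    | mul x y hx hy ihx ihy => rw [blk_mul (hsub hx) (hsub hy), Matrix.det_mul, ihx, ihy, one_mul]
    | inv x hx ih =>
      have h := congrArg Matrix.det (blk_mul (hsub hx) (k := x⁻¹) (hsub (inv_mem hx)))
      rw [mul_inv_cancel, blk_one, Matrix.det_one, Matrix.det_mul, ih, one_mul] at h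
      exact h.symm
  let F : ↥(Sb c vA) →* ↥(SU 4 R4 2) :=
    { toFun := fun g => ⟨⟨bm g, hdet g⟩, fun u w => blk_unit (hfix _ g.2) u w⟩
      map_one' := Subtype.ext (Subtype.ext (map_one bm))
      map_mul' := fun a b => Subtype.ext (Subtype.ext (map_mul bm a b)) }
  have hker : Nat.card ↥F.ker ≤ 4 := by
    refine (orbFacts hc).coreA vA hmA F.ker inferInstance fun x => ⟨2, Subtype.ext (Subtype.ext ?_)⟩
    have h1 : blk ((x : ↥(Sb c vA)) : G6) = 1 := congrArg (fun m : ↥(SU 4 R4 2) => m.1.1) (MonoidHom.mem_ker.1 x.2)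
    simpa using pow_four (hfix _ (x : ↥(Sb c vA)).2) h1
  have : Finite ↥(SU 4 R4 2) := Nat.finite_of_card_ne_zero (by rw [su_four_card]; norm_num)
  let q := MulEquiv.ofBijective _ psu_mk_bijective
  have : IsSimpleGroup (PSU 4 R4 2) := Cfsg.Lib.Linear.Herm.psu_simple (by rw [card_r4]; norm_num) le_rfl
  have : IsSimpleGroup ↥(SU 4 R4 2) := q.isSimpleGroup
  have hc' : Nat.card ↥(Sb c vA) = 25920 := hcard
  have h := F.ker.card_mul_index
  rw [hc', Subgroup.index_ker] at h
  have h' := F.range.card_mul_index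
  rw [su_four_card] at h'
  have hi : F.range.index = Nat.card ↥F.ker := by
    refine Nat.eq_of_mul_eq_mul_left (Nat.card_pos (α := ↥F.range)) ?_
    rw [h', ← h, mul_comm]
  have htop := top_of_small_index (H := F.range) (by rw [su_four_card]; norm_num) (hi.le.trans hker)
  rw [htop, Subgroup.index_top] at hi
  have hb1 : F.ker = ⊥ := Subgroup.eq_bot_of_card_eq _ hi.symm
  exact ⟨(MulEquiv.ofBijective F ⟨(MonoidHom.ker_eq_bot_iff F).1 hb1, MonoidHom.range_eq_top.1 htop⟩).trans q⟩

theorem sb_equiv {c : ℕ} (hc : c < 3) {v : V6} (hv : v ∈ (orbA c).set) : Nonempty (↥(Sb c v) ≃* PSU 4 R4 2) := by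
  obtain ⟨k, hk, rfl⟩ := (orbit_facts hc).2.2.2.2.2.2.2.1 v hv
  obtain ⟨e⟩ := exists_equiv_Sb hk vA
  obtain ⟨f⟩ := sb_base_equiv hc
  exact ⟨e.symm.trans f⟩

end Cfsg.Lib.FischerLarge
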