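import Cfsg.Agent.Lib.FischerLarge.Semi
import Cfsg.Agent.Lib.FischerLarge.CheckSylow
import Mathlib.GroupTheory.Sylow

/-!
# Elementary abelian subgroups of rank four of a model
-/

set_option autoImplicit false

namespace Cfsg.Lib.FischerLarge

open Cfsg Matrix Cfsg.Lib.SUSixU43 Cfsg.Lib.PermAut

set_option maxRecDepth 10000

theorem altGens_lt : ∀ c < 3, ∀ a ∈ (syl c).altGens, a < 128 := by decide +kernel

attribute [local irreducible] syl mat mulM maskL appM ent sameM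

/-- An element of the Sylow subgroup of a model. -/
noncomputable def sy (c i : ℕ) : G6 := ofM ((syl c).el i)

/-- A generator of the Sylow subgroup. -/
noncomputable def syGen (c k : ℕ) : G6 := (((syl c).words.getD k []).map (word2 c (stabBig c))).prod

theorem syGen_spec {c k : ℕ} (hc : c < 3) (hk : k < (syl c).gens.length) :
    syGen c k ∈ KM c ∧ mm (syGen c k) = mat ((syl c).gens.getD k 0) := by
  have h := sylGroup_ok c hc
  simp only [groupB, Bool.and_eq_true, allBelowB_iff, Nat.beq_eq, List.all_eq_true, Nat.blt, Nat.ble_eq,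
    sameM_iff] at h
  obtain ⟨⟨⟨⟨⟨⟨⟨⟨⟨hgl, hw⟩, hgen⟩, -⟩, -⟩, -⟩, -⟩, -⟩, -⟩, -⟩ := h
  have hs := (stabBig_ok c hc).1
  simp only [stabB, Bool.and_eq_true, allBelowB_iff, List.all_eq_true, Nat.beq_eq, sameM_iff, Nat.blt,
    Nat.ble_eq, Bool.not_eq_true'] at hs
  obtain ⟨⟨⟨⟨⟨⟨⟨⟨⟨⟨-, hwl⟩, -⟩, hl⟩, -⟩, -⟩, -⟩, -⟩, -⟩, -⟩, -⟩ := hs
  have key : ∀ t < 2, word2 c (stabBig c) t ∈ KM c ∧
      mm (word2 c (stabBig c) t) = mat (prodM (((stabBig c).words.getD t []).map (lettM c))) := fun t ht =>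
    word_spec hc _ fun j hj => hl _ (getD_mem [] (by omega)) j hj
  have hlet : ∀ t ∈ (syl c).words.getD k [], t < 2 := fun t ht => hw _ (getD_mem [] (by omega)) t ht
  refine ⟨(KM c).list_prod_mem fun x hx => ?_, ?_⟩
  · obtain ⟨t, ht, rfl⟩ := List.mem_map.1 hx
    exact (key t (hlet t ht)).1
  · rw [hgen k hk, syGen, mm_prod fun t ht => (key t (hlet t ht)).2]

theorem sy_exists {c : ℕ} (hc : c < 3) : ∀ i < 128, ∃ g ∈ KM c, mm g = mat ((syl c).el i) := by
  have h := sylGroup_ok c hc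
  simp only [groupB, Bool.and_eq_true, allBelowB_iff, Nat.beq_eq, sameM_iff] at h
  obtain ⟨⟨⟨⟨⟨⟨-, hpl⟩, h0⟩, htree⟩, -⟩, -⟩, -⟩ := h
  have key : ∀ (l : List (ℕ × ℕ)) (i : ℕ), treeM (syl c).mats (syl c).gens l i = true →
      (∀ j ≤ i, ∃ g ∈ KM c, mm g = mat ((syl c).el j)) →
      ∀ j ≤ i + l.length, ∃ g ∈ KM c, mm g = mat ((syl c).el j) := by
    intro l
    induction l with
    | nil => exact fun i _ h j hj => h j (by simpa using hj)
    | cons x l ih =>
      obtain ⟨p, k⟩ := x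
      intro i hi h0 j hj
      simp only [treeM, Bool.and_eq_true, Nat.ble_eq, Nat.blt, sameM_iff, mat_mulM] at hi
      refine ih (i + 1) hi.2 (fun t ht => ?_) j (by simp only [List.length_cons] at hj; omega)
      rcases Nat.lt_or_ge t (i + 1) with hlt | hge
      · exact h0 t (by omega)
      · obtain ⟨g, hg, hge'⟩ := h0 p hi.1.1.1
        obtain ⟨hm, he⟩ := syGen_spec hc hi.1.1.2
        refine ⟨g * syGen c k, mul_mem hg hm, ?_⟩
        rw [show t = i + 1 by omega, map_mul, hge', he]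
        exact hi.1.2.symm
  intro i hi
  exact key _ 0 htree (fun j hj => ⟨1, one_mem _, by rw [Nat.le_zero.1 hj, map_one, h0, mat_oneM]⟩) i (by omega)

theorem sy_spec {c i : ℕ} (hc : c < 3) (hi : i < 128) : sy c i ∈ KM c ∧ mm (sy c i) = mat ((syl c).el i) := by
  obtain ⟨g, hg, he⟩ := sy_exists hc i hi
  rw [sy, ofM_eq he]
  exact ⟨hg, he⟩

theorem sy_zero {c : ℕ} (hc : c < 3) : sy c 0 = 1 := by
  have h := sylGroup_ok c hc
  simp only [groupB, Bool.and_eq_true, sameM_iff] at h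
  obtain ⟨⟨⟨⟨⟨⟨-, -⟩, h0⟩, -⟩, -⟩, -⟩, -⟩ := h
  exact mm_injective (by rw [(sy_spec hc (by norm_num)).2, h0, mat_oneM, map_one])

theorem sy_inj {c i j : ℕ} (hc : c < 3) (hi : i < 128) (hj : j < 128) (e : sy c i = sy c j) : i = j := by
  have h := sylGroup_ok c hc
  simp only [groupB, Bool.and_eq_true, allBelowB_iff, Bool.not_eq_true'] at h
  by_contra hne
  have e' : mat ((syl c).el i) = mat ((syl c).el j) := by
    rw [← (sy_spec hc hi).2, ← (sy_spec hc hj).2, e]
  rcases Nat.lt_or_gt_of_ne hne with hlt | hlt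
  · have := h.2 j hj i hlt
    rw [(sameM_iff _ _).2 e'.symm] at this
    exact Bool.noConfusion this
  · have := h.2 i hi j hlt
    rw [(sameM_iff _ _).2 e'] at this
    exact Bool.noConfusion this

theorem sy_rgt {c k x : ℕ} (hc : c < 3) (hk : k < (syl c).gens.length) (hx : x < 128) :
    (syl c).rgt k x < 128 ∧ sy c x * syGen c k = sy c ((syl c).rgt k x) := by
  have h := sylGroup_ok c hc
  simp only [groupB, Bool.and_eq_true, allBelowB_iff, Nat.blt, Nat.ble_eq, sameM_iff, mat_mulM] at h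
  obtain ⟨h1, h2⟩ := h.1.1.2 k hk x hx
  exact ⟨h1, mm_injective (by rw [map_mul, (sy_spec hc hx).2, (syGen_spec hc hk).2, (sy_spec hc h1).2, h2])⟩

theorem step_eq {H : Type} [Group H] {x a b q r u : H} (e : u = a * b) (h1 : x * a = q) (h2 : q * b = r) :
    r = x * u := by
  rw [e, ← mul_assoc, h1, h2]

theorem g6_mul_one (x : G6) : x * 1 = x := mul_one x

theorem g6_pow (S : Set G6) (h1 : (1 : G6) ∈ S) {x : G6} (hS : ∀ a ∈ S, a * x ∈ S) : x⁻¹ ∈ S := by
  have := finite_G6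
  obtain ⟨n, hn⟩ : ∃ n : ℕ, x ^ n = x⁻¹ :=
    ⟨orderOf x - 1, eq_inv_of_mul_eq_one_left (by
      rw [← pow_succ, Nat.sub_add_cancel (orderOf_pos x), pow_orderOf_eq_one])⟩
  rw [← hn]
  clear hn
  induction n with
  | zero => rwa [pow_zero]
  | succ n ih => rw [pow_succ]; exact hS _ ih

/-- A subgroup from a set closed under products. -/
def g6Sub (S : Set G6) (h1 : (1 : G6) ∈ S) (hmul : ∀ a ∈ S, ∀ b ∈ S, a * b ∈ S) : Subgroup G6 where
  carrier := S
  one_mem' := h1
  mul_mem' {a b} ha hb := hmul a ha b hb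
  inv_mem' {x} hx := g6_pow S h1 fun a ha => hmul a ha x hx

theorem g6_step {x a b q r u : G6} (e : u = a * b) (h1 : x * a = q) (h2 : q * b = r) : r = x * u := step_eq e h1 h2

theorem sy_step {c p k u : ℕ} {x : G6} {q r : ℕ} (hc : c < 3) (hp : p < 128) (hu : u < 128)
    (hk : k < (syl c).gens.length) (hM : mat ((syl c).el u) = mat ((syl c).el p) * mat ((syl c).gens.getD k 0))
    (h1 : x * sy c p = sy c q) (h2 : sy c q * syGen c k = sy c r) : sy c r = x * sy c u := by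
  have e : sy c u = sy c p * syGen c k := mm_injective (by
    rw [map_mul, (sy_spec hc hu).2, (sy_spec hc hp).2, (syGen_spec hc hk).2, hM])
  exact g6_step e h1 h2

theorem sy_mul {c i j : ℕ} (hc : c < 3) (hi : i < 128) (hj : j < 128) :
    (syl c).tab i j < 128 ∧ sy c i * sy c j = sy c ((syl c).tab i j) := by
  have h := sylGroup_ok c hc
  simp only [groupB, Bool.and_eq_true, allBelowB_iff, Nat.beq_eq] at h
  obtain ⟨⟨⟨⟨⟨⟨-, hpl⟩, -⟩, htree⟩, -⟩, -⟩, -⟩ := h
  obtain ⟨htab0, htab⟩ := (show ((syl c).tab i 0 = i ∧ tabTree (syl c) i (syl c).par 0 = true) from by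
    have h' := sylGroup_ok c hc
    simp only [groupB, Bool.and_eq_true, allBelowB_iff, Nat.beq_eq] at h'
    exact h'.1.2 i hi)
  have key : ∀ (l : List (ℕ × ℕ)) (t : ℕ), treeM (syl c).mats (syl c).gens l t = true →
      tabTree (syl c) i l t = true → t + l.length < 128 →
      (∀ j ≤ t, (syl c).tab i j < 128 ∧ sy c i * sy c j = sy c ((syl c).tab i j)) →
      ∀ j ≤ t + l.length, (syl c).tab i j < 128 ∧ sy c i * sy c j = sy c ((syl c).tab i j) := by
    intro l
    induction l with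
    | nil => exact fun t _ _ _ h j hj => h j (by simpa using hj)
    | cons x l ih =>
      obtain ⟨p, k⟩ := x
      intro t h1 h2 hb h0 j hj
      simp only [treeM, Bool.and_eq_true, Nat.ble_eq, Nat.blt, sameM_iff, mat_mulM] at h1
      simp only [tabTree, Bool.and_eq_true, Nat.beq_eq] at h2
      simp only [List.length_cons] at hb hj
      refine ih (t + 1) h1.2 h2.2 (by omega) (fun u hu => ?_) j (by omega)
      rcases Nat.lt_or_ge u (t + 1) with hlt | hge
      · exact h0 u (by omega)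
      · rw [show u = t + 1 by omega, h2.1]
        obtain ⟨hp1, hp2⟩ := h0 p h1.1.1.1
        obtain ⟨hr1, hr2⟩ := sy_rgt hc h1.1.1.2 hp1
        refine ⟨hr1, ?_⟩
        exact (sy_step hc (by omega) (by omega) h1.1.1.2 h1.1.2 hp2 hr2).symm
  refine key _ 0 htree htab (by omega) (fun j hj => ?_) j (by omega)
  rw [Nat.le_zero.1 hj, htab0, sy_zero hc]
  exact ⟨hi, g6_mul_one _⟩

/-- The Sylow subgroup. -/
noncomputable def sylSub {c : ℕ} (hc : c < 3) : Subgroup G6 :=
  g6Sub {g | ∃ i < 128, sy c i = g} ⟨0, by norm_num, sy_zero hc⟩ (by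
    rintro _ ⟨i, hi, rfl⟩ _ ⟨j, hj, rfl⟩
    exact ⟨_, (sy_mul hc hi hj).1, (sy_mul hc hi hj).2.symm⟩)

theorem card_sylSub {c : ℕ} (hc : c < 3) : Nat.card ↥(sylSub hc) = 128 := by
  let f : Fin 128 → ↥(sylSub hc) := fun i => ⟨sy c i, i, i.isLt, rfl⟩
  have hf : Function.Bijective f :=
    ⟨fun i j e => Fin.ext (sy_inj hc i.isLt j.isLt (congrArg Subtype.val e)), fun g => by
      obtain ⟨_, i, hi, rfl⟩ := g
      exact ⟨⟨i, hi⟩, rfl⟩⟩
  rw [← Nat.card_congr (Equiv.ofBijective f hf), Nat.card_fin]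

/-- Every two-subgroup of a model moves into the Sylow subgroup. -/
theorem two_le_syl {c : ℕ} (hc : c < 3) {R : Subgroup G6} (hR : R ≤ KM c) (h2 : IsPGroup 2 ↥R) :
    ∃ k ∈ KM c, ∀ r ∈ R, k * r * k⁻¹ ∈ sylSub hc := by
  have := finite_G6
  have := Fact.mk Nat.prime_two
  have hle : sylSub hc ≤ KM c := fun g ⟨i, hi, e⟩ => e ▸ (sy_spec hc hi).1
  let P : Sylow 2 ↥(KM c) := Sylow.ofCard ((sylSub hc).subgroupOf (KM c)) (by
    rw [Nat.card_congr (Subgroup.subgroupOfEquivOfLe hle).toEquiv, card_sylSub hc, card_KM hc,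
      show 9797760 = 2 ^ 7 * 76545 from rfl, Nat.factorization_mul (by norm_num) (by norm_num),
      Nat.Prime.factorization_pow Nat.prime_two, Finsupp.add_apply, Finsupp.single_eq_same,
      Nat.factorization_eq_zero_of_not_dvd (show ¬ 2 ∣ 76545 by norm_num)]
    norm_num)
  obtain ⟨P', hP'⟩ := (h2.of_equiv (Subgroup.subgroupOfEquivOfLe hR).symm).exists_le_sylow
  obtain ⟨k, hk⟩ := MulAction.exists_smul_eq ↥(KM c) P' P
  refine ⟨(k : G6), k.2, fun r hr => ?_⟩
  have h1 : MulAut.conj k • (⟨r, hR hr⟩ : ↥(KM c)) ∈ ((k • P' : Sylow 2 ↥(KM c)) : Subgroup ↥(KM c)) := by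
    rw [Sylow.coe_subgroup_smul]
    exact Subgroup.smul_mem_pointwise_smul _ _ _ (hP' hr)
  rw [hk] at h1
  exact h1

/-- The vectors of the fixed space. -/
noncomputable def fixSet (c : ℕ) : Set V6 := {x | ∃ v ∈ (syl c).fix, vec v = x}

/-- The first group of rank four. -/
noncomputable def fourSet (c : ℕ) : Set G6 := {g | ∃ i ∈ (syl c).four, sy c i = g}

/-- The second group of rank four. -/
noncomputable def altSet (c : ℕ) : Set G6 := {g | ∃ i ∈ (syl c).alt, sy c i = g}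

theorem fix_facts {c : ℕ} (hc : c < 3) :
    (fixSet c).ncard = 64 ∧ (∀ g ∈ fourSet c, ∀ x ∈ fixSet c, g • x = x) ∧
      (∀ x, (∀ g ∈ fourSet c, g • x = x) → x ∈ fixSet c) ∧
      (∃ K : Set V6, K.ncard < 64 ∧ ∀ x, (∀ g ∈ altSet c, g • x = x) → x ∈ K) ∧
      (∀ x ∈ fixSet c, ∀ y ∈ fixSet c, hermForm 6 R4 2 x y = 0) ∧ (fourSet c).ncard ≤ 16 ∧ (altSet c).ncard ≤ 16 := by
  classical
  have h := sylFix_ok c hc
  have hi := sylInv_ok c hc
  simp only [fixB, Bool.and_eq_true, Nat.beq_eq, List.all_eq_true, allBelowB_iff, fN_eq, Nat.blt, Nat.ble_eq,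
    Bool.not_eq_true', List.contains_iff_mem] at h
  obtain ⟨⟨⟨⟨⟨⟨⟨⟨⟨hf16, ha16⟩, hl64⟩, hal⟩, hfg⟩, hag⟩, hfour⟩, hall⟩, horth⟩, hnd⟩ := h
  have hbeq : ∀ {a b : ℕ}, Nat.beq a b = false → a ≠ b := fun {a b} h e => by
    rw [e, Nat.beq_refl] at h
    exact Bool.noConfusion h
  have himg : ∀ (l : List ℕ) (f : ℕ → V6), {x | ∃ v ∈ l, f v = x}.ncard ≤ l.length := fun l f => by
    rw [show {x | ∃ v ∈ l, f v = x} = ↑(l.toFinset.image f) by ext x; simp, Set.ncard_coe_finset]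
    exact Finset.card_image_le.trans l.toFinset_card_le
  have himg' : ∀ (l : List ℕ) (f : ℕ → G6), {x | ∃ v ∈ l, f v = x}.ncard ≤ l.length := fun l f => by
    rw [show {x | ∃ v ∈ l, f v = x} = ↑(l.toFinset.image f) by ext x; simp, Set.ncard_coe_finset]
    exact Finset.card_image_le.trans l.toFinset_card_le
  have hfixed : ∀ (gens S : List ℕ), (∀ a ∈ gens, a ∈ S) → (∀ a ∈ gens, a < 128) → ∀ x : V6,
      (∀ g ∈ {g : G6 | ∃ i ∈ S, sy c i = g}, g • x = x) → ∀ v < 4096, vec v = x →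
      (gens.all fun a => Nat.beq (appM ((syl c).el a) v) v) = true := by
    intro gens S hS hb x hx v hv e
    refine List.all_eq_true.2 fun a ha => ?_
    have h1 := hx _ ⟨a, hS a ha, rfl⟩
    rw [← e, ← vec_appM_smul (sy_spec hc (hb a ha)).2] at h1
    rw [Nat.beq_eq]
    exact vec_inj (by simp only [appM, pack]; omega) hv h1
  have hlt4 : ∀ a ∈ (syl c).four, a < 128 := fun a ha => (hfour a ha).1
  have hga := altGens_lt c hc
  refine ⟨?_, ?_, fun x hx => ?_, ⟨{x | ∃ v ∈ (syl c).altFix, vec v = x},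
    (himg _ _).trans_lt hal, fun x hx => ?_⟩, ?_, hf16 ▸ himg' _ _, ha16 ▸ himg' _ _⟩
  · rw [fixSet, show {x | ∃ v ∈ (syl c).fix, vec v = x} =
      ↑((Finset.range 64).image fun i => vec ((syl c).fix.getD i 0)) from ?_, Set.ncard_coe_finset,
      Finset.card_image_of_injOn, Finset.card_range]
    · intro i hi j hj e
      simp only [Finset.coe_range, Set.mem_Iio] at hi hj
      have e' := vec_inj (horth _ (getD_mem 0 (by omega))).1 (horth _ (getD_mem 0 (by omega))).1 e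
      by_contra hne
      rcases Nat.lt_or_gt_of_ne hne with hlt | hlt
      · exact hbeq (hnd j (by omega) i hlt) e'.symm
      · exact hbeq (hnd i (by omega) j hlt) e'
    · ext x
      simp only [Set.mem_setOf_eq, Finset.coe_image, Finset.coe_range, Set.mem_image, Set.mem_Iio]
      constructor
      · rintro ⟨v, hv, rfl⟩
        refine ⟨(syl c).fix.idxOf v, hl64 ▸ List.idxOf_lt_length_iff.2 hv, ?_⟩
        rw [List.getD_eq_getElem _ _ (List.idxOf_lt_length_iff.2 hv), List.getElem_idxOf]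
      · rintro ⟨i, hi, rfl⟩
        exact ⟨_, getD_mem 0 (by omega), rfl⟩
  · rintro _ ⟨a, ha, rfl⟩ _ ⟨v, hv, rfl⟩
    rw [← vec_appM_smul (sy_spec hc (hlt4 a ha)).2, (hfour a ha).2 v hv]
  · obtain ⟨v, hv, rfl⟩ := exists_code x
    have := (hall v hv).1
    rw [hfixed _ (syl c).four hfg (fun a ha => hlt4 a (hfg a ha)) _ hx v hv rfl, cond_true, testBit_maskL] at this
    exact ⟨v, this, rfl⟩
  · obtain ⟨v, hv, rfl⟩ := exists_code x
    have := (hall v hv).2
    rw [hfixed _ (syl c).alt hag hga _ hx v hv rfl, cond_true, testBit_maskL] at this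
    exact ⟨v, this, rfl⟩
  · rintro _ ⟨u, hu, rfl⟩ _ ⟨v, hv, rfl⟩
    rw [herm_vec, (horth u hu).2 v hv, el_eq_zero]

theorem fix_small {g : G6} {i j : Fin 6} (hu : g • (Pi.single i 1 : V6) + Pi.single i 1 ≠ 0)
    (hv : ∀ b : R4, g • (Pi.single j 1 : V6) + Pi.single j 1 ≠ b • (g • (Pi.single i 1 : V6) + Pi.single i 1)) :
    {x : V6 | g • x = x}.ncard ≤ 256 := by
  classical
  let φ : V6 →+ V6 := AddMonoidHom.mk' (fun x => g • x + x) fun x y => by
    rw [g6_add]; abel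
  have hlin : ∀ (b : R4) x, φ (b • x) = b • φ x := fun b x => by
    show g • (b • x) + b • x = b • (g • x + x)
    rw [g6_scalar, smul_add]
  set u := φ (Pi.single i 1) with hudef
  set v := φ (Pi.single j 1) with hvdef
  have hinj : Function.Injective fun p : R4 × R4 => (⟨p.1 • u + p.2 • v,
      ⟨p.1 • Pi.single i 1 + p.2 • Pi.single j 1, by rw [map_add, hlin, hlin]⟩⟩ : φ.range) := by
    rintro ⟨a1, b1⟩ ⟨a2, b2⟩ e
    have e' : a1 • u + b1 • v = a2 • u + b2 • v := congrArg Subtype.val e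
    by_cases hb : b1 = b2
    · subst hb
      exact Prod.ext (smul_left_injective R4 (show u ≠ 0 from hu) (add_right_cancel e')) rfl
    · exfalso
      have h3 : (b1 - b2) • v = (a2 - a1) • u := by
        rw [sub_smul, sub_smul, sub_eq_sub_iff_add_eq_add, add_comm (b1 • v), e', add_comm]
      refine hv ((b1 - b2)⁻¹ * (a2 - a1)) (show v = _ from ?_)
      rw [← smul_smul]
      show v = (b1 - b2)⁻¹ • ((a2 - a1) • u)
      rw [← h3, inv_smul_smul₀ (sub_ne_zero.2 hb)]
  have h16 := Nat.card_le_card_of_injective _ hinj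
  rw [Nat.card_prod, Nat.card_eq_fintype_card (α := R4), card_r4] at h16
  have hm := φ.ker.card_mul_index
  rw [AddSubgroup.index_ker, Nat.card_fun, Nat.card_fin, Nat.card_eq_fintype_card (α := R4), card_r4] at hm
  have hset : {x : V6 | g • x = x} = (φ.ker : Set V6) := by
    ext x
    show g • x = x ↔ g • x + x = 0
    exact ⟨fun e => by rw [e, v6_add_self], fun e => by
      have := congrArg (· + x) e
      simpa [add_assoc, v6_add_self] using this⟩
  rw [hset, ← Nat.card_coe_set_eq]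
  have := Nat.mul_le_mul_left (Nat.card ↥φ.ker) h16
  rw [hm] at this
  change Nat.card ↥φ.ker ≤ 256
  omega

theorem vec_colC {g : G6} {m : ℕ} (hg : mm g = mat m) (t : Fin 6) :
    vec (pack 6 fun r => adC (mget m r t) (bif Nat.beq r t then 1 else 0)) =
      g • (Pi.single t 1 : V6) + Pi.single t 1 := by
  funext r
  show el (vdig (pack 6 _) r) = (g • (Pi.single t 1 : V6)) r + (Pi.single t 1 : V6) r
  rw [vdig_pack r.isLt, el_mod, el_ad, smul_def, hg, Matrix.mulVec_single_one, Matrix.col_apply, mat_apply]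
  congr 1
  rcases eq_or_ne r t with rfl | hrt
  · rw [Nat.beq_refl, Pi.single_eq_same]; rfl
  · rw [show Nat.beq (r : ℕ) t = false from Bool.eq_false_iff.2 fun e => hrt (Fin.ext (by rwa [Nat.beq_eq] at e)),
      Pi.single_eq_of_ne hrt]
    rfl

theorem rk_facts {c a : ℕ} (hc : c < 3) (ha : a ∈ (syl c).invs) :
    a < 128 ∧ {x : V6 | sy c a • x = x}.ncard ≤ 256 := by
  have h := sylInv_ok c hc
  simp only [invB, Bool.and_eq_true, List.all_eq_true, List.any_eq_true, allBelowB_iff, fN_eq, Nat.beq_eq,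
    Bool.not_eq_true', Nat.blt, Nat.ble_eq] at h
  obtain ⟨t, -, htt⟩ := h.2 a ha
  obtain ⟨hta, ⟨⟨hu, hv⟩, hi⟩, hj⟩ := htt
  have hlt : a < 128 := (h.1.2 a ha).1
  refine ⟨hlt, fix_small (i := ⟨t.2.1, hi⟩) (j := ⟨t.2.2, hj⟩) ?_ fun b => ?_⟩
  · rw [← vec_colC (sy_spec hc hlt).2, ← vec_zero]
    intro e
    have e0 := vec_inj (by simp only [pack]; omega) (by norm_num) e
    rw [e0, Nat.beq_refl] at hu
    exact Bool.noConfusion hu
  · rw [← vec_colC (sy_spec hc hlt).2, ← vec_colC (sy_spec hc hlt).2, ← (code_el b).2, ← vec_scaleC]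
    intro e
    have e0 := vec_inj (by simp only [pack]; omega) (by simp only [scaleC, pack]; omega) e
    have := hv _ (code_el b).1
    rw [e0, Nat.beq_refl] at this
    exact Bool.noConfusion this

/-- An elementary abelian subgroup of rank at least four lies in one of the two groups. -/
theorem rank_four {c : ℕ} (hc : c < 3) {E : Subgroup G6} (hE : E ≤ sylSub hc) (hcomm : ∀ a ∈ E, ∀ b ∈ E, a * b = b * a)
    (hsq : ∀ a ∈ E, a * a = 1) (h16 : 16 ≤ Nat.card ↥E) : (E : Set G6) ⊆ fourSet c ∨ (E : Set G6) ⊆ altSet c := by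
  classical
  have hi := sylInv_ok c hc
  simp only [invB, Bool.and_eq_true, List.all_eq_true, allBelowB_iff, Nat.beq_eq, Nat.blt, Nat.ble_eq] at hi
  obtain ⟨⟨hinv, hcom⟩, -⟩ := hi
  let I := (Finset.range 128).filter fun i => sy c i ∈ E
  have hI : ∀ i ∈ I, i < 128 ∧ sy c i ∈ E := fun i hi => by simpa [I] using hi
  have hIc : Nat.card ↥E ≤ I.card := by
    calc Nat.card ↥(E : Set G6) ≤ (↑(I.image (sy c)) : Set G6).ncard := by
          rw [Nat.card_coe_set_eq]
          refine Set.ncard_le_ncard (fun g hg => ?_) (Finset.finite_toSet _)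
          obtain ⟨i, hi, rfl⟩ := hE hg
          simp only [Finset.coe_image, Set.mem_image]
          exact ⟨i, by simpa [I] using ⟨hi, hg⟩, rfl⟩
      _ ≤ I.card := by rw [Set.ncard_coe_finset]; exact Finset.card_image_le
  have hmem : ∀ i ∈ I, i ≠ 0 → i ∈ (syl c).invs := by
    intro i hi h0
    obtain ⟨hlt, hiE⟩ := hI i hi
    have h1 := (sy_mul hc hlt hlt)
    rw [hsq _ hiE, ← sy_zero hc] at h1
    have h2 := sy_inj hc (by norm_num) h1.1 h1.2
    have := hinv i hlt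
    rw [show Nat.beq ((syl c).tab i i) 0 = true by rw [← h2]; rfl, cond_true, Bool.or_eq_true, Nat.beq_eq,
      List.contains_iff_mem] at this
    exact this.resolve_left h0
  have hbit : ∀ a ∈ (syl c).invs, a ∈ I → ∀ x ∈ I, Nat.testBit ((syl c).com.getD a 0) x = true := by
    intro a ha haI x hx
    rw [(hcom a ha).2, testBit_maskL, List.mem_filter]
    refine ⟨?_, ?_⟩
    · by_cases h0 : x = 0
      · exact h0 ▸ List.mem_cons_self ..
      · exact List.mem_cons_of_mem _ (hmem x hx h0)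
    · obtain ⟨hal, haE⟩ := hI a haI
      obtain ⟨hxl, hxE⟩ := hI x hx
      rw [Nat.beq_eq]
      refine sy_inj hc (sy_mul hc hal hxl).1 (sy_mul hc hxl hal).1 ?_
      rw [← (sy_mul hc hal hxl).2, ← (sy_mul hc hxl hal).2, hcomm _ haE _ hxE]
  have pick : ∀ L : List ℕ, L.length ≤ 8 → ∃ x ∈ I, x ∉ L ∧ ∀ y ∈ I, y ∉ L → x ≤ y := by
    intro L hL
    have hne : (I \ L.toFinset).Nonempty := by
      rw [← Finset.card_pos]
      have := Finset.le_card_sdiff L.toFinset I
      have := L.toFinset_card_le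
      omega
    refine ⟨(I \ L.toFinset).min' hne, ?_, ?_, fun y hy hyL => Finset.min'_le _ _ (by simp [hy, hyL])⟩
    all_goals have := Finset.min'_mem _ hne; simp only [Finset.mem_sdiff, List.mem_toFinset] at this
    exacts [this.1, this.2]
  obtain ⟨a, haI, ha, hamin⟩ := pick [0] (by simp)
  obtain ⟨b, hbI, hb, hbmin⟩ := pick [0, a] (by simp)
  obtain ⟨d1, hd1I, hd1, hd1min⟩ := pick [0, a, b, (syl c).tab a b] (by simp)
  obtain ⟨d2, hd2I, hd2, -⟩ := pick [0, a, b, (syl c).tab a b, d1, (syl c).tab a d1, (syl c).tab b d1,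
    (syl c).tab ((syl c).tab a b) d1] (by simp)
  simp only [List.mem_cons, List.not_mem_nil, or_false, not_or] at ha hb hd1 hd2 hamin hbmin hd1min
  have hab : a < b := lt_of_le_of_ne (hamin b hbI hb.1) (Ne.symm hb.2)
  have hbc : b < d1 := lt_of_le_of_ne (hbmin d1 hd1I ⟨hd1.1, hd1.2.1⟩) (Ne.symm hd1.2.2.1)
  have hcd : d1 < d2 := lt_of_le_of_ne
    (hd1min d2 hd2I ⟨hd2.1, hd2.2.1, hd2.2.2.1, hd2.2.2.2.1⟩) (Ne.symm hd2.2.2.2.2.1)
  have hai := hmem a haI ha
  have hbi := hmem b hbI hb.1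
  have hci := hmem d1 hd1I hd1.1
  have hdi := hmem d2 hd2I hd2.1
  have h := sylRank_ok c hc
  simp only [rankB, List.all_eq_true, fN_eq] at h
  have h1 := h a hai b hbi
  rw [show (Nat.blt a b && Nat.testBit ((syl c).com.getD a 0) b) = true by
    rw [Bool.and_eq_true, Nat.blt, Nat.ble_eq]; exact ⟨hab, hbit a hai haI b hbI⟩, cond_true] at h1
  simp only [List.all_eq_true, fN_eq] at h1
  have land_bit : ∀ m n x, Nat.testBit (Nat.land m n) x = (Nat.testBit m x && Nat.testBit n x) :=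
    fun m n x => Nat.testBit_and m n x
  have h2 := h1 d1 hci
  rw [show (Nat.blt b d1 && Nat.testBit (Nat.land ((syl c).com.getD a 0) ((syl c).com.getD b 0)) d1 &&
      !Nat.beq d1 ((syl c).tab a b)) = true by
    simp only [Bool.and_eq_true, Nat.blt, Nat.ble_eq, land_bit, Bool.not_eq_true']
    exact ⟨⟨hbc, hbit a hai haI _ hd1I, hbit b hbi hbI _ hd1I⟩,
      Bool.eq_false_iff.2 fun e => hd1.2.2.2 (by rwa [Nat.beq_eq] at e)⟩, cond_true] at h2
  simp only [List.all_eq_true, fN_eq] at h2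
  have h3 := h2 d2 hdi
  rw [show (Nat.blt d1 d2 && Nat.testBit (Nat.land (Nat.land ((syl c).com.getD a 0) ((syl c).com.getD b 0))
      ((syl c).com.getD d1 0)) d2 && !Nat.testBit (maskL [a, b, (syl c).tab a b, d1, (syl c).tab a d1,
        (syl c).tab b d1, (syl c).tab ((syl c).tab a b) d1]) d2) = true by
    simp only [Bool.and_eq_true, Nat.blt, Nat.ble_eq, land_bit, Bool.not_eq_true']
    refine ⟨⟨hcd, ⟨hbit a hai haI _ hd2I, hbit b hbi hbI _ hd2I⟩, hbit d1 hci hd1I _ hd2I⟩,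
      Bool.eq_false_iff.2 fun e => ?_⟩
    rw [testBit_maskL] at e
    simp only [List.mem_cons, List.not_mem_nil, or_false] at e
    rcases e with e | e | e | e | e | e | e
    exacts [hd2.2.1 e, hd2.2.2.1 e, hd2.2.2.2.1 e, hd2.2.2.2.2.1 e, hd2.2.2.2.2.2.1 e, hd2.2.2.2.2.2.2.1 e,
      hd2.2.2.2.2.2.2.2 e], cond_true] at h3
  simp only [Bool.or_eq_true, Nat.beq_eq] at h3
  have hall : ∀ x ∈ I, Nat.testBit (Nat.land (Nat.land (Nat.land ((syl c).com.getD a 0) ((syl c).com.getD b 0))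
      ((syl c).com.getD d1 0)) ((syl c).com.getD d2 0)) x = true := fun x hx => by
    simp only [land_bit, Bool.and_eq_true]
    exact ⟨⟨⟨hbit a hai haI x hx, hbit b hbi hbI x hx⟩, hbit d1 hci hd1I x hx⟩, hbit d2 hdi hd2I x hx⟩
  rcases h3 with h3 | h3
  · left
    intro g hg
    obtain ⟨i, hi, rfl⟩ := hE hg
    have := hall i (by simpa [I] using ⟨hi, hg⟩)
    rw [h3, testBit_maskL] at this
    exact ⟨i, this, rfl⟩
  · right
    intro g hg
    obtain ⟨i, hi, rfl⟩ := hE hg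
    have := hall i (by simpa [I] using ⟨hi, hg⟩)
    rw [h3, testBit_maskL] at this
    exact ⟨i, this, rfl⟩

/-- Elements stabilising the fixed space and permuting the first group transitively. -/
theorem nrm_facts {c : ℕ} (hc : c < 3) :
    (∀ k < 2, ∃ g ∈ KM c, (∀ x ∈ fixSet c, g • x ∈ fixSet c) ∧
      ∀ i < 16, ∃ j < 16, ((syl c).perm.getD k []).getD i 0 = j ∧
        g * sy c ((syl c).four.getD i 0) = sy c ((syl c).four.getD j 0) * g) ∧
    (∀ P : ℕ → Prop, P 1 → (∀ k < 2, ∀ i, P i → P (((syl c).perm.getD k []).getD i 0)) →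
      ∀ i < 16, i = 0 ∨ P i) := by
  have h := sylNrm_ok c hc
  have hf := sylFix_ok c hc
  simp only [nrmB, Bool.and_eq_true, List.all_eq_true, Nat.beq_eq, allBelowB_iff, fN_eq, sameM_iff, mat_mulM,
    Nat.blt, Nat.ble_eq, Bool.or_eq_true, List.contains_iff_mem] at h
  simp only [fixB, Bool.and_eq_true, List.all_eq_true, Nat.beq_eq, Nat.blt, Nat.ble_eq, fN_eq] at hf
  obtain ⟨⟨⟨⟨⟨⟨hn2, hlet⟩, -⟩, hg⟩, ho0⟩, htree⟩, hcov⟩ := h
  obtain ⟨⟨⟨⟨⟨⟨⟨⟨⟨hf16, -⟩, -⟩, -⟩, -⟩, -⟩, hfour⟩, -⟩, horth⟩, -⟩ := hf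
  refine ⟨fun k hk => ?_, fun P h1 hstep i hi => ?_⟩
  · obtain ⟨⟨hm, hL⟩, hperm⟩ := hg k hk
    obtain ⟨hmem, hmm⟩ := word_spec hc ((syl c).nrm.getD k []) fun j hj => hlet _ (getD_mem [] (by omega)) j hj
    refine ⟨_, hmem, ?_, fun i hi => ⟨_, (hperm i hi).1, rfl, ?_⟩⟩
    · rintro _ ⟨v, hv, rfl⟩
      exact ⟨_, (testBit_maskL _ _).1 (hL v hv), vec_appM_smul (hmm.trans hm.symm) v⟩
    · refine mm_injective ?_
      have hb : ∀ t < 16, (syl c).four.getD t 0 < 128 := fun t ht => (hfour _ (getD_mem 0 (by omega))).1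
      rw [map_mul, map_mul, hmm, ← hm, (sy_spec hc (hb i hi)).2, (sy_spec hc (hb _ (hperm i hi).1)).2]
      exact (hperm i hi).2
  · rcases hcov i hi with h | h
    · exact Or.inl h
    · refine Or.inr ?_
      obtain ⟨t, ht, hte⟩ := List.getElem_of_mem h
      rw [List.length_take] at ht
      have := tree_root (O := ⟨0, 0, (syl c).orbPar⟩) (P := P) htree (fun k hk x hx => hstep k hk x hx)
        (by rw [ho0]; exact h1) t (by simp only [OrbT.len]; omega)
      rw [List.getElem_take] at hte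
      rwa [List.getD_eq_getElem _ _ (by omega), hte] at this

end Cfsg.Lib.FischerLarge
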