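import Cfsg.Agent.Lib.FischerLarge.Defs

/-!
# Tests for a Sylow subgroup of a model for two and its elementary abelian subgroups of rank four
-/

set_option autoImplicit false

namespace Cfsg.Lib.FischerLarge

open Cfsg.Lib.SUSixU43 Cfsg.Lib.PermAut

/-- A group of order `128`: generators, elements, tree, right multiplication, table, commutation masks, the two
maximal elementary abelian subgroups of rank four, and elements permuting the first of them. -/
structure SylT where
  words : List (List ℕ)
  gens : List ℕ
  mats : List ℕ
  par : List (ℕ × ℕ)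
  right : List (List ℕ)
  rows : List ℕ
  invs : List ℕ
  com : List ℕ
  rk : List (ℕ × ℕ × ℕ)
  four : List ℕ
  fourGens : List ℕ
  fix : List ℕ
  alt : List ℕ
  altGens : List ℕ
  altFix : List ℕ
  nrm : List (List ℕ)
  nrmMats : List ℕ
  perm : List (List ℕ)
  orb : List ℕ
  orbPar : List (ℕ × ℕ)

/-- An element. -/
def SylT.el (P : SylT) (i : ℕ) : ℕ := P.mats.getD i 0

/-- An entry of the table. -/
def SylT.tab (P : SylT) (i j : ℕ) : ℕ := ent 8 (P.rows.getD i 0) j

/-- An entry of right multiplication by a generator. -/
def SylT.rgt (P : SylT) (k i : ℕ) : ℕ := (P.right.getD k []).getD i 0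

/-- The tree follows the generators. -/
noncomputable def treeM (mats gens : List ℕ) : List (ℕ × ℕ) → ℕ → Bool
  | [], _ => true
  | (p, k) :: l, i =>
    Nat.ble p i && Nat.blt k gens.length &&
      sameM (mats.getD (i + 1) 0) (mulM (mats.getD p 0) (gens.getD k 0)) && treeM mats gens l (i + 1)

/-- The table follows the tree. -/
noncomputable def tabTree (P : SylT) (i : ℕ) : List (ℕ × ℕ) → ℕ → Bool
  | [], _ => true
  | (p, k) :: l, t => Nat.beq (P.tab i (t + 1)) (P.rgt k (P.tab i p)) && tabTree P i l (t + 1)

/-- The group. -/
noncomputable def groupB (c : ℕ) (S : StabT) (P : SylT) : Bool :=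
  Nat.beq P.gens.length P.words.length && (P.words.all fun w => w.all fun k => Nat.blt k 2) &&
    (allBelowB P.gens.length fun k => sameM (P.gens.getD k 0)
      (prodM ((P.words.getD k []).map fun t => prodM ((S.words.getD t []).map (lettM c))))) &&
    Nat.beq P.mats.length 128 && Nat.beq P.par.length 127 && sameM (P.el 0) oneM && treeM P.mats P.gens P.par 0 &&
    (allBelowB P.gens.length fun k => allBelowB 128 fun i =>
      Nat.blt (P.rgt k i) 128 && sameM (mulM (P.el i) (P.gens.getD k 0)) (P.el (P.rgt k i))) &&
    (allBelowB 128 fun i => Nat.beq (P.tab i 0) i && tabTree P i P.par 0) &&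
    allBelowB 128 fun i => allBelowB i fun j => !sameM (P.el i) (P.el j)

/-- The involutions, their commutation masks and their ranks. -/
noncomputable def invB (P : SylT) : Bool :=
  (allBelowB 128 fun i => bif Nat.beq (P.tab i i) 0 then Nat.beq i 0 || P.invs.contains i else true) &&
    (P.invs.all fun a => Nat.blt a 128 && Nat.beq (P.com.getD a 0)
      (maskL ((0 :: P.invs).filter fun x => Nat.beq (P.tab a x) (P.tab x a)))) &&
    (P.invs.all fun a => P.rk.any fun t => Nat.beq t.1 a && fN (P.el a) fun m =>
      fN (pack 6 fun r => adC (mget m r t.2.1) (bif Nat.beq r t.2.1 then 1 else 0)) fun u =>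
        fN (pack 6 fun r => adC (mget m r t.2.2) (bif Nat.beq r t.2.2 then 1 else 0)) fun v =>
          !Nat.beq u 0 && allBelowB 4 (fun s => !Nat.beq v (scaleC s u)) && Nat.blt t.2.1 6 && Nat.blt t.2.2 6)

/-- Four independent commuting involutions generate one of the two groups, which is its own centraliser. -/
noncomputable def rankB (P : SylT) : Bool :=
  fN (maskL P.four) fun F => fN (maskL P.alt) fun A =>
    P.invs.all fun a => fN (P.com.getD a 0) fun ca => P.invs.all fun b =>
      bif Nat.blt a b && Nat.testBit ca b then fN (Nat.land ca (P.com.getD b 0)) fun cab =>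
        fN (P.tab a b) fun ab => P.invs.all fun c =>
          bif Nat.blt b c && Nat.testBit cab c && !Nat.beq c ab then fN (Nat.land cab (P.com.getD c 0)) fun cabc =>
            fN (maskL [a, b, ab, c, P.tab a c, P.tab b c, P.tab ab c]) fun span => P.invs.all fun d =>
              bif Nat.blt c d && Nat.testBit cabc d && !Nat.testBit span d then
                fN (Nat.land cabc (P.com.getD d 0)) fun m => Nat.beq m F || Nat.beq m A
              else true
          else true
      else true

/-- The fixed spaces of the two groups. -/
noncomputable def fixB (P : SylT) : Bool :=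
  Nat.beq P.four.length 16 && Nat.beq P.alt.length 16 && Nat.beq P.fix.length 64 && Nat.blt P.altFix.length 64 &&
    (P.fourGens.all fun a => P.four.contains a) && (P.altGens.all fun a => P.alt.contains a) &&
    (P.four.all fun a => Nat.blt a 128 && P.fix.all fun v => Nat.beq (appM (P.el a) v) v) &&
    (fN (maskL P.fix) fun L => fN (maskL P.altFix) fun K => allBelowB 4096 fun v =>
      (bif P.fourGens.all fun a => Nat.beq (appM (P.el a) v) v then Nat.testBit L v else true) &&
        bif P.altGens.all fun a => Nat.beq (appM (P.el a) v) v then Nat.testBit K v else true) &&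
    (P.fix.all fun u => Nat.blt u 4096 && P.fix.all fun v => Nat.beq (hermC u v) 0) &&
    allBelowB P.fix.length fun i => allBelowB i fun j => !Nat.beq (P.fix.getD i 0) (P.fix.getD j 0)

/-- The elements permuting the first group are transitive on its involutions. -/
noncomputable def nrmB (c : ℕ) (P : SylT) : Bool :=
  Nat.beq P.nrm.length 2 && (P.nrm.all fun w => w.all fun k => Nat.blt k 6) && Nat.beq (P.four.getD 0 1) 0 &&
    (allBelowB 2 fun k => fN (P.nrmMats.getD k 0) fun g =>
      sameM g (prodM ((P.nrm.getD k []).map (lettM c))) &&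
        (fN (maskL P.fix) fun L => P.fix.all fun v => Nat.testBit L (appM g v)) &&
        allBelowB 16 fun i => Nat.blt ((P.perm.getD k []).getD i 0) 16 &&
          sameM (mulM g (P.el (P.four.getD i 0))) (mulM (P.el (P.four.getD ((P.perm.getD k []).getD i 0) 0)) g)) &&
    Nat.beq (P.orb.getD 0 0) 1 &&
    treeB 2 (fun k i => (P.perm.getD k []).getD i 0) (fun i => P.orb.getD i 0) P.orbPar 0 &&
    allBelowB 16 fun i => Nat.beq i 0 || (P.orb.take (P.orbPar.length + 1)).contains i

end Cfsg.Lib.FischerLarge
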